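import Groth.Prelude.Def_KZero2
import Mathlib.CategoryTheory.Triangulated.Pretriangulated
set_option autoImplicit false
universe v u
open CategoryTheory CategoryTheory.Limits CategoryTheory.Pretriangulated
namespace KZ9
open scoped ZeroObject

theorem K0_closure {A : Type u} [Category.{v} A] [Abelian A] :
    AddSubgroup.closure (Set.range (KZero.cl (A := A))) = (⊤ : AddSubgroup (KZero.K0 A)) := by
  rw [eq_top_iff]
  rintro x -
  induction x using QuotientAddGroup.induction_on with
  | H z =>
    induction z using FreeAbelianGroup.induction_on with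
    | zero => exact zero_mem _
    | of x => exact AddSubgroup.subset_closure ⟨x, rfl⟩
    | neg x hx => exact neg_mem (by exact hx)
    | add x y hx hy => exact add_mem hx hy

theorem cl_eq {A : Type u} [Category.{v} A] [Abelian A] (X : ShortComplex A) (hX : X.ShortExact) :
    KZero.cl X.X₂ = KZero.cl X.X₁ + KZero.cl X.X₃ := by
  have : (QuotientAddGroup.mk (FreeAbelianGroup.of X.X₂ - FreeAbelianGroup.of X.X₁ - FreeAbelianGroup.of X.X₃) : KZero.K0 A) = 0 :=
    (QuotientAddGroup.eq_zero_iff _).2 (AddSubgroup.subset_closure ⟨X, hX, rfl⟩)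
  have h2 : KZero.cl X.X₂ - KZero.cl X.X₁ - KZero.cl X.X₃ = 0 := this
  rw [sub_sub, sub_eq_zero] at h2
  exact h2

theorem r5615 {A : Type u} [Category.{v} A] [Abelian A] (S : Set A)
    (hdense : ∀ T : Set A, S ⊆ T →
      (∀ X : ShortComplex A, X.ShortExact →
        (X.X₁ ∈ T → X.X₂ ∈ T → X.X₃ ∈ T) ∧ (X.X₁ ∈ T → X.X₃ ∈ T → X.X₂ ∈ T) ∧
          (X.X₂ ∈ T → X.X₃ ∈ T → X.X₁ ∈ T)) → T = Set.univ) :
    AddSubgroup.closure (KZero.cl '' S) = (⊤ : AddSubgroup (KZero.K0 A)) := by
  have h := hdense {X | KZero.cl X ∈ AddSubgroup.closure (KZero.cl '' S)}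
    (fun X hX => AddSubgroup.subset_closure ⟨X, hX, rfl⟩) (by
      intro X hX
      have e := cl_eq X hX
      refine ⟨fun h1 h2 => ?_, fun h1 h2 => ?_, fun h1 h2 => ?_⟩
      · have : KZero.cl X.X₃ = KZero.cl X.X₂ - KZero.cl X.X₁ := by rw [e]; abel
        rw [Set.mem_ofPred_eq]
        rw [this]; exact sub_mem h2 h1
      · rw [Set.mem_ofPred_eq]
        rw [e]; exact add_mem h1 h2
      · have : KZero.cl X.X₁ = KZero.cl X.X₂ - KZero.cl X.X₃ := by rw [e]; abel
        rw [Set.mem_ofPred_eq]
        rw [this]; exact sub_mem h1 h2)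
  rw [eq_top_iff, ← K0_closure, AddSubgroup.closure_le]
  rintro _ ⟨X, rfl⟩
  have : X ∈ (Set.univ : Set A) := trivial
  rw [← h] at this
  exact this

theorem K0tri_closure {C : Type u} [Category.{v} C] [Preadditive C] [HasZeroObject C]
    [HasShift C ℤ] [∀ n : ℤ, (shiftFunctor C n).Additive] [Pretriangulated C] :
    AddSubgroup.closure (Set.range (KZero.clTri (C := C))) = (⊤ : AddSubgroup (KZero.K0tri C)) := by
  rw [eq_top_iff]
  rintro x -
  induction x using QuotientAddGroup.induction_on with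
  | H z =>
    induction z using FreeAbelianGroup.induction_on with
    | zero => exact zero_mem _
    | of x => exact AddSubgroup.subset_closure ⟨x.1, rfl⟩
    | neg x hx => exact neg_mem (by exact hx)
    | add x y hx hy => exact add_mem hx hy

theorem clTri_eq {C : Type u} [Category.{v} C] [Preadditive C] [HasZeroObject C]
    [HasShift C ℤ] [∀ n : ℤ, (shiftFunctor C n).Additive] [Pretriangulated C]
    (X : Triangle C) (hX : X ∈ distinguishedTriangles) :
    KZero.clTri X.obj₂ = KZero.clTri X.obj₁ + KZero.clTri X.obj₃ := by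
  have : (QuotientAddGroup.mk (FreeAbelianGroup.of ⟨X.obj₂, trivial⟩ - FreeAbelianGroup.of ⟨X.obj₁, trivial⟩ - FreeAbelianGroup.of ⟨X.obj₃, trivial⟩) : KZero.K0tri C) = 0 :=
    (QuotientAddGroup.eq_zero_iff _).2 (AddSubgroup.subset_closure ⟨X, trivial, trivial, trivial, hX, rfl⟩)
  have h2 : KZero.clTri X.obj₂ - KZero.clTri X.obj₁ - KZero.clTri X.obj₃ = 0 := this
  rw [sub_sub, sub_eq_zero] at h2
  exact h2

theorem r5614 {C : Type u} [Category.{v} C] [Preadditive C] [HasZeroObject C]
    [HasShift C ℤ] [∀ n : ℤ, (shiftFunctor C n).Additive] [Pretriangulated C]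
    (S : Set C)
    (hdense : ∀ T : Set C, S ⊆ T →
      (∀ tr : Triangle C, tr ∈ distinguishedTriangles →
        (tr.obj₁ ∈ T → tr.obj₂ ∈ T → tr.obj₃ ∈ T) ∧ (tr.obj₁ ∈ T → tr.obj₃ ∈ T → tr.obj₂ ∈ T) ∧
          (tr.obj₂ ∈ T → tr.obj₃ ∈ T → tr.obj₁ ∈ T)) → T = Set.univ) :
    AddSubgroup.closure (KZero.clTri '' S) = (⊤ : AddSubgroup (KZero.K0tri C)) := by
  have h := hdense {X | KZero.clTri X ∈ AddSubgroup.closure (KZero.clTri '' S)}
    (fun X hX => AddSubgroup.subset_closure ⟨X, hX, rfl⟩) (by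
      intro X hX
      have e := clTri_eq X hX
      refine ⟨fun h1 h2 => ?_, fun h1 h2 => ?_, fun h1 h2 => ?_⟩
      · have : KZero.clTri X.obj₃ = KZero.clTri X.obj₂ - KZero.clTri X.obj₁ := by rw [e]; abel
        rw [Set.mem_ofPred_eq]
        rw [this]; exact sub_mem h2 h1
      · rw [Set.mem_ofPred_eq]
        rw [e]; exact add_mem h1 h2
      · have : KZero.clTri X.obj₁ = KZero.clTri X.obj₂ - KZero.clTri X.obj₃ := by rw [e]; abel
        rw [Set.mem_ofPred_eq]
        rw [this]; exact sub_mem h1 h2)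
  rw [eq_top_iff, ← K0tri_closure, AddSubgroup.closure_le]
  rintro _ ⟨X, rfl⟩
  have : X ∈ (Set.univ : Set C) := trivial
  rw [← h] at this
  exact this

variable {C : Type u} [Category.{v} C] [Preadditive C] [HasZeroObject C]
    [HasShift C ℤ] [∀ n : ℤ, (shiftFunctor C n).Additive] [Pretriangulated C]

theorem clTri_iso {X Y : C} (e : X ≅ Y) : KZero.clTri X = KZero.clTri Y := by
  have h0 : KZero.clTri (0 : C) = 0 := by
    have := clTri_eq _ (contractible_distinguished (0 : C))
    change KZero.clTri (0:C) = KZero.clTri (0:C) + KZero.clTri (0:C) at this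
    simpa using this
  have h1 := clTri_eq (Triangle.mk e.hom (0 : Y ⟶ 0) 0) (by
    refine isomorphic_distinguished _ (contractible_distinguished X) _ ?_
    exact Triangle.isoMk _ _ (Iso.refl _) e.symm (Iso.refl _) (e.hom_inv_id.trans (Category.comp_id _).symm) (by erw [Limits.zero_comp, Limits.comp_zero]) (by erw [Limits.zero_comp, Limits.comp_zero]))
  change KZero.clTri Y = KZero.clTri X + KZero.clTri (0:C) at h1
  rw [h1, h0, add_zero]

theorem clTri_zero : KZero.clTri (0 : C) = 0 := by
  have := clTri_eq _ (contractible_distinguished (0 : C))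
  change KZero.clTri (0:C) = KZero.clTri (0:C) + KZero.clTri (0:C) at this
  simpa using this

theorem clTri_shift_one (X : C) : KZero.clTri ((shiftFunctor C (1:ℤ)).obj X) = - KZero.clTri X := by
  have := clTri_eq _ (rot_of_distTriang _ (contractible_distinguished X))
  change KZero.clTri (0:C) = KZero.clTri X + KZero.clTri ((shiftFunctor C (1:ℤ)).obj X) at this
  rw [clTri_zero] at this
  exact (neg_eq_of_add_eq_zero_right this.symm).symm


theorem clTri_shift_even (n : ℤ) : ∀ (X : C), KZero.clTri ((shiftFunctor C (2*n)).obj X) = KZero.clTri X := by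
  have key : ∀ (m : ℤ) (X : C), KZero.clTri ((shiftFunctor C (m + 2)).obj X) = KZero.clTri ((shiftFunctor C m).obj X) := by
    intro m X
    have e1 := clTri_iso ((shiftFunctorAdd' C (m+1) 1 (m+2) (by omega)).app X)
    have e2 := clTri_iso ((shiftFunctorAdd' C m 1 (m+1) (by omega)).app X)
    rw [e1]
    dsimp at e2 ⊢
    rw [clTri_shift_one, e2, clTri_shift_one, neg_neg]
  intro X
  induction n using Int.induction_on with
  | zero => exact clTri_iso ((shiftFunctorZero' C (2*0) (by omega)).app X)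
  | succ i hi =>
    rw [show (2 * ((i:ℤ) + 1)) = 2 * (i:ℤ) + 2 by omega, key]; exact hi
  | pred i hi =>
    have := key (2 * (-(i:ℤ) - 1)) X
    rw [← this, show 2 * (-(i:ℤ) - 1) + 2 = 2 * (-(i:ℤ)) by omega]; exact hi

theorem clTri_biprod (X Y : C) [HasBinaryBiproduct X Y] : KZero.clTri (X ⊞ Y) = KZero.clTri X + KZero.clTri Y :=
  clTri_eq _ (binaryBiproductTriangle_distinguished X Y)

theorem r5613 (L : C) (n : ℤ) [HasCoproduct (fun i : ℕ => (shiftFunctor C (2 * n * (i : ℤ))).obj L)] :
    KZero.clTri L = 0 := by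
  let f : ℕ → C := fun i : ℕ => (shiftFunctor C (2 * n * (i : ℤ))).obj L
  let P : C := ∐ f
  let F : C ⥤ C := shiftFunctor C (2 * n)
  let a0 : L ≅ f 0 := ((shiftFunctorZero' C (2*n*((0:ℕ):ℤ)) (by simp)).app L).symm
  let a : ∀ i : ℕ, F.obj (f i) ≅ f (i+1) := fun i =>
    ((shiftFunctorAdd' C (2*n*(i:ℤ)) (2*n) (2*n*((i+1 : ℕ):ℤ)) (by push_cast; rw [mul_add, mul_one])).app L).symm
  have hF : IsColimit (Cofan.mk (F.obj P) (fun i => F.map (Sigma.ι f i))) :=
    isColimitCofanMkObjOfIsColimit F f _ (coproductIsCoproduct f)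
  haveI : HasBinaryBiproducts C := HasBinaryBiproducts.of_hasBinaryProducts
  let e : P ≅ L ⊞ F.obj P :=
    { hom := Sigma.desc (fun i => match i with
        | 0 => a0.inv ≫ biprod.inl
        | (i+1) => (a i).inv ≫ F.map (Sigma.ι f i) ≫ biprod.inr)
      inv := biprod.desc (a0.hom ≫ Sigma.ι f 0) (Cofan.IsColimit.desc hF (fun i => (a i).hom ≫ Sigma.ι f (i+1)))
      hom_inv_id := by
        refine Sigma.hom_ext _ _ (fun i => ?_)
        cases i with
        | zero => simp; exact (Category.comp_id _).symm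
        | succ i =>
          simp only [colimit.ι_desc_assoc, Discrete.functor_obj_eq_as, Cofan.mk_pt, Cofan.mk_ι_app, Category.assoc, biprod.inr_desc, Category.comp_id]
          erw [Cofan.IsColimit.fac hF, Iso.inv_hom_id_assoc, Category.comp_id]
      inv_hom_id := by
        refine biprod.hom_ext' _ _ ?_ ?_
        · simp
        · refine Cofan.IsColimit.hom_ext hF _ _ (fun i => ?_)
          simp only [biprod.inr_desc_assoc, Category.comp_id]
          erw [Cofan.IsColimit.fac_assoc hF]
          simp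
          rfl }
  have h1 := clTri_iso e
  rw [clTri_biprod, clTri_shift_even] at h1
  simpa using h1
end KZ9
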