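import Mathlib.CategoryTheory.Limits.Shapes.Products
import Mathlib.CategoryTheory.Limits.Shapes.BinaryProducts
import Mathlib.CategoryTheory.Limits.Shapes.Equalizers
set_option autoImplicit false
universe u₁ v₁ u₂ v₂ w
open CategoryTheory CategoryTheory.Limits Opposite

namespace LM9

variable {I : Type u₁} [Category.{v₁} I] {C : Type u₂} [Category.{v₂} C] {A : Type w} (i : A → I)
    [∀ α β, HasBinaryProduct (i α) (i β)]
    (hcov : ∀ j : I, ∃ α, Nonempty (j ⟶ i α))
    (F : Iᵒᵖ ⥤ C) 

include hcov in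
theorem exists_cone {T : C} (t : ∀ α, T ⟶ F.obj (op (i α)))
    (ht : ∀ α β, t α ≫ F.map (prod.fst : i α ⨯ i β ⟶ i α).op = t β ≫ F.map (prod.snd : i α ⨯ i β ⟶ i β).op) :
    ∃ s : ∀ j : Iᵒᵖ, T ⟶ F.obj j, (∀ (j k : Iᵒᵖ) (f : j ⟶ k), s j ≫ F.map f = s k) ∧
      ∀ (j : I) (α : A) (f : j ⟶ i α), s (op j) = t α ≫ F.map f.op := by
  choose a f using hcov
  have hind : ∀ (j : I) (α β : A) (f : j ⟶ i α) (g : j ⟶ i β), t α ≫ F.map f.op = t β ≫ F.map g.op := by
    intro j α β f g
    have h1 : f.op = (prod.fst : i α ⨯ i β ⟶ i α).op ≫ (prod.lift f g).op := by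
      rw [← op_comp, prod.lift_fst]
    have h2 : g.op = (prod.snd : i α ⨯ i β ⟶ i β).op ≫ (prod.lift f g).op := by
      rw [← op_comp, prod.lift_snd]
    rw [h1, h2, F.map_comp, F.map_comp, ← Category.assoc, ← Category.assoc, ht]
  refine ⟨fun j => t (a j.unop) ≫ F.map (f j.unop).some.op, ?_, ?_⟩
  · intro j k g
    rw [Category.assoc, ← F.map_comp]
    have : (f j.unop).some.op ≫ g = (g.unop ≫ (f j.unop).some).op := by rw [op_comp, Quiver.Hom.op_unop]
    rw [this]
    exact hind _ _ _ _ _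
  · intro j α g
    exact hind _ _ _ _ _

include hcov in
theorem r6120 [HasEqualizers C]
    [HasProduct (fun α => F.obj (op (i α)))]
    [HasProduct (fun p : A × A => F.obj (op (i p.1 ⨯ i p.2)))] :
    HasLimit F ∧ ∀ [HasLimit F],
      Mono (Pi.lift (fun α => limit.π F (op (i α)))) ∧
      ∀ (T : C) (t : T ⟶ ∏ᶜ (fun α => F.obj (op (i α)))),
        (∃ s : T ⟶ limit F, s ≫ Pi.lift (fun α => limit.π F (op (i α))) = t) ↔
        t ≫ Pi.lift (fun p : A × A =>
            Pi.π (fun α => F.obj (op (i α))) p.1 ≫ F.map (prod.fst : i p.1 ⨯ i p.2 ⟶ i p.1).op) =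
        t ≫ Pi.lift (fun p : A × A =>
            Pi.π (fun α => F.obj (op (i α))) p.2 ≫ F.map (prod.snd : i p.1 ⨯ i p.2 ⟶ i p.2).op) := by
  let a := Pi.lift (fun p : A × A =>
            Pi.π (fun α => F.obj (op (i α))) p.1 ≫ F.map (prod.fst : i p.1 ⨯ i p.2 ⟶ i p.1).op)
  let b := Pi.lift (fun p : A × A =>
            Pi.π (fun α => F.obj (op (i α))) p.2 ≫ F.map (prod.snd : i p.1 ⨯ i p.2 ⟶ i p.2).op)
  have heq : ∀ (T : C) (t : T ⟶ ∏ᶜ (fun α => F.obj (op (i α)))), t ≫ a = t ≫ b ↔
      ∀ α β, (t ≫ Pi.π (fun α => F.obj (op (i α))) α) ≫ F.map (prod.fst : i α ⨯ i β ⟶ i α).op =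
        (t ≫ Pi.π (fun α => F.obj (op (i α))) β) ≫ F.map (prod.snd : i α ⨯ i β ⟶ i β).op := by
    intro T t
    constructor
    · intro h α β
      have := congrArg (fun f => f ≫ Pi.π (fun p : A × A => F.obj (op (i p.1 ⨯ i p.2))) (α, β)) h
      simpa [a, b] using this
    · intro h
      apply Pi.hom_ext
      rintro ⟨α, β⟩
      simpa [a, b] using h α β
  refine ⟨?_, ?_⟩
  · -- existence of the limit
    let e := equalizer.ι a b
    obtain ⟨s, hs1, hs2⟩ := exists_cone i hcov F (fun α => e ≫ Pi.π (fun α => F.obj (op (i α))) α)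
      ((heq _ e).1 (equalizer.condition a b))
    let c : Cone F := { pt := equalizer a b, π := { app := s, naturality := fun j k f => (Category.id_comp _).trans (hs1 j k f).symm } }
    refine ⟨⟨⟨c, ?_⟩⟩⟩
    have hl : ∀ c' : Cone F, (Pi.lift (fun α => c'.π.app (op (i α)))) ≫ a = (Pi.lift (fun α => c'.π.app (op (i α)))) ≫ b := by
      intro c'
      rw [heq]
      intro α β
      rw [Pi.lift_π, Pi.lift_π, c'.w, c'.w]
    exact
      { lift := fun c' => equalizer.lift (Pi.lift (fun α => c'.π.app (op (i α)))) (hl c')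
        fac := fun c' j => by
          obtain ⟨α, ⟨f⟩⟩ := hcov j.unop
          change _ ≫ s (op j.unop) = _
          rw [hs2 j.unop α f, ← Category.assoc, ← Category.assoc, equalizer.lift_ι, Pi.lift_π, c'.w]
        uniq := fun c' m hm => by
          apply equalizer.hom_ext
          apply Pi.hom_ext
          intro α
          rw [equalizer.lift_ι, Pi.lift_π, ← hm (op (i α)), Category.assoc]
          change _ = m ≫ s (op (i α))
          rw [hs2 (i α) α (𝟙 _), op_id, F.map_id, Category.comp_id] }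
  · intro _
    refine ⟨⟨fun {Z} g h hgh => ?_⟩, fun T t => ?_⟩
    · apply limit.hom_ext
      intro j
      obtain ⟨α, ⟨f⟩⟩ := hcov j.unop
      have h1 := congrArg (fun k => k ≫ Pi.π (fun α => F.obj (op (i α))) α) hgh
      simp only [Category.assoc, Pi.lift_π] at h1
      have h2 : limit.π F j = limit.π F (op (i α)) ≫ F.map f.op := (limit.w F f.op).symm
      rw [h2, ← Category.assoc, ← Category.assoc, h1]
    · change _ ↔ t ≫ a = t ≫ b
      rw [heq]
      constructor
      · rintro ⟨s, rfl⟩ α β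
        simp only [Category.assoc, Pi.lift_π_assoc, limit.w]
      · intro h
        obtain ⟨s, hs1, hs2⟩ := exists_cone i hcov F (fun α => t ≫ Pi.π (fun α => F.obj (op (i α))) α) h
        let c : Cone F := { pt := T, π := { app := s, naturality := fun j k f => (Category.id_comp _).trans (hs1 j k f).symm } }
        refine ⟨limit.lift F c, ?_⟩
        apply Pi.hom_ext
        intro α
        rw [Category.assoc, Pi.lift_π, limit.lift_π]
        change s (op (i α)) = _
        rw [hs2 (i α) α (𝟙 _), op_id, F.map_id, Category.comp_id]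
end LM9
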