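import Groth.Prelude.Def_W4sga6xxiiiPolyMap
import Mathlib.Algebra.Group.ForwardDiff
import Mathlib.RingTheory.Polynomial.Pochhammer
import Mathlib.RingTheory.Binomial
import Mathlib.Algebra.Polynomial.Roots
set_option autoImplicit false
universe u
open Polynomial fwdDiff

namespace PM9

/-- binomial polynomial -/
noncomputable def chP (j : ℕ) : ℚ[X] := C ((j.factorial : ℚ)⁻¹) * descPochhammer ℚ j

theorem chP_eval (j : ℕ) (t : ℤ) : (chP j).eval (t : ℚ) = (Ring.choose t j : ℤ) := by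
  unfold chP
  rw [eval_mul, eval_C, ← descPochhammer_map (Int.castRingHom ℚ), eval_intCast_map, eval_eq_smeval,
    Ring.descPochhammer_eq_factorial_smul_choose]
  have : (j.factorial : ℚ) ≠ 0 := by exact_mod_cast j.factorial_ne_zero
  rw [nsmul_eq_mul, map_mul, map_natCast, eq_intCast, ← mul_assoc, inv_mul_cancel₀ this, one_mul]
  simp

theorem exists_poly {G : Type u} [AddCommGroup G] (f : G → ℚ) (hf : W4sga6xxiii.IsPolyMap f) (z : G) :
    ∃ P : ℚ[X], ∀ t : ℤ, P.eval (t : ℚ) = f (t • z) := by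
  obtain ⟨m, y, -, hy⟩ := hf 1 (fun _ => z)
  refine ⟨∑ k, C (y k) * ∏ i : Fin 1, chP (k i : ℕ), fun t => ?_⟩
  have h1 := hy (fun _ => t)
  rw [Fin.sum_univ_one] at h1
  rw [h1, eval_finsetSum]
  refine Finset.sum_congr rfl (fun k _ => ?_)
  rw [eval_mul, eval_C, eval_prod, Fin.prod_univ_one, Fin.prod_univ_one, chP_eval, zsmul_eq_mul, mul_comm]

theorem poly_eq (P Q : ℚ[X]) (h : ∀ t : ℤ, P.eval (t : ℚ) = Q.eval (t : ℚ)) : P = Q := by
  apply Polynomial.eq_of_infinite_eval_eq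
  refine Set.Infinite.mono ?_ (Set.infinite_range_of_injective (Int.cast_injective (α := ℚ)))
  rintro _ ⟨t, rfl⟩
  exact h t

theorem int_val (P : ℚ[X]) (h : ∀ t : ℤ, ∃ z : ℤ, P.eval (t : ℚ) = z) :
    ∃ z : ℤ, P.leadingCoeff * (P.natDegree.factorial : ℚ) = z := by
  have h1 := congrFun (P.fwdDiff_iter_degree_eq_factorial) 0
  rw [fwdDiff_iter_eq_sum_shift] at h1
  choose g hg using h
  refine ⟨∑ k ∈ Finset.range (P.natDegree + 1), ((-1 : ℤ) ^ (P.natDegree - k) * P.natDegree.choose k) * g k, ?_⟩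
  have h2 : (P.leadingCoeff • (P.natDegree.factorial : ℚ → ℚ)) 0 = P.leadingCoeff * (P.natDegree.factorial : ℚ) := by
    simp
  rw [← h2, ← h1]
  push_cast
  refine Finset.sum_congr rfl (fun k _ => ?_)
  have h3 : P.eval (0 + k • (1 : ℚ)) = g k := by
    rw [← hg k]; simp
  rw [h3, zsmul_eq_mul]
  push_cast
  ring

theorem r5656 {G : Type u} [AddCommGroup G] (G' : AddSubgroup G)
    (p : ℕ) (hp : p.Prime) (hdiv : ∀ x ∈ G', ∃ y ∈ G', p • y = x) (htor : ∀ x : G, ∃ n : ℤ, n ≠ 0 ∧ n • x ∈ G')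
    (f : G → ℚ) (hf : W4sga6xxiii.IsPolyMap f) (hint : ∀ x, ∃ z : ℤ, f x = z) (x : G) : f x = f 0 := by
  obtain ⟨P, hP⟩ := exists_poly f hf x
  have hd : P.natDegree = 0 := by
    by_contra hd
    obtain ⟨n, hn, hnx⟩ := htor x
    have hpow : ∀ k : ℕ, ∃ y ∈ G', (p ^ k) • y = n • x := by
      intro k
      induction k with
      | zero => exact ⟨n • x, hnx, by simp⟩
      | succ k ih =>
        obtain ⟨y, hy, hyk⟩ := ih
        obtain ⟨y', hy', hyy⟩ := hdiv y hy
        exact ⟨y', hy', by rw [pow_succ, mul_smul, hyy, hyk]⟩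
    have hn' : (n : ℚ) ≠ 0 := by exact_mod_cast hn
    have hp' : (p : ℚ) ≠ 0 := by exact_mod_cast hp.ne_zero
    have key : ∀ k : ℕ, ∃ z : ℤ, P.leadingCoeff * (n : ℚ) ^ P.natDegree * (P.natDegree.factorial : ℚ) =
        (z : ℚ) * ((p : ℚ) ^ k) ^ P.natDegree := by
      intro k
      obtain ⟨y, -, hy⟩ := hpow k
      obtain ⟨Q, hQ⟩ := exists_poly f hf y
      have hpk : ((p : ℚ) ^ k) ≠ 0 := pow_ne_zero _ hp'
      have hcomp : Q.comp (C ((p : ℚ) ^ k) * X) = P.comp (C (n : ℚ) * X) := by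
        apply poly_eq
        intro t
        rw [eval_comp, eval_comp, eval_mul, eval_mul, eval_C, eval_C, eval_X]
        have e1 : ((p : ℚ) ^ k) * (t : ℚ) = ((((p ^ k : ℕ) : ℤ) * t : ℤ) : ℚ) := by push_cast; ring
        have e2 : (n : ℚ) * (t : ℚ) = ((n * t : ℤ) : ℚ) := by push_cast; ring
        rw [e1, e2, hQ, hP]
        congr 1
        rw [mul_comm, mul_smul, natCast_zsmul, hy, mul_comm, mul_smul]
      have hdegL : (C ((p : ℚ) ^ k) * X : ℚ[X]).natDegree = 1 := natDegree_C_mul_X _ hpk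
      have hdegR : (C (n : ℚ) * X : ℚ[X]).natDegree = 1 := natDegree_C_mul_X _ hn'
      have hdeg : Q.natDegree = P.natDegree := by
        have := congrArg natDegree hcomp
        rwa [natDegree_comp, natDegree_comp, hdegL, hdegR, mul_one, mul_one] at this
      have hlc := congrArg leadingCoeff hcomp
      rw [leadingCoeff_comp (by rw [hdegL]; exact one_ne_zero), leadingCoeff_comp (by rw [hdegR]; exact one_ne_zero),
        leadingCoeff_mul, leadingCoeff_mul, leadingCoeff_C, leadingCoeff_C, leadingCoeff_X, mul_one, mul_one, hdeg] at hlc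
      obtain ⟨z, hz⟩ := int_val Q (fun t => by rw [hQ]; exact hint _)
      refine ⟨z, ?_⟩
      rw [← hlc, ← hz, hdeg]; ring
    obtain ⟨z₀, hz₀⟩ := key 0
    rw [pow_zero, one_pow, mul_one] at hz₀
    have hz : z₀ = 0 := by
      by_contra hne
      -- p^k divides z₀ for all k
      have hdvd : ∀ k : ℕ, (p : ℤ) ^ k ∣ z₀ := by
        intro k
        obtain ⟨z, hz⟩ := key k
        rw [hz₀] at hz
        have h1 : z₀ = z * ((p : ℤ) ^ k) ^ P.natDegree := by exact_mod_cast hz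
        rw [h1]
        exact Dvd.dvd.mul_left (dvd_pow_self _ hd) z
      have h2 := (Int.finiteMultiplicity_iff (a := (p : ℤ)) (b := z₀)).2 ⟨by simpa using hp.ne_one, hne⟩
      obtain ⟨k, hk⟩ := h2
      exact hk (hdvd _)
    rw [hz, Int.cast_zero] at hz₀
    have hlc0 : P.leadingCoeff ≠ 0 := by
      rw [leadingCoeff_ne_zero]
      rintro rfl
      exact hd natDegree_zero
    have hfac : (P.natDegree.factorial : ℚ) ≠ 0 := by exact_mod_cast P.natDegree.factorial_ne_zero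
    exact mul_ne_zero (mul_ne_zero hlc0 (pow_ne_zero _ hn')) hfac hz₀
  have h1 := hP 1
  have h0 := hP 0
  rw [one_smul] at h1
  rw [zero_smul] at h0
  rw [← h1, ← h0, eq_C_of_natDegree_eq_zero hd, eval_C, eval_C]
end PM9
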