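import Mathlib.CategoryTheory.FiberedCategory.Fibered
import Mathlib.CategoryTheory.FiberedCategory.Fiber
import Mathlib.CategoryTheory.Generator.Basic
import Mathlib.CategoryTheory.Sites.Canonical
import Mathlib.CategoryTheory.Sites.EffectiveEpimorphic
import Mathlib.CategoryTheory.Limits.Shapes.Diagonal
import Mathlib.CategoryTheory.Limits.Shapes.RegularMono
import Mathlib.CategoryTheory.RegularCategory.Basic
import Mathlib.Logic.Small.Set
import Mathlib.CategoryTheory.Preadditive.Injective.Basic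
set_option autoImplicit false
set_option backward.isDefEq.respectTransparency false
universe v₁ v₂ u₁ u₂ u v w
open CategoryTheory CategoryTheory.Functor CategoryTheory.Limits Opposite

namespace SG9

section fib
variable {B : Type u₁} [Category.{v₁} B] {E : Type u₂} [Category.{v₂} E] (p : E ⥤ B) [p.IsFibered]

theorem map_eq_of_lift_id {b : B} {x y : E} (φ ψ : x ⟶ y) [p.IsHomLift (𝟙 b) φ] [p.IsHomLift (𝟙 b) ψ] : p.map φ = p.map ψ := by
  rw [IsHomLift.fac' p (𝟙 b) φ, IsHomLift.fac' p (𝟙 b) ψ]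

theorem r6122 : p.Faithful ↔ ∀ (b : B) (x y : p.Fiber b), Subsingleton (x ⟶ y) := by
  constructor
  · intro hp b x y
    refine ⟨fun φ ψ => Fiber.hom_ext ?_⟩
    apply p.map_injective
    exact map_eq_of_lift_id p (b := b) _ _
  · intro h
    refine ⟨fun {x y} φ ψ hφψ => ?_⟩
    have h1 : p.IsHomLift (p.map φ) ψ := by rw [hφψ]; infer_instance
    let χ := IsPreFibered.pullbackMap (p := p) (rfl : p.obj y = p.obj y) (p.map φ)
    let x' : p.Fiber (p.obj x) := ⟨x, rfl⟩
    let c' : p.Fiber (p.obj x) := ⟨IsPreFibered.pullbackObj (p := p) (rfl : p.obj y = p.obj y) (p.map φ), IsPreFibered.pullbackObj_proj _ _⟩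
    have hs := (h (p.obj x) x' c').elim
      (Fiber.homMk p (p.obj x) (IsCartesian.map p (p.map φ) χ φ) : x' ⟶ c')
      (Fiber.homMk p (p.obj x) (IsCartesian.map p (p.map φ) χ ψ) : x' ⟶ c')
    have hs' : IsCartesian.map p (p.map φ) χ φ = IsCartesian.map p (p.map φ) χ ψ := congrArg Subtype.val hs
    rw [← IsCartesian.fac p (p.map φ) χ φ, hs', IsCartesian.fac p (p.map φ) χ ψ]

theorem r6121 : p.ReflectsIsomorphisms ↔ ∀ b : B, IsGroupoid (p.Fiber b) := by
  constructor
  · intro hp b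
    refine ⟨fun {x y} φ => ?_⟩
    have h1 : IsIso (p.map (Fiber.fiberInclusion.map φ)) := by
      rw [IsHomLift.fac' p (𝟙 b) (Fiber.fiberInclusion.map φ)]
      infer_instance
    have h2 : IsIso (Fiber.fiberInclusion.map φ) := isIso_of_reflects_iso _ p
    have h3 : p.IsHomLift (𝟙 b) (CategoryTheory.inv (Fiber.fiberInclusion.map φ)) := inferInstance
    refine ⟨⟨CategoryTheory.inv (Fiber.fiberInclusion.map φ), h3⟩, ?_, ?_⟩
    · apply Fiber.hom_ext
      exact IsIso.hom_inv_id (Fiber.fiberInclusion.map φ)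
    · apply Fiber.hom_ext
      exact IsIso.inv_hom_id (Fiber.fiberInclusion.map φ)
  · intro h
    refine ⟨fun {x y} φ hφ => ?_⟩
    let χ := IsPreFibered.pullbackMap (p := p) (rfl : p.obj y = p.obj y) (p.map φ)
    let x' : p.Fiber (p.obj x) := ⟨x, rfl⟩
    let c' : p.Fiber (p.obj x) := ⟨IsPreFibered.pullbackObj (p := p) (rfl : p.obj y = p.obj y) (p.map φ), IsPreFibered.pullbackObj_proj _ _⟩
    have hχ : IsIso χ := IsStronglyCartesian.isIso_of_base_isIso p (p.map φ) χ
    have := h (p.obj x)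
    have h1 : IsIso (Fiber.homMk p (p.obj x) (IsCartesian.map p (p.map φ) χ φ) : x' ⟶ c') := inferInstance
    have h2 : IsIso (Fiber.fiberInclusion.map (Fiber.homMk p (p.obj x) (IsCartesian.map p (p.map φ) χ φ) : x' ⟶ c')) := inferInstance
    have h3 : IsIso (IsCartesian.map p (p.map φ) χ φ) := h2
    rw [← IsCartesian.fac p (p.map φ) χ φ]
    infer_instance
end fib

section refl
variable {E : Type u₁} [Category.{v₁} E] {F : Type u₂} [Category.{v₂} F] (φ : E ⥤ F) [HasPullbacks E] [PreservesLimitsOfShape WalkingCospan φ]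

theorem isIso_map_diagonal {X Y : E} (f : X ⟶ Y) [IsIso (φ.map f)] : IsIso (φ.map (pullback.diagonal f)) := by
  have h1 : IsPullback (φ.map (pullback.fst f f)) (φ.map (pullback.snd f f)) (φ.map f) (φ.map f) :=
    (IsPullback.of_hasPullback f f).map φ
  have h2 : IsIso (φ.map (pullback.fst f f)) := h1.isIso_fst_of_isIso
  have h3 : φ.map (pullback.diagonal f) ≫ φ.map (pullback.fst f f) = 𝟙 _ := by
    rw [← φ.map_comp, pullback.diagonal_fst, φ.map_id]
  have : φ.map (pullback.diagonal f) = inv (φ.map (pullback.fst f f)) := by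
    rw [← cancel_mono (φ.map (pullback.fst f f)), h3, IsIso.inv_hom_id]
  rw [this]; infer_instance

theorem r6123 (h : ∀ ⦃X Y : E⦄ (u : X ⟶ Y), Mono u → IsIso (φ.map u) → IsIso u) : φ.ReflectsIsomorphisms := by
  refine ⟨fun {X Y} f hf => ?_⟩
  have h1 : IsIso (pullback.diagonal f) := h _ inferInstance (isIso_map_diagonal φ f)
  have h2 : Mono f := (pullback.isIso_diagonal_iff f).1 h1
  exact h f h2 hf
end refl

theorem r6124 {E : Type u₁} [Category.{v₁} E] [HasPullbacks E] (P : ObjectProperty E) (hP : P.IsDetecting)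
    {κ : Type w} {E' : κ → Type u₂} [∀ k, Category.{v₂} (E' k)] (φ : ∀ k, E ⥤ E' k)
    [∀ k, PreservesLimitsOfShape WalkingCospan (φ k)] :
    (∀ ⦃X Y : E⦄ (f : X ⟶ Y), (∀ k, IsIso ((φ k).map f)) → IsIso f) ↔
      ∀ (X : E), P X → ∀ (X' : Subobject X), X' ≠ ⊤ → ∃ k, ¬ IsIso ((φ k).map X'.arrow) := by
  constructor
  · intro h X _ X' hX'
    by_contra hc
    push Not at hc
    have h1 : IsIso X'.arrow := h _ hc
    exact hX' ((Subobject.isIso_arrow_iff_eq_top X').1 h1)
  · intro h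
    have hmono : ∀ ⦃X Y : E⦄ (f : X ⟶ Y), Mono f → (∀ k, IsIso ((φ k).map f)) → IsIso f := by
      intro X Y f hf hk
      apply hP
      intro G hG g
      have h1 : Subobject.mk (pullback.snd f g) = ⊤ := by
        by_contra hne
        obtain ⟨k, hk'⟩ := h G hG _ hne
        apply hk'
        have h2 : IsPullback ((φ k).map (pullback.fst f g)) ((φ k).map (pullback.snd f g)) ((φ k).map f) ((φ k).map g) :=
          (IsPullback.of_hasPullback f g).map (φ k)
        have := hk k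
        have h3 : IsIso ((φ k).map (pullback.snd f g)) := h2.isIso_snd_of_isIso
        rw [← Subobject.underlyingIso_hom_comp_eq_mk, (φ k).map_comp]
        infer_instance
      have h2 : IsIso (pullback.snd f g) := (Subobject.isIso_iff_mk_eq_top _).2 h1
      refine ⟨inv (pullback.snd f g) ≫ pullback.fst f g, by simp [pullback.condition], ?_⟩
      intro y hy
      rw [← cancel_mono f, hy]
      simp [pullback.condition]
    intro X Y f hk
    have h1 : IsIso (pullback.diagonal f) := hmono _ inferInstance (fun k => by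
      have := hk k
      exact isIso_map_diagonal (φ k) f)
    have h2 : Mono f := (pullback.isIso_diagonal_iff f).1 h1
    exact hmono f h2 hk

theorem r6125 {E : Type u₁} [Category.{v₁} E] {C D : ObjectProperty E} (hC : C.IsSeparating) :
    D.IsCoseparating ↔
      ∀ (T X : E), C T → ∀ (u v : T ⟶ X), u ≠ v →
        ∃ (I : E) (_ : D I) (w : X ⟶ I), u ≫ w ≠ v ≫ w := by
  constructor
  · intro h T X _ u v huv
    by_contra hc
    push Not at hc
    exact huv (h u v fun G hG w => hc G hG w)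
  · intro h X Y f g hfg
    apply hC
    intro G hG t
    by_contra hne
    obtain ⟨I, hI, w, hw⟩ := h G Y hG (t ≫ f) (t ≫ g) hne
    apply hw
    rw [Category.assoc, Category.assoc, hfg I hI w]

theorem r6126 {E : Type u₁} [Category.{v₁} E] {ι : Type v₁} (G : ι → E)
    (hG : (ObjectProperty.ofObj G).IsSeparating)
    [EnoughInjectives E] [∀ t, HasBinaryCoproduct (G t) (G t)]
    (hfac : ∀ (t : ι) (X : E) (f : G t ⨿ G t ⟶ X),
      ∃ (Y : E) (e : G t ⨿ G t ⟶ Y) (m : Y ⟶ X), EffectiveEpi e ∧ Mono m ∧ e ≫ m = f) :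
    ∃ (κ : Type v₁) (H : κ → E),
      (∀ k, Injective (H k)) ∧ (ObjectProperty.ofObj H).IsCoseparating := by
  let Rel : ∀ (t : ι) {Y : E} (e : G t ⨿ G t ⟶ Y), Set (Σ s : ι, (G s ⟶ G t ⨿ G t) × (G s ⟶ G t ⨿ G t)) :=
    fun t Y e => {q | q.2.1 ≫ e = q.2.2 ≫ e}
  let κ := Σ t : ι, {R : Set (Σ s : ι, (G s ⟶ G t ⨿ G t) × (G s ⟶ G t ⨿ G t)) //
    ∃ (Y : E) (e : G t ⨿ G t ⟶ Y), EffectiveEpi e ∧ Rel t e = R}
  choose Y e he hR using fun k : κ => k.2.2
  refine ⟨κ, fun k => Injective.under (Y k), fun k => inferInstance, ?_⟩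
  rw [r6125 hG]
  rintro T X ⟨t⟩ u v huv
  obtain ⟨Z, a, m, ha, hm, ham⟩ := hfac t X (coprod.desc u v)
  let k : κ := ⟨t, Rel t a, Z, a, ha, rfl⟩
  have hrel : Rel t (e k) = Rel t a := hR k
  have key : ∀ {W W' : E} (q : G t ⨿ G t ⟶ W) (q' : G t ⨿ G t ⟶ W'), Rel t q ⊆ Rel t q' →
      ∀ {V : E} (x y : V ⟶ G t ⨿ G t), x ≫ q = y ≫ q → x ≫ q' = y ≫ q' := by
    intro W W' q q' hqq V x y hxy
    apply hG
    rintro _ ⟨s⟩ h
    have : (⟨s, h ≫ x, h ≫ y⟩ : Σ s : ι, (G s ⟶ G t ⨿ G t) × (G s ⟶ G t ⨿ G t)) ∈ Rel t q := by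
      change (h ≫ x) ≫ q = (h ≫ y) ≫ q
      rw [Category.assoc, Category.assoc, hxy]
    have h2 : (h ≫ x) ≫ q' = (h ≫ y) ≫ q' := hqq this
    simpa using h2
  have he' := he k
  -- e k factors through a and conversely
  let α : Y k ⟶ Z := EffectiveEpi.desc (e k) a (fun x y hxy => key (e k) a hrel.le x y hxy)
  let β : Z ⟶ Y k := EffectiveEpi.desc a (e k) (fun x y hxy => key a (e k) hrel.ge x y hxy)
  have hα : e k ≫ α = a := EffectiveEpi.fac _ _ _
  have hβ : a ≫ β = e k := EffectiveEpi.fac _ _ _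
  have hβα : β ≫ α = 𝟙 Z := by
    rw [← cancel_epi a, reassoc_of% hβ, hα, Category.comp_id]
  have hβm : Mono β := mono_of_mono_fac hβα
  let w : X ⟶ Injective.under (Y k) := Injective.factorThru (β ≫ Injective.ι (Y k)) m
  have hw : m ≫ w = β ≫ Injective.ι (Y k) := Injective.comp_factorThru _ _
  refine ⟨Injective.under (Y k), ⟨k⟩, w, ?_⟩
  intro hc
  apply huv
  have hu : coprod.inl ≫ a ≫ m = u := by rw [ham]; exact coprod.inl_desc u v
  have hv : coprod.inr ≫ a ≫ m = v := by rw [ham]; exact coprod.inr_desc u v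
  have h1 : (coprod.inl ≫ a) ≫ (β ≫ Injective.ι (Y k)) = (coprod.inr ≫ a) ≫ (β ≫ Injective.ι (Y k)) := by
    rw [← hw]
    simp only [Category.assoc]
    rw [reassoc_of% hu, reassoc_of% hv, hc]
  have h2 : (coprod.inl : G t ⟶ G t ⨿ G t) ≫ a = coprod.inr ≫ a := by
    rw [← cancel_mono (β ≫ Injective.ι (Y k))]; exact h1
  rw [← hu, ← hv, reassoc_of% h2]

theorem r6130 {C : Type u₁} [Category.{v₁} C] (J : GrothendieckTopology C) (G : ObjectProperty C)
    (hG : ∀ X : C, Sieve.generate (fun Y => {_f : Y ⟶ X | G Y}) ∈ J X)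
    {X : C} (S : Sieve X) (hS : S ∈ J X) :
    Sieve.generate (fun Y => {f : Y ⟶ X | G Y ∧ S.arrows f}) ∈ J X := by
  refine J.transitive hS _ fun Y f hf => ?_
  refine J.superset_covering ?_ (hG Y)
  rintro Z g ⟨W, a, b, hb, rfl⟩
  exact ⟨W, a, b ≫ f, ⟨hb, S.downward_closed hf b⟩, by simp⟩

theorem r6133 {E : Type u₁} [Category.{v₁} E] {C : ObjectProperty E} (hC : C.IsSeparating)
    {X X' X'' : E} (i' : X' ⟶ X) (i'' : X'' ⟶ X) [IsRegularMono i'] [IsRegularMono i'']
    (h : ∀ (T : E), C T → ∀ (g : T ⟶ X),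
      (∃ g' : T ⟶ X', g' ≫ i' = g) ↔ (∃ g'' : T ⟶ X'', g'' ≫ i'' = g)) :
    Subobject.mk i' = Subobject.mk i'' := by
  have key : ∀ {X' X'' : E} (i' : X' ⟶ X) (i'' : X'' ⟶ X) [IsRegularMono i'] [Mono i'']
    (_ : ∀ (T : E), C T → ∀ (g : T ⟶ X),
      (∃ g'' : T ⟶ X'', g'' ≫ i'' = g) → (∃ g' : T ⟶ X', g' ≫ i' = g)), Subobject.mk i'' ≤ Subobject.mk i' := by
    intro X' X'' i' i'' _ _ h
    obtain ⟨⟨r⟩⟩ := ‹IsRegularMono i'›
    have hw : i'' ≫ r.left = i'' ≫ r.right := by
      apply hC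
      intro T hT t
      obtain ⟨g', hg'⟩ := h T hT (t ≫ i'') ⟨t, rfl⟩
      rw [← Category.assoc, ← Category.assoc, ← hg', Category.assoc, Category.assoc, r.w]
    let l := Fork.IsLimit.lift r.isLimit i'' hw
    have hl : l ≫ i' = i'' := Fork.IsLimit.lift_ι _ 
    exact Subobject.mk_le_mk_of_comm l hl
  exact le_antisymm (key i'' i' fun T hT g hg => (h T hT g).1 hg) (key i' i'' fun T hT g hg => (h T hT g).2 hg)

theorem r6138 {C : Type u} [Category.{v} C] [HasCoequalizers C] [HasPullbacks C]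
    (F : Cᵒᵖ ⥤ Type v) [PreservesLimitsOfShape WalkingParallelPair F]
    {X : C} (u : F.obj (op X)) :
    (∀ (Y : C) (v v' : Y ⟶ X), F.map v.op u = F.map v'.op u → v = v') ↔
      ∀ (X' : C) (p : X ⟶ X') (u' : F.obj (op X')),
        EffectiveEpi p → F.map p.op u' = u → IsIso p := by
  constructor
  · intro h X' p u' hp hu
    have h1 : Mono p := by
      refine ⟨fun {Z} a b hab => h Z a b ?_⟩
      have h2 : ∀ c : Z ⟶ X, F.map c.op u = F.map (c ≫ p).op u' := by
        intro c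
        rw [op_comp, F.map_comp, ← hu]; rfl
      rw [h2, h2, hab]
    exact isIso_of_mono_of_strongEpi p
  · intro h Y v v' hvv
    let q := coequalizer.π v v'
    have w' : q.op ≫ v.op = q.op ≫ v'.op := by rw [← op_comp, ← op_comp, coequalizer.condition]
    have hl : IsLimit (Fork.ofι q.op w') :=
      Cofork.isColimitOfπEquivIsLimitOp q q (coequalizer.condition v v') w' rfl (coequalizerIsCoequalizer v v')
    have hl2 := isLimitForkMapOfIsLimit F w' hl
    obtain ⟨u', hu', -⟩ := (Types.type_equalizer_iff_unique _ _).1 ⟨hl2⟩ u hvv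
    have hq : EffectiveEpi q := inferInstance
    have := h _ q u' hq hu'
    have h3 : v ≫ q = v' ≫ q := coequalizer.condition v v'
    exact (cancel_mono q).1 h3

theorem r6139 {C : Type u} [Category.{v} C] (X : C) :
    (⊥ : Sieve X) ∈ Sheaf.canonicalTopology C X ↔
      (Nonempty (IsInitial X) ∧ ∀ (Y : C) (f : Y ⟶ X), IsIso f) := by
  have hempty : ∀ {Z W : C}, Presieve.IsSheafFor (yoneda.obj W) (⊥ : Sieve Z).arrows → Nonempty (Unique (Z ⟶ W)) := by
    intro Z W h
    obtain ⟨t, -, ht⟩ := h (fun Y f hf => hf.elim) (fun _ _ _ _ _ _ _ h => h.elim)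
    refine ⟨⟨⟨t⟩, fun a => ht a (fun Y f hf => hf.elim)⟩⟩
  have hinit : ∀ {Z : C}, (⊥ : Sieve Z) ∈ Sheaf.canonicalTopology C Z → Nonempty (IsInitial Z) := by
    intro Z hZ
    exact ⟨IsInitial.ofUniqueHom (fun W => (hempty (Sheaf.isSheaf_yoneda_obj W _ hZ)).some.default)
      (fun W m => (hempty (Sheaf.isSheaf_yoneda_obj W _ hZ)).some.uniq m)⟩
  constructor
  · intro h
    obtain ⟨hX⟩ := hinit h
    refine ⟨⟨hX⟩, fun Y f => ?_⟩
    have h2 : (⊥ : Sieve Y) ∈ Sheaf.canonicalTopology C Y := by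
      have := (Sheaf.canonicalTopology C).pullback_stable f h
      rwa [Sieve.pullback_bot] at this
    obtain ⟨hY⟩ := hinit h2
    exact ⟨hX.to Y, hY.hom_ext _ _, hX.hom_ext _ _⟩
  · rintro ⟨⟨hX⟩, h⟩
    apply Sheaf.mem_finestTopology_of_forall_isSheafFor
    rintro _ ⟨W, rfl⟩ Y f
    rw [Sieve.pullback_bot]
    have := h Y f
    have hY : IsInitial Y := hX.ofIso (asIso f).symm
    intro x hx
    exact ⟨hY.to W, fun Z g hg => hg.elim, fun t _ => hY.hom_ext _ _⟩

theorem r6144 {E : Type u} [Category.{v} E] [HasPullbacks E] {κ : Type v} (G : κ → E)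
    (hG : (ObjectProperty.ofObj G).IsDetecting) {I : Type w} (Y : I → E)
    (hY : (ObjectProperty.ofObj Y).IsDetecting) :
    ∃ J : Set I, Small.{v} J ∧ (ObjectProperty.ofObj (fun j : J => Y j)).IsDetecting := by
  have hwp : WellPowered.{v} E := by
    exact wellPowered_of_isDetecting hG
  have hpair : ∀ (k : κ) (S : Subobject (G k)), S ≠ ⊤ → ∃ (i : I) (h : Y i ⟶ G k), ¬ S.Factors h := by
    intro k S hS
    by_contra hc
    push Not at hc
    apply hS
    rw [← Subobject.isIso_arrow_iff_eq_top]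
    apply hY
    rintro _ ⟨i⟩ h
    refine ⟨S.factorThru h (hc i h), Subobject.factorThru_arrow _ _ _, fun y hy => ?_⟩
    rw [← cancel_mono S.arrow, hy, Subobject.factorThru_arrow]
  choose i h hi using hpair
  refine ⟨Set.range (fun q : Σ k : κ, {S : Subobject (G k) // S ≠ ⊤} => i q.1 q.2.1 q.2.2), small_range _, ?_⟩
  have hmono : ∀ ⦃A B : E⦄ (f : A ⟶ B), Mono f → (∀ k (S : Subobject (G k)) (hS : S ≠ ⊤), ∀ g : Y (i k S hS) ⟶ B, ∃ g', g' ≫ f = g) → IsIso f := by
    intro A B f hf hk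
    apply hG
    rintro _ ⟨k⟩ g
    have h1 : Subobject.mk (pullback.snd f g) = ⊤ := by
      by_contra hne
      apply hi k _ hne
      obtain ⟨g', hg'⟩ := hk k _ hne (h k (Subobject.mk (pullback.snd f g)) hne ≫ g)
      rw [Subobject.mk_factors_iff]
      exact ⟨pullback.lift g' (h k (Subobject.mk (pullback.snd f g)) hne) hg', pullback.lift_snd _ _ _⟩
    have h2 : IsIso (pullback.snd f g) := (Subobject.isIso_iff_mk_eq_top _).2 h1
    refine ⟨inv (pullback.snd f g) ≫ pullback.fst f g, by simp [pullback.condition], ?_⟩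
    intro y hy
    rw [← cancel_mono f, hy]
    simp [pullback.condition]
  intro A B f hf
  have hf' : ∀ k (S : Subobject (G k)) (hS : S ≠ ⊤), ∀ g : Y (i k S hS) ⟶ B, ∃! g', g' ≫ f = g := by
    intro k S hS g
    exact hf (Y (i k S hS)) (ObjectProperty.ofObj.mk (⟨i k S hS, ⟨⟨k, ⟨S, hS⟩⟩, rfl⟩⟩ : ↥(Set.range (fun q : Σ k : κ, {S : Subobject (G k) // S ≠ ⊤} => i q.1 q.2.1 q.2.2)))) g
  have h1 : IsIso (pullback.diagonal f) := by
    apply hmono _ inferInstance
    intro k S hS g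
    refine ⟨g ≫ pullback.fst f f, ?_⟩
    apply pullback.hom_ext
    · simp
    · simp only [Category.assoc, pullback.diagonal_snd, Category.comp_id]
      exact (hf' k S hS (g ≫ pullback.fst f f ≫ f)).unique (by simp) (by simp [pullback.condition])
  have h2 : Mono f := (pullback.isIso_diagonal_iff f).1 h1
  exact hmono f h2 fun k S hS g => (hf' k S hS g).exists

end SG9
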