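import Groth.Prelude.Def_SGA4a
import Mathlib.CategoryTheory.Adjunction.Triple
import Mathlib.CategoryTheory.Comma.Over.Pullback
import Mathlib.CategoryTheory.Monoidal.Closed.FunctorToTypes
import Mathlib.CategoryTheory.Monoidal.Closed.Types
import Mathlib.CategoryTheory.Sites.CartesianClosed
import Mathlib.CategoryTheory.Sites.Closed
import Mathlib.CategoryTheory.Sites.CoverLifting
import Mathlib.CategoryTheory.Sites.Pullback
import Mathlib.CategoryTheory.Sites.Sheafification
import Mathlib.CategoryTheory.Sites.LeftExact
import Mathlib.CategoryTheory.Sites.Limits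
import Mathlib.CategoryTheory.Sites.Subcanonical
import Mathlib.CategoryTheory.Monoidal.Closed.Functor
set_option autoImplicit false
set_option backward.isDefEq.respectTransparency false
universe v₁ v₂ u₁ u₂ u v w
open CategoryTheory CategoryTheory.Functor CategoryTheory.Limits Opposite MonoidalCategory CartesianMonoidalCategory

namespace SG9

theorem r6171 {C D : Type u} [SmallCategory C] [SmallCategory D] (J : GrothendieckTopology C)
    (K : GrothendieckTopology D) (u : D ⥤ C) [u.IsContinuous K J] [PreservesFiniteLimits (u.sheafPullback (Type u) K J)]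
    (X : Sheaf J (Type u)) (Y : Sheaf K (Type u)) :
    Nonempty ((u.sheafPushforwardContinuous (Type u) K J).obj ((ihom ((u.sheafPullback (Type u) K J).obj Y)).obj X) ≅
      (ihom Y).obj ((u.sheafPushforwardContinuous (Type u) K J).obj X)) := by
  let L := u.sheafPullback (Type u) K J
  let adj := u.sheafAdjunctionContinuous (Type u) K J
  let adj1 := adj.comp (ihom.adjunction (L.obj Y))
  let adj2 := (ihom.adjunction Y).comp adj
  let iso : tensorLeft Y ⋙ L ≅ L ⋙ tensorLeft (L.obj Y) := prodComparisonNatIso L Y
  exact ⟨(Adjunction.rightAdjointUniq adj1 (adj2.ofNatIsoLeft iso)).app X⟩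

theorem r6172 {C : Type u} [SmallCategory C] (J : GrothendieckTopology C)
    (Z Y : Sheaf J (Type u)) [(Over.star Z).IsLeftAdjoint] :
    Nonempty (((Over.star Z).rightAdjoint).obj ((Over.star Z).obj Y) ≅ (ihom Z).obj Y) := by
  let adj1 := (Adjunction.ofIsLeftAdjoint (Over.star Z)).comp (Over.forgetAdjStar Z)
  let adj1' := (Over.forgetAdjStar Z).comp (Adjunction.ofIsLeftAdjoint (Over.star Z))
  let adj1'' : Over.star Z ⋙ Over.forget Z ⊣ Over.star Z ⋙ (Over.star Z).rightAdjoint :=
    Adjunction.comp (Adjunction.ofIsLeftAdjoint (Over.star Z)) (Over.forgetAdjStar Z)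
  let iso1 : Over.star Z ⋙ Over.forget Z ≅ prod.functor.obj Z := Iso.refl _
  let iso : Over.star Z ⋙ Over.forget Z ≅ tensorLeft Z := iso1 ≪≫ (CartesianMonoidalCategory.tensorLeftIsoProd Z).symm
  exact ⟨(Adjunction.rightAdjointUniq (adj1''.ofNatIsoLeft iso) (ihom.adjunction Z)).app Y⟩

section sh
variable {C : Type u} [SmallCategory C] (J : GrothendieckTopology C)

/-- maps out of the sheafified representable -/
noncomputable def sev (F : Sheaf J (Type u)) (X : C) :
    ((presheafToSheaf J (Type u)).obj (yoneda.obj X) ⟶ F) ≃ F.obj.obj (op X) :=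
  ((sheafificationAdjunction J (Type u)).homEquiv _ _).trans yonedaEquiv

theorem sev_nat (F : Sheaf J (Type u)) {X Y : C} (s : Y ⟶ X) (f : (presheafToSheaf J (Type u)).obj (yoneda.obj X) ⟶ F) :
    sev J F Y ((presheafToSheaf J (Type u)).map (yoneda.map s) ≫ f) = F.obj.map s.op (sev J F X f) := by
  unfold sev
  simp only [Equiv.trans_apply]
  rw [Adjunction.homEquiv_naturality_left]
  erw [yonedaEquiv_naturality]
  rfl

theorem cofan_iff {X : C} {ι : Type u} (Y : ι → C) (s : ∀ i, Y i ⟶ X) :
    Nonempty (IsColimit (Cofan.mk ((presheafToSheaf J (Type u)).obj (yoneda.obj X))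
      (fun i => (presheafToSheaf J (Type u)).map (yoneda.map (s i))))) ↔
    ∀ F : Sheaf J (Type u), Function.Bijective (fun (x : F.obj.obj (op X)) (i : ι) => F.obj.map (s i).op x) := by
  constructor
  · rintro ⟨hc⟩ F
    constructor
    · intro x x' hxx
      obtain ⟨f, rfl⟩ := (sev J F X).surjective x
      obtain ⟨f', rfl⟩ := (sev J F X).surjective x'
      congr 1
      apply Cofan.IsColimit.hom_ext hc
      intro i
      apply (sev J F (Y i)).injective
      have := congrFun hxx i
      dsimp only at this
      rw [← sev_nat, ← sev_nat] at this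
      exact this
    · intro y
      let f := Cofan.IsColimit.desc hc (fun i => (sev J F (Y i)).symm (y i))
      refine ⟨sev J F X f, ?_⟩
      funext i
      dsimp only
      rw [← sev_nat]
      have : (presheafToSheaf J (Type u)).map (yoneda.map (s i)) ≫ f = (sev J F (Y i)).symm (y i) :=
        Cofan.IsColimit.fac hc _ i
      rw [this, Equiv.apply_symm_apply]
  · intro h
    have h1 := fun F => (h F).1
    have h2 := fun F => (h F).2
    choose g hg using h2
    refine ⟨Cofan.IsColimit.mk _ (fun t => (sev J t.pt X).symm (g t.pt (fun i => sev J t.pt (Y i) (t.inj i)))) ?_ ?_⟩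
    · intro t i
      apply (sev J t.pt (Y i)).injective
      have := congrFun (hg t.pt (fun i => sev J t.pt (Y i) (t.inj i))) i
      dsimp only at this
      erw [sev_nat, Equiv.apply_symm_apply]
      exact this
    · intro t m hm
      apply (sev J t.pt X).injective
      rw [Equiv.apply_symm_apply]
      apply h1
      refine Eq.trans ?_ (hg _ _).symm
      funext i
      dsimp only
      rw [← sev_nat]
      exact congrArg _ (hm i)

theorem r6134 {J J' : GrothendieckTopology C} (hJ : J ≤ J')
    {X : C} {ι : Type u} (Y : ι → C) (s : ∀ i, Y i ⟶ X)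
    (h : Nonempty (IsColimit (Cofan.mk ((presheafToSheaf J (Type u)).obj (yoneda.obj X))
      (fun i => (presheafToSheaf J (Type u)).map (yoneda.map (s i)))))) :
    Nonempty (IsColimit (Cofan.mk ((presheafToSheaf J' (Type u)).obj (yoneda.obj X))
      (fun i => (presheafToSheaf J' (Type u)).map (yoneda.map (s i))))) := by
  rw [cofan_iff] at h ⊢
  intro F
  exact h ⟨F.obj, (isSheaf_iff_isSheaf_of_type _ _).2 (Presieve.isSheaf_of_le _ hJ ((isSheaf_iff_isSheaf_of_type _ _).1 F.2))⟩

theorem unique_of_bot (F : Sheaf J (Type u)) {X : C} (h : (⊥ : Sieve X) ∈ J X) : Nonempty (Unique (F.obj.obj (op X))) := by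
  have hF : Presieve.IsSheaf J F.obj := (isSheaf_iff_isSheaf_of_type _ _).1 F.2
  obtain ⟨t, -, ht⟩ := hF _ h (fun Y f hf => hf.elim) (fun _ _ _ _ _ _ _ h => h.elim)
  exact ⟨⟨⟨t⟩, fun a => ht a (fun Y f hf => hf.elim)⟩⟩

theorem r6131 (X : C) :
    Nonempty (IsInitial ((presheafToSheaf J (Type u)).obj (yoneda.obj X))) ↔ (⊥ : Sieve X) ∈ J X := by
  constructor
  · rintro ⟨hX⟩
    let Ω : Sheaf J (Type u) := ⟨(Functor.closedSieves J).toFunctor, (isSheaf_iff_isSheaf_of_type _ _).2 (classifier_isSheaf J)⟩
    let a : Ω.obj.obj (op X) := ⟨J.close ⊥, J.close_isClosed ⊥⟩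
    let b : Ω.obj.obj (op X) := ⟨(⊤ : Sieve X), fun _ _ _ => trivial⟩
    have hab : (sev J Ω X).symm a = (sev J Ω X).symm b := hX.hom_ext _ _
    have hab' : a = b := (sev J Ω X).symm.injective hab
    rw [← J.close_eq_top_iff_mem]
    exact congrArg Subtype.val hab'
  · intro h
    have hu : ∀ F : Sheaf J (Type u), Nonempty (Unique ((presheafToSheaf J (Type u)).obj (yoneda.obj X) ⟶ F)) := by
      intro F
      obtain ⟨h1⟩ := unique_of_bot J F h
      exact ⟨(sev J F X).unique⟩
    exact ⟨IsInitial.ofUniqueHom (fun F => (hu F).some.default) (fun F m => (hu F).some.uniq m)⟩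

theorem r6132 {X : C} {ι : Type u}
    (Y : ι → C) (s : ∀ i, Y i ⟶ X) [∀ (i : ι) (Z : C) (g : Z ⟶ X), HasPullback (s i) g]
    (hcov : Sieve.ofArrows Y s ∈ J X) (hmono : ∀ i, Mono (s i))
    (hdisj : ∀ i j, i ≠ j → (⊥ : Sieve (pullback (s i) (s j))) ∈ J (pullback (s i) (s j))) :
    Nonempty (IsColimit (Cofan.mk ((presheafToSheaf J (Type u)).obj (yoneda.obj X))
      (fun i => (presheafToSheaf J (Type u)).map (yoneda.map (s i))))) := by
  rw [cofan_iff]
  intro F
  have hF : Presieve.IsSheaf J F.obj := (isSheaf_iff_isSheaf_of_type _ _).1 F.2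
  have hS : Presieve.IsSheafFor F.obj (Presieve.ofArrows Y s) := by
    rw [Presieve.isSheafFor_iff_generate]
    exact hF _ hcov
  rw [Presieve.isSheafFor_arrows_iff] at hS
  have hcomp : ∀ y : ∀ i, F.obj.obj (op (Y i)), Presieve.Arrows.Compatible F.obj s y := by
    intro y i j Z gi gj hg
    by_cases hij : i = j
    · subst hij
      have := hmono i
      rw [(cancel_mono (s i)).1 hg]
    · obtain ⟨hu⟩ := unique_of_bot J F (hdisj i j hij)
      have h1 : gi = pullback.lift gi gj hg ≫ pullback.fst (s i) (s j) := (pullback.lift_fst _ _ _).symm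
      have h2 : gj = pullback.lift gi gj hg ≫ pullback.snd (s i) (s j) := (pullback.lift_snd _ _ _).symm
      have h3 : F.obj.map (pullback.fst (s i) (s j)).op (y i) = F.obj.map (pullback.snd (s i) (s j)).op (y j) := Subsingleton.elim _ _
      have e1 : F.obj.map gi.op (y i) = F.obj.map (pullback.lift gi gj hg).op (F.obj.map (pullback.fst (s i) (s j)).op (y i)) := by
        conv_lhs => rw [h1]
        rw [op_comp, F.obj.map_comp]; rfl
      have e2 : F.obj.map gj.op (y j) = F.obj.map (pullback.lift gi gj hg).op (F.obj.map (pullback.snd (s i) (s j)).op (y j)) := by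
        conv_lhs => rw [h2]
        rw [op_comp, F.obj.map_comp]; rfl
      rw [e1, e2]
      exact congrArg (F.obj.map (pullback.lift gi gj hg).op) h3
  constructor
  · intro x x' hxx
    exact (hS _ (hcomp (fun i => F.obj.map (s i).op x))).unique (fun i => rfl) (fun i => (congrFun hxx i).symm)
  · intro y
    obtain ⟨t, ht, -⟩ := hS y (hcomp y)
    exact ⟨t, funext ht⟩

theorem r6128 {C' : Type u} [SmallCategory C']
    (J' : GrothendieckTopology C') (u : C ⥤ C')
    (h : ∀ G : Sheaf J (Type u), Presheaf.IsSheaf J' ((u.op.ran).obj G.obj)) :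
    u.IsCocontinuous J J' := by
  refine ⟨fun {X S} hS => ?_⟩
  let Ω : Sheaf J (Type u) := ⟨(Functor.closedSieves J).toFunctor, (isSheaf_iff_isSheaf_of_type _ _).2 (classifier_isSheaf J)⟩
  have hR : Presieve.IsSheaf J' ((u.op.ran).obj Ω.obj) := (isSheaf_iff_isSheaf_of_type _ _).1 (h Ω)
  have hsep := (hR S hS).isSeparatedFor
  let adj := u.op.ranAdjunction (Type u)
  let P : Cᵒᵖ ⥤ Type u := ((whiskeringLeft _ _ (Type u)).obj u.op).obj (yoneda.obj (u.obj X))
  let φ₁ : P ⟶ Ω.obj := { app := fun Z => ↾fun x => ⟨(⊤ : Sieve Z.unop), fun _ _ _ => trivial⟩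
                          naturality := by
                            intro Z W f; ext x; apply Subtype.ext; exact (Sieve.pullback_top).symm }
  let φ₂ : P ⟶ Ω.obj := { app := fun Z => ↾fun (x : u.obj Z.unop ⟶ u.obj X) => ⟨J.close ((S.pullback x).functorPullback u), J.close_isClosed _⟩
                          naturality := by
                            intro Z W f
                            ext x
                            apply Subtype.ext
                            change J.close _ = (J.close _).pullback _
                            rw [← J.pullback_close]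
                            congr 1
                            ext V g
                            change S.arrows (u.map g ≫ u.map f.unop ≫ x) ↔ S.arrows (u.map (g ≫ f.unop) ≫ x)
                            rw [u.map_comp, Category.assoc] }
  have hψ : adj.homEquiv _ _ φ₁ = adj.homEquiv _ _ φ₂ := by
    apply yonedaEquiv.injective
    apply hsep.ext
    intro V f hf
    rw [yonedaEquiv_naturality, yonedaEquiv_naturality]
    congr 1
    erw [← adj.homEquiv_naturality_left, ← adj.homEquiv_naturality_left]
    congr 1
    ext Z (x : u.obj Z.unop ⟶ V)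
    apply Subtype.ext
    change (⊤ : Sieve Z.unop) = J.close ((S.pullback (x ≫ f)).functorPullback u)
    rw [S.pullback_eq_top_of_mem (S.downward_closed hf x)]
    rw [Sieve.functorPullback_top, J.close_eq_top_iff_mem _ |>.2 (J.top_mem _)]
  have hφ : φ₁ = φ₂ := (adj.homEquiv _ _).injective hψ
  have h3 := congrArg (fun (φ : P ⟶ Ω.obj) => (φ.app (op X) (𝟙 (u.obj X))).1) hφ
  have h4 : (⊤ : Sieve X) = J.close ((S.pullback (𝟙 (u.obj X))).functorPullback u) := h3
  rw [Sieve.pullback_id] at h4
  exact (J.close_eq_top_iff_mem _).1 h4.symm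

end sh

theorem r6141 {C : Type u} [SmallCategory C] {C' : Type u} [SmallCategory C']
    (J : GrothendieckTopology C) (K : GrothendieckTopology C') (u : C ⥤ C')
    [u.IsContinuous J K] [u.IsCocontinuous J K] [u.Full] [u.Faithful] :
    (u.sheafPullback (Type u) J K).Full ∧ (u.sheafPullback (Type u) J K).Faithful := by
  let t : Adjunction.Triple (u.sheafPullback (Type u) J K) (u.sheafPushforwardContinuous (Type u) J K)
      (u.sheafPushforwardCocontinuous (Type u) J K) :=
    ⟨u.sheafAdjunctionContinuous (Type u) J K, u.sheafAdjunctionCocontinuous (Type u) J K⟩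
  have h1 : IsIso t.adj₂.counit := by
    rw [NatTrans.isIso_iff_isIso_app]
    intro F
    have : IsIso ((sheafToPresheaf J (Type u)).map (t.adj₂.counit.app F)) := by
      change IsIso ((u.sheafAdjunctionCocontinuous (Type u) J K).counit.app F).hom
      rw [u.sheafAdjunctionCocontinuous_counit_app_hom]
      infer_instance
    exact isIso_of_reflects_iso _ (sheafToPresheaf J (Type u))
  let hH := t.adj₂.fullyFaithfulROfIsIsoCounit
  let hF := t.fullyFaithfulEquiv.symm hH
  exact ⟨hF.full, hF.faithful⟩

theorem r6176 {C : Type u} [SmallCategory C] (J : GrothendieckTopology C)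
    (U : Sheaf J (Type u)) (hU : SGA4.IsOpen U) (I : Type u) [Nonempty I] :
    PreservesLimitsOfShape (Discrete I) (Over.forget U) := by
  have hsub : ∀ {T : Sheaf J (Type u)} (a b : T ⟶ U), a = b := by
    intro T a b
    have := hU
    rw [← cancel_mono (terminal.from U)]
    exact Subsingleton.elim _ _
  refine ⟨fun {K} => ⟨fun {c} hc => ⟨?_⟩⟩⟩
  let i0 : Discrete I := ⟨Classical.arbitrary I⟩
  let lft : ∀ s : Cone (K ⋙ Over.forget U), Cone K := fun s =>
    { pt := Over.mk (s.π.app i0 ≫ (K.obj i0).hom)
      π := { app := fun i => Over.homMk (s.π.app i) (hsub _ _)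
             naturality := by
              intro i j f
              apply Over.OverMorphism.ext
              have := s.π.naturality f
              dsimp at this ⊢
              exact this } }
  exact
    { lift := fun s => (hc.lift (lft s)).left
      fac := fun s j => by
        have := congrArg (fun f => f.left) (hc.fac (lft s) j)
        exact this
      uniq := fun s m hm => by
        have h1 : (Over.homMk m (hsub _ _) : (lft s).pt ⟶ c.pt) = hc.lift (lft s) := by
          apply hc.uniq (lft s)
          intro j
          apply Over.OverMorphism.ext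
          exact hm j
        exact congrArg (fun f => f.left) h1 }
end SG9
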