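import Groth.Prelude.Def_SGA4a
import Mathlib.CategoryTheory.Monoidal.Closed.FunctorToTypes
import Mathlib.CategoryTheory.Monoidal.Closed.Types
import Mathlib.CategoryTheory.Sites.CartesianClosed
import Mathlib.CategoryTheory.Sites.Canonical
import Mathlib.CategoryTheory.Sites.Closed
import Mathlib.CategoryTheory.Sites.Sheafification
import Mathlib.CategoryTheory.Sites.LeftExact
import Mathlib.CategoryTheory.Sites.Limits
import Mathlib.CategoryTheory.Monoidal.Closed.Functor
import Mathlib.CategoryTheory.Adjunction.Reflective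
import Mathlib.CategoryTheory.ObjectProperty.ClosedUnderIsomorphisms
import Mathlib.CategoryTheory.Limits.Preserves.Shapes.Equalizers
set_option autoImplicit false
set_option backward.isDefEq.respectTransparency false
universe v₁ v₂ u₁ u₂ u v w
open CategoryTheory CategoryTheory.Functor CategoryTheory.Limits Opposite

namespace SG9

section
variable {E : Type u₁} [Category.{v₁} E] [HasFiniteProducts E] [HasPushouts E] (U : E)
  [Mono (terminal.from U)] [PreservesColimitsOfShape WalkingSpan (prod.functor.obj U)]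

omit [HasPushouts E] [PreservesColimitsOfShape WalkingSpan (prod.functor.obj U)] in
theorem sub_eq {T : E} (a b : T ⟶ U) : a = b := by
  rw [← cancel_mono (terminal.from U)]
  exact Subsingleton.elim _ _

theorem closedCompl_pushout (Y : E) : IsIso (prod.fst : U ⨯ (pushout (prod.fst : U ⨯ Y ⟶ U) (prod.snd : U ⨯ Y ⟶ Y)) ⟶ U) := by
  let F := prod.functor.obj U
  have hp := (IsPushout.of_hasPushout (prod.fst : U ⨯ Y ⟶ U) (prod.snd : U ⨯ Y ⟶ Y)).map F
  have h1 : IsIso (F.map (prod.snd : U ⨯ Y ⟶ Y)) := by
    refine ⟨prod.lift prod.fst (𝟙 _), ?_, ?_⟩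
    · apply Limits.prod.hom_ext
      · simp [F]
      · apply Limits.prod.hom_ext
        · exact sub_eq U _ _
        · simp [F]
    · apply Limits.prod.hom_ext
      · simp [F]; exact Category.id_comp _
      · simp [F]; exact Category.id_comp _
  have h2 : IsIso (F.map (pushout.inl (prod.fst : U ⨯ Y ⟶ U) (prod.snd : U ⨯ Y ⟶ Y))) := hp.isIso_inl_of_isIso
  have h3 : IsIso (prod.fst : U ⨯ U ⟶ U) := ⟨prod.lift (𝟙 _) (𝟙 _), by
    apply Limits.prod.hom_ext
    · exact sub_eq U _ _
    · exact sub_eq U _ _, by simp⟩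
  have h4 : F.map (pushout.inl (prod.fst : U ⨯ Y ⟶ U) (prod.snd : U ⨯ Y ⟶ Y)) ≫ prod.fst = (prod.fst : U ⨯ U ⟶ U) := by
    simp [F]
  have h5 : (prod.fst : U ⨯ (pushout (prod.fst : U ⨯ Y ⟶ U) (prod.snd : U ⨯ Y ⟶ Y)) ⟶ U) =
    CategoryTheory.inv (F.map (pushout.inl (prod.fst : U ⨯ Y ⟶ U) (prod.snd : U ⨯ Y ⟶ Y))) ≫ prod.fst := by
    rw [IsIso.eq_inv_comp]; exact h4
  rw [h5]
  infer_instance

omit [HasPushouts E] [Mono (terminal.from U)] [PreservesColimitsOfShape WalkingSpan (prod.functor.obj U)] in
theorem closedCompl_iso {X Y : E} (e : X ≅ Y) (h : IsIso (prod.fst : U ⨯ Y ⟶ U)) : IsIso (prod.fst : U ⨯ X ⟶ U) := by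
  have : (prod.fst : U ⨯ X ⟶ U) = prod.map (𝟙 U) e.hom ≫ prod.fst := by simp
  rw [this]
  infer_instance
end

theorem r6177 {C : Type u} [SmallCategory C] (J : GrothendieckTopology C)
    (U : Sheaf J (Type u)) (hU : SGA4.IsOpen U) (X : Sheaf J (Type u)) :
    (SGA4.closedCompl U X ↔ IsIso (pushout.inr (prod.fst : U ⨯ X ⟶ U) (prod.snd : U ⨯ X ⟶ X))) ∧
    ((∃ Y : Sheaf J (Type u), Nonempty (X ≅ pushout (prod.fst : U ⨯ Y ⟶ U) (prod.snd : U ⨯ Y ⟶ Y))) →
      SGA4.closedCompl U X) := by
  have : (prod.functor.obj U).IsLeftAdjoint := Functor.isLeftAdjoint_of_iso (CartesianMonoidalCategory.tensorLeftIsoProd U)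
  have := hU
  refine ⟨⟨fun h => ?_, fun h => ?_⟩, ?_⟩
  · have : IsIso (prod.fst : U ⨯ X ⟶ U) := h
    infer_instance
  · exact closedCompl_iso U (asIso (pushout.inr (prod.fst : U ⨯ X ⟶ U) (prod.snd : U ⨯ X ⟶ X))) (closedCompl_pushout U X)
  · rintro ⟨Y, ⟨e⟩⟩
    exact closedCompl_iso U e (closedCompl_pushout U Y)

section lexrefl
variable {C : Type u} [SmallCategory C] 

theorem sieve_iso {X : C} {A : Cᵒᵖ ⥤ Type u} (i : A ⟶ yoneda.obj X) [Mono i] (S : Sieve X)
    (h : ∀ {Y : C} (f : Y ⟶ X), S f ↔ ∃ a : yoneda.obj Y ⟶ A, a ≫ i = yoneda.map f) :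
    ∃ e : A ⟶ S.functor, IsIso e ∧ e ≫ S.functorInclusion = i := by
  have hinj : ∀ Y, Function.Injective (i.app Y) := fun Y => (mono_iff_injective _).1 (inferInstance : Mono (i.app Y))
  have hS : ∀ (Y : Cᵒᵖ) (x : A.obj Y), S (i.app Y x) := by
    intro Y x
    rw [h]
    refine ⟨yonedaEquiv.symm x, ?_⟩
    apply yonedaEquiv.injective
    rw [yonedaEquiv_comp, Equiv.apply_symm_apply, yonedaEquiv_yoneda_map]
  let e : A ⟶ S.functor :=
    { app := fun Y => ↾fun x => ⟨i.app Y x, hS Y x⟩
      naturality := by
        intro Y Z g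
        ext x
        apply Subtype.ext
        exact congr($(i.naturality g) x) }
  refine ⟨e, ?_, ?_⟩
  · rw [NatTrans.isIso_iff_isIso_app]
    intro Y
    rw [isIso_iff_bijective]
    constructor
    · intro x y hxy
      exact hinj Y (congrArg Subtype.val hxy)
    · rintro ⟨f, hf⟩
      obtain ⟨a, ha⟩ := (h f).1 hf
      refine ⟨yonedaEquiv a, ?_⟩
      apply Subtype.ext
      change i.app Y (yonedaEquiv a) = f
      rw [← yonedaEquiv_yoneda_map f, ← ha, yonedaEquiv_comp]
  · rfl

variable (P : ObjectProperty (Cᵒᵖ ⥤ Type u)) [Reflective P.ι]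

theorem isIso_map_sieve {X : C} {A : Cᵒᵖ ⥤ Type u} (i : A ⟶ yoneda.obj X) [Mono i] (S : Sieve X)
    (h : ∀ {Y : C} (f : Y ⟶ X), S f ↔ ∃ a : yoneda.obj Y ⟶ A, a ≫ i = yoneda.map f)
    (hi : IsIso ((reflector P.ι).map i)) : IsIso ((reflector P.ι).map S.functorInclusion) := by
  obtain ⟨e, he, hei⟩ := sieve_iso i S h
  rw [← hei, Functor.map_comp] at hi
  exact IsIso.of_isIso_comp_left ((reflector P.ι).map e) _

theorem isIso_map_iff {A B : Cᵒᵖ ⥤ Type u} (f : A ⟶ B) :
    IsIso ((reflector P.ι).map f) ↔ ∀ G, P G → Function.Bijective (fun g : B ⟶ G => f ≫ g) := by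
  let adj := reflectorAdjunction P.ι
  have key : ∀ (G : P.FullSubcategory) (g : B ⟶ P.ι.obj G), (adj.homEquiv A G).symm (f ≫ g) = (reflector P.ι).map f ≫ (adj.homEquiv B G).symm g := by
    intro G g
    rw [adj.homEquiv_naturality_left_symm]
  constructor
  · intro hf G hG
    constructor
    · intro g g' hgg
      have h1 := congrArg (adj.homEquiv A ⟨G, hG⟩).symm hgg
      dsimp only at h1
      erw [key ⟨G, hG⟩ g, key ⟨G, hG⟩ g'] at h1
      exact (adj.homEquiv B ⟨G, hG⟩).symm.injective ((cancel_epi _).1 h1)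
    · intro g
      refine ⟨(adj.homEquiv B ⟨G, hG⟩) (CategoryTheory.inv ((reflector P.ι).map f) ≫ (adj.homEquiv A ⟨G, hG⟩).symm g), ?_⟩
      apply (adj.homEquiv A ⟨G, hG⟩).symm.injective
      erw [key ⟨G, hG⟩]
      rw [Equiv.symm_apply_apply, IsIso.hom_inv_id_assoc]
  · intro h
    rw [isIso_iff_coyoneda_map_bijective]
    intro G
    have hb := h G.1 G.2
    constructor
    · intro x y hxy
      have hxy' : (reflector P.ι).map f ≫ x = (reflector P.ι).map f ≫ y := hxy
      have h1 : f ≫ (adj.homEquiv B G) x = f ≫ (adj.homEquiv B G) y := by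
        apply (adj.homEquiv A G).symm.injective
        rw [key, key, Equiv.symm_apply_apply, Equiv.symm_apply_apply, hxy']
      exact (adj.homEquiv B G).injective (hb.1 h1)
    · intro x
      obtain ⟨g, hg⟩ := hb.2 ((adj.homEquiv A G) x)
      refine ⟨(adj.homEquiv B G).symm g, ?_⟩
      change (reflector P.ι).map f ≫ (adj.homEquiv B G).symm g = x
      rw [← key]
      dsimp only at hg
      erw [hg]
      rw [Equiv.symm_apply_apply]

theorem sheafFor_iff (G : Cᵒᵖ ⥤ Type u) {X : C} (S : Sieve X) :
    Presieve.IsSheafFor G S.arrows ↔ Function.Bijective (fun g : yoneda.obj X ⟶ G => S.functorInclusion ≫ g) := by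
  rw [Presieve.isSheafFor_iff_yonedaSheafCondition, Function.bijective_iff_existsUnique]
  rfl

theorem r6127 [P.IsClosedUnderIsomorphisms] [PreservesFiniteLimits (reflector P.ι)] :
    ∃ J : GrothendieckTopology C,
      (∀ (X : C) (S : Sieve X), S ∈ J X ↔ IsIso ((reflector P.ι).map S.functorInclusion)) ∧
      ∀ F : Cᵒᵖ ⥤ Type u, P F ↔ Presieve.IsSheaf J F := by
  let J := Sheaf.finestTopology {G : Cᵒᵖ ⥤ Type u | P G}
  have hsh : ∀ G, P G → Presieve.IsSheaf J G := fun G hG => Sheaf.sheaf_for_finestTopology _ hG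
  have hJ : ∀ (X : C) (S : Sieve X), S ∈ J X ↔ IsIso ((reflector P.ι).map S.functorInclusion) := by
    intro X S
    constructor
    · intro hS
      rw [isIso_map_iff]
      intro G hG
      rw [← sheafFor_iff]
      exact hsh G hG S hS
    · intro hS
      apply Sheaf.mem_finestTopology_of_forall_isSheafFor
      intro G hG Y f
      rw [sheafFor_iff]
      refine (isIso_map_iff P (S.pullback f).functorInclusion).1 ?_ G hG
      have hpb := (IsPullback.of_hasPullback S.functorInclusion (yoneda.map f)).map (reflector P.ι)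
      apply isIso_map_sieve P (pullback.snd S.functorInclusion (yoneda.map f)) _ _ hpb.isIso_snd_of_isIso
      intro Z g
      constructor
      · intro hg
        have hg' : S (g ≫ f) := hg
        refine ⟨pullback.lift (yonedaEquiv.symm (⟨g ≫ f, hg'⟩ : S.functor.obj (op Z))) (yoneda.map g) ?_, pullback.lift_snd _ _ _⟩
        apply yonedaEquiv.injective
        rw [yonedaEquiv_comp, Equiv.apply_symm_apply, ← Functor.map_comp, yonedaEquiv_yoneda_map]
        rfl
      · rintro ⟨a, ha⟩
        have h1 : (a ≫ pullback.fst _ _) ≫ S.functorInclusion = yoneda.map (g ≫ f) := by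
          rw [Category.assoc, pullback.condition, reassoc_of% ha, Functor.map_comp]
        have h2 := congrArg yonedaEquiv h1
        rw [yonedaEquiv_yoneda_map, yonedaEquiv_comp] at h2
        change S (g ≫ f)
        rw [← h2]
        exact (yonedaEquiv (a ≫ pullback.fst _ _)).2
  refine ⟨J, hJ, fun F => ⟨hsh F, fun hF => ?_⟩⟩
  let L := reflector P.ι
  let adj := reflectorAdjunction P.ι
  let G := P.ι.obj (L.obj F)
  have hG : P G := (L.obj F).property
  let η : F ⟶ G := adj.unit.app F
  have hLη : IsIso (L.map η) := inferInstance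
  have hGs := hsh G hG
  have hinj : ∀ (X : C) (x y : F.obj (op X)), η.app (op X) x = η.app (op X) y → x = y := by
    intro X x y hxy
    let a : yoneda.obj X ⟶ F := yonedaEquiv.symm x
    let b : yoneda.obj X ⟶ F := yonedaEquiv.symm y
    have hab : a ≫ η = b ≫ η := by
      apply yonedaEquiv.injective
      rw [yonedaEquiv_comp, yonedaEquiv_comp, Equiv.apply_symm_apply, Equiv.apply_symm_apply, hxy]
    have hLab : L.map a = L.map b := by
      rw [← cancel_mono (L.map η), ← L.map_comp, ← L.map_comp, hab]
    let S : Sieve X := { arrows := fun Y f => F.map f.op x = F.map f.op y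
                         downward_closed := by
                          intro Y Z f hf g
                          simp only [op_comp, F.map_comp]
                          exact congrArg (F.map g.op) hf }
    have hSJ : S ∈ J X := by
      rw [hJ]
      have he : IsIso (L.map (equalizer.ι a b)) := by
        have hl := isLimitForkMapOfIsLimit L (equalizer.condition a b) (equalizerIsEqualizer a b)
        exact isIso_limit_cone_parallelPair_of_eq hLab hl
      apply isIso_map_sieve P (equalizer.ι a b) S _ he
      intro Y f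
      have hfa : ∀ (c : yoneda.obj X ⟶ F), F.map f.op (yonedaEquiv c) = yonedaEquiv (yoneda.map f ≫ c) := fun c => yonedaEquiv_naturality c f
      constructor
      · intro hf
        refine ⟨equalizer.lift (yoneda.map f) ?_, equalizer.lift_ι _ _⟩
        apply yonedaEquiv.injective
        rw [← hfa, ← hfa, Equiv.apply_symm_apply, Equiv.apply_symm_apply]
        exact hf
      · rintro ⟨c, hc⟩
        change F.map f.op x = F.map f.op y
        have h1 := hfa a
        have h2 := hfa b
        rw [Equiv.apply_symm_apply] at h1 h2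
        rw [h1, h2, ← hc, Category.assoc, Category.assoc, equalizer.condition]
    exact (hF S hSJ).isSeparatedFor.ext (fun Y f hf => hf)
  have hsurj : ∀ (X : C) (z : G.obj (op X)), ∃ x, η.app (op X) x = z := by
    intro X z
    let c : yoneda.obj X ⟶ G := yonedaEquiv.symm z
    let S : Sieve X := { arrows := fun Y f => ∃ x, η.app (op Y) x = G.map f.op z
                         downward_closed := by
                          rintro Y Z f ⟨x, hx⟩ g
                          refine ⟨F.map g.op x, ?_⟩
                          have := congr($(η.naturality g.op) x)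
                          simp only [op_comp, G.map_comp]
                          refine this.trans ?_
                          exact congrArg (G.map g.op) hx }
    have hmono : Mono η := by
      rw [NatTrans.mono_iff_mono_app]
      intro X
      rw [mono_iff_injective]
      exact fun x y h => hinj X.unop x y h
    have hSJ : S ∈ J X := by
      rw [hJ]
      have hpb := (IsPullback.of_hasPullback η c).map L
      apply isIso_map_sieve P (pullback.snd η c) S _ hpb.isIso_snd_of_isIso
      intro Y f
      have hfc : G.map f.op z = yonedaEquiv (yoneda.map f ≫ c) := by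
        rw [← yonedaEquiv_naturality, Equiv.apply_symm_apply]
      constructor
      · rintro ⟨x, hx⟩
        refine ⟨pullback.lift (yonedaEquiv.symm x) (yoneda.map f) ?_, pullback.lift_snd _ _ _⟩
        apply yonedaEquiv.injective
        rw [yonedaEquiv_comp, Equiv.apply_symm_apply, hx, hfc]
      · rintro ⟨a, ha⟩
        refine ⟨yonedaEquiv (a ≫ pullback.fst _ _), ?_⟩
        rw [hfc, ← yonedaEquiv_comp, Category.assoc, pullback.condition, reassoc_of% ha]
    choose x hx using fun (Y : C) (f : Y ⟶ X) (hf : S f) => (hf : ∃ x, η.app (op Y) x = G.map f.op z)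
    have hcompat : Presieve.FamilyOfElements.SieveCompatible (P := F) (S := S) (fun Y f hf => x Y f hf) := by
      intro Y Z f g hf
      apply hinj
      rw [hx]
      have := congr($(η.naturality g.op) (x Y f hf))
      refine Eq.trans ?_ this.symm
      simp only [op_comp, G.map_comp]
      exact (congrArg (G.map g.op) (hx Y f hf)).symm
    obtain ⟨t, ht, -⟩ := hF S hSJ _ ((Presieve.compatible_iff_sieveCompatible _).2 hcompat)
    refine ⟨t, ?_⟩
    apply (hGs S hSJ).isSeparatedFor.ext
    intro Y f hf
    have e1 : F.map f.op t = x Y f hf := ht f hf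
    rw [← hx Y f hf, ← e1]
    exact (congr($(η.naturality f.op) t)).symm
  have hη : IsIso η := by
    rw [NatTrans.isIso_iff_isIso_app]
    intro X
    rw [isIso_iff_bijective]
    exact ⟨fun x y h => hinj X.unop x y h, fun z => hsurj X.unop z⟩
  exact P.prop_of_iso (asIso η).symm hG
end lexrefl
end SG9
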