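import Mathlib.CategoryTheory.Sites.PrecoverageToGrothendieck
import Mathlib.CategoryTheory.Sites.Pretopology
set_option autoImplicit false
universe w v₁ u₁
open CategoryTheory CategoryTheory.Limits

namespace SC9

variable {C : Type u₁} [Category.{v₁} C]

theorem bind_mem (J : Precoverage C) [J.IsStableUnderComposition] {X : C} {R : Presieve X} (hR : R ∈ J X)
    (Ti : ∀ ⦃Y⦄ ⦃f : Y ⟶ X⦄, R f → Presieve Y) (hTi : ∀ ⦃Y⦄ ⦃f : Y ⟶ X⦄ (hf : R f), Ti hf ∈ J Y) :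
    R.bind Ti ∈ J X := by
  obtain ⟨ι, Z, g, rfl⟩ := R.exists_eq_ofArrows
  choose κ W p hp using fun ⦃Y⦄ (f : Y ⟶ X) (hf : Presieve.ofArrows Z g f) ↦ (Ti hf).exists_eq_ofArrows
  have : (Presieve.ofArrows Z g).bind Ti =
      .ofArrows (fun ij : Σ i, κ (g i) ⟨i⟩ ↦ W _ _ ij.2) (fun ij ↦ p _ _ ij.2 ≫ g ij.1) := by
    apply le_antisymm
    · rintro T u ⟨S, v, w, ⟨i⟩, hv, rfl⟩
      rw [hp] at hv
      obtain ⟨j⟩ := hv
      exact .mk <| Sigma.mk (β := fun i : ι ↦ κ (g i) ⟨i⟩) i j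
    · rintro T u ⟨ij⟩
      use Z ij.1, p (g ij.1) ⟨ij.1⟩ ij.2, g ij.1, ⟨ij.1⟩
      rw [hp]
      exact ⟨⟨_⟩, rfl⟩
  rw [this]
  refine J.comp_mem_coverings (Y := fun (i : ι) (j : κ (g i) ⟨i⟩) ↦ W _ _ j)
    (g := fun i j ↦ p _ _ j) _ hR fun i ↦ ?_
  rw [← hp]
  exact hTi _

/-- iterated covers -/
def Cov (C' : C → Prop) (P P' : Precoverage C) (X : C) (S' : Sieve X) : Prop :=
  ∃ R ∈ P X, ∀ ⦃Y : C⦄ ⦃f : Y ⟶ X⦄, R f → C' Y ∧ ∃ R' ∈ P' Y, ∀ ⦃Z : C⦄ ⦃g : Z ⟶ Y⦄, R' g → S' (g ≫ f)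

section
variable
    (C' : C → Prop) (P P' : Precoverage C)
    [P.HasPullbacks] [P.IsStableUnderBaseChange] [P.IsStableUnderComposition]
    (hP'C : ∀ ⦃X : C⦄ ⦃R : Presieve X⦄, R ∈ P' X → C' X ∧ ∀ ⦃Y : C⦄ ⦃f : Y ⟶ X⦄, R f → C' Y)
    (hP'id : ∀ ⦃X : C⦄, C' X → Presieve.singleton (𝟙 X) ∈ P' X)
    (ha : ∀ ⦃X : C⦄ ⦃R : Presieve X⦄, R ∈ P' X → ∀ ⦃T : C⦄ (g : T ⟶ X), C' T →
      ∃ _ : R.HasPullbacks g, Presieve.pullbackArrows g R ∈ P' T)
    (hb : ∀ X : C, ∃ R ∈ P X, ∀ ⦃Y : C⦄ ⦃f : Y ⟶ X⦄, R f → C' Y)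
    (hc : ∀ ⦃S : C⦄ ⦃R₁ : Presieve S⦄, R₁ ∈ P' S →
      ∀ (R₂ : ∀ ⦃Y : C⦄ ⦃f : Y ⟶ S⦄, R₁ f → Presieve Y),
        (∀ ⦃Y : C⦄ ⦃f : Y ⟶ S⦄ (hf : R₁ f), R₂ hf ∈ P Y ∧ ∀ ⦃Z : C⦄ ⦃g : Z ⟶ Y⦄, R₂ hf g → C' Z) →
      ∀ (R₃ : ∀ ⦃Y : C⦄ ⦃f : Y ⟶ S⦄ (hf : R₁ f) ⦃Z : C⦄ ⦃g : Z ⟶ Y⦄, R₂ hf g → Presieve Z),
        (∀ ⦃Y : C⦄ ⦃f : Y ⟶ S⦄ (hf : R₁ f) ⦃Z : C⦄ ⦃g : Z ⟶ Y⦄ (hg : R₂ hf g), R₃ hf hg ∈ P' Z) →
      ∃ T ∈ P' S, ∀ ⦃W : C⦄ ⦃q : W ⟶ S⦄, T q →
        ∃ (Y Z V : C) (f : Y ⟶ S) (hf : R₁ f) (g : Z ⟶ Y) (hg : R₂ hf g) (h : V ⟶ Z) (_ : R₃ hf hg h)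
          (r : W ⟶ V), r ≫ h ≫ g ≫ f = q)

include hP'id ha hb hc in
/-- the topology of iterated covers -/
theorem exists_top : ∃ T : GrothendieckTopology C, ∀ (X : C) (S : Sieve X), S ∈ T X ↔ Cov C' P P' X S := by
  refine ⟨{ sieves := fun X => {S | Cov C' P P' X S}
            top_mem' := ?_
            pullback_stable' := ?_
            transitive' := ?_ }, fun X S => Iff.rfl⟩
  · intro X
    obtain ⟨R, hR, hR'⟩ := hb X
    exact ⟨R, hR, fun Y f hf => ⟨hR' hf, _, hP'id (hR' hf), fun Z g _ => trivial⟩⟩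
  · rintro X W S g ⟨R, hR, hRS⟩
    have := Precoverage.hasPullbacks_of_mem g hR
    choose Q hQ hQ' using hb
    refine ⟨(R.pullbackArrows g).bind (fun Y _ _ => Q Y),
      bind_mem P (Precoverage.pullbackArrows_mem g hR) _ (fun Y _ _ => hQ Y), ?_⟩
    rintro D _ ⟨Y, d, _, ⟨Z, h, hh⟩, hd, rfl⟩
    have := R.hasPullback g hh
    obtain ⟨-, R', hR', hR'S⟩ := hRS hh
    obtain ⟨_, hpb⟩ := ha hR' (d ≫ pullback.fst h g) (hQ' _ hd)
    refine ⟨hQ' _ hd, _, hpb, ?_⟩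
    rintro _ _ ⟨V, k, hk⟩
    have := R'.hasPullback (d ≫ pullback.fst h g) hk
    change S ((pullback.snd k (d ≫ pullback.fst h g) ≫ d ≫ pullback.snd h g) ≫ g)
    have h1 : (pullback.snd k (d ≫ pullback.fst h g) ≫ d ≫ pullback.snd h g) ≫ g =
        pullback.fst k (d ≫ pullback.fst h g) ≫ k ≫ h := by
      rw [Category.assoc, Category.assoc, ← pullback.condition (f := h) (g := g)]
      have h2 := pullback.condition (f := k) (g := d ≫ pullback.fst h g)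
      rw [← Category.assoc _ k h, h2]
      simp only [Category.assoc]
    rw [h1]
    exact S.downward_closed (hR'S hk) _
  · rintro X S ⟨R, hR, hRS⟩ S'' hS''
    refine ⟨R, hR, fun Y f hf => ?_⟩
    obtain ⟨hY, R', hR', hR'S⟩ := hRS hf
    have h1 : ∀ ⦃Z : C⦄ ⦃g : Z ⟶ Y⦄, R' g → Cov C' P P' Z (S''.pullback (g ≫ f)) := fun Z g hg => hS'' (hR'S hg)
    choose R₂ hR₂ hR₂' using h1
    choose hC R₃ hR₃ hR₃' using hR₂'
    obtain ⟨T, hT, hTq⟩ := hc hR' R₂ (fun Z g hg => ⟨hR₂ hg, fun V k hk => hC hg hk⟩) R₃ (fun Z g hg V k hk => hR₃ hg hk)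
    refine ⟨hY, T, hT, fun W q hq => ?_⟩
    obtain ⟨Z, V, U, g, hg, k, hk, h, hh, r, hr⟩ := hTq hq
    have h2 : S''.pullback (g ≫ f) (h ≫ k) := hR₃' hg hk hh
    have h3 : S'' ((h ≫ k) ≫ g ≫ f) := h2
    have h4 := S''.downward_closed h3 r
    rw [← hr]
    simpa only [Category.assoc] using h4

include hP'id hb in
theorem cov_of_P {X : C} {R : Presieve X} (hR : R ∈ P X) : Cov C' P P' X (Sieve.generate R) := by
  choose Q hQ hQ' using hb
  refine ⟨R.bind (fun Y _ _ => Q Y), bind_mem P hR _ (fun Y _ _ => hQ Y), ?_⟩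
  rintro D _ ⟨Y, d, f, hf, hd, rfl⟩
  refine ⟨hQ' _ hd, _, hP'id (hQ' _ hd), fun Z g _ => ⟨_, g ≫ d, f, hf, by simp⟩⟩

include ha hb in
theorem cov_of_P' {X : C} {R : Presieve X} (hR : R ∈ P' X) : Cov C' P P' X (Sieve.generate R) := by
  obtain ⟨Q, hQ, hQ'⟩ := hb X
  refine ⟨Q, hQ, fun D d hd => ?_⟩
  obtain ⟨_, hpb⟩ := ha hR d (hQ' hd)
  refine ⟨hQ' hd, _, hpb, ?_⟩
  rintro _ _ ⟨V, k, hk⟩
  have := R.hasPullback d hk
  exact ⟨_, pullback.fst k d, k, hk, pullback.condition⟩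

include hP'id ha hb hc in
theorem mem_iff_cov (X : C) (S' : Sieve X) : S' ∈ (P ⊔ P').toGrothendieck X ↔ Cov C' P P' X S' := by
  obtain ⟨T, hT⟩ := exists_top C' P P' hP'id ha hb hc
  constructor
  · intro h
    have hle : (P ⊔ P').toGrothendieck ≤ T := by
      rw [Precoverage.toGrothendieck_le_iff_le_toPrecoverage]
      intro Y R hR
      rw [GrothendieckTopology.mem_toPrecoverage_iff, hT]
      rcases hR with hR | hR
      · exact cov_of_P C' P P' hP'id hb hR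
      · exact cov_of_P' C' P P' ha hb hR
    exact (hT X S').1 (hle X h)
  · rintro ⟨R, hR, hRS⟩
    have hR1 : Sieve.generate R ∈ (P ⊔ P').toGrothendieck X :=
      Precoverage.generate_mem_toGrothendieck (Or.inl hR)
    refine (P ⊔ P').toGrothendieck.transitive hR1 _ ?_
    rintro Y _ ⟨Z, h, f, hf, rfl⟩
    obtain ⟨-, R', hR', hR'S⟩ := hRS hf
    have hR2 : Sieve.generate R' ∈ (P ⊔ P').toGrothendieck Z :=
      Precoverage.generate_mem_toGrothendieck (Or.inr hR')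
    rw [Sieve.pullback_comp]
    apply GrothendieckTopology.pullback_stable
    refine GrothendieckTopology.superset_covering _ ?_ hR2
    rintro W _ ⟨V, k, g, hg, rfl⟩
    change S' ((k ≫ g) ≫ f)
    rw [Category.assoc]
    exact S'.downward_closed (hR'S hg) k

include hP'id ha hb hc in
theorem r6053 (X : C) (S' : Sieve X) :
    S' ∈ (P ⊔ P').toGrothendieck X ↔
      ∃ (R : Presieve X) (_ : R ∈ P X) (_ : ∀ ⦃Y : C⦄ ⦃f : Y ⟶ X⦄, R f → C' Y)
        (R' : ∀ ⦃Y : C⦄ ⦃f : Y ⟶ X⦄, R f → Presieve Y),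
        (∀ ⦃Y : C⦄ ⦃f : Y ⟶ X⦄ (hf : R f), R' hf ∈ P' Y) ∧
        ∀ ⦃Y : C⦄ ⦃f : Y ⟶ X⦄ (hf : R f) ⦃Z : C⦄ ⦃g : Z ⟶ Y⦄, R' hf g → S' (g ≫ f) := by
  rw [mem_iff_cov C' P P' hP'id ha hb hc]
  constructor
  · rintro ⟨R, hR, h⟩
    choose h1 R' hR' h2 using h
    exact ⟨R, hR, h1, R', hR', h2⟩
  · rintro ⟨R, hR, h1, R', hR', h2⟩
    exact ⟨R, hR, fun Y f hf => ⟨h1 hf, R' hf, hR' hf, h2 hf⟩⟩

include hP'id ha hb hc in
theorem r6052 (F : Cᵒᵖ ⥤ Type w) :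
    Presieve.IsSheaf (P ⊔ P').toGrothendieck F ↔
      (∀ ⦃X : C⦄ ⦃R : Presieve X⦄, R ∈ P X → Presieve.IsSheafFor F R) ∧
      (∀ ⦃X : C⦄ ⦃R : Presieve X⦄, R ∈ P' X → Presieve.IsSheafFor F R) := by
  constructor
  · intro h
    refine ⟨fun X R hR => ?_, fun X R hR => ?_⟩
    · rw [Presieve.isSheafFor_iff_generate]
      exact h _ (Precoverage.generate_mem_toGrothendieck (Or.inl hR))
    · rw [Presieve.isSheafFor_iff_generate]
      exact h _ (Precoverage.generate_mem_toGrothendieck (Or.inr hR))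
  · rintro ⟨hP, hP'⟩
    obtain ⟨T, hT⟩ := exists_top C' P P' hP'id ha hb hc
    -- separatedness
    have hsep : ∀ (X : C) (S : Sieve X), S ∈ T X → ∀ x y : F.obj (Opposite.op X),
        (∀ ⦃Y : C⦄ ⦃f : Y ⟶ X⦄, S f → F.map f.op x = F.map f.op y) → x = y := by
      intro X S hS x y hxy
      obtain ⟨R, hR, hRS⟩ := (hT X S).1 hS
      apply (hP hR).isSeparatedFor.ext
      intro Y f hf
      obtain ⟨-, R', hR', hR'S⟩ := hRS hf
      apply (hP' hR').isSeparatedFor.ext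
      intro Z g hg
      have := hxy (hR'S hg)
      rw [op_comp, F.map_comp, ConcreteCategory.comp_apply, ConcreteCategory.comp_apply] at this
      exact this
    intro X S hS
    rw [mem_iff_cov C' P P' hP'id ha hb hc] at hS
    have hST : S ∈ T X := (hT X S).2 hS
    obtain ⟨R, hR, hRS⟩ := hS
    rw [← Presieve.isSeparatedFor_and_exists_isAmalgamation_iff_isSheafFor]
    constructor
    · intro s x y hx hy
      exact hsep X S hST x y (fun Y f hf => (hx f hf).trans (hy f hf).symm)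
    · intro s hs
      have hs' : ∀ ⦃Y Z : C⦄ (f : Y ⟶ X) (hf : S f) (g : Z ⟶ Y), F.map g.op (s f hf) = s (g ≫ f) (S.downward_closed hf g) := by
        intro Y Z f hf g
        exact (((Presieve.compatible_iff_sieveCompatible s).1 hs) f g hf).symm
      have hex : ∀ ⦃Y : C⦄ (f : Y ⟶ X) (hf : R f), ∃ t : F.obj (Opposite.op Y), ∀ ⦃Z : C⦄ (g : Z ⟶ Y) (hg : S (g ≫ f)), F.map g.op t = s (g ≫ f) hg := by
        intro Y f hf
        obtain ⟨-, R', hR', hR'S⟩ := hRS hf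
        let s' : Presieve.FamilyOfElements F R' := fun Z g hg => s (g ≫ f) (hR'S hg)
        have hs1 : s'.Compatible := by
          intro Z₁ Z₂ W g₁ g₂ k₁ k₂ hk₁ hk₂ heq
          change F.map g₁.op (s (k₁ ≫ f) _) = F.map g₂.op (s (k₂ ≫ f) _)
          rw [hs', hs']
          congr 1
          rw [← Category.assoc, heq, Category.assoc]
        obtain ⟨t, ht, -⟩ := hP' hR' s' hs1
        refine ⟨t, fun Z g hg => ?_⟩
        have hR'T : Sieve.generate R' ∈ T Y := (hT Y _).2 (cov_of_P' C' P P' ha hb hR')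
        apply hsep Z _ (T.pullback_stable g hR'T)
        rintro U d ⟨V, e, k, hk, hek⟩
        rw [hs']
        have h1 := ht k hk
        change F.map k.op t = s (k ≫ f) _ at h1
        have h2 : F.map d.op (F.map g.op t) = F.map e.op (F.map k.op t) := by
          rw [← ConcreteCategory.comp_apply, ← ConcreteCategory.comp_apply, ← F.map_comp, ← F.map_comp, ← op_comp, ← op_comp, hek]
        rw [h2, h1, hs']
        congr 1
        rw [← Category.assoc, hek, Category.assoc]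
      choose t ht using hex
      have htc : Presieve.FamilyOfElements.Compatible (P := F) (R := R) t := by
        intro Y₁ Y₂ W a b f₁ f₂ hf₁ hf₂ heq
        apply hsep W _ (T.pullback_stable (a ≫ f₁) hST)
        intro V c hc
        have hc1 : S ((c ≫ a) ≫ f₁) := by rw [Category.assoc]; exact hc
        have hc2 : S ((c ≫ b) ≫ f₂) := by rw [Category.assoc, ← heq]; exact hc
        have h1 := ht f₁ hf₁ (c ≫ a) hc1
        have h2 := ht f₂ hf₂ (c ≫ b) hc2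
        rw [op_comp, F.map_comp, ConcreteCategory.comp_apply] at h1 h2
        rw [h1, h2]
        congr 1
        rw [Category.assoc, Category.assoc, heq]
      obtain ⟨x, hx, -⟩ := hP hR t htc
      refine ⟨x, fun V h hh => ?_⟩
      have hRT : Sieve.generate R ∈ T X := (hT X _).2 (cov_of_P C' P P' hP'id hb hR)
      apply hsep V _ (T.pullback_stable h hRT)
      rintro U d ⟨Y, e, f, hf, hef⟩
      have h2 : F.map d.op (F.map h.op x) = F.map e.op (F.map f.op x) := by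
        rw [← ConcreteCategory.comp_apply, ← ConcreteCategory.comp_apply, ← F.map_comp, ← F.map_comp, ← op_comp, ← op_comp, hef]
      have h3 : S (e ≫ f) := by rw [hef]; exact S.downward_closed hh d
      rw [h2, hx f hf, ht f hf e h3, hs']
      congr 1
end
end SC9
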