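import Mathlib.CategoryTheory.Sites.Subcanonical
import Mathlib.CategoryTheory.Sites.CoverLifting
import Mathlib.CategoryTheory.Sites.Continuous
import Mathlib.CategoryTheory.Sites.Pullback
import Mathlib.CategoryTheory.Limits.Types.Colimits
import Mathlib.CategoryTheory.Adjunction.FullyFaithful
set_option autoImplicit false
set_option backward.isDefEq.respectTransparency false
universe u
open CategoryTheory Opposite

namespace SP9

theorem r6142
    {C : Type u} [SmallCategory C] {C' : Type u} [SmallCategory C']
    (J : GrothendieckTopology C) (K : GrothendieckTopology C') [J.Subcanonical] [K.Subcanonical]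
    (u : C ⥤ C') [u.IsContinuous J K] [u.IsCocontinuous J K]
    (h : (u.sheafPullback (Type u) J K).Full ∧ (u.sheafPullback (Type u) J K).Faithful) :
    u.Full ∧ u.Faithful := by
  obtain ⟨hF, hFf⟩ := h
  let L := u.sheafPullback (Type u) J K
  let R := u.sheafPushforwardContinuous (Type u) J K
  let adj : L ⊣ R := u.sheafAdjunctionContinuous (Type u) J K
  have hunit : ∀ F, IsIso (adj.unit.app F) := fun F => inferInstance
  have hbij : ∀ X Y : C, Function.Bijective (fun f : X ⟶ Y => u.map f) := by
    intro X Y
    -- the canonical map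
    let φ : J.yoneda.obj Y ⟶ R.obj (K.yoneda.obj (u.obj Y)) := J.yonedaEquiv.symm (𝟙 (u.obj Y))
    have hφ : ∀ (Z : C) (f : Z ⟶ Y), φ.hom.app (op Z) f = u.map f := by
      intro Z f
      change (u.map f ≫ 𝟙 _) = u.map f
      exact Category.comp_id _
    let ψ : L.obj (J.yoneda.obj Y) ⟶ K.yoneda.obj (u.obj Y) := (adj.homEquiv _ _).symm φ
    have hψ : IsIso ψ := by
      apply isIso_of_coyoneda_map_bijective
      intro T
      have h1 : ∀ g : K.yoneda.obj (u.obj Y) ⟶ T,
          J.yonedaEquiv ((adj.homEquiv _ _) (ψ ≫ g)) = K.yonedaEquiv g := by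
        intro g
        rw [Adjunction.homEquiv_naturality_right, Equiv.apply_symm_apply]
        have h7 : J.yonedaEquiv φ = 𝟙 (u.obj Y) := Equiv.apply_symm_apply _ _
        exact (congrArg ((R.map g).hom.app (op Y)) h7)
      have h2 : (fun g : K.yoneda.obj (u.obj Y) ⟶ T => ψ ≫ g) =
          ((adj.homEquiv _ _).symm ∘ J.yonedaEquiv.symm) ∘ K.yonedaEquiv := by
        funext g
        simp only [Function.comp_apply]
        rw [← h1 g, Equiv.symm_apply_apply, Equiv.symm_apply_apply]
      rw [h2]
      exact ((adj.homEquiv _ _).symm.bijective.comp J.yonedaEquiv.symm.bijective).comp K.yonedaEquiv.bijective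
    have hφiso : IsIso φ := by
      have : φ = adj.unit.app _ ≫ R.map ψ :=
        ((adj.homEquiv _ _).apply_symm_apply φ).symm.trans (adj.homEquiv_unit _ _ ψ)
      rw [this]
      infer_instance
    have h3 : IsIso φ.hom := (inferInstance : IsIso ((sheafToPresheaf J (Type u)).map φ))
    have h4 : IsIso (φ.hom.app (op X)) := inferInstance
    have h5 := (isIso_iff_bijective (φ.hom.app (op X))).1 h4
    have h6 : (fun f : X ⟶ Y => u.map f) = φ.hom.app (op X) := by
      funext f
      exact (hφ X f).symm
    rw [h6]
    exact h5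
  exact ⟨⟨fun {X Y} => (hbij X Y).2⟩, ⟨fun {X Y} => fun f g hfg => (hbij X Y).1 hfg⟩⟩
end SP9
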