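import Groth.Prelude.Def_SGA4c
set_option autoImplicit false
universe u
open CategoryTheory CategoryTheory.Limits Opposite

namespace TF9

theorem isQC_of_iso {C : Type u} [SmallCategory C] {J : GrothendieckTopology C} {X Y : ToposFin.Sh J} (e : X ≅ Y)
    (h : ToposFin.IsQC X) : ToposFin.IsQC Y := by
  intro ι F π hπ
  have h1 : Sigma.desc (fun i => π i ≫ e.inv) = Sigma.desc π ≫ e.inv := by
    apply Sigma.hom_ext
    intro i
    simp
  have h2 : Epi (Sigma.desc (fun i => π i ≫ e.inv)) := by
    rw [h1]; exact epi_comp _ _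
  obtain ⟨s, hs⟩ := h ι F (fun i => π i ≫ e.inv) h2
  refine ⟨s, ?_⟩
  have h3 : Sigma.desc (fun i : s => π i) = Sigma.desc (fun i : s => π i ≫ e.inv) ≫ e.hom := by
    apply Sigma.hom_ext
    intro i
    simp
  rw [h3]
  exact epi_comp _ _

theorem isQCHom_of_isIso {C : Type u} [SmallCategory C] {J : GrothendieckTopology C} {X Y : ToposFin.Sh J} (f : X ⟶ Y)
    [IsIso f] : ToposFin.IsQCHom f := by
  intro Y' g hY'
  exact isQC_of_iso (asIso (pullback.snd f g)).symm hY'

theorem r5578 {C : Type u} [SmallCategory C] {J : GrothendieckTopology C}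
    {X Y : ToposFin.Sh J} (u : X ⟶ Y) [Mono u] : ToposFin.IsQSHom u := by
  have : IsIso (pullback.diagonal u) := inferInstance
  exact isQCHom_of_isIso _
end TF9
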