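import Groth.Statements.S11013
import Groth.Agent.Lib.H16_FunFldJ
import Mathlib.RingTheory.Norm.Basic

set_option autoImplicit false
open FunFld

namespace Groth.Agent.S11013

/-- In a finite Galois extension `K'/K` of a geometric function field of one variable, the Galois group
acts transitively on the places of `K'` above a given place of `K`. -/
theorem result (k K K' : Type*) [Field k] [Field K] [Field K'] [Algebra k K] [Algebra K K'] [Algebra k K']
    [IsScalarTower k K K'] [FiniteDimensional K K'] (hK : FunFld.IsFunctionField k K) (hg : FunFld.IsGeometric k K) [IsGalois K K']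
    (Q₁ Q₂ : FunFld.Place k K')
    (h : (Q₁.1.comap (algebraMap K K')).IsEquiv (Q₂.1.comap (algebraMap K K'))) :
    ∃ σ : K' ≃ₐ[K] K', Q₁.1.comap (σ : K' →+* K') = Q₂.1 := by
  classical
  by_contra hno
  push Not at hno
  let cp : (K' ≃ₐ[K] K') → FunFld.Place k K' → FunFld.Place k K' := fun σ Q => H16.comapPlace (σ.restrictScalars k) Q
  have hcp : ∀ σ Q x, (cp σ Q).1 x = Q.1 (σ x) := fun σ Q x => rfl
  let S1 : Finset (FunFld.Place k K') := Finset.univ.image (fun σ => cp σ Q₁)
  let S2 : Finset (FunFld.Place k K') := Finset.univ.image (fun σ => cp σ Q₂)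
  have hdisj : ∀ R, R ∈ S1 → R ∉ S2 := by
    intro R h1 h2
    obtain ⟨σ, _, rfl⟩ := Finset.mem_image.mp h1
    obtain ⟨τ, _, hτ⟩ := Finset.mem_image.mp h2
    apply hno (τ⁻¹.trans σ)
    apply Valuation.ext
    intro z
    have := congrArg (fun R : FunFld.Place k K' => R.1 (τ⁻¹ z)) hτ
    simp only [hcp] at this
    change Q₁.1 (σ (τ⁻¹ z)) = Q₂.1 z
    rw [← this]
    congr 1
    exact AlgEquiv.apply_symm_apply τ z
  obtain ⟨z, hz⟩ := H16.weak_approx (S1 ∪ S2) (fun R => if R ∈ S1 then 1 else 0) 1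
  have hlt : ∀ {v : WithZero (Multiplicative ℤ)}, v ≤ WithZero.exp (-1 : ℤ) → v < 1 := by
    intro v hv
    refine hv.trans_lt ?_
    rw [← WithZero.exp_zero, WithZero.exp_lt_exp]; norm_num
  have h1 : ∀ σ : K' ≃ₐ[K] K', Q₁.1 (σ z) = 1 := by
    intro σ
    have hm : cp σ Q₁ ∈ S1 := Finset.mem_image_of_mem _ (Finset.mem_univ σ)
    have h3 := hlt (hz _ (Finset.mem_union_left _ hm))
    rw [if_pos hm] at h3
    rw [← hcp]
    have h4 : z = (z - 1) + 1 := by ring
    rw [h4, Valuation.map_add_eq_of_lt_right _ (by rwa [map_one]), map_one]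
  have h2 : ∀ σ : K' ≃ₐ[K] K', Q₂.1 (σ z) < 1 := by
    intro σ
    have hm : cp σ Q₂ ∈ S2 := Finset.mem_image_of_mem _ (Finset.mem_univ σ)
    have hm1 : cp σ Q₂ ∉ S1 := fun h => hdisj _ h hm
    have h3 := hlt (hz _ (Finset.mem_union_right _ hm))
    rw [if_neg hm1, sub_zero] at h3
    exact h3
  have hN := Algebra.norm_eq_prod_automorphisms K z
  have e1 : Q₁.1 (algebraMap K K' (Algebra.norm K z)) = 1 := by
    rw [hN, map_prod]
    exact Finset.prod_eq_one fun σ _ => h1 σ
  have e2 : Q₂.1 (algebraMap K K' (Algebra.norm K z)) < 1 := by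
    rw [hN, map_prod]
    rw [← Finset.mul_prod_erase Finset.univ _ (Finset.mem_univ (1 : K' ≃ₐ[K] K'))]
    exact mul_lt_one_of_lt_of_le (h2 1) (Finset.prod_le_one' fun σ _ => (h2 σ).le)
  have h5 := (Valuation.isEquiv_iff_val_lt_one.mp h (x := Algebra.norm K z)).mpr e2
  change Q₁.1 (algebraMap K K' (Algebra.norm K z)) < 1 at h5
  rw [e1] at h5
  exact lt_irrefl _ h5

end Groth.Agent.S11013
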