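import Groth.Statements.S10877
import Groth.Agent.Lib.Lead_Spread6
-- import your own Groth.Agent.* helpers here

set_option autoImplicit false
universe u
open CategoryTheory AlgebraicGeometry
open FlatMor

namespace Groth.Agent.S10877

/-- A separated morphism f : X → Y, with X having finitely many irreducible components, which restricts
to an open immersion on each member of a cover of X by dense open subsets, is an open immersion. -/
theorem result {X Y : Scheme.{u}} (f : X ⟶ Y) [IsSeparated f]
    (hfin : (irreducibleComponents (X : Type u)).Finite) {ι : Type u} (U : ι → X.Opens)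
    (hU : ⨆ i, U i = ⊤) (hd : ∀ i, Dense (U i : Set X)) (h : ∀ i, IsOpenImmersion ((U i).ι ≫ f)) :
    IsOpenImmersion f := by
  have hmem : ∀ x : X, ∃ i, x ∈ U i := by
    intro x
    have hx : x ∈ (⨆ i, U i : X.Opens) := by rw [hU]; trivial
    exact TopologicalSpace.Opens.mem_iSup.1 hx
  refine Groth.Agent.LeadSpread.isOpenImmersion_of_local_injective f ?_ ?_
  · intro x
    obtain ⟨i, hi⟩ := hmem x
    exact ⟨U i, hi, h i⟩
  · intro x x' hff
    obtain ⟨i, hi⟩ := hmem x
    obtain ⟨j, hj⟩ := hmem x'
    have := h i
    have := h j
    exact Groth.Agent.LeadSpread.eq_of_separated f (U i) (U j) (hd j) x x' hi hj hff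

end Groth.Agent.S10877
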