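import Groth.Statements.S10895
import Groth.Agent.Lib.Lead_Spread5
-- import your own Groth.Agent.* helpers here

set_option autoImplicit false
universe u
open CategoryTheory AlgebraicGeometry
open FlatMor

namespace Groth.Agent.S10895

/-- A finitely presented closed immersion that is flat at a point x is an isomorphism over some open
neighbourhood of the image of x. -/
theorem result {X Y : Scheme.{u}} (f : X ⟶ Y) [IsClosedImmersion f]
    [LocallyOfFinitePresentation f] (x : X) (hflat : (f.stalkMap x).hom.Flat) :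
    ∃ V : Y.Opens, f.base x ∈ V ∧ IsIso (f ∣_ V) := by
  have hsurj : Function.Surjective (f.stalkMap x) := f.stalkMap_surjective x
  have hinj : Function.Injective (f.stalkMap x) := by
    letI := (f.stalkMap x).hom.toAlgebra
    have h1 : Module.Flat (Y.presheaf.stalk (f x)) (X.presheaf.stalk x) := hflat
    have h3 : IsLocalHom (algebraMap (Y.presheaf.stalk (f x)) (X.presheaf.stalk x)) :=
      inferInstanceAs (IsLocalHom (f.stalkMap x).hom)
    have h2 : Module.FaithfullyFlat (Y.presheaf.stalk (f x)) (X.presheaf.stalk x) :=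
      Module.FaithfullyFlat.of_flat_of_isLocalHom
    exact FaithfulSMul.algebraMap_injective (Y.presheaf.stalk (f x)) (X.presheaf.stalk x)
  have hiso : IsIso (f.stalkMap x) := by
    rw [ConcreteCategory.isIso_iff_bijective]
    exact ⟨hinj, hsurj⟩
  obtain ⟨U, hxU, hU⟩ := Groth.Agent.LeadSpread.local_iso_lfp f x
  obtain ⟨V', hV'o, hV'⟩ := f.isClosedEmbedding.isInducing.isOpen_iff.1 U.2
  let V : Y.Opens := (U.ι ≫ f).opensRange ⊓ ⟨V', hV'o⟩
  have hVU : f ⁻¹ᵁ V ≤ U := by
    intro a ha
    have : a ∈ f ⁻¹' V' := ha.2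
    rw [hV'] at this
    exact this
  refine ⟨V, ⟨⟨⟨x, hxU⟩, rfl⟩, ?_⟩, ?_⟩
  · have : x ∈ f ⁻¹' V' := by rw [hV']; exact hxU
    exact this
  · have h1 : (f ∣_ V) ≫ V.ι = X.homOfLE hVU ≫ U.ι ≫ f := by
      rw [morphismRestrict_ι, Scheme.homOfLE_ι_assoc]
    have h2 : IsOpenImmersion ((f ∣_ V) ≫ V.ι) := by rw [h1]; infer_instance
    have h3 : IsOpenImmersion (f ∣_ V) := IsOpenImmersion.of_comp _ V.ι
    have h4 : Function.Surjective (f ∣_ V) := by
      intro v
      obtain ⟨u, hu⟩ := v.2.1
      have hu' : f u.1 = v.1 := hu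
      have hmem : u.1 ∈ f ⁻¹ᵁ V := by
        show f u.1 ∈ V
        rw [hu']; exact v.2
      refine ⟨⟨u.1, hmem⟩, ?_⟩
      apply V.ι.injective
      rw [← Scheme.Hom.comp_apply, morphismRestrict_ι]
      exact hu'
    rw [isIso_iff_isOpenImmersion_and_epi_base]
    exact ⟨h3, (TopCat.epi_iff_surjective _).2 h4⟩

end Groth.Agent.S10895
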