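import Groth.Statements.S10969
import Groth.Agent.Lib.H16_FunFldG

set_option autoImplicit false
open FunFld

namespace Groth.Agent.S10969

/-- For `x` transcendental over `k` in a function field of one variable `K/k`, the degree of the divisor
of zeros of `x` equals `[K : k(x)]`. -/
theorem result (k K : Type*) [Field k] [Field K] [Algebra k K]
    (hK : FunFld.IsFunctionField k K) (x : K) (hx : Transcendental k x) :
    (∑ P ∈ (FunFld.div k x).support with 0 < FunFld.div k x P,
        FunFld.div k x P * (P.deg : ℤ)) =
      Module.finrank (IntermediateField.adjoin k ({x} : Set K)) K := by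
  have h := H16.deg_poleDiv hK x⁻¹ (H16.trans_inv hx)
  rw [H16.adjoin_inv] at h
  rw [← h]
  change _ = ∑ P ∈ (H16.poleDiv hK x⁻¹).support, H16.poleDiv hK x⁻¹ P * (P.deg : ℤ)
  have hval : ∀ P : FunFld.Place k K, H16.poleDiv hK x⁻¹ P = max (FunFld.div k x P) 0 := by
    intro P
    rw [H16.poleDiv_apply, map_inv₀, WithZero.log_inv, H16.div_apply hK]
    rfl
  have hset : Finset.filter (fun P => 0 < FunFld.div k x P) (FunFld.div k x).support =
      (H16.poleDiv hK x⁻¹).support := by
    ext P
    rw [Finset.mem_filter, Finsupp.mem_support_iff, Finsupp.mem_support_iff, hval]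
    omega
  rw [← hset]
  apply Finset.sum_congr rfl
  intro P hP
  rw [Finset.mem_filter] at hP
  rw [hval]
  congr 1
  omega

end Groth.Agent.S10969
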