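import Groth.Statements.S10972
import Groth.Agent.Lib.H16_FunFldG

set_option autoImplicit false
open FunFld

namespace Groth.Agent.S10972

/-- A nonconstant element of a function field of one variable has at least one zero and at least one
pole. -/
theorem result (k K : Type*) [Field k] [Field K] [Algebra k K]
    (hK : FunFld.IsFunctionField k K) (x : K) (hx : x ∉ Set.range (algebraMap k K)) :
    (∃ P : FunFld.Place k K, 0 < P.ord x) ∧ ∃ Q : FunFld.Place k K, Q.ord x < 0 := by
  have ht := H16.trans_iff hK hx
  have hx0 := H16.trans_ne_zero ht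
  obtain ⟨P, hP⟩ := H16.exists_zero hK ht
  obtain ⟨Q, hQ⟩ := H16.exists_zero hK (H16.trans_inv ht)
  refine ⟨⟨P, ?_⟩, ⟨Q, ?_⟩⟩
  · have h0 : P.1 x ≠ 0 := by simpa using hx0
    have := (WithZero.log_lt_log h0 one_ne_zero).mpr hP
    rw [WithZero.log_one] at this
    unfold FunFld.Place.ord
    omega
  · have h0 : Q.1 x⁻¹ ≠ 0 := by simpa using hx0
    have := (WithZero.log_lt_log h0 one_ne_zero).mpr hQ
    rw [WithZero.log_one, map_inv₀, WithZero.log_inv] at this
    unfold FunFld.Place.ord
    omega

end Groth.Agent.S10972
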