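import Groth.Statements.S10973
import Groth.Agent.Lib.H16_FunFldG

set_option autoImplicit false
open FunFld

namespace Groth.Agent.S10973

/-- Two nonzero elements of a function field of one variable with the same principal divisor differ by a
constant multiple. -/
theorem result (k K : Type*) [Field k] [Field K] [Algebra k K]
    (hK : FunFld.IsFunctionField k K) (x y : K) (hx : x ≠ 0) (hy : y ≠ 0)
    (h : ∀ P : FunFld.Place k K, P.ord x = P.ord y) : ∃ c : k, x = c • y := by
  have hmem : x / y ∈ FunFld.L (0 : FunFld.Divisor k K) := by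
    intro P
    have hPx : P.1 x ≠ 0 := by simpa using hx
    have hPy : P.1 y ≠ 0 := by simpa using hy
    have h1 := h P
    unfold FunFld.Place.ord at h1
    have h2 : WithZero.log (P.1 x) = WithZero.log (P.1 y) := by omega
    have h3 : P.1 x = P.1 y := by rw [← WithZero.exp_log hPx, h2, WithZero.exp_log hPy]
    rw [map_div₀, h3, div_self hPy]
    simp
  rw [H16.L_zero_eq hK, Submodule.mem_one] at hmem
  obtain ⟨c, hc⟩ := hmem
  refine ⟨c, ?_⟩
  rw [Algebra.smul_def, hc, div_mul_cancel₀ _ hy]

end Groth.Agent.S10973
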