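import Groth.Statements.S10988
import Groth.Agent.Lib.H16_FunFldH

set_option autoImplicit false
open FunFld

namespace Groth.Agent.S10988

/-- Let `K/k` be a function field of one variable (with `k` its full constant field) in which
multiplication by every `x ∈ K` preserves the repartition space (a hypothesis carried explicitly),
and `ω₁` a nonzero Weil differential. Then every Weil differential `ω₂` is `xω₁` for some `x ∈ K`:
the `K`-space `W_K` of Weil differentials has dimension at most one. The published statement is
`dim_K W_K = 1`; that a nonzero Weil differential exists is assumed here, not asserted. -/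
theorem result (k K : Type*) [Field k] [Field K] [Algebra k K]
    (hK : FunFld.IsFunctionField k K) (h : ∀ (x : K), ∀ a ∈ FunFld.adele k K, x • a ∈ FunFld.adele k K)
    (ω₁ ω₂ : Module.Dual k (FunFld.adele k K)) (h₁ : FunFld.IsWeil ω₁) (h0 : ω₁ ≠ 0)
    (h₂ : FunFld.IsWeil ω₂) : ∃ x : K, FunFld.mulW x (h x) ω₁ = ω₂ := by
  exact H16.exists_mulW hK ω₁ ω₂ h₁ h0 h₂

end Groth.Agent.S10988
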