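import Groth.Statements.S10989
import Groth.Agent.Lib.H16_FunFldH

set_option autoImplicit false
open FunFld

namespace Groth.Agent.S10989

/-- Any two canonical divisors of a function field of one variable are linearly equivalent. -/
theorem result (k K : Type*) [Field k] [Field K] [Algebra k K]
    (hK : FunFld.IsFunctionField k K) (C₁ C₂ : FunFld.Divisor k K) (h₁ : FunFld.IsCanonical k K C₁) (h₂ : FunFld.IsCanonical k K C₂) :
    ∃ x : K, x ≠ 0 ∧ C₂ = C₁ + FunFld.div k x := by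
  obtain ⟨ω₁, h10, h1⟩ := h₁
  obtain ⟨ω₂, h20, h2⟩ := h₂
  obtain ⟨x, hx⟩ := H16.exists_mulW hK ω₁ ω₂ ⟨C₁, H16.divOf_weil h1⟩ h10 ⟨C₂, H16.divOf_weil h2⟩
  have hx0 : x ≠ 0 := by rintro rfl; rw [map_zero] at hx; exact h20 hx.symm
  refine ⟨x, hx0, ?_⟩
  have h3 := H16.divOf_mulW hK x hx0 ω₁ C₁ h1
  rw [← H16.mulWL_apply hK, hx] at h3
  exact H16.divOf_unique h2 h3

end Groth.Agent.S10989
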