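import Groth.Statements.S10995
import Groth.Agent.Lib.H16_FunFldI

set_option autoImplicit false
open FunFld

namespace Groth.Agent.S10995

/-- A function field of one variable has an element with pole divisor of degree `1` iff it is a rational
function field. -/
theorem result (k K : Type*) [Field k] [Field K] [Algebra k K]
    (hK : FunFld.IsFunctionField k K) :
    (∃ (x : K) (P : FunFld.Place k K), P.deg = 1 ∧ P.ord x = -1 ∧
        ∀ Q : FunFld.Place k K, Q ≠ P → 0 ≤ Q.ord x) ↔
      ∃ x : K, IntermediateField.adjoin k ({x} : Set K) = ⊤ := by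
  constructor
  · rintro ⟨x, P, hP, hx, hQ⟩
    have ht : Transcendental k x := by
      intro ha
      obtain ⟨c, rfl⟩ := hK.2 x ha
      rw [H16.log_val_alg] at hx
      omega
    refine ⟨x, H16.adjoin_top_of_deg_one hK ht ?_⟩
    have h1 : H16.poleDiv hK x = Finsupp.single P 1 := by
      ext Q
      rw [H16.poleDiv_apply]
      by_cases h : Q = P
      · subst h
        unfold FunFld.Place.ord at hx
        rw [Finsupp.single_eq_same]; omega
      · have := hQ Q h
        unfold FunFld.Place.ord at this
        rw [Finsupp.single_eq_of_ne h]; omega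
    rw [h1, H16.deg_single, hP]; simp
  · rintro ⟨x, hx⟩
    obtain ⟨_, P, hP, hpole⟩ := H16.genus_zero_of_rational hK hx
    refine ⟨x, P, hP, ?_, ?_⟩
    · have h1 := H16.poleDiv_apply hK x P
      rw [hpole, Finsupp.single_eq_same] at h1
      unfold FunFld.Place.ord; omega
    · intro Q hQ
      have h1 := H16.poleDiv_apply hK x Q
      rw [hpole, Finsupp.single_eq_of_ne hQ] at h1
      unfold FunFld.Place.ord; omega

end Groth.Agent.S10995
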