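import Groth.Statements.S10997
import Groth.Agent.Lib.H16_FunFldI

set_option autoImplicit false
open FunFld

namespace Groth.Agent.S10997

/-- Given distinct places `P∞, P_1, …, P_n` of a function field of one variable, elements `x_i` and
integers `m_i`, some `x ∈ K` has `ord_{P_i}(x - x_i) = m_i` for all `i` and is integral outside
`{P∞, P_1, …, P_n}`. -/
theorem result (k K : Type*) [Field k] [Field K] [Algebra k K]
    (hK : FunFld.IsFunctionField k K) (Pinf : FunFld.Place k K) (n : ℕ) (P : Fin n → FunFld.Place k K) (hP : Function.Injective P)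
    (hinf : Pinf ∉ Set.range P) (x : Fin n → K) (m : Fin n → ℤ) :
    ∃ y : K, (∀ i, (P i).1 (y - x i) = WithZero.exp (-(m i))) ∧
      ∀ Q : FunFld.Place k K, Q ≠ Pinf → Q ∉ Set.range P → Q.1 y ≤ 1 := by
  classical
  choose t ht0 ht using fun i : Fin n => H16.exists_val (P i) (-(m i))
  let S : Finset (FunFld.Place k K) := Finset.univ.image P
  have hS : ∀ i, P i ∈ S := fun i => Finset.mem_image_of_mem _ (Finset.mem_univ i)
  let X : FunFld.Place k K → K := fun Q => if h : ∃ i, P i = Q then x h.choose + t h.choose else 0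
  have hX : ∀ i, X (P i) = x i + t i := by
    intro i
    have h : ∃ j, P j = P i := ⟨i, rfl⟩
    have h2 : h.choose = i := hP h.choose_spec
    simp only [X]
    rw [dif_pos h, h2]
  let N : ℕ := 1 + ∑ i, (m i).toNat
  obtain ⟨y, hy1, hy2⟩ := H16.strong_approx hK Pinf S (by
    intro h
    obtain ⟨i, _, hi⟩ := Finset.mem_image.mp h
    exact hinf ⟨i, hi⟩) X N
  refine ⟨y, ?_, ?_⟩
  · intro i
    have h1 := hy1 (P i) (hS i)
    rw [hX i] at h1
    have h2 : y - x i = (y - (x i + t i)) + t i := by ring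
    have h3 : (P i).1 (y - (x i + t i)) < (P i).1 (t i) := by
      refine h1.trans_lt ?_
      rw [ht i, WithZero.exp_lt_exp]
      have : (m i).toNat ≤ ∑ i, (m i).toNat :=
        Finset.single_le_sum (f := fun i => (m i).toNat) (fun _ _ => Nat.zero_le _) (Finset.mem_univ i)
      have h4 : (m i) ≤ (m i).toNat := Int.self_le_toNat _
      have h5 : (N : ℤ) = 1 + ((∑ i, (m i).toNat : ℕ) : ℤ) := by simp [N]
      omega
    rw [h2, Valuation.map_add_eq_of_lt_right _ h3, ht i]
  · intro Q hQ hQP
    apply hy2 Q hQ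
    intro h
    obtain ⟨i, _, hi⟩ := Finset.mem_image.mp h
    exact hQP ⟨i, hi⟩

end Groth.Agent.S10997
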