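import Groth.Statements.S10998
import Groth.Agent.Lib.H16_FunFldJ

set_option autoImplicit false
open FunFld

namespace Groth.Agent.S10998

/-- A genus-one function field with a place `P₀` of degree one is `k(x, y)` with `x ∈ L(2P₀)`, `y ∈
L(3P₀)` of pole orders `2` and `3`, and `y² + f(x) y + g(x) = 0` for polynomials `f` of degree `≤ 1`
and `g` of degree `3`. -/
theorem result (k K : Type*) [Field k] [Field K] [Algebra k K]
    (hK : FunFld.IsFunctionField k K) (hg : FunFld.genus k K = 1) (P₀ : FunFld.Place k K) (hP : P₀.deg = 1) :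
    ∃ x y : K, x ∈ FunFld.L (Finsupp.single P₀ 2) ∧ y ∈ FunFld.L (Finsupp.single P₀ 3) ∧
      P₀.ord x = -2 ∧ P₀.ord y = -3 ∧
      IntermediateField.adjoin k ({x, y} : Set K) = ⊤ ∧
      ∃ f g : Polynomial k, f.natDegree ≤ 1 ∧ g.natDegree = 3 ∧
        y ^ 2 + Polynomial.aeval x f * y + Polynomial.aeval x g = 0 := by
  obtain ⟨x, hx, hxP⟩ := (H16.nongap_iff hK (P := P₀) 2).mp (H16.nongap_of_ge hK hP (by rw [hg]; norm_num))
  obtain ⟨y, hy, hyP⟩ := (H16.nongap_iff hK (P := P₀) 3).mp (H16.nongap_of_ge hK hP (by rw [hg]; norm_num))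
  refine ⟨x, y, hx, hy, ?_, ?_, ?_, ?_⟩
  · unfold FunFld.Place.ord; rw [hxP, WithZero.log_exp]
  · unfold FunFld.Place.ord; rw [hyP, WithZero.log_exp]
  · exact H16.adjoin_pair_top hK hP (by norm_num) (by norm_num) ⟨-1, 1, by norm_num⟩ hx hxP hy hyP
  -- the relation
  have hL : ∀ {a b c : ℤ} {f g : K}, a + b = c → f ∈ FunFld.L (Finsupp.single P₀ a : FunFld.Divisor k K) →
      g ∈ FunFld.L (Finsupp.single P₀ b : FunFld.Divisor k K) →
      f * g ∈ FunFld.L (Finsupp.single P₀ c : FunFld.Divisor k K) := by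
    intro a b c f g h hf hg
    rw [← h, Finsupp.single_add]; exact H16.mul_mem_L hf hg
  have hx2 : x * x ∈ FunFld.L (Finsupp.single P₀ 4 : FunFld.Divisor k K) := hL (by norm_num) hx hx
  have hxy : x * y ∈ FunFld.L (Finsupp.single P₀ 5 : FunFld.Divisor k K) := hL (by norm_num) hx hy
  have hy2 : y * y ∈ FunFld.L (Finsupp.single P₀ 6 : FunFld.Divisor k K) := hL (by norm_num) hy hy
  have hx3 : x * x * x ∈ FunFld.L (Finsupp.single P₀ 6 : FunFld.Divisor k K) := hL (by norm_num) hx2 hx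
  have vx2 : P₀.1 (x * x) = WithZero.exp 4 := by rw [map_mul, hxP, ← WithZero.exp_add]; norm_num
  have vxy : P₀.1 (x * y) = WithZero.exp 5 := by rw [map_mul, hxP, hyP, ← WithZero.exp_add]; norm_num
  have vy2 : P₀.1 (y * y) = WithZero.exp 6 := by rw [map_mul, hyP, ← WithZero.exp_add]; norm_num
  have vx3 : P₀.1 (x * x * x) = WithZero.exp 6 := by
    rw [map_mul, vx2, hxP, ← WithZero.exp_add]; norm_num
  obtain ⟨c6, h6⟩ := H16.exists_const_L hP hx3 vx3 hy2
  norm_num at h6
  obtain ⟨c5, h5⟩ := H16.exists_const_L hP hxy vxy h6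
  norm_num at h5
  obtain ⟨c4, h4⟩ := H16.exists_const_L hP hx2 vx2 h5
  norm_num at h4
  obtain ⟨c3, h3⟩ := H16.exists_const_L hP hy hyP h4
  norm_num at h3
  obtain ⟨c2, h2⟩ := H16.exists_const_L hP hx hxP h3
  norm_num at h2
  have h1 : FunFld.L (Finsupp.single P₀ 1 : FunFld.Divisor k K) = FunFld.L 0 := by
    have hle : (0 : FunFld.Divisor k K) ≤ Finsupp.single P₀ 1 := Finsupp.single_nonneg.mpr zero_le_one
    obtain ⟨j, l, e1, e2, _, _⟩ := H16.ell_rel hK hle
    rw [H16.ell_zero hK, H16.ell_single_one hK (by omega) hP] at e1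
    have : j = 0 := by omega
    rw [this] at e2
    exact (H16.RD_zero e2).symm
  rw [h1, H16.L_zero_eq hK, Submodule.mem_one] at h2
  obtain ⟨c0, h0⟩ := h2
  have hc6 : c6 ≠ 0 := by
    rintro rfl
    have := h6 P₀
    rw [map_zero, zero_mul, sub_zero, vy2, Finsupp.single_eq_same, WithZero.exp_le_exp] at this
    omega
  refine ⟨Polynomial.C (-c5) * Polynomial.X + Polynomial.C (-c3),
    Polynomial.C (-c6) * Polynomial.X ^ 3 + Polynomial.C (-c4) * Polynomial.X ^ 2 + Polynomial.C (-c2) * Polynomial.X + Polynomial.C (-c0), ?_, ?_, ?_⟩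
  · exact Polynomial.natDegree_linear_le
  · exact Polynomial.natDegree_cubic (neg_ne_zero.mpr hc6)
  · simp only [map_add, map_mul, Polynomial.aeval_C, Polynomial.aeval_X, map_pow, map_neg]
    linear_combination h0.symm

end Groth.Agent.S10998
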