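import Groth.Statements.S11000
import Mathlib.FieldTheory.PrimitiveElement
import Mathlib.RingTheory.Polynomial.GaussLemma
import Mathlib.FieldTheory.Perfect
import Mathlib.RingTheory.AdjoinRoot
import Mathlib.LinearAlgebra.Dimension.Constructions

set_option autoImplicit false
universe u v
open FunFld

namespace Groth.Agent.S11000

/-- Over a perfect ground field every function field of one variable is geometric (`k' ⊗_k K` is a field
for all finite `k'/k`). -/
theorem result (k : Type u) (K : Type v) [Field k] [Field K] [Algebra k K] [PerfectField k]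
    (hK : FunFld.IsFunctionField k K) : FunFld.IsGeometric k K := by
  intro k' _ _ hfd
  obtain ⟨α, hα⟩ := Field.exists_primitive_element k k'
  have hint : IsIntegral k α := IsIntegral.of_finite k α
  have hfm : (minpoly k α).Monic := minpoly.monic hint
  have hfi : Irreducible (minpoly k α) := minpoly.irreducible hint
  have hlift : ∀ g : Polynomial K, g.Monic → g ∣ (minpoly k α).map (algebraMap k K) →
      ∃ g' : Polynomial k, g'.map (algebraMap k K) = g := by
    intro g hg hd
    have h1 := integralClosure.mem_lifts_of_monic_of_dvd_map K hfm hg hd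
    rw [Polynomial.lifts_iff_coeff_lifts] at h1
    have h2 : g ∈ Polynomial.lifts (algebraMap k K) := by
      rw [Polynomial.lifts_iff_coeff_lifts]
      intro n
      obtain ⟨y, hy⟩ := h1 n
      rw [← hy]
      exact hK.2 _ (IsIntegral.isAlgebraic y.2)
    rwa [Polynomial.mem_lifts] at h2
  have hirr : Irreducible ((minpoly k α).map (algebraMap k K)) := by
    have hne : (minpoly k α).map (algebraMap k K) ≠ 1 := by
      intro h
      have := congrArg Polynomial.natDegree h
      rw [Polynomial.natDegree_map, Polynomial.natDegree_one] at this
      have := minpoly.natDegree_pos hint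
      omega
    rw [Polynomial.irreducible_of_monic (hfm.map _) hne]
    intro g h hg hh hgh
    obtain ⟨g', rfl⟩ := hlift g hg ⟨h, hgh.symm⟩
    obtain ⟨h', rfl⟩ := hlift h hh ⟨_, by rw [← hgh]; ring⟩
    have e : g' * h' = minpoly k α := by
      apply Polynomial.map_injective _ (algebraMap k K).injective
      rw [Polynomial.map_mul, hgh]
    have hg' : g'.Monic := Polynomial.monic_of_injective (algebraMap k K).injective hg
    have hh' : h'.Monic := Polynomial.monic_of_injective (algebraMap k K).injective hh
    rcases hfi.isUnit_or_isUnit e.symm with h1 | h1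
    · left; rw [hg'.eq_one_of_isUnit h1, Polynomial.map_one]
    · right; rw [hh'.eq_one_of_isUnit h1, Polynomial.map_one]
  haveI : Fact (Irreducible ((minpoly k α).map (algebraMap k K))) := ⟨hirr⟩
  have heval : Polynomial.aeval ((1 : K) ⊗ₜ[k] α : TensorProduct k K k') ((minpoly k α).map (algebraMap k K)) = 0 := by
    rw [Polynomial.aeval_map_algebraMap]
    have : (Polynomial.aeval ((1 : K) ⊗ₜ[k] α : TensorProduct k K k')) (minpoly k α) =
        (Algebra.TensorProduct.includeRight : k' →ₐ[k] TensorProduct k K k') (Polynomial.aeval α (minpoly k α)) := by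
      rw [← Polynomial.aeval_algHom_apply]; rfl
    rw [this, minpoly.aeval, map_zero]
  let F : AdjoinRoot ((minpoly k α).map (algebraMap k K)) →ₐ[K] TensorProduct k K k' :=
    AdjoinRoot.liftAlgHom _ (Algebra.ofId K _) ((1 : K) ⊗ₜ[k] α) heval
  haveI : Nontrivial (TensorProduct k K k') :=
    Module.nontrivial_of_finrank_pos (R := K) (by rw [Module.finrank_baseChange]; exact Module.finrank_pos)
  have hinj : Function.Injective F := F.toRingHom.injective
  have hd1 : Module.finrank K (TensorProduct k K k') = (minpoly k α).natDegree := by
    rw [Module.finrank_baseChange]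
    exact (Field.primitive_element_iff_minpoly_natDegree_eq k α).mp hα ▸ rfl
  have hd2 : Module.finrank K (AdjoinRoot ((minpoly k α).map (algebraMap k K))) = (minpoly k α).natDegree := by
    rw [(AdjoinRoot.powerBasis hirr.ne_zero).finrank, AdjoinRoot.powerBasis_dim, Polynomial.natDegree_map]
  haveI : FiniteDimensional K (AdjoinRoot ((minpoly k α).map (algebraMap k K))) :=
    (AdjoinRoot.powerBasis hirr.ne_zero).finite
  have hbij : Function.Bijective F := by
    refine ⟨hinj, ?_⟩
    exact (LinearMap.injective_iff_surjective_of_finrank_eq_finrank (f := F.toLinearMap) (by rw [hd1, hd2])).mp hinj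
  have e1 : AdjoinRoot ((minpoly k α).map (algebraMap k K)) ≃ₐ[K] TensorProduct k K k' := AlgEquiv.ofBijective F hbij
  have hfield : IsField (TensorProduct k K k') := MulEquiv.isField (Field.toIsField _) e1.symm.toMulEquiv
  exact MulEquiv.isField hfield (Algebra.TensorProduct.comm k k' K).toMulEquiv

end Groth.Agent.S11000
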