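import Groth.Statements.S11016
import Groth.Agent.Lib.H16_FunFldG

set_option autoImplicit false
open FunFld

namespace Groth.Agent.S11016

/-- For a divisor `D` of a function field of one variable `K/k` (with `k` its full constant field),
`L(D) ≠ 0` iff there is an effective divisor linearly equivalent to `D`, that is, `D + [x] ≥ 0` for
some nonzero `x ∈ K`. -/
theorem result (k K : Type*) [Field k] [Field K] [Algebra k K]
    (hK : FunFld.IsFunctionField k K) (D : FunFld.Divisor k K) :
    FunFld.L D ≠ ⊥ ↔ ∃ x : K, x ≠ 0 ∧ 0 ≤ D + FunFld.div k x := by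
  constructor
  · intro h
    have hfd := H16.finite_L hK D
    have : 0 < FunFld.ell D := by
      unfold FunFld.ell
      rw [Module.finrank_pos_iff]
      exact (Submodule.nontrivial_iff_ne_bot).mpr h
    obtain ⟨x, hx0, _, hx⟩ := H16.exists_of_ell_pos hK D this
    exact ⟨x, hx0, hx⟩
  · rintro ⟨x, hx0, hx⟩ h
    have hxL : x ∈ FunFld.L D := by
      intro P
      rw [H16.val_eq_exp_div hK hx0 P, WithZero.exp_le_exp]
      have := hx P
      simp at this
      omega
    rw [h] at hxL
    exact hx0 ((Submodule.mem_bot k).mp hxL)

end Groth.Agent.S11016
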