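import Groth.Statements.S11017
import Groth.Agent.Lib.H16_FunFldH

set_option autoImplicit false
open FunFld

namespace Groth.Agent.S11017

/-- For a Weil differential `ω` with divisor `C`, `ord_P [ω] ≥ e` iff `ω` kills every repartition
concentrated at `P` with `P`-component of order at least `-e`. -/
theorem result (k K : Type*) [Field k] [Field K] [Algebra k K] (ω : Module.Dual k (FunFld.adele k K)) (C : FunFld.Divisor k K) (hω : FunFld.IsDivOf ω C)
    (P : FunFld.Place k K) (e : ℤ) :
    e ≤ C P ↔ ∀ (a : FunFld.Place k K → K) (ha : a ∈ FunFld.adele k K),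
      (∀ Q, Q ≠ P → a Q = 0) → P.1 (a P) ≤ WithZero.exp e → ω ⟨a, ha⟩ = 0 := by
  classical
  constructor
  · intro he a ha hQ hP
    refine (H16.mem_WD.mp (H16.divOf_weil hω)) ⟨a, ha⟩ (Submodule.mem_sup_left ?_)
    intro Q
    by_cases h : Q = P
    · subst h; exact hP.trans (WithZero.exp_le_exp.mpr he)
    · change Q.1 (a Q) ≤ _
      rw [hQ Q h]; simp
  · intro h
    by_contra hc
    rw [not_le] at hc
    have hE : ω ∈ FunFld.WD (C + Finsupp.single P (e - C P)) := by
      rw [H16.mem_WD]
      rintro ⟨a, ha0⟩ ha
      obtain ⟨b, hb, c, hc', hbc⟩ := Submodule.mem_sup.mp ha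
      have hbc : b + c = a := hbc
      let bP : FunFld.Place k K → K := Function.update 0 P (b P)
      have hbPad : bP ∈ FunFld.adele k K := by
        rw [H16.mem_adele]
        refine (Set.finite_singleton P).subset ?_
        intro Q hQ
        by_contra hne
        apply hQ
        have : bP Q = 0 := Function.update_of_ne hne _ _
        rw [this]; simp
      have h1 : ω ⟨bP, hbPad⟩ = 0 := by
        apply h bP hbPad
        · intro Q hQ; exact Function.update_of_ne hQ _ _
        · have : bP P = b P := Function.update_self ..
          rw [this]
          have := hb P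
          rw [Finsupp.add_apply, Finsupp.single_eq_same, add_sub_cancel] at this
          exact this
      have h2 : a - bP ∈ H16.AK C := by
        have : a - bP = (b - bP) + c := by rw [← hbc]; abel
        rw [this]
        refine Submodule.add_mem_sup ?_ hc'
        intro Q
        by_cases hQ : Q = P
        · subst hQ
          have : (b - bP) Q = 0 := by
            change b Q - bP Q = 0
            rw [show bP Q = b Q from Function.update_self .., sub_self]
          rw [this]; simp
        · have : (b - bP) Q = b Q := by
            change b Q - bP Q = b Q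
            rw [show bP Q = 0 from Function.update_of_ne hQ _ _, sub_zero]
          rw [this]
          have := hb Q
          rw [Finsupp.add_apply, Finsupp.single_eq_of_ne hQ, add_zero] at this
          exact this
      have h3 := (H16.mem_WD.mp (H16.divOf_weil hω)) ⟨a - bP, (FunFld.adele k K).sub_mem ha0 hbPad⟩ h2
      have h4 : (⟨a, ha0⟩ : FunFld.adele k K) = ⟨a - bP, (FunFld.adele k K).sub_mem ha0 hbPad⟩ + ⟨bP, hbPad⟩ :=
        Subtype.ext (sub_add_cancel a bP).symm
      rw [h4, map_add, h3, h1, add_zero]
    have h5 := (hω _).mp hE P
    simp at h5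
    omega

end Groth.Agent.S11017
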