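import Groth.Statements.S11046
import Groth.Agent.Lib.H16_FunFldI

set_option autoImplicit false
open FunFld

namespace Groth.Agent.S11046

/-- Over an algebraically closed constant field, for a place `P` of a function field of genus `g` and a
natural number `n ≤ 2g - 2` one has `ℓ(nP) ≤ 1 + n/2` (Clifford's bound for multiples of a point). -/
theorem result
    (k K : Type*) [Field k] [IsAlgClosed k] [Field K] [Algebra k K]
    (hK : FunFld.IsFunctionField k K) (P : FunFld.Place k K) (n : ℕ)
    (hn : (n : ℤ) ≤ 2 * (FunFld.genus k K : ℤ) - 2) :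
    2 * FunFld.ell (Finsupp.single P (n : ℤ)) ≤ n + 2 := by
  classical
  have hP := H16.deg_eq_one_of_algClosed hK P
  have h1 := H16.ell_count hK hP n
  by_cases hn0 : n = 0
  · subst hn0
    simp at h1
    simp
    omega
  set l := (n + 1) / 2 with hl
  have h2 := H16.gap_l hK hP l (by omega) (by omega)
  have h3 : (Finset.Icc 1 (2 * l - 1)).filter (fun m : ℕ => H16.Gap P (m : ℤ)) ⊆
      (Finset.Icc 1 n).filter (fun m : ℕ => H16.Gap P (m : ℤ)) := by
    intro m hm
    simp only [Finset.mem_filter, Finset.mem_Icc] at hm ⊢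
    exact ⟨⟨hm.1.1, by omega⟩, hm.2⟩
  have h4 := Finset.card_le_card h3
  have h5 : l ≤ ((Finset.Icc 1 (2 * l - 1)).filter (fun m : ℕ => H16.Gap P (m : ℤ))).card := by
    convert h2
  have h6 : FunFld.ell (Finsupp.single P (n : ℤ) : FunFld.Divisor k K) + ((Finset.Icc 1 n).filter (fun m : ℕ => H16.Gap P (m : ℤ))).card = n + 1 := by
    convert h1
  omega

end Groth.Agent.S11046
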