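import Groth.Statements.S11049
import Groth.Agent.Lib.H16_FunFldD

set_option autoImplicit false
open CAlg

namespace Groth.Agent.S11049

/-- For `k`-algebras `S ⊆ R` with `R` an integral domain and a nonzero `x ∈ S`, if `R/S` and `R/Rx` are
finite-dimensional over `k` then `dim_k R/Rx = dim_k S/Sx` (dimensions in the sense of `finrank`,
which is `0` on an infinite-dimensional space; that `S/Sx` is finite-dimensional is not separately
asserted). (The published statement allows `x = 0`; then `R` is a field finite over `k` and the two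
sides are `dim_k R` and `dim_k S`, which differ for `S = k ⊊ R`; the published proof multiplies by
`x` as an injection, so `x ≠ 0` is assumed here.) -/
theorem result
    (k R : Type*) [Field k] [CommRing R]
    [IsDomain R] [Algebra k R] (S : Subalgebra k R) (x : S) (hx : (x : R) ≠ 0)
    [Module.Finite k (R ⧸ Subalgebra.toSubmodule S)]
    [Module.Finite k (R ⧸ Ideal.span {(x : R)})] :
    Module.finrank k (R ⧸ Ideal.span {(x : R)}) = Module.finrank k (S ⧸ Ideal.span {x}) := by
  classical
  let μ : R →ₗ[k] R := LinearMap.mulLeft k (x : R)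
  have hμ : Function.Injective μ := fun a b h => mul_left_cancel₀ hx h
  let SS : Submodule k R := Subalgebra.toSubmodule S
  let xR : Submodule k R := LinearMap.range μ
  let xS : Submodule k R := SS.map μ
  have h1 : Groth.Agent.H16.RD SS ⊤ (Module.finrank k (R ⧸ SS)) :=
    Groth.Agent.H16.RD_of_map le_top (SS.mkQ.comp (Submodule.subtype ⊤))
      (fun q => by obtain ⟨r, rfl⟩ := SS.mkQ_surjective q; exact ⟨⟨r, trivial⟩, rfl⟩)
      (fun b => Submodule.Quotient.mk_eq_zero SS)
  have h2 : Groth.Agent.H16.RD xR ⊤ (Module.finrank k (R ⧸ Ideal.span {(x : R)})) :=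
    Groth.Agent.H16.RD_of_map le_top ((Ideal.Quotient.mkₐ k (Ideal.span {(x : R)})).toLinearMap.comp (Submodule.subtype ⊤))
      (fun q => by obtain ⟨r, rfl⟩ := Ideal.Quotient.mk_surjective q; exact ⟨⟨r, trivial⟩, rfl⟩)
      (fun b => by
        change Ideal.Quotient.mk _ (b : R) = 0 ↔ (b : R) ∈ xR
        rw [Ideal.Quotient.eq_zero_iff_mem, Ideal.mem_span_singleton']
        constructor
        · rintro ⟨a, ha⟩; exact ⟨a, by rw [← ha]; exact mul_comm _ _⟩
        · rintro ⟨a, ha⟩; exact ⟨a, by rw [← ha]; exact mul_comm _ _⟩)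
  let e : R ≃ₗ[k] xR := LinearEquiv.ofInjective μ hμ
  have he : ∀ r : R, ((e r : xR) : R) = (x : R) * r := fun r => rfl
  have hxSR : xS ≤ xR := by
    rintro _ ⟨s, _, rfl⟩; exact ⟨s, rfl⟩
  have h3 : Groth.Agent.H16.RD xS xR (Module.finrank k (R ⧸ SS)) :=
    Groth.Agent.H16.RD_of_map hxSR (SS.mkQ.comp e.symm.toLinearMap)
      (fun q => by obtain ⟨r, rfl⟩ := SS.mkQ_surjective q; exact ⟨e r, by simp⟩)
      (fun b => by
        obtain ⟨r, rfl⟩ := e.surjective b
        have : (SS.mkQ.comp e.symm.toLinearMap) (e r) = SS.mkQ r := by simp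
        rw [this, he]
        rw [Submodule.mkQ_apply, Submodule.Quotient.mk_eq_zero]
        constructor
        · intro h; exact ⟨r, h, rfl⟩
        · rintro ⟨s, hs, hsr⟩
          have : s = r := hμ hsr
          rw [← this]; exact hs)
  have hxSS : xS ≤ SS := by
    rintro _ ⟨s, hs, rfl⟩; exact S.mul_mem x.2 hs
  have h4 := Groth.Agent.H16.RD_trans h3 h2
  obtain ⟨c, d, h5, h6, h7⟩ := Groth.Agent.H16.RD_split hxSS le_top h4
  have hd : d = Module.finrank k (R ⧸ SS) := by rw [← h6.2.2, ← h1.2.2]
  have hc : c = Module.finrank k (R ⧸ Ideal.span {(x : R)}) := by omega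
  rw [← hc, ← h5.2.2]
  let g : SS →ₗ[k] (S ⧸ Ideal.span {x}) := (Ideal.Quotient.mkₐ k (Ideal.span {x})).toLinearMap
  have hg : Function.Surjective g := by
    intro q; obtain ⟨r, hr⟩ := Ideal.Quotient.mk_surjective q; exact ⟨r, hr⟩
  have hker : LinearMap.ker g = Submodule.comap SS.subtype xS := by
    ext ⟨b, hb⟩
    rw [LinearMap.mem_ker]
    change Ideal.Quotient.mk (Ideal.span {x}) (⟨b, hb⟩ : S) = 0 ↔ b ∈ xS
    rw [Ideal.Quotient.eq_zero_iff_mem, Ideal.mem_span_singleton']
    constructor
    · rintro ⟨a, ha⟩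
      refine ⟨(a : R), a.2, ?_⟩
      have h : (a : R) * (x : R) = b := congrArg (Subtype.val) ha
      change (x : R) * (a : R) = b
      rw [mul_comm]; exact h
    · rintro ⟨a, ha, hab⟩
      refine ⟨⟨a, ha⟩, Subtype.ext ?_⟩
      have hab' : (x : R) * a = b := hab
      change a * (x : R) = b
      rw [mul_comm]; exact hab'
  exact ((Submodule.quotEquivOfEq _ _ hker.symm).trans (g.quotKerEquivOfSurjective hg)).finrank_eq

end Groth.Agent.S11049
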