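import Groth.Statements.S11069
import Groth.Agent.Lib.H16_FunFldO

set_option autoImplicit false
open FunFld

namespace Groth.Agent.S11069

/-- Over an algebraically closed constant field, for function fields `K ⊇ K'` of one variable over `k`
with `K/K'` finite and a projective map `φ` with entries in `K'` linearly independent over `k`, the
divisor of `φ` as a map of `K` is the conorm `N*_{K/K'}` of its divisor as a map of `K'`. -/
theorem result
    (k K' K : Type*) [Field k] [IsAlgClosed k] [Field K'] [Field K] [Algebra k K'] [Algebra k K]
    [Algebra K' K] [IsScalarTower k K' K] [FiniteDimensional K' K]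
    (hK : FunFld.IsFunctionField k K) (hK' : FunFld.IsFunctionField k K') {n : ℕ}
    (φ : Fin (n + 1) → K') (hφ : LinearIndependent k φ) :
    FunFld.mapDiv k (fun i => algebraMap K' K (φ i)) = FunFld.conorm K (FunFld.mapDiv k φ) := by
  exact Groth.Agent.H16g.mapDiv_conorm hK' hK φ

end Groth.Agent.S11069
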