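import Groth.Statements.S11075
import Groth.Agent.Lib.Helper17_FF2

set_option autoImplicit false
open FunFld

namespace Groth.Agent.S11075

/-- Over an algebraically closed constant field, let `φ = (φ₀, …, φₙ)`, `n ≥ 1`, be a projective map
(entries linearly independent over `k`) onto the curve `V`. (a) A homogeneous `g` not vanishing
identically on `V` vanishes at the image point of only finitely many places (so a closed set not
containing `V` meets `V` in a finite set); (b) each fibre of `φ` is finite. Here `g` vanishes at
`φ(P)` when `g(φ₀/φⱼ, …, φₙ/φⱼ)` lies in the maximal ideal of `P` for an entry `φⱼ` of least order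
at `P`. Two places have the same image point when some entry `φⱼ` has least order at both and each
`φᵢ/φⱼ` is congruent to one constant modulo both maximal ideals. -/
theorem result (k K : Type*) [Field k] [IsAlgClosed k] [Field K] [Algebra k K]
    (hK : FunFld.IsFunctionField k K) {n : ℕ} (hn : 1 ≤ n)
    (φ : Fin (n + 1) → K) (hφ : LinearIndependent k φ) :
    (∀ g : MvPolynomial (Fin (n + 1)) k, g.IsHomogeneous g.totalDegree →
      MvPolynomial.aeval φ g ≠ 0 →
        {P : FunFld.Place k K | ∃ j, φ j ≠ 0 ∧ (∀ i, P.1 (φ i) ≤ P.1 (φ j)) ∧
          P.1 (MvPolynomial.aeval (fun i => φ i / φ j) g) < 1}.Finite) ∧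
    ∀ P : FunFld.Place k K, {Q : FunFld.Place k K | FunFld.SameImage φ P Q}.Finite := by
  exact Groth.Agent.H17FF.finite_zero hK hn φ hφ
end Groth.Agent.S11075
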