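import Groth.Statements.S11078
import Groth.Agent.Lib.Helper17_FF

set_option autoImplicit false
open FunFld

namespace Groth.Agent.S11078

/-- Over an algebraically closed constant field, for a projective map `φ = (φ₀, …, φₙ)`, `n ≥ 1`
(entries linearly independent over `k`), and a point `a = φ(P)` with local ring `O_a`, the fibre
`φ⁻¹(a)` consists of the places `Q` with `O_a ⊆ O_Q` and `m_Q ∩ O_a` equal to the maximal ideal of
`O_a` (which is `m_P ∩ O_a`). Here `O_a` consists of the quotients of polynomials over `k` in the
ratios `φᵢ/φⱼ`, `φⱼ` of least order at `P`, with denominator a unit at `P`; and `Q` has the same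
image point as `P` when some entry has least order at both places and the ratios are congruent to
common constants modulo both maximal ideals. -/
theorem result
    (k K : Type*) [Field k] [IsAlgClosed k] [Field K] [Algebra k K]
    (hK : FunFld.IsFunctionField k K) {n : ℕ} (hn : 1 ≤ n) (φ : Fin (n + 1) → K)
    (hφ : LinearIndependent k φ) (P Q : FunFld.Place k K) :
    FunFld.SameImage φ P Q ↔
      ∀ z : K, FunFld.InLocRing φ P z → (Q.1 z ≤ 1 ∧ (Q.1 z < 1 ↔ P.1 z < 1)) := by
  exact Groth.Agent.H17FF.sameImage_iff hK φ (fun i => hφ.ne_zero i) P Q
end Groth.Agent.S11078
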