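import Groth.Statements.S11080
import Mathlib.RingTheory.DedekindDomain.AdicValuation

set_option autoImplicit false
universe u
open CAlg

namespace Groth.Agent.S11080

/-- Valuation rings over a curve: let A be a Dedekind domain with fraction field K. A valuation subring
O of K contains A and is different from K if and only if O is the valuation ring of the v-adic
valuation of K at some nonzero prime v of A (equivalently O is the local ring of A at a maximal
ideal, a discrete valuation ring). (The published statement takes A to be the coordinate ring of a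
nonsingular affine curve over an algebraically closed field, which is such a Dedekind domain; its
proof uses only that the local rings of A at nonzero primes are discrete valuation rings and that
nonzero primes are maximal.) -/
theorem result (A K : Type u) [CommRing A]
    [IsDedekindDomain A] [Field K] [Algebra A K] [IsFractionRing A K] (O : ValuationSubring K) :
    ((algebraMap A K).range ≤ O.toSubring ∧ O ≠ ⊤) ↔
      ∃ v : IsDedekindDomain.HeightOneSpectrum A, O = (v.valuation K).valuationSubring := by
  constructor
  · rintro ⟨hA, hO⟩
    have hA' : ∀ a : A, algebraMap A K a ∈ O := fun a => hA ⟨a, rfl⟩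
    let i : A →+* O := (algebraMap A K).codRestrict O hA'
    let P : Ideal A := (IsLocalRing.maximalIdeal O).comap i
    have hPmem : ∀ a : A, a ∈ P ↔ O.valuation (algebraMap A K a) < 1 := by
      intro a
      change i a ∈ IsLocalRing.maximalIdeal O ↔ _
      exact (O.valuation_lt_one_iff (i a))
    have hPp : P.IsPrime := Ideal.comap_isPrime i _
    have hval1 : ∀ a : A, a ∉ P → O.valuation (algebraMap A K a) = 1 := by
      intro a ha
      rw [hPmem] at ha
      exact le_antisymm (O.valuation_le_one ⟨_, hA' a⟩) (not_lt.mp ha)
    have hP0 : P ≠ ⊥ := by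
      intro h0
      apply hO
      rw [eq_top_iff]
      intro x _
      obtain ⟨a, b, hb, rfl⟩ := IsFractionRing.div_surjective (A := A) x
      have hb0 : b ≠ 0 := nonZeroDivisors.ne_zero hb
      have hb1 := hval1 b (by rw [h0]; exact hb0)
      rw [← ValuationSubring.valuation_le_one_iff, map_div₀, hb1, div_one]
      exact O.valuation_le_one ⟨_, hA' a⟩
    let v : IsDedekindDomain.HeightOneSpectrum A := ⟨P, hPp, hP0⟩
    refine ⟨v, ?_⟩
    have hle : ∀ x : K, v.valuation K x ≤ 1 → ∃ a s : A, s ∉ P ∧ x * algebraMap A K s = algebraMap A K a := by
      intro x hx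
      obtain ⟨a, s, h⟩ := v.exists_primeCompl_mul_eq_of_integer x hx
      exact ⟨a, s, s.2, h⟩
    ext x
    rw [Valuation.mem_valuationSubring_iff]
    constructor
    · intro hx
      by_contra hcon
      have hlt : v.valuation K x⁻¹ < 1 := by
        rw [map_inv₀]
        exact inv_lt_one_of_one_lt₀ (not_le.mp hcon)
      obtain ⟨a, s, hs, h⟩ := hle x⁻¹ hlt.le
      have hvs : v.valuation K (algebraMap A K s) = 1 := v.valuation_eq_one_iff_notMem.mpr hs
      have hva : v.valuation K (algebraMap A K a) < 1 := by
        rw [← h, map_mul, hvs, mul_one]; exact hlt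
      have haP : a ∈ P := (v.valuation_lt_one_iff_mem a).mp hva
      have h1 := (hPmem a).mp haP
      rw [← h, map_mul, hval1 s hs, mul_one, map_inv₀] at h1
      have hx' := (O.valuation_le_one_iff x).mpr hx
      have hx0 : x ≠ 0 := by
        rintro rfl; rw [map_zero] at hcon; exact hcon zero_le
      have hvx : O.valuation x ≠ 0 := by simpa using hx0
      have := (inv_lt_one₀ (zero_lt_iff.mpr hvx)).mp h1
      exact absurd hx' (not_le.mpr this)
    · intro hx
      obtain ⟨a, s, hs, h⟩ := hle x hx
      rw [← ValuationSubring.valuation_le_one_iff]
      have h1 : O.valuation (x * algebraMap A K s) = O.valuation (algebraMap A K a) := by rw [h]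
      rw [map_mul, hval1 s hs, mul_one] at h1
      rw [h1]
      exact O.valuation_le_one ⟨_, hA' a⟩
  · rintro ⟨v, rfl⟩
    refine ⟨?_, ?_⟩
    · rintro _ ⟨a, rfl⟩
      exact v.valuation_le_one a
    · intro h
      obtain ⟨π, hπ⟩ := v.valuation_exists_uniformizer K
      have hm : π⁻¹ ∈ (v.valuation K).valuationSubring := by rw [h]; trivial
      rw [Valuation.mem_valuationSubring_iff, map_inv₀, hπ] at hm
      rw [← WithZero.exp_neg, ← WithZero.exp_zero, WithZero.exp_le_exp] at hm
      omega

end Groth.Agent.S11080
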