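import Groth.Statements.S11233
import Mathlib

set_option autoImplicit false
universe u
open CAlg

namespace Groth.Agent.S11233

/-- Let k be an algebraically closed field, A an integral domain which is a k-algebra, T an m by m
matrix over A with invertible determinant, and let the additive group k^m act on the polynomial ring
A[y_1, ..., y_m] by the A-algebra maps y_s ↦ y_s + Σ_r h_r T_rs. Then the only invariant polynomials
are the constants: a polynomial fixed by all these substitutions lies in A. -/
theorem result (k : Type u) [Field k] [IsAlgClosed k]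
    (A : Type u) [CommRing A] [IsDomain A] [Algebra k A] (m : ℕ) (T : Matrix (Fin m) (Fin m) A)
    (hT : IsUnit T.det) (f : MvPolynomial (Fin m) A)
    (hf : ∀ h : Fin m → k, MvPolynomial.aeval
      (fun s : Fin m => MvPolynomial.X s + MvPolynomial.C (∑ r : Fin m, algebraMap k A (h r) * T r s)) f = f) :
    ∃ a : A, f = MvPolynomial.C a := by
  have hinf : Set.Infinite (Set.range (algebraMap k A)) := Set.infinite_range_of_injective (algebraMap k A).injective
  let q : Fin m → MvPolynomial (Fin m) A := fun s => ∑ r : Fin m, MvPolynomial.C (T r s) * MvPolynomial.X r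
  let p : Fin m → MvPolynomial (Fin m) A := fun r => ∑ t : Fin m, MvPolynomial.C (T⁻¹ t r) * MvPolynomial.X t
  have hTT : T⁻¹ * T = 1 := Matrix.nonsing_inv_mul T hT
  have hg : MvPolynomial.aeval q f = MvPolynomial.C (MvPolynomial.eval 0 f) := by
    apply MvPolynomial.funext_set (fun _ => Set.range (algebraMap k A)) (fun _ => hinf)
    intro x hx
    have hx' : ∀ r, ∃ h : k, algebraMap k A h = x r := fun r => hx r (Set.mem_univ r)
    choose h hh using hx'
    have h1 := congrArg (MvPolynomial.eval (0 : Fin m → A)) (hf h)
    have h2 : MvPolynomial.eval (0 : Fin m → A) (MvPolynomial.aeval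
      (fun s : Fin m => MvPolynomial.X s + MvPolynomial.C (∑ r : Fin m, algebraMap k A (h r) * T r s)) f) =
      MvPolynomial.eval (fun s => ∑ r : Fin m, x r * T r s) f := by
      rw [MvPolynomial.aeval_def, ← MvPolynomial.coe_eval₂Hom, ← RingHom.comp_apply, MvPolynomial.comp_eval₂Hom]
      rw [MvPolynomial.coe_eval₂Hom]
      have h3 : (MvPolynomial.eval (0 : Fin m → A)).comp (algebraMap A (MvPolynomial (Fin m) A)) = RingHom.id A := by
        ext a
        simp
      rw [h3]
      show MvPolynomial.eval₂ (RingHom.id A) _ f = MvPolynomial.eval₂ (RingHom.id A) _ f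
      congr 1
      funext s
      simp [hh]
    have h4 : MvPolynomial.eval x (MvPolynomial.aeval q f) = MvPolynomial.eval (fun s => ∑ r : Fin m, x r * T r s) f := by
      rw [MvPolynomial.aeval_def, ← MvPolynomial.coe_eval₂Hom, ← RingHom.comp_apply, MvPolynomial.comp_eval₂Hom]
      rw [MvPolynomial.coe_eval₂Hom]
      have h3 : (MvPolynomial.eval x).comp (algebraMap A (MvPolynomial (Fin m) A)) = RingHom.id A := by
        ext a
        simp
      rw [h3]
      show MvPolynomial.eval₂ (RingHom.id A) _ f = MvPolynomial.eval₂ (RingHom.id A) _ f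
      congr 1
      funext s
      simp [q, mul_comm]
    rw [h4, ← h2, h1, MvPolynomial.eval_C]
  have hcomp : MvPolynomial.aeval p (MvPolynomial.aeval q f) = f := by
    have h5 : ((MvPolynomial.aeval p).comp (MvPolynomial.aeval q) : MvPolynomial (Fin m) A →ₐ[A] MvPolynomial (Fin m) A) =
        AlgHom.id A _ := by
      apply MvPolynomial.algHom_ext
      intro s
      rw [AlgHom.comp_apply, MvPolynomial.aeval_X, AlgHom.id_apply]
      show MvPolynomial.aeval p (∑ r : Fin m, MvPolynomial.C (T r s) * MvPolynomial.X r) = _
      rw [map_sum]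
      have h6 : ∀ r : Fin m, MvPolynomial.aeval p (MvPolynomial.C (T r s) * MvPolynomial.X r) =
          ∑ t : Fin m, MvPolynomial.C (T⁻¹ t r * T r s) * MvPolynomial.X t := by
        intro r
        rw [map_mul, MvPolynomial.aeval_X, MvPolynomial.aeval_C]
        show MvPolynomial.C (T r s) * (∑ t : Fin m, MvPolynomial.C (T⁻¹ t r) * MvPolynomial.X t) = _
        rw [Finset.mul_sum]
        apply Finset.sum_congr rfl
        intro t _
        rw [map_mul]
        ring
      simp_rw [h6]
      rw [Finset.sum_comm]
      have h7 : ∀ t : Fin m, ∑ r : Fin m, MvPolynomial.C (T⁻¹ t r * T r s) * (MvPolynomial.X t : MvPolynomial (Fin m) A) =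
          MvPolynomial.C ((1 : Matrix (Fin m) (Fin m) A) t s) * MvPolynomial.X t := by
        intro t
        rw [← Finset.sum_mul, ← map_sum, ← hTT, Matrix.mul_apply]
      simp_rw [h7]
      rw [Finset.sum_eq_single s]
      · simp
      · intro t _ hts
        rw [Matrix.one_apply_ne hts, map_zero, zero_mul]
      · intro h; exact absurd (Finset.mem_univ s) h
    exact congrArg (fun φ => φ f) h5
  rw [hg, ← MvPolynomial.algebraMap_eq, AlgHom.commutes] at hcomp
  exact ⟨_, hcomp.symm⟩
end Groth.Agent.S11233
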