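import Groth.Statements.S11235
import Mathlib

set_option autoImplicit false
universe u
open CAlg

namespace Groth.Agent.S11235

/-- Let k be an algebraically closed field, A a commutative k-algebra, α ∈ k, and M a maximal ideal of
the polynomial ring A[x] containing x - α. Let I ⊆ M be an ideal whose zero set in Spec A[x] is
invariant under the automorphisms x ↦ c·x, c ∈ k nonzero (equivalently: the image of I under each
such A-algebra automorphism has the same radical as I). Then there is a maximal ideal of A[x]
containing I and x. -/
theorem result (k : Type u) [Field k] [IsAlgClosed k]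
    (A : Type u) [CommRing A] [Algebra k A] (α : k)
    (M : Ideal (Polynomial A)) (hM : M.IsMaximal)
    (hα : Polynomial.X - Polynomial.C (algebraMap k A α) ∈ M)
    (I : Ideal (Polynomial A)) (hIM : I ≤ M)
    (hI : ∀ c : kˣ, (I.map (Polynomial.aeval (R := A)
      (algebraMap k A (c : k) • (Polynomial.X : Polynomial A)))).radical = I.radical) :
    ∃ N : Ideal (Polynomial A), N.IsMaximal ∧ I ≤ N ∧ Polynomial.X ∈ N := by
  let m : Ideal A := M.comap Polynomial.C
  -- M contains f iff f(α) ∈ m
  have hmem : ∀ f : Polynomial A, f ∈ M → f.eval (algebraMap k A α) ∈ m := by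
    intro f hf
    show Polynomial.C (f.eval (algebraMap k A α)) ∈ M
    obtain ⟨g, hg⟩ := Polynomial.X_sub_C_dvd_sub_C_eval (a := algebraMap k A α) (p := f)
    have h1 : Polynomial.C (f.eval (algebraMap k A α)) = f - (Polynomial.X - Polynomial.C (algebraMap k A α)) * g := by
      rw [← hg]; ring
    rw [h1]
    exact M.sub_mem hf (M.mul_mem_right _ hα)
  have hmmax : m.IsMaximal := by
    have hsurj : Function.Surjective ((Ideal.Quotient.mk M).comp Polynomial.C) := by
      intro y
      obtain ⟨f, rfl⟩ := Ideal.Quotient.mk_surjective y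
      refine ⟨f.eval (algebraMap k A α), ?_⟩
      show Ideal.Quotient.mk M (Polynomial.C (f.eval (algebraMap k A α))) = Ideal.Quotient.mk M f
      rw [Ideal.Quotient.eq]
      obtain ⟨g, hg⟩ := Polynomial.X_sub_C_dvd_sub_C_eval (a := algebraMap k A α) (p := f)
      have h1 : Polynomial.C (f.eval (algebraMap k A α)) - f = - ((Polynomial.X - Polynomial.C (algebraMap k A α)) * g) := by
        rw [← hg]; ring
      rw [h1]
      exact M.neg_mem (M.mul_mem_right _ hα)
    have h1 : m = RingHom.ker ((Ideal.Quotient.mk M).comp Polynomial.C) := by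
      ext x
      rw [RingHom.mem_ker, RingHom.comp_apply, Ideal.Quotient.eq_zero_iff_mem]
      rfl
    have _ : Field (Polynomial A ⧸ M) := Ideal.Quotient.field M
    rw [h1]
    have h2 : (⊥ : Ideal (Polynomial A ⧸ M)).IsMaximal := by
      have := Ideal.bot_quotient_isMaximal_iff M
      exact this.mpr hM
    exact Ideal.comap_isMaximal_of_surjective _ hsurj (K := ⊥)
  by_cases hα0 : α = 0
  · refine ⟨M, hM, hIM, ?_⟩
    rw [hα0, map_zero, Polynomial.C_0, sub_zero] at hα
    exact hα
  let N : Ideal (Polynomial A) := m.comap (Polynomial.evalRingHom (0 : A))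
  refine ⟨N, ?_, ?_, ?_⟩
  · exact Ideal.comap_isMaximal_of_surjective _ (fun a => ⟨Polynomial.C a, by simp⟩)
  · intro f hf
    -- f(c α) ∈ m for all c ≠ 0
    have h1 : ∀ c : kˣ, f.eval (algebraMap k A (c : k) * algebraMap k A α) ∈ m := by
      intro c
      have h2 : Polynomial.aeval (R := A) (algebraMap k A (c : k) • (Polynomial.X : Polynomial A)) f ∈ M := by
        have h3 : Polynomial.aeval (R := A) (algebraMap k A (c : k) • (Polynomial.X : Polynomial A)) f ∈
            (I.map (Polynomial.aeval (R := A) (algebraMap k A (c : k) • (Polynomial.X : Polynomial A)))).radical :=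
          Ideal.le_radical (Ideal.mem_map_of_mem _ hf)
        rw [hI c] at h3
        exact (hM.isPrime.radical_le_iff.mpr hIM) h3
      have h4 := hmem _ h2
      have h5 : Polynomial.eval (algebraMap k A α) (Polynomial.aeval (R := A) (algebraMap k A (c : k) • (Polynomial.X : Polynomial A)) f) =
          f.eval (algebraMap k A (c : k) * algebraMap k A α) := by
        have h55 : Polynomial.aeval (R := A) (algebraMap k A (c : k) • (Polynomial.X : Polynomial A)) f =
          f.comp (algebraMap k A (c : k) • (Polynomial.X : Polynomial A)) := rfl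
        rw [h55, Polynomial.eval_comp, Polynomial.eval_smul, Polynomial.eval_X, smul_eq_mul]
      rwa [h5] at h4
    have hfld : Field (A ⧸ m) := Ideal.Quotient.field m
    have hfz : f.map (Ideal.Quotient.mk m) = 0 := by
      by_contra hne
      have hinj : Function.Injective (fun c : kˣ => Ideal.Quotient.mk m (algebraMap k A ((c : k) * α))) := by
        intro c c' hcc
        have h6 : Ideal.Quotient.mk m (algebraMap k A ((c : k) * α - (c' : k) * α)) = 0 := by
          rw [map_sub, map_sub, sub_eq_zero]; exact hcc
        by_contra hcne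
        have h7 : (c : k) * α - (c' : k) * α ≠ 0 := by
          rw [← sub_mul]
          exact mul_ne_zero (sub_ne_zero.mpr (fun h => hcne (Units.ext h))) hα0
        have h8 : (1 : A) ∈ m := by
          rw [Ideal.Quotient.eq_zero_iff_mem] at h6
          have h9 := m.mul_mem_left (algebraMap k A ((c : k) * α - (c' : k) * α)⁻¹) h6
          rw [← map_mul, inv_mul_cancel₀ h7, map_one] at h9
          exact h9
        exact hmmax.ne_top ((Ideal.eq_top_iff_one _).mpr h8)
      have hprime : m.IsPrime := hmmax.isPrime
      have hfin : {x : A ⧸ m | (f.map (Ideal.Quotient.mk m)).IsRoot x}.Finite :=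
        Polynomial.finite_setOf_isRoot hne
      have hinf : Infinite kˣ := by
        have h10 : Infinite {a : k // a ≠ 0} := Set.Infinite.to_subtype ((Set.finite_singleton (0 : k)).infinite_compl)
        exact (unitsEquivNeZero (G₀ := k)).infinite_iff.mpr h10
      refine Set.infinite_of_injective_forall_mem hinj (s := {x : A ⧸ m | (f.map (Ideal.Quotient.mk m)).IsRoot x}) ?_ hfin
      intro c
      show (f.map (Ideal.Quotient.mk m)).eval _ = 0
      rw [Polynomial.eval_map_apply, Ideal.Quotient.eq_zero_iff_mem, map_mul]
      exact h1 c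
    show f.eval 0 ∈ m
    rw [← Ideal.Quotient.eq_zero_iff_mem, ← Polynomial.eval_map_apply, hfz, Polynomial.eval_zero]
  · show Polynomial.X.eval (0 : A) ∈ m
    rw [Polynomial.eval_X]
    exact m.zero_mem
end Groth.Agent.S11235
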