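import Groth.Statements.S11239
import Mathlib

set_option autoImplicit false
universe u
open AGF

namespace Groth.Agent.S11239

/-- Let X be an m × n matrix over a commutative ring, u an upper triangular n × n matrix with ones on
the diagonal, t a diagonal n × n matrix and p ≤ n. For any choice of p rows, the minor of X·t·u
formed with these rows and the first p columns equals (t_11 ⋯ t_pp) times the corresponding minor of
X: the minors on the first p columns are semi-invariant of weight ω_p under right multiplication by
the upper triangular group. (The published statement is for the generic matrix over an algebraically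
closed field; this row states the identity over any commutative ring.) -/
theorem result (R : Type u) [CommRing R] (m n p : ℕ) (hp : p ≤ n)
    (X : Matrix (Fin m) (Fin n) R) (d : Fin n → R) (u : Matrix (Fin n) (Fin n) R)
    (hu1 : ∀ i, u i i = 1) (hu0 : ∀ i j, j < i → u i j = 0) (I : Fin p → Fin m) :
    ((X * Matrix.diagonal d * u).submatrix I (Fin.castLE hp)).det =
      (∏ i : Fin p, d (Fin.castLE hp i)) * (X.submatrix I (Fin.castLE hp)).det := by
  have hsub : (X * Matrix.diagonal d * u).submatrix I (Fin.castLE hp) =
      (X.submatrix I (Fin.castLE hp)) * (Matrix.diagonal (fun i : Fin p => d (Fin.castLE hp i))) *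
        (u.submatrix (Fin.castLE hp) (Fin.castLE hp)) := by
    ext a c
    simp only [Matrix.submatrix_apply, Matrix.mul_apply, Matrix.mul_diagonal]
    symm
    have hinj : Function.Injective (Fin.castLE hp) := Fin.castLE_injective hp
    rw [← Finset.sum_subset (Finset.subset_univ (Finset.univ.map ⟨Fin.castLE hp, hinj⟩))]
    · rw [Finset.sum_map]
      apply Finset.sum_congr rfl
      intro x _
      show _ = (∑ j, X (I a) j * Matrix.diagonal d j (Fin.castLE hp x)) * u (Fin.castLE hp x) (Fin.castLE hp c)
      congr 1
      simp [Matrix.diagonal_apply]
    · intro k _ hk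
      have hlt : Fin.castLE hp c < k := by
        by_contra hcon
        apply hk
        have hkp : k.val < p := lt_of_le_of_lt (not_lt.mp hcon) c.isLt
        exact Finset.mem_map.mpr ⟨⟨k.val, hkp⟩, Finset.mem_univ _, rfl⟩
      rw [hu0 _ _ hlt, mul_zero]
  rw [hsub, Matrix.det_mul, Matrix.det_mul, Matrix.det_diagonal]
  have hu : (u.submatrix (Fin.castLE hp) (Fin.castLE hp)).det = 1 := by
    rw [Matrix.det_of_upperTriangular]
    · simp [hu1]
    · intro i j hij
      exact hu0 _ _ hij
  rw [hu, mul_one, mul_comm]
end Groth.Agent.S11239
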