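import Groth.Statements.S11271
import Mathlib

set_option autoImplicit false
universe u
open W4bk4grassmannian

namespace Groth.Agent.S11271

open W4bk4grassmannian in
/-- Semistable matrices are the matrices of full rank: let K be an algebraically closed field, 0 < d <
n, and let SL_d(K) act on n × d matrices by right multiplication; a matrix A is semistable when the
zero matrix is not in the Zariski closure of its orbit, i.e. when some polynomial in the entries
vanishes at A g for every g ∈ SL_d(K) but not at 0. Then A is semistable if and only if its columns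
are linearly independent. -/
theorem result (K : Type u) [Field K]
    [IsAlgClosed K] (d n : ℕ) (hd : 0 < d) (hdn : d < n) (A : Matrix (Fin n) (Fin d) K) :
    LinearIndependent K A.transpose ↔
      ∃ f : MatRing K d n, (∀ g : Matrix.SpecialLinearGroup (Fin d) K,
        MvPolynomial.eval (fun p : Fin n × Fin d => (A * (g : Matrix (Fin d) (Fin d) K)) p.1 p.2) f = 0) ∧
        MvPolynomial.eval (fun _ : Fin n × Fin d => (0 : K)) f ≠ 0 := by
  constructor
  · intro hA
    have hinj : Function.Injective A.mulVecLin := by
      have := Matrix.mulVec_injective_iff.mpr hA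
      exact this
    obtain ⟨g, hg⟩ := LinearMap.exists_leftInverse_of_injective A.mulVecLin (LinearMap.ker_eq_bot.mpr hinj)
    let B : Matrix (Fin d) (Fin n) K := LinearMap.toMatrix' g
    have hBA : B * A = 1 := by
      have h1 := congrArg LinearMap.toMatrix' hg
      rw [LinearMap.toMatrix'_comp, LinearMap.toMatrix'_id] at h1
      have h2 : LinearMap.toMatrix' A.mulVecLin = A := by rw [← Matrix.toLin'_apply', LinearMap.toMatrix'_toLin']
      rw [h2] at h1
      exact h1
    refine ⟨(Matrix.of fun s t : Fin d => ∑ i : Fin n, MvPolynomial.C (B s i) * MvPolynomial.X (i, t)).det - 1, ?_, ?_⟩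
    · intro g
      rw [map_sub, map_one, RingHom.map_det]
      have : (RingHom.mapMatrix (MvPolynomial.eval (fun p : Fin n × Fin d => (A * (g : Matrix (Fin d) (Fin d) K)) p.1 p.2)))
          (Matrix.of fun s t : Fin d => ∑ i : Fin n, MvPolynomial.C (B s i) * MvPolynomial.X (i, t)) =
          B * (A * (g : Matrix (Fin d) (Fin d) K)) := by
        ext s t
        simp [Matrix.mul_apply]
      rw [this, ← Matrix.mul_assoc, hBA, Matrix.one_mul]
      have : (g : Matrix (Fin d) (Fin d) K).det = 1 := g.2
      rw [this, sub_self]
    · rw [map_sub, map_one, RingHom.map_det]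
      have : (RingHom.mapMatrix (MvPolynomial.eval (fun _ : Fin n × Fin d => (0 : K))))
          (Matrix.of fun s t : Fin d => ∑ i : Fin n, MvPolynomial.C (B s i) * MvPolynomial.X (i, t)) = 0 := by
        ext s t
        simp
      have hne : Nonempty (Fin d) := ⟨⟨0, hd⟩⟩
      rw [this, Matrix.det_zero, zero_sub]
      exact neg_ne_zero.mpr one_ne_zero
  · rintro ⟨f, hf, hf0⟩
    by_contra hA
    have hninj : ¬ Function.Injective A.mulVec := by
      intro h
      exact hA (Matrix.mulVec_injective_iff.mp h)
    obtain ⟨v, hv, hv0⟩ : ∃ v : Fin d → K, A.mulVec v = 0 ∧ v ≠ 0 := by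
      have : ¬ Function.Injective A.mulVecLin := hninj
      rw [← LinearMap.ker_eq_bot] at this
      obtain ⟨v, hv, hv0⟩ := Submodule.exists_mem_ne_zero_of_ne_bot this
      exact ⟨v, hv, hv0⟩
    obtain ⟨j0, hj0⟩ := Function.ne_iff.mp hv0
    rw [Pi.zero_apply] at hj0
    let w : Fin d → K := (v j0)⁻¹ • v
    have hw : A.mulVec w = 0 := by
      show A.mulVec ((v j0)⁻¹ • v) = 0
      rw [Matrix.mulVec_smul, hv, smul_zero]
    have hwj : w j0 = 1 := inv_mul_cancel₀ hj0
    let g0 : Matrix (Fin d) (Fin d) K := (1 : Matrix (Fin d) (Fin d) K).updateCol j0 w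
    have hg0 : g0.det = 1 := by
      have : g0.det = Matrix.cramer (1 : Matrix (Fin d) (Fin d) K) w j0 := rfl
      rw [this, Matrix.cramer_one]
      exact hwj
    let M : Matrix (Fin n) (Fin d) K := A * g0
    have hM : ∀ i, M i j0 = 0 := by
      intro i
      have h1 := congrFun hw i
      show ∑ j, A i j * g0 j j0 = 0
      have h2 : ∀ j, g0 j j0 = w j := fun j => Matrix.updateCol_self
      simp only [h2]
      exact h1
    let P : Polynomial K := MvPolynomial.aeval (fun p : Fin n × Fin d => Polynomial.C (M p.1 p.2) * Polynomial.X) f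
    have hPeval : ∀ t : K, P.eval t = MvPolynomial.eval (fun p : Fin n × Fin d => M p.1 p.2 * t) f := by
      intro t
      show (Polynomial.evalRingHom t) (MvPolynomial.aeval _ f) = _
      rw [MvPolynomial.aeval_def, MvPolynomial.eval₂_eq', MvPolynomial.eval_eq']
      rw [map_sum]
      apply Finset.sum_congr rfl
      intro s _
      simp only [map_mul]
      congr 1
      · simp
      · rw [map_prod]
        simp
    have hroot : ∀ t : K, t ≠ 0 → P.eval t = 0 := by
      intro t ht
      rw [hPeval]
      let D : Matrix (Fin d) (Fin d) K := Matrix.diagonal (fun j => if j = j0 then (t ^ (d - 1))⁻¹ else t)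
      have hD : D.det = 1 := by
        rw [Matrix.det_diagonal, Finset.prod_ite, Finset.prod_const, Finset.prod_const]
        have h1 : (Finset.univ.filter (fun x : Fin d => x = j0)).card = 1 := by
          rw [Finset.filter_eq' Finset.univ j0]; simp
        have h2 : (Finset.univ.filter (fun x : Fin d => ¬ x = j0)).card = d - 1 := by
          rw [Finset.filter_ne' Finset.univ j0, Finset.card_erase_of_mem (Finset.mem_univ _), Finset.card_univ,
            Fintype.card_fin]
        rw [h1, h2, pow_one, inv_mul_cancel₀ (pow_ne_zero _ ht)]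
      have h3 := hf ⟨g0 * D, by rw [Matrix.det_mul, hg0, hD, one_mul]⟩
      have h4 : (fun p : Fin n × Fin d => M p.1 p.2 * t) = (fun p : Fin n × Fin d => (A * (g0 * D)) p.1 p.2) := by
        funext p
        rw [← Matrix.mul_assoc]
        show M p.1 p.2 * t = (M * D) p.1 p.2
        rw [Matrix.mul_diagonal]
        by_cases hp : p.2 = j0
        · rw [hp, hM, zero_mul, zero_mul]
        · rw [if_neg hp]
      rw [h4]
      exact h3
    have hP0 : P = 0 := by
      apply Polynomial.eq_zero_of_infinite_isRoot
      apply Set.Infinite.mono (s := {t : K | t ≠ 0})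
      · intro t ht
        exact hroot t ht
      · exact (Set.finite_singleton (0 : K)).infinite_compl
    apply hf0
    have := hPeval 0
    rw [hP0, Polynomial.eval_zero] at this
    simp only [mul_zero] at this
    exact this.symm
end Groth.Agent.S11271
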