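import Groth.Statements.S11288
import Mathlib

set_option autoImplicit false
universe u
open Deform

namespace Groth.Agent.S11288

/-- Let K be a field, R' a local Artinian K-algebra with residue field K, and t a nonzero element of the
maximal ideal m' of R' with m' t = 0, so that R' → R = R'/(t) is a small extension of R. Then the
extension is trivial, i.e. the projection admits a section which is a K-algebra map, if and only if
t is not in m'^2. Equivalently the surjection m'/m'^2 → m_R/m_R^2 induced on cotangent spaces, whose
kernel is spanned by the class of t, is not bijective, and for instance K[t]/(t^(n+1)) → K[t]/(t^n)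
is a non-trivial small extension for n ≥ 2; neither the reformulation nor the example is part of
this statement. (The published example allows any local K-algebra with residue field K; the row
takes R' Artinian, the case in which the subalgebra generated by lifts of a basis of the cotangent
space maps onto R.) -/
theorem result
    {K : Type u} [Field K]
    {R' : Type u} [CommRing R'] [Algebra K R'] [IsLocalRing R'] [IsArtinianRing R']
    (hres : ∀ a : R', ∃ c : K, a - algebraMap K R' c ∈ IsLocalRing.maximalIdeal R')
    (t : R') (ht : t ∈ IsLocalRing.maximalIdeal R') (ht0 : t ≠ 0)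
    (htm : ∀ a ∈ IsLocalRing.maximalIdeal R', a * t = 0) :
    (∃ s : (R' ⧸ Ideal.span {t}) →ₐ[K] R', ∀ x, Ideal.Quotient.mk (Ideal.span {t}) (s x) = x) ↔
      t ∉ IsLocalRing.maximalIdeal R' ^ 2 := by
  constructor
  · rintro ⟨s, hs⟩ htm2
    apply ht0
    have hts : ∀ x : R', ∃ c : R', x = s (Ideal.Quotient.mk _ x) + c * t := by
      intro x
      have h1 : Ideal.Quotient.mk (Ideal.span {t}) x = Ideal.Quotient.mk (Ideal.span {t}) (s (Ideal.Quotient.mk _ x)) := (hs _).symm
      rw [Ideal.Quotient.eq] at h1
      obtain ⟨c, hc⟩ := Ideal.mem_span_singleton'.mp h1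
      exact ⟨c, by rw [hc]; ring⟩
    have hsm : ∀ x ∈ IsLocalRing.maximalIdeal R', s (Ideal.Quotient.mk _ x) ∈ IsLocalRing.maximalIdeal R' := by
      intro x hx
      obtain ⟨c, hc⟩ := hts x
      have : s (Ideal.Quotient.mk _ x) = x - c * t := by
        rw [eq_sub_iff_add_eq]; exact hc.symm
      rw [this]
      exact Ideal.sub_mem _ hx (Ideal.mul_mem_left _ _ ht)
    have key : ∀ z ∈ IsLocalRing.maximalIdeal R' ^ 2, z = s (Ideal.Quotient.mk _ z) := by
      intro z hz
      rw [pow_two] at hz
      refine Submodule.mul_induction_on hz ?_ ?_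
      · intro a ha b hb
        obtain ⟨c, hc⟩ := hts a
        obtain ⟨d, hd⟩ := hts b
        have h1 := htm _ (hsm a ha)
        have h2 := htm _ (hsm b hb)
        have h3 := htm _ ht
        calc a * b = (s (Ideal.Quotient.mk _ a) + c * t) * (s (Ideal.Quotient.mk _ b) + d * t) := by rw [← hc, ← hd]
          _ = s (Ideal.Quotient.mk _ a) * s (Ideal.Quotient.mk _ b) + d * (s (Ideal.Quotient.mk _ a) * t) +
              c * (s (Ideal.Quotient.mk _ b) * t) + c * d * (t * t) := by ring
          _ = s (Ideal.Quotient.mk _ (a * b)) := by rw [h1, h2, h3, map_mul, map_mul]; ring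
      · intro x y hx hy
        rw [map_add, map_add, ← hx, ← hy]
    rw [key t htm2]
    have : Ideal.Quotient.mk (Ideal.span {t}) t = 0 := Ideal.Quotient.eq_zero_iff_mem.mpr (Ideal.mem_span_singleton_self t)
    rw [this, map_zero]
  · intro htm2
    let W : Submodule K R' := (Submodule.span K {(1 : R')}) ⊔ (IsLocalRing.maximalIdeal R' ^ 2).restrictScalars K
    have htW : t ∉ W := by
      intro h
      obtain ⟨y, hy, z, hz, hyz⟩ := Submodule.mem_sup.mp h
      obtain ⟨c, rfl⟩ := Submodule.mem_span_singleton.mp hy
      have hz' : z ∈ IsLocalRing.maximalIdeal R' ^ 2 := hz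
      by_cases hc : c = 0
      · rw [hc, zero_smul, zero_add] at hyz
        rw [hyz] at hz'
        exact htm2 hz'
      · have h1 : c • (1 : R') ∈ IsLocalRing.maximalIdeal R' := by
          have : c • (1 : R') = t - z := by rw [← hyz]; ring
          rw [this]
          exact Ideal.sub_mem _ ht (Ideal.pow_le_self two_ne_zero hz')
        have h2 : (1 : R') ∈ IsLocalRing.maximalIdeal R' := by
          have h3 := (IsLocalRing.maximalIdeal R').mul_mem_left (algebraMap K R' c⁻¹) h1
          rw [← Algebra.smul_def, smul_smul, inv_mul_cancel₀ hc, one_smul] at h3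
          exact h3
        exact (IsLocalRing.maximalIdeal.isMaximal R').ne_top ((Ideal.eq_top_iff_one _).mpr h2)
    obtain ⟨l, hlt, hlW⟩ := Submodule.exists_dual_map_eq_bot_of_notMem htW inferInstance
    have hl0 : ∀ w ∈ W, l w = 0 := by
      intro w hw
      have h1 : l w ∈ W.map l := Submodule.mem_map_of_mem hw
      rw [hlW] at h1
      exact h1
    let μ : R' →ₗ[K] K := (l t)⁻¹ • l
    have hμt : μ t = 1 := inv_mul_cancel₀ hlt
    have hμW : ∀ w ∈ W, μ w = 0 := by
      intro w hw
      show (l t)⁻¹ * l w = 0
      rw [hl0 w hw, mul_zero]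
    have hμ1 : μ 1 = 0 := hμW 1 (Submodule.mem_sup_left (Submodule.mem_span_singleton_self 1))
    have hμm : ∀ a ∈ IsLocalRing.maximalIdeal R', ∀ b ∈ IsLocalRing.maximalIdeal R', μ (a * b) = 0 := by
      intro a ha b hb
      apply hμW
      apply Submodule.mem_sup_right
      show a * b ∈ IsLocalRing.maximalIdeal R' ^ 2
      rw [pow_two]
      exact Ideal.mul_mem_mul ha hb
    have hμalg : ∀ c : K, μ (algebraMap K R' c) = 0 := by
      intro c
      rw [Algebra.algebraMap_eq_smul_one, map_smul, hμ1, smul_zero]
    have hmulφ : ∀ x y : R', (x * y - μ (x * y) • t) = (x - μ x • t) * (y - μ y • t) := by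
      intro x y
      obtain ⟨c, hc⟩ := hres x
      obtain ⟨d, hd⟩ := hres y
      obtain ⟨x', hx'⟩ : ∃ x', x' = x - algebraMap K R' c := ⟨_, rfl⟩
      obtain ⟨y', hy'⟩ : ∃ y', y' = y - algebraMap K R' d := ⟨_, rfl⟩
      rw [← hx'] at hc
      rw [← hy'] at hd
      have hx : x = algebraMap K R' c + x' := by rw [hx']; ring
      have hy : y = algebraMap K R' d + y' := by rw [hy']; ring
      have h1 := htm _ hc
      have h2 := htm _ hd
      have h3 := htm _ ht
      have h4 : μ x = μ x' := by rw [hx, map_add, hμalg, zero_add]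
      have h5 : μ y = μ y' := by rw [hy, map_add, hμalg, zero_add]
      have h6 : μ (x * y) = c * μ y' + d * μ x' := by
        have : x * y = algebraMap K R' (c * d) + c • y' + d • x' + x' * y' := by
          rw [hx, hy, Algebra.smul_def, Algebra.smul_def, map_mul]; ring
        rw [this, map_add, map_add, map_add, hμalg, map_smul, map_smul, hμm _ hc _ hd, smul_eq_mul, smul_eq_mul]
        ring
      rw [h6, h4, h5, Algebra.smul_def, Algebra.smul_def, Algebra.smul_def, map_add, map_mul, map_mul]
      have h7 : (x - algebraMap K R' (μ x') * t) * (y - algebraMap K R' (μ y') * t) =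
          x * y - algebraMap K R' (μ y') * (x * t) - algebraMap K R' (μ x') * (y * t) +
            algebraMap K R' (μ x') * algebraMap K R' (μ y') * (t * t) := by ring
      have h8 : x * t = algebraMap K R' c * t := by rw [hx, add_mul, h1, add_zero]
      have h9 : y * t = algebraMap K R' d * t := by rw [hy, add_mul, h2, add_zero]
      rw [h7, h3, h8, h9]
      ring
    let φ : R' →ₐ[K] R' :=
      { toFun := fun x => x - μ x • t
        map_one' := by rw [hμ1, zero_smul, sub_zero]
        map_mul' := hmulφ
        map_zero' := by rw [map_zero, zero_smul, sub_zero]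
        map_add' := fun x y => by rw [map_add, add_smul]; ring
        commutes' := fun c => by rw [hμalg, zero_smul, sub_zero] }
    have hφt : ∀ a ∈ Ideal.span {t}, φ a = 0 := by
      intro a ha
      obtain ⟨c, rfl⟩ := Ideal.mem_span_singleton'.mp ha
      have h1 : φ t = 0 := by
        show t - μ t • t = 0
        rw [hμt, one_smul, sub_self]
      rw [map_mul, h1, mul_zero]
    refine ⟨Ideal.Quotient.liftₐ _ φ hφt, ?_⟩
    intro x
    obtain ⟨y, rfl⟩ := Ideal.Quotient.mk_surjective x
    show Ideal.Quotient.mk _ (y - μ y • t) = Ideal.Quotient.mk _ y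
    rw [Ideal.Quotient.eq]
    have : y - μ y • t - y = - (algebraMap K R' (μ y) * t) := by rw [Algebra.smul_def]; ring
    rw [this]
    exact Ideal.neg_mem_iff _ |>.mpr (Ideal.mul_mem_left _ _ (Ideal.mem_span_singleton_self t))
end Groth.Agent.S11288
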