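import Groth.Statements.S11306
import Mathlib

set_option autoImplicit false
universe u
open TensorProduct
open CAlg

namespace Groth.Agent.S11306

/-- Take a Noetherian local domain A, with residue field k and fraction field K, and let M be a finitely
generated A-module. If k ⊗_A M and K ⊗_A M have the same dimension r (over k and over K
respectively), then M is a free A-module of rank r. -/
theorem result (A : Type u) [CommRing A] [IsDomain A]
    [IsNoetherianRing A] [IsLocalRing A] (M : Type u) [AddCommGroup M] [Module A M] [Module.Finite A M] (r : ℕ)
    (hk : Module.finrank (IsLocalRing.ResidueField A) (IsLocalRing.ResidueField A ⊗[A] M) = r)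
    (hK : Module.finrank (FractionRing A) (FractionRing A ⊗[A] M) = r) :
    Module.Free A M ∧ Module.finrank A M = r := by
  -- generators from Nakayama
  have hgen : ∃ f : (Fin r → A) →ₗ[A] M, Function.Surjective f := by
    have hfd : Module.Finite (IsLocalRing.ResidueField A) (IsLocalRing.ResidueField A ⊗[A] M) := inferInstance
    let b := Module.finBasisOfFinrankEq (IsLocalRing.ResidueField A) (IsLocalRing.ResidueField A ⊗[A] M) hk
    have hsurj : Function.Surjective (TensorProduct.mk A (IsLocalRing.ResidueField A) M 1) :=
      TensorProduct.mk_surjective A M (IsLocalRing.ResidueField A) IsLocalRing.residue_surjective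
    choose g hg using fun i => hsurj (b i)
    have hspan : Submodule.span A (Set.range g) = ⊤ := IsLocalRing.span_eq_top_of_tmul_eq_basis g b hg
    refine ⟨Fintype.linearCombination A g, ?_⟩
    rw [← LinearMap.range_eq_top, Fintype.range_linearCombination]
    exact hspan
  obtain ⟨f, hf⟩ := hgen
  have hinj : Function.Injective f := by
    let F := FractionRing A
    have hs : Function.Surjective (f.baseChange F) := LinearMap.lTensor_surjective F hf
    have hfr : Module.finrank F (F ⊗[A] (Fin r → A)) = Module.finrank F (F ⊗[A] M) := by
      rw [hK, Module.finrank_baseChange, Module.finrank_fintype_fun_eq_card, Fintype.card_fin]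
    have hi : Function.Injective (f.baseChange F) :=
      (LinearMap.injective_iff_surjective_of_finrank_eq_finrank hfr).mpr hs
    intro x y hxy
    have h1 : (f.baseChange F) (1 ⊗ₜ x) = (f.baseChange F) (1 ⊗ₜ y) := by
      rw [LinearMap.baseChange_tmul, LinearMap.baseChange_tmul, hxy]
    have h2 := hi h1
    have h3 : Function.Injective (fun z : Fin r → A => (1 : F) ⊗ₜ[A] z) := by
      have h4 := Module.Flat.rTensor_preserves_injective_linearMap (M := (Fin r → A)) (Algebra.linearMap A F)
        (IsFractionRing.injective A F)
      intro z z' hzz
      have h5 : (Algebra.linearMap A F).rTensor (Fin r → A) (1 ⊗ₜ z) = (Algebra.linearMap A F).rTensor (Fin r → A) (1 ⊗ₜ z') := by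
        rw [LinearMap.rTensor_tmul, LinearMap.rTensor_tmul, Algebra.linearMap_apply, map_one]
        exact hzz
      have h6 := h4 h5
      have h7 := congrArg (TensorProduct.lid A (Fin r → A)) h6
      simpa using h7
    exact h3 h2
  let e := LinearEquiv.ofBijective f ⟨hinj, hf⟩
  refine ⟨Module.Free.of_equiv e, ?_⟩
  rw [← e.finrank_eq, Module.finrank_fintype_fun_eq_card, Fintype.card_fin]
end Groth.Agent.S11306
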