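import Groth.Statements.S12071
import Mathlib
-- import your own Groth.Agent.* helpers here

set_option autoImplicit false
open RootD

namespace Groth.Agent.S12071

/-- Let G be the group generated by two elements x, y subject to x² = y² = 1 (the infinite dihedral
group; here Mathlib's DihedralGroup 0 with x = sr 0 and y = sr 1, so that x y = r 1). Then every
normal subgroup of G containing neither x nor y is generated by an element (x y)^n with n > 0; such
a subgroup is cyclic, generated by r n. (The published statement does not exclude the trivial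
subgroup, for which no n > 0 works; this row assumes the subgroup nontrivial.) -/
theorem result (N : Subgroup (DihedralGroup 0)) [N.Normal]
    (hN : N ≠ ⊥) (hx : DihedralGroup.sr (0 : ZMod 0) ∉ N) (hy : DihedralGroup.sr (1 : ZMod 0) ∉ N) :
    ∃ n : ℕ, 0 < n ∧ N = Subgroup.zpowers (DihedralGroup.r (n : ZMod 0)) := by
  have hrot : ∀ i : ℤ, DihedralGroup.sr (show ZMod 0 from i) ∉ N := by
    intro i hi
    have hconj : ∀ j : ℤ, DihedralGroup.sr (show ZMod 0 from (i + 2 * j : ℤ)) ∈ N := by
      intro j
      have h1 := (inferInstance : N.Normal).conj_mem _ hi (DihedralGroup.r (-(show ZMod 0 from j)))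
      rw [DihedralGroup.r_mul_sr, DihedralGroup.inv_r, DihedralGroup.sr_mul_r] at h1
      have : (show ZMod 0 from i) - -(show ZMod 0 from j) + - -(show ZMod 0 from j) = (show ZMod 0 from (i + 2 * j : ℤ)) := by
        change (i : ℤ) - -j + - -j = i + 2 * j
        ring
      rwa [this] at h1
    have hi' : i % 2 = 0 ∨ i % 2 = 1 := by omega
    rcases hi' with h | h
    · apply hx
      have h2 := hconj (-(i / 2 : ℤ))
      have h3 : i + 2 * (-(i / 2 : ℤ)) = 0 := by omega
      rw [h3] at h2
      exact h2
    · apply hy
      have h2 := hconj (-(i / 2 : ℤ))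
      have h3 : i + 2 * (-(i / 2 : ℤ)) = 1 := by omega
      rw [h3] at h2
      exact h2
  let H : AddSubgroup ℤ :=
    { carrier := {i : ℤ | DihedralGroup.r (show ZMod 0 from i) ∈ N}
      add_mem' := fun {a b} ha hb => by
        have := N.mul_mem ha hb
        rw [DihedralGroup.r_mul_r] at this
        exact this
      zero_mem' := N.one_mem
      neg_mem' := fun {a} ha => by
        have := N.inv_mem ha
        rw [DihedralGroup.inv_r] at this
        exact this }
  obtain ⟨a, ha⟩ := Int.subgroup_cyclic H
  have hmem : ∀ i : ℤ, DihedralGroup.r (show ZMod 0 from i) ∈ N ↔ a ∣ i := by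
    intro i
    have : i ∈ H ↔ a ∣ i := by
      rw [ha, AddSubgroup.mem_closure_singleton]
      constructor
      · rintro ⟨z, hz⟩
        exact ⟨z, by rw [← hz, smul_eq_mul, mul_comm]⟩
      · rintro ⟨z, hz⟩
        exact ⟨z, by rw [hz, smul_eq_mul, mul_comm]⟩
    exact this
  have ha0 : a ≠ 0 := by
    intro h0
    apply hN
    rw [eq_bot_iff]
    intro x hxN
    rcases x with i | i
    · have := (hmem i).1 hxN
      rw [h0, zero_dvd_iff] at this
      rw [Subgroup.mem_bot]
      change DihedralGroup.r i = DihedralGroup.r 0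
      exact congrArg DihedralGroup.r this
    · exact absurd hxN (hrot i)
  have hpow : ∀ (n : ℕ) (m : ℤ), (DihedralGroup.r (n : ZMod 0)) ^ m = DihedralGroup.r (show ZMod 0 from (n : ℤ) * m) := by
    intro n m
    rw [DihedralGroup.r_zpow]
    rfl
  refine ⟨a.natAbs, Int.natAbs_pos.2 ha0, ?_⟩
  ext x
  rw [Subgroup.mem_zpowers_iff]
  rcases x with i | i
  · constructor
    · intro h
      have h1 := (hmem i).1 h
      obtain ⟨m, hm⟩ := Int.natAbs_dvd.2 h1
      refine ⟨m, ?_⟩
      rw [hpow, ← hm]
    · rintro ⟨m, hm⟩
      rw [hpow] at hm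
      rw [← hm]
      exact (hmem _).2 (Int.natAbs_dvd.1 (Dvd.intro _ rfl))
  · constructor
    · intro h; exact absurd h (hrot i)
    · rintro ⟨m, hm⟩
      rw [hpow] at hm
      exact absurd hm (by simp)
end Groth.Agent.S12071
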