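import Groth.Statements.S12249
import Groth.Agent.Lib.Helper18_ArtFun
-- import your own Groth.Agent.* helpers here

set_option autoImplicit false
universe u v
open CategoryTheory
open Deform

namespace Groth.Agent.S12249

/-- Let k be an algebraically closed field and F a set-valued functor on local Artinian k-algebras with
residue field k such that F(k) is a single point. If F has a semiuniversal formal element and its
tangent space F(k[ε]) is reduced to one element, then F(A) consists of exactly one element for every
A: F is the constant one-point functor h_k. -/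
theorem result
    {k : Type u} [Field k] [IsAlgClosed k]
    (F : ArtFun.Art k k ⥤ Type v) (h0 : ArtFun.H0 F) (hF : ArtFun.HasHull F)
    (ht : Subsingleton (ArtFun.TangentSpace F)) (A : ArtFun.Art k k) :
    Nonempty (F.obj A) ∧ Subsingleton (F.obj A) := by
  obtain ⟨H⟩ := hF
  set R := H.ring with hR
  set ξ := H.family with hξ
  have hmin := H.miniversal
  have hmax : RingHom.ker R.res = IsLocalRing.maximalIdeal R.carrier := by
    ext a
    rw [ArtFun.CRing.mem_maximalIdeal_iff]
    rfl
  have hsub : Subsingleton (ArtFun.HomSet R.carrier R.res (ArtFun.Art.dual k k)) := by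
    refine ⟨fun a b => hmin.2.1 ?_⟩
    exact @Subsingleton.elim _ ht _ _
  have hm2 : IsLocalRing.maximalIdeal R.carrier ≤ ⊥ ⊔ IsLocalRing.maximalIdeal R.carrier • IsLocalRing.maximalIdeal R.carrier := by
    intro x hx
    have h1 : x ∈ (RingHom.ker R.res) ^ 2 ⊔ (RingHom.ker (algebraMap k k)).map (algebraMap k R.carrier) := by
      apply Groth.Agent.H18ArtFun.mem_of_forall_dual Function.surjective_id
      · exact (ArtFun.CRing.mem_maximalIdeal_iff R x).1 hx
      · intro χ
        let χ0 : ArtFun.HomSet R.carrier R.res (ArtFun.Art.dual k k) :=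
          ArtFun.HomSet.map (ArtFun.Art.baseToDual) (⟨R.res, AlgHom.id_comp _⟩ : ArtFun.HomSet R.carrier R.res (ArtFun.Art.base k k))
        have : χ = χ0 := Subsingleton.elim _ _
        rw [this]
        change TrivSqZeroExt.snd (algebraMap k (DualNumber k) (R.res x)) = 0
        rw [(ArtFun.CRing.mem_maximalIdeal_iff R x).1 hx, map_zero]
        rfl
    have hbot : (RingHom.ker (algebraMap k k)).map (algebraMap k R.carrier) = ⊥ := by
      rw [(RingHom.injective_iff_ker_eq_bot _).1 (algebraMap k k).injective, Ideal.map_bot]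
    rw [hbot, sup_bot_eq, hmax, pow_two] at h1
    exact Ideal.mem_sup_right h1
  have hfg : (IsLocalRing.maximalIdeal R.carrier).FG := IsNoetherian.noetherian _
  have hbot : IsLocalRing.maximalIdeal R.carrier ≤ ⊥ :=
    Submodule.le_of_le_smul_of_le_jacobson_bot hfg (IsLocalRing.maximalIdeal_le_jacobson _) hm2
  have hRsub : Subsingleton (ArtFun.HomSet R.carrier R.res A) := by
    refine ⟨fun a b => Subtype.ext (AlgHom.ext fun x => ?_)⟩
    have hx : x - algebraMap k R.carrier (R.res x) = 0 := by
      have : x - algebraMap k R.carrier (R.res x) ∈ IsLocalRing.maximalIdeal R.carrier := by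
        rw [ArtFun.CRing.mem_maximalIdeal_iff, map_sub, AlgHom.commutes]
        exact sub_self _
      exact (Submodule.mem_bot _).1 (hbot this)
    rw [sub_eq_zero.1 hx, AlgHom.commutes, AlgHom.commutes]
  have hsurj : Function.Surjective (ξ.app A) := by
    intro y
    have := h0.2
    obtain ⟨ψ, _, h⟩ := hmin.1 (ArtFun.Art.toBase A) (Groth.Agent.H18ArtFun.toBase_surjective A) ⟨R.res, AlgHom.id_comp _⟩ y (Subsingleton.elim _ _)
    exact ⟨ψ, h⟩
  refine ⟨⟨ξ.app A ⟨(Algebra.ofId k A.carrier).comp R.res, ?_⟩⟩, ?_⟩
  · apply AlgHom.ext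
    intro x
    change A.res (algebraMap k A.carrier (R.res x)) = R.res x
    rw [AlgHom.commutes]
    rfl
  · refine ⟨fun x y => ?_⟩
    obtain ⟨a, rfl⟩ := hsurj x
    obtain ⟨b, rfl⟩ := hsurj y
    rw [Subsingleton.elim a b]
end Groth.Agent.S12249
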