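import Groth.Statements.S12250
import Groth.Agent.Lib.Helper18_ArtFun
-- import your own Groth.Agent.* helpers here

set_option autoImplicit false
universe u v
open CategoryTheory
open Deform

namespace Groth.Agent.S12250

/-- Let k be an algebraically closed field, Λ a complete local Noetherian k-algebra with residue field
k, R a complete local Noetherian Λ-algebra with residue field k and F a set-valued functor on local
Artinian Λ-algebras with residue field k. Then the map sending a morphism of functors h_R → F to its
formal element (the compatible sequence of its values on the quotient maps R → R/m^(n+1), n ≥ 0) is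
a bijection between morphisms h_R → F and formal elements of F over R. -/
theorem result
    {k Λ : Type u} [Field k] [IsAlgClosed k] [CommRing Λ] [IsLocalRing Λ] [IsNoetherianRing Λ]
    [IsAdicComplete (IsLocalRing.maximalIdeal Λ) Λ] [Algebra k Λ] [Algebra Λ k] [IsScalarTower k Λ k]
    (R : ArtFun.CRing Λ k) (F : ArtFun.Art Λ k ⥤ Type v) :
    Function.Bijective (fun ξ : ArtFun.Family R.carrier R.res F => ξ.toFormalElt) := by
  constructor
  · intro ξ ξ' h
    exact Groth.Agent.H18ArtFun.family_ext _ _ fun n => congrArg (fun t : ArtFun.FormalElt F R => t.elt n) h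
  · intro u
    have trans : ∀ (n d : ℕ), ∃ t : R.trunc (n + d) ⟶ R.trunc n,
        ArtFun.HomSet.map t (R.truncHom (n + d)) = R.truncHom n ∧ F.map t (u.elt (n + d)) = u.elt n := by
      intro n d
      induction d with
      | zero => exact ⟨𝟙 _, Subtype.ext (AlgHom.ext fun _ => rfl), by simp⟩
      | succ d ih =>
        obtain ⟨t, h1, h2⟩ := ih
        refine ⟨R.truncMap (n + d) ≫ t, ?_, ?_⟩
        · rw [← h1, ← ArtFun.CRing.truncMap_truncHom R (n + d)]
          rfl
        · rw [F.map_comp]
          change F.map t (F.map (R.truncMap (n + d)) (u.elt (n + d + 1))) = _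
          rw [u.compat, h2]
    have indep' : ∀ {A : ArtFun.Art Λ k} (n d : ℕ) (g : R.trunc n ⟶ A) (g' : R.trunc (n + d) ⟶ A),
        ArtFun.HomSet.map g (R.truncHom n) = ArtFun.HomSet.map g' (R.truncHom (n + d)) →
          F.map g (u.elt n) = F.map g' (u.elt (n + d)) := by
      intro A n d g g' h
      obtain ⟨t, h1, h2⟩ := trans n d
      have : t ≫ g = g' := by
        apply Groth.Agent.H18ArtFun.hom_ext_trunc
        rw [← h, ← h1]
        rfl
      rw [← this, ← h2, F.map_comp]
      rfl
    have indep : ∀ {A : ArtFun.Art Λ k} (n m : ℕ) (g : R.trunc n ⟶ A) (g' : R.trunc m ⟶ A),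
        ArtFun.HomSet.map g (R.truncHom n) = ArtFun.HomSet.map g' (R.truncHom m) →
          F.map g (u.elt n) = F.map g' (u.elt m) := by
      intro A n m g g' h
      rcases Nat.le_total n m with hnm | hnm
      · obtain ⟨d, rfl⟩ := Nat.exists_eq_add_of_le hnm
        exact indep' n d g g' h
      · obtain ⟨d, rfl⟩ := Nat.exists_eq_add_of_le hnm
        exact (indep' m d g' g h.symm).symm
    choose N G hG using fun (A : ArtFun.Art Λ k) (φ : ArtFun.HomSet R.carrier R.res A) =>
      Groth.Agent.H18ArtFun.exists_factor R φ
    refine ⟨⟨fun A φ => F.map (G A φ) (u.elt (N A φ)), fun {A B} f φ => ?_⟩, ?_⟩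
    · have : F.map f (F.map (G A φ) (u.elt (N A φ))) = F.map (G A φ ≫ f) (u.elt (N A φ)) := by
        rw [F.map_comp]; rfl
      rw [this]
      apply indep
      rw [hG]
      conv_lhs => rw [← hG A φ]
      rfl
    · apply ArtFun.FormalElt.ext'
      intro n
      change F.map (G _ (R.truncHom n)) (u.elt _) = u.elt n
      have := indep _ n (G _ (R.truncHom n)) (𝟙 _) (by
        rw [hG]
        exact Subtype.ext (AlgHom.ext fun _ => rfl))
      rw [this]
      simp
end Groth.Agent.S12250
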