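import Groth.Statements.S12252
import Groth.Agent.Lib.Helper18_ArtFun
-- import your own Groth.Agent.* helpers here

set_option autoImplicit false
universe u v
open CategoryTheory
open Deform

namespace Groth.Agent.S12252

/-- Let k be an algebraically closed field, Λ a complete local Noetherian k-algebra with residue field k
and F a set-valued functor on local Artinian Λ-algebras with residue field k. If (R, u) and (S, v)
both prorepresent F (complete local Noetherian Λ-algebras with residue field k carrying universal
families), then there is a unique isomorphism of Λ-algebras R ≅ S, compatible with the augmentations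
to k, along which the universal family of R is transported to that of S. -/
theorem result
    {k Λ : Type u} [Field k] [IsAlgClosed k] [CommRing Λ] [IsLocalRing Λ] [IsNoetherianRing Λ]
    [IsAdicComplete (IsLocalRing.maximalIdeal Λ) Λ] [Algebra k Λ] [Algebra Λ k] [IsScalarTower k Λ k]
    {F : ArtFun.Art Λ k ⥤ Type v} (P Q : ArtFun.ProRep F) :
    ∃! e : P.ring.carrier ≃ₐ[Λ] Q.ring.carrier,
      ∃ he : Q.ring.res.comp e.toAlgHom = P.ring.res, P.family.along e.toAlgHom he = Q.family := by
  obtain ⟨g, hg, hgξ⟩ := Groth.Agent.H18ArtFun.exists_along_eq P.family P.universal Q.ring Q.family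
  obtain ⟨h, hh, hhξ⟩ := Groth.Agent.H18ArtFun.exists_along_eq Q.family Q.universal P.ring P.family
  have e1 : h.comp g = AlgHom.id Λ P.ring.carrier := by
    refine Groth.Agent.H18ArtFun.eq_of_along P.family P.universal _ _ (by rw [← AlgHom.comp_assoc, hh, hg]) (AlgHom.comp_id _) ?_
    intro n
    have : ((P.family.along g hg).along h hh).app _ (P.ring.truncHom n) = P.family.app _ (P.ring.truncHom n) := by
      rw [hgξ, hhξ]
    exact this
  have e2 : g.comp h = AlgHom.id Λ Q.ring.carrier := by
    refine Groth.Agent.H18ArtFun.eq_of_along Q.family Q.universal _ _ (by rw [← AlgHom.comp_assoc, hg, hh]) (AlgHom.comp_id _) ?_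
    intro n
    have : ((Q.family.along h hh).along g hg).app _ (Q.ring.truncHom n) = Q.family.app _ (Q.ring.truncHom n) := by
      rw [hhξ, hgξ]
    exact this
  refine ⟨AlgEquiv.ofAlgHom g h e2 e1, ⟨hg, hgξ⟩, ?_⟩
  rintro e ⟨he, heξ⟩
  apply AlgEquiv.ext
  intro x
  have : e.toAlgHom = g := Groth.Agent.H18ArtFun.eq_of_along P.family P.universal _ _ he hg (fun n => by rw [heξ, hgξ])
  exact AlgHom.congr_fun this x
end Groth.Agent.S12252
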