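import Groth.Statements.S12257
import Mathlib
-- import your own Groth.Agent.* helpers here

set_option autoImplicit false
universe u v
open CategoryTheory CategoryTheory.Limits
open Deform

namespace Groth.Agent.S12257

/-- Let k be an algebraically closed field, Λ a complete local Noetherian k-algebra with residue field
k, and F, G, H set-valued functors on local Artinian Λ-algebras with residue field k, each with
one-point value at k. If F → G is a smooth morphism of functors and H → G is any morphism, then the
second projection F ×_G H → H of the fibre product of functors is smooth. -/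
theorem result
    {k Λ : Type u} [Field k] [IsAlgClosed k] [CommRing Λ] [IsLocalRing Λ] [IsNoetherianRing Λ]
    [IsAdicComplete (IsLocalRing.maximalIdeal Λ) Λ] [Algebra k Λ] [Algebra Λ k] [IsScalarTower k Λ k]
    {F G H : ArtFun.Art Λ k ⥤ Type v} (η : F ⟶ G) (θ : H ⟶ G)
    (hF : ArtFun.H0 F) (hG : ArtFun.H0 G) (hH : ArtFun.H0 H) (hη : ArtFun.IsSmooth η) :
    ArtFun.IsSmooth (pullback.snd η θ) := by
  have hP : ∀ A, IsPullback ((pullback.fst η θ).app A) ((pullback.snd η θ).app A) (η.app A) (θ.app A) := fun A =>
    (IsPullback.of_hasPullback η θ).map ((evaluation _ _).obj A)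
  intro B A μ hμ z
  obtain ⟨⟨z, y'⟩, hz⟩ := z
  change (pullback.snd η θ).app A z = H.map μ y' at hz
  have hc : η.app A ((pullback.fst η θ).app A z) = G.map μ (θ.app B y') := by
    have h1 : η.app A ((pullback.fst η θ).app A z) = θ.app A ((pullback.snd η θ).app A z) := ConcreteCategory.congr_hom (hP A).w z
    rw [h1, hz]
    exact NatTrans.naturality_apply θ μ y'
  obtain ⟨x', hx'⟩ := hη μ hμ ⟨((pullback.fst η θ).app A z, θ.app B y'), hc⟩
  have hx1 : F.map μ x' = (pullback.fst η θ).app A z := congrArg (fun t => t.1.1) hx'
  have hx2 : η.app B x' = θ.app B y' := congrArg (fun t => t.1.2) hx'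
  obtain ⟨w, hw1, hw2⟩ := Types.exists_of_isPullback (hP B) x' y' hx2
  refine ⟨w, ?_⟩
  apply Subtype.ext
  apply Prod.ext
  · change (pullback η θ).map μ w = z
    apply Types.ext_of_isPullback (hP A)
    · rw [← hx1, ← hw1]
      exact NatTrans.naturality_apply (pullback.fst η θ) μ w
    · rw [hz, ← hw2]
      exact NatTrans.naturality_apply (pullback.snd η θ) μ w
  · exact hw2
end Groth.Agent.S12257
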