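import Groth.Statements.S12258
import Mathlib
-- import your own Groth.Agent.* helpers here

set_option autoImplicit false
universe u v
open CategoryTheory CategoryTheory.Limits
open Deform

namespace Groth.Agent.S12258

/-- Let k be an algebraically closed field, Λ a complete local Noetherian k-algebra with residue field
k, and F, G set-valued functors on local Artinian Λ-algebras with residue field k, each with
one-point value at k. If F and G are smooth functors, i.e. F(B) → F(A) and G(B) → G(A) are
surjective for every surjection B → A, then the product functor F × G is smooth. -/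
theorem result
    {k Λ : Type u} [Field k] [IsAlgClosed k] [CommRing Λ] [IsLocalRing Λ] [IsNoetherianRing Λ]
    [IsAdicComplete (IsLocalRing.maximalIdeal Λ) Λ] [Algebra k Λ] [Algebra Λ k] [IsScalarTower k Λ k]
    {F G : ArtFun.Art Λ k ⥤ Type v}
    (hF : ArtFun.H0 F) (hG : ArtFun.H0 G) (sF : ArtFun.IsSmoothFunctor F) (sG : ArtFun.IsSmoothFunctor G) :
    ArtFun.IsSmoothFunctor (F ⨯ G) := by
  have hP : ∀ A, IsPullback ((prod.fst : F ⨯ G ⟶ F).app A) ((prod.snd : F ⨯ G ⟶ G).app A) ((terminal.from F).app A) ((terminal.from G).app A) := fun A =>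
    (IsPullback.of_hasBinaryProduct' F G).map ((evaluation _ _).obj A)
  have hT : ∀ A, Subsingleton ((⊤_ (ArtFun.Art Λ k ⥤ Type v)).obj A) := fun A => by
    have h1 : IsTerminal (((evaluation (ArtFun.Art Λ k) (Type v)).obj A).obj (⊤_ (ArtFun.Art Λ k ⥤ Type v))) :=
      IsTerminal.isTerminalObj _ _ terminalIsTerminal
    have h2 := Types.isTerminalEquivUnique _ h1
    exact h2.instSubsingleton
  intro B A μ hμ z
  obtain ⟨x, hx⟩ := sF μ hμ ((prod.fst : F ⨯ G ⟶ F).app A z)
  obtain ⟨y, hy⟩ := sG μ hμ ((prod.snd : F ⨯ G ⟶ G).app A z)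
  have := hT B
  obtain ⟨w, hw1, hw2⟩ := Types.exists_of_isPullback (hP B) x y (Subsingleton.elim _ _)
  refine ⟨w, ?_⟩
  apply Types.ext_of_isPullback (hP A)
  · rw [← hx, ← hw1]
    exact NatTrans.naturality_apply (prod.fst : F ⨯ G ⟶ F) μ w
  · rw [← hy, ← hw2]
    exact NatTrans.naturality_apply (prod.snd : F ⨯ G ⟶ G) μ w
end Groth.Agent.S12258
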