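import Groth.Statements.S12284
import Mathlib
-- import your own Groth.Agent.* helpers here

set_option autoImplicit false
universe u w m
open scoped TensorProduct
open DefT

namespace Groth.Agent.S12284

/-- Lifting through a surjection from a free module. -/
theorem lift_of_free {B : Type*} [CommRing B] {L : Type*} [AddCommGroup L] [Module B L] {κ : Type*} (b : Module.Basis κ B L)
    {M N : Type*} [AddCommGroup M] [Module B M] [AddCommGroup N] [Module B N] (g : M →ₗ[B] N)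
    (hg : Function.Surjective g) (φ : L →ₗ[B] N) : ∃ ψ : L →ₗ[B] M, g ∘ₗ ψ = φ := by
  have : Module.Free B L := Module.Free.of_basis b
  exact Module.projective_lifting_property g φ hg

theorem factor_of_exact {B : Type*} [CommRing B] {L : Type*} [AddCommGroup L] [Module B L]
    {M' M M'' : Type*} [AddCommGroup M'] [Module B M'] [AddCommGroup M] [Module B M] [AddCommGroup M''] [Module B M'']
    (f : M' →ₗ[B] M) (g : M →ₗ[B] M'') (hf : Function.Injective f) (hfg : Function.Exact f g)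
    (φ : L →ₗ[B] M) (h : g ∘ₗ φ = 0) : ∃ ψ : L →ₗ[B] M', f ∘ₗ ψ = φ := by
  have hr : ∀ x, φ x ∈ LinearMap.range f := fun x => (hfg _).1 (LinearMap.congr_fun h x)
  refine ⟨(LinearEquiv.ofInjective f hf).symm.toLinearMap ∘ₗ (φ.codRestrict (LinearMap.range f) hr), ?_⟩
  refine LinearMap.ext fun x => ?_
  have := LinearEquiv.apply_symm_apply (LinearEquiv.ofInjective f hf) ((φ.codRestrict (LinearMap.range f) hr) x)
  exact congrArg Subtype.val this

theorem comp_cancel {B : Type*} [CommRing B] {L : Type*} [AddCommGroup L] [Module B L]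
    {M' M : Type*} [AddCommGroup M'] [Module B M'] [AddCommGroup M] [Module B M]
    (f : M' →ₗ[B] M) (hf : Function.Injective f) (φ ψ : L →ₗ[B] M') (h : f ∘ₗ φ = f ∘ₗ ψ) : φ = ψ :=
  LinearMap.ext fun x => hf (LinearMap.congr_fun h x)

/-- Post-composition. -/
def pc {B : Type*} [CommRing B] (L : Type*) [AddCommGroup L] [Module B L] {N N' : Type*} [AddCommGroup N] [Module B N]
    [AddCommGroup N'] [Module B N'] (h : N →ₗ[B] N') : (L →ₗ[B] N) →ₗ[B] (L →ₗ[B] N') where
  toFun φ := h ∘ₗ φ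
  map_add' x y := LinearMap.comp_add _ _ _
  map_smul' c x := LinearMap.comp_smul _ _ _

/-- Let A → B be a ring homomorphism, P a presentation of B over A with cotangent complex L₂ → L₁ → L₀,
and 0 → M' → M → M'' → 0 a short exact sequence of B-modules (f : M' → M injective, g : M → M''
surjective, image of f = kernel of g). Write T^i(N) for the i-th cohomology of Hom_B(L•, N) and
T^i(f), T^i(g) for the maps induced by composition. Then T^0(f) is injective, the sequences T^i(M')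
→ T^i(M) → T^i(M'') are exact for i = 0, 1, 2, and there are B-linear connecting maps δ₀ : T^0(M'')
→ T^1(M') and δ₁ : T^1(M'') → T^2(M') such that the nine-term sequence 0 → T^0(M') → T^0(M) →
T^0(M'') → T^1(M') → T^1(M) → T^1(M'') → T^2(M') → T^2(M) → T^2(M'') is exact. (The connecting maps
are asserted to exist with this exactness; the text does not single them out otherwise.) -/
theorem result
    (A B : Type u) [CommRing A] [CommRing B] [Algebra A B] (ι σ : Type w)
    (P : Algebra.Presentation A B ι σ)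
    (M' M M'' : Type m) [AddCommGroup M'] [Module B M'] [AddCommGroup M] [Module B M] [AddCommGroup M''] [Module B M'']
    (f : M' →ₗ[B] M) (g : M →ₗ[B] M'') (hf : Function.Injective f) (hg : Function.Surjective g)
    (hfg : Function.Exact f g) :
    Function.Injective (CotT.T0map P f) ∧ Function.Exact (CotT.T0map P f) (CotT.T0map P g) ∧
      Function.Exact (CotT.T1map P f) (CotT.T1map P g) ∧ Function.Exact (CotT.T2map P f) (CotT.T2map P g) ∧
      ∃ (δ₀ : CotT.T0 P M'' →ₗ[B] CotT.T1 P M') (δ₁ : CotT.T1 P M'' →ₗ[B] CotT.T2 P M'),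
        Function.Exact (CotT.T0map P g) δ₀ ∧ Function.Exact δ₀ (CotT.T1map P f) ∧
        Function.Exact (CotT.T1map P g) δ₁ ∧ Function.Exact δ₁ (CotT.T2map P f) := by
  have hgf : g ∘ₗ f = 0 := hfg.linearMap_comp_eq_zero
  -- (0) injectivity on T0
  have h0 : Function.Injective (CotT.T0map P f) := by
    rintro ⟨φ, hφ⟩ ⟨ψ, hψ⟩ h
    apply Subtype.ext
    exact comp_cancel f hf _ _ (congrArg Subtype.val h)
  have h1 : Function.Exact (CotT.T0map P f) (CotT.T0map P g) := by
    rintro ⟨φ, hφ⟩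
    have hφ' : φ ∘ₗ CotT.d1 P = 0 := hφ
    constructor
    · intro h
      obtain ⟨ψ, hψ⟩ := factor_of_exact f g hf hfg φ (congrArg Subtype.val h)
      refine ⟨⟨ψ, ?_⟩, Subtype.ext hψ⟩
      rw [LinearMap.mem_ker, CotT.d1Star_apply]
      apply comp_cancel f hf
      rw [← LinearMap.comp_assoc, hψ, hφ', LinearMap.comp_zero]
    · rintro ⟨ψ, hψ⟩
      apply Subtype.ext
      have : φ = f ∘ₗ ψ.1 := (congrArg Subtype.val hψ).symm
      change g ∘ₗ φ = 0
      rw [this, ← LinearMap.comp_assoc, hgf, LinearMap.zero_comp]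
  have h2 : Function.Exact (CotT.T1map P f) (CotT.T1map P g) := by
    intro t
    obtain ⟨⟨c, hc⟩, rfl⟩ := Submodule.Quotient.mk_surjective _ t
    have hc' : c ∘ₗ CotT.d2 P = 0 := hc
    constructor
    · intro h
      have h' := (Submodule.Quotient.mk_eq_zero _).1 h
      obtain ⟨ψ, hψ⟩ := h'
      have hψ' : ψ ∘ₗ CotT.d1 P = g ∘ₗ c := hψ
      obtain ⟨ψ', hψ'2⟩ := lift_of_free P.cotangentSpaceBasis g hg ψ
      obtain ⟨c', hc'2⟩ := factor_of_exact f g hf hfg (c - ψ' ∘ₗ CotT.d1 P) (by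
        rw [LinearMap.comp_sub, ← LinearMap.comp_assoc, hψ'2, hψ', sub_self])
      have hc'3 : c' ∘ₗ CotT.d2 P = 0 := by
        apply comp_cancel f hf
        rw [← LinearMap.comp_assoc, hc'2, LinearMap.sub_comp, hc', LinearMap.comp_assoc, CotT.d1_comp_d2, LinearMap.comp_zero,
          LinearMap.comp_zero, sub_zero]
      refine ⟨Submodule.Quotient.mk ⟨c', hc'3⟩, ?_⟩
      change Submodule.Quotient.mk _ = Submodule.Quotient.mk _
      rw [Submodule.Quotient.eq]
      refine ⟨-ψ', ?_⟩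
      change (-ψ') ∘ₗ CotT.d1 P = f ∘ₗ c' - c
      rw [hc'2, LinearMap.neg_comp]
      abel
    · rintro ⟨t', ht'⟩
      obtain ⟨⟨c', hc'2⟩, rfl⟩ := Submodule.Quotient.mk_surjective _ t'
      rw [← ht']
      change Submodule.Quotient.mk _ = _
      rw [Submodule.Quotient.mk_eq_zero]
      refine ⟨0, ?_⟩
      change (0 : CotT.L0 P →ₗ[B] M'') ∘ₗ CotT.d1 P = g ∘ₗ (f ∘ₗ c')
      rw [← LinearMap.comp_assoc, hgf, LinearMap.zero_comp, LinearMap.zero_comp]
  have h3 : Function.Exact (CotT.T2map P f) (CotT.T2map P g) := by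
    intro t
    obtain ⟨c, rfl⟩ := Submodule.Quotient.mk_surjective _ t
    constructor
    · intro h
      have h' := (Submodule.Quotient.mk_eq_zero _).1 h
      obtain ⟨ψ, hψ⟩ := h'
      have hψ' : ψ ∘ₗ CotT.d2 P = g ∘ₗ c := hψ
      obtain ⟨ψ', hψ'2⟩ := lift_of_free (CotT.L1basis P) g hg ψ
      obtain ⟨c', hc'2⟩ := factor_of_exact f g hf hfg (c - ψ' ∘ₗ CotT.d2 P) (by
        rw [LinearMap.comp_sub, ← LinearMap.comp_assoc, hψ'2, hψ', sub_self])
      refine ⟨Submodule.Quotient.mk c', ?_⟩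
      change Submodule.Quotient.mk _ = Submodule.Quotient.mk _
      rw [Submodule.Quotient.eq]
      refine ⟨-ψ', ?_⟩
      change (-ψ') ∘ₗ CotT.d2 P = f ∘ₗ c' - c
      rw [hc'2, LinearMap.neg_comp]
      abel
    · rintro ⟨t', ht'⟩
      obtain ⟨c', rfl⟩ := Submodule.Quotient.mk_surjective _ t'
      rw [← ht']
      change Submodule.Quotient.mk _ = _
      rw [Submodule.Quotient.mk_eq_zero]
      refine ⟨0, ?_⟩
      change (0 : CotT.L1 P →ₗ[B] M'') ∘ₗ CotT.d2 P = g ∘ₗ (f ∘ₗ c')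
      rw [← LinearMap.comp_assoc, hgf, LinearMap.zero_comp, LinearMap.zero_comp]
  refine ⟨h0, h1, h2, h3, ?_⟩
  -- connecting maps via the snake lemma
  -- δ₀: rows Hom(L0,-) and cocycles
  let i : ∀ (N : Type m) [AddCommGroup N] [Module B N], (CotT.L0 P →ₗ[B] N) →ₗ[B] CotT.cocycles1 P N := fun N _ _ =>
    LinearMap.codRestrict (CotT.cocycles1 P N) (CotT.d1Star P N) (fun φ => by
      rw [LinearMap.mem_ker]
      exact LinearMap.congr_fun (CotT.d2Star_comp_d1Star P N) φ)
  have hf0 : Function.Exact (pc (CotT.L0 P) f) (pc (CotT.L0 P) g) := by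
    intro φ
    constructor
    · intro h
      obtain ⟨ψ, hψ⟩ := factor_of_exact f g hf hfg φ h
      exact ⟨ψ, hψ⟩
    · rintro ⟨ψ, rfl⟩
      change g ∘ₗ (f ∘ₗ ψ) = 0
      rw [← LinearMap.comp_assoc, hgf, LinearMap.zero_comp]
  have hf0s : Function.Surjective (pc (CotT.L0 P) g) := fun φ => lift_of_free P.cotangentSpaceBasis g hg φ
  have hg0 : Function.Exact (CotT.cocycles1Map P f) (CotT.cocycles1Map P g) := by
    rintro ⟨φ, hφ⟩
    have hφ' : φ ∘ₗ CotT.d2 P = 0 := hφ
    constructor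
    · intro h
      obtain ⟨ψ, hψ⟩ := factor_of_exact f g hf hfg φ (congrArg Subtype.val h)
      refine ⟨⟨ψ, ?_⟩, Subtype.ext hψ⟩
      rw [LinearMap.mem_ker, CotT.d2Star_apply]
      apply comp_cancel f hf
      rw [← LinearMap.comp_assoc, hψ, hφ', LinearMap.comp_zero]
    · rintro ⟨ψ, hψ⟩
      apply Subtype.ext
      have : φ = f ∘ₗ ψ.1 := (congrArg Subtype.val hψ).symm
      change g ∘ₗ φ = 0
      rw [this, ← LinearMap.comp_assoc, hgf, LinearMap.zero_comp]
  have hg0i : Function.Injective (CotT.cocycles1Map P f) := by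
    rintro ⟨φ, hφ⟩ ⟨ψ, hψ⟩ h
    apply Subtype.ext
    exact comp_cancel f hf _ _ (congrArg Subtype.val h)
  have hker : ∀ (N : Type m) [AddCommGroup N] [Module B N], Function.Exact (LinearMap.ker (CotT.d1Star P N)).subtype (i N) := by
    intro N _ _ φ
    constructor
    · intro h
      exact ⟨⟨φ, congrArg Subtype.val h⟩, rfl⟩
    · rintro ⟨ψ, rfl⟩
      exact Subtype.ext ψ.2
  have hcok : ∀ (N : Type m) [AddCommGroup N] [Module B N], Function.Exact (i N) (CotT.coboundaries1 P N).mkQ := by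
    intro N _ _ φ
    rw [Submodule.mkQ_apply, Submodule.Quotient.mk_eq_zero]
    constructor
    · rintro ⟨ψ, hψ⟩
      exact ⟨ψ, Subtype.ext hψ⟩
    · rintro ⟨ψ, rfl⟩
      exact ⟨ψ, rfl⟩
  let Q : ∀ (N : Type m) [AddCommGroup N] [Module B N], Submodule B (CotT.L1 P →ₗ[B] N) := fun N _ _ => LinearMap.range (CotT.d1Star P N)
  let j : ∀ (N : Type m) [AddCommGroup N] [Module B N], ((CotT.L1 P →ₗ[B] N) ⧸ Q N) →ₗ[B] (CotT.L2 P →ₗ[B] N) := fun N _ _ =>
    Submodule.liftQ (Q N) (CotT.d2Star P N) (by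
      rintro _ ⟨ψ, rfl⟩
      exact LinearMap.congr_fun (CotT.d2Star_comp_d1Star P N) ψ)
  let q : ∀ {N N' : Type m} [AddCommGroup N] [Module B N] [AddCommGroup N'] [Module B N'] (h : N →ₗ[B] N'),
      ((CotT.L1 P →ₗ[B] N) ⧸ Q N) →ₗ[B] ((CotT.L1 P →ₗ[B] N') ⧸ Q N') := fun {N N'} _ _ _ _ h =>
    Submodule.mapQ (Q N) (Q N') (pc (CotT.L1 P) h) (by
      rintro _ ⟨ψ, rfl⟩
      exact ⟨h ∘ₗ ψ, rfl⟩)
  let ι₁ : ∀ (N : Type m) [AddCommGroup N] [Module B N], CotT.T1 P N →ₗ[B] ((CotT.L1 P →ₗ[B] N) ⧸ Q N) := fun N _ _ =>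
    Submodule.mapQ (CotT.coboundaries1 P N) (Q N) (CotT.cocycles1 P N).subtype (fun x hx => hx)
  have hq : Function.Exact (q f) (q g) := by
    intro t
    obtain ⟨c, rfl⟩ := Submodule.Quotient.mk_surjective _ t
    constructor
    · intro h
      obtain ⟨ψ, hψ⟩ := (Submodule.Quotient.mk_eq_zero _).1 h
      have hψ' : ψ ∘ₗ CotT.d1 P = g ∘ₗ c := hψ
      obtain ⟨ψ', hψ'2⟩ := lift_of_free P.cotangentSpaceBasis g hg ψ
      obtain ⟨c', hc'2⟩ := factor_of_exact f g hf hfg (c - ψ' ∘ₗ CotT.d1 P) (by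
        rw [LinearMap.comp_sub, ← LinearMap.comp_assoc, hψ'2, hψ', sub_self])
      refine ⟨Submodule.Quotient.mk c', ?_⟩
      change Submodule.Quotient.mk _ = Submodule.Quotient.mk _
      rw [Submodule.Quotient.eq]
      refine ⟨-ψ', ?_⟩
      change (-ψ') ∘ₗ CotT.d1 P = f ∘ₗ c' - c
      rw [hc'2, LinearMap.neg_comp]
      abel
    · rintro ⟨t', ht'⟩
      obtain ⟨c', rfl⟩ := Submodule.Quotient.mk_surjective _ t'
      rw [← ht']
      change Submodule.Quotient.mk _ = _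
      rw [Submodule.Quotient.mk_eq_zero]
      refine ⟨0, ?_⟩
      change (0 : CotT.L0 P →ₗ[B] M'') ∘ₗ CotT.d1 P = g ∘ₗ (f ∘ₗ c')
      rw [← LinearMap.comp_assoc, hgf, LinearMap.zero_comp, LinearMap.zero_comp]
  have hqs : Function.Surjective (q g) := by
    intro t
    obtain ⟨c, rfl⟩ := Submodule.Quotient.mk_surjective _ t
    obtain ⟨c', hc'⟩ := lift_of_free (CotT.L1basis P) g hg c
    refine ⟨Submodule.Quotient.mk c', ?_⟩
    change Submodule.Quotient.mk _ = Submodule.Quotient.mk _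
    congr 1
  have hr2 : Function.Exact (pc (CotT.L2 P) f) (pc (CotT.L2 P) g) := by
    intro φ
    constructor
    · intro h
      obtain ⟨ψ, hψ⟩ := factor_of_exact f g hf hfg φ h
      exact ⟨ψ, hψ⟩
    · rintro ⟨ψ, rfl⟩
      change g ∘ₗ (f ∘ₗ ψ) = 0
      rw [← LinearMap.comp_assoc, hgf, LinearMap.zero_comp]
  have hr2i : Function.Injective (pc (CotT.L2 P) f) := fun φ ψ h => comp_cancel f hf _ _ h
  have hι₁ : ∀ (N : Type m) [AddCommGroup N] [Module B N], Function.Exact (ι₁ N) (j N) := by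
    intro N _ _ t
    obtain ⟨c, rfl⟩ := Submodule.Quotient.mk_surjective _ t
    constructor
    · intro h
      exact ⟨Submodule.Quotient.mk ⟨c, h⟩, rfl⟩
    · rintro ⟨t', ht'⟩
      obtain ⟨⟨c', hc'⟩, rfl⟩ := Submodule.Quotient.mk_surjective _ t'
      exact (congrArg (j N) ht').symm.trans (show CotT.d2Star P N c' = 0 from hc')
  have hι₁i : ∀ (N : Type m) [AddCommGroup N] [Module B N], Function.Injective (ι₁ N) := by
    intro N _ _
    rw [injective_iff_map_eq_zero]
    intro t ht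
    obtain ⟨⟨c', hc'⟩, rfl⟩ := Submodule.Quotient.mk_surjective _ t
    rw [Submodule.Quotient.mk_eq_zero]
    exact (Submodule.Quotient.mk_eq_zero (Q N) (x := c')).1 ht
  have hcok2 : ∀ (N : Type m) [AddCommGroup N] [Module B N], Function.Exact (j N) (LinearMap.range (CotT.d2Star P N)).mkQ := by
    intro N _ _ φ
    rw [Submodule.mkQ_apply, Submodule.Quotient.mk_eq_zero]
    constructor
    · rintro ⟨ψ, hψ⟩
      exact ⟨Submodule.Quotient.mk ψ, hψ⟩
    · rintro ⟨t, rfl⟩
      obtain ⟨c, rfl⟩ := Submodule.Quotient.mk_surjective _ t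
      exact ⟨c, rfl⟩
  have c1 : (CotT.cocycles1Map P f).comp (i M') = (i M).comp (pc (CotT.L0 P) f) := rfl
  have c2 : (CotT.cocycles1Map P g).comp (i M) = (i M'').comp (pc (CotT.L0 P) g) := rfl
  have d1' : (pc (CotT.L2 P) f).comp (j M') = (j M).comp (q f) := by
    refine LinearMap.ext fun t => ?_
    obtain ⟨c, rfl⟩ := Submodule.Quotient.mk_surjective _ t
    rfl
  have d2' : (pc (CotT.L2 P) g).comp (j M) = (j M'').comp (q g) := by
    refine LinearMap.ext fun t => ?_
    obtain ⟨c, rfl⟩ := Submodule.Quotient.mk_surjective _ t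
    rfl
  have e1 : (q g).comp (ι₁ M) = (ι₁ M'').comp (CotT.T1map P g) := by
    refine LinearMap.ext fun t => ?_
    obtain ⟨c, rfl⟩ := Submodule.Quotient.mk_surjective _ t
    rfl
  refine ⟨SnakeLemma.δ' (i M') (i M) (i M'') _ _ hf0 _ _ hg0 c1 c2 (LinearMap.ker (CotT.d1Star P M'')).subtype (hker M'')
      (CotT.coboundaries1 P M').mkQ (hcok M') hf0s hg0i,
    SnakeLemma.δ' (j M') (j M) (j M'') _ _ hq _ _ hr2 d1' d2' (ι₁ M'') (hι₁ M'')
      (LinearMap.range (CotT.d2Star P M')).mkQ (hcok2 M') hqs hr2i, ?_, ?_, ?_, ?_⟩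
  · exact SnakeLemma.exact_δ'_right (i M') (i M) (i M'') _ _ hf0 _ _ hg0 c1 c2 (LinearMap.ker (CotT.d1Star P M)).subtype (hker M) _ (hker M'')
      _ (hcok M') hf0s hg0i (CotT.T0map P g) rfl (Submodule.injective_subtype _)
  · exact SnakeLemma.exact_δ'_left (i M') (i M) (i M'') _ _ hf0 _ _ hg0 c1 c2 _ (hker M'')
      _ (hcok M') (CotT.coboundaries1 P M).mkQ (hcok M) hf0s hg0i (CotT.T1map P f) rfl (Submodule.mkQ_surjective _)
  · exact SnakeLemma.exact_δ'_right (j M') (j M) (j M'') _ _ hq _ _ hr2 d1' d2' (ι₁ M) (hι₁ M) _ (hι₁ M'')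
      _ (hcok2 M') hqs hr2i (CotT.T1map P g) e1 (hι₁i M'')
  · exact SnakeLemma.exact_δ'_left (j M') (j M) (j M'') _ _ hq _ _ hr2 d1' d2' _ (hι₁ M'')
      _ (hcok2 M') (LinearMap.range (CotT.d2Star P M)).mkQ (hcok2 M) hqs hr2i (CotT.T2map P f) rfl (Submodule.mkQ_surjective _)
end Groth.Agent.S12284
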