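import Groth.Statements.S12286
import Mathlib
-- import your own Groth.Agent.* helpers here

set_option autoImplicit false
universe u w m
open scoped TensorProduct
open DefT

namespace Groth.Agent.S12286

/-- Let A → B be a ring homomorphism, P a presentation of B over A and M a B-module. The canonical
B-linear map from the A-derivations Der_A(B, M) = Hom_B(Ω_{B/A}, M) to T^0(B/A, M) (the kernel of
Hom_B(L₀, M) → Hom_B(L₁, M), L₀ = B ⊗_R Ω_{R/A}), sending a derivation D to b ⊗ dr ↦ b·D(r̄), is
bijective. -/
theorem result
    (A B : Type u) [CommRing A] [CommRing B] [Algebra A B] (ι σ : Type w) (P : Algebra.Presentation A B ι σ)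
    (M : Type m) [AddCommGroup M] [Module B M] [Module A M] [IsScalarTower A B M] :
    Function.Bijective (CotT.derToT0 P M) := by
  have hsurj : Function.Surjective (algebraMap P.toExtension.Ring B) := P.toExtension.algebraMap_surjective
  constructor
  · intro D D' h
    apply Derivation.ext
    intro b
    obtain ⟨r, rfl⟩ := hsurj b
    have h1 := congrArg (fun t : CotT.T0 P M => (t : CotT.L0 P →ₗ[B] M) ((1 : B) ⊗ₜ KaehlerDifferential.D A P.toExtension.Ring r)) h
    simpa [CotT.derLift_tmul_D] using h1
  · rintro ⟨φ, hφ⟩
    have hφ' : φ ∘ₗ CotT.d1 P = 0 := hφ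
    have hker : ∀ r : P.toExtension.Ring, algebraMap P.toExtension.Ring B r = 0 →
        φ ((1 : B) ⊗ₜ KaehlerDifferential.D A P.toExtension.Ring r) = 0 := by
      intro r hr
      have h1 : r ∈ P.ker := hr
      rw [← CotT.range_jmap] at h1
      obtain ⟨f, rfl⟩ := h1
      have h2 := LinearMap.congr_fun hφ' ((1 : B) ⊗ₜ f)
      rw [LinearMap.comp_apply, CotT.d1_tmul, one_smul] at h2
      exact h2
    have hwd : ∀ r r' : P.toExtension.Ring, algebraMap P.toExtension.Ring B r = algebraMap P.toExtension.Ring B r' →
        φ ((1 : B) ⊗ₜ KaehlerDifferential.D A P.toExtension.Ring r) = φ ((1 : B) ⊗ₜ KaehlerDifferential.D A P.toExtension.Ring r') := by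
      intro r r' h
      have h1 := hker (r - r') (by rw [map_sub, h, sub_self])
      rw [map_sub, TensorProduct.tmul_sub, map_sub, sub_eq_zero] at h1
      exact h1
    have hmul : ∀ r r' : P.toExtension.Ring, φ ((1 : B) ⊗ₜ KaehlerDifferential.D A P.toExtension.Ring (r * r')) =
        algebraMap P.toExtension.Ring B r • φ ((1 : B) ⊗ₜ KaehlerDifferential.D A P.toExtension.Ring r') +
        algebraMap P.toExtension.Ring B r' • φ ((1 : B) ⊗ₜ KaehlerDifferential.D A P.toExtension.Ring r) := by
      intro r r'
      have hsm : ∀ (r : P.toExtension.Ring) (ω : Ω[P.toExtension.Ring⁄A]), (1 : B) ⊗ₜ[P.toExtension.Ring] (r • ω) = (algebraMap P.toExtension.Ring B r) • ((1 : B) ⊗ₜ[P.toExtension.Ring] ω) := by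
        intro r ω
        rw [← TensorProduct.smul_tmul, TensorProduct.smul_tmul', Algebra.smul_def, mul_one, smul_eq_mul, mul_one]
      rw [Derivation.leibniz, TensorProduct.tmul_add, map_add, hsm, hsm, map_smul, map_smul]
    let s := Function.surjInv hsurj
    have hs : ∀ b, algebraMap P.toExtension.Ring B (s b) = b := Function.surjInv_eq hsurj
    let D : Derivation A B M := Derivation.mk'
      { toFun := fun b => φ ((1 : B) ⊗ₜ KaehlerDifferential.D A P.toExtension.Ring (s b))
        map_add' := fun b b' => by
          rw [hwd (s (b + b')) (s b + s b') (by rw [map_add, hs, hs, hs]), map_add, TensorProduct.tmul_add, map_add]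
        map_smul' := fun a b => by
          rw [hwd (s (a • b)) (algebraMap A P.toExtension.Ring a * s b) (by
            rw [map_mul, hs, hs, ← IsScalarTower.algebraMap_apply, Algebra.smul_def]), hmul, Derivation.map_algebraMap,
            TensorProduct.tmul_zero, map_zero, smul_zero, add_zero, ← IsScalarTower.algebraMap_apply, algebraMap_smul]
          rfl }
      (fun b b' => by
        change φ _ = b • φ _ + b' • φ _
        rw [hwd (s (b * b')) (s b * s b') (by rw [map_mul, hs, hs, hs]), hmul, hs, hs])
    have hD : ∀ b, D b = φ ((1 : B) ⊗ₜ KaehlerDifferential.D A P.toExtension.Ring (s b)) := fun _ => rfl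
    refine ⟨D, Subtype.ext ?_⟩
    rw [CotT.derToT0_apply]
    refine (P.cotangentSpaceBasis).ext fun i => ?_
    rw [CotT.derLift_basis, hD, Algebra.Generators.cotangentSpaceBasis_apply]
    apply hwd
    rw [hs, CotT.algebraMap_toExtension]
    exact (MvPolynomial.aeval_X _ _).symm
end Groth.Agent.S12286
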