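import Groth.Statements.S12289
import Mathlib
-- import your own Groth.Agent.* helpers here

set_option autoImplicit false
universe u w m
open scoped TensorProduct
open DefT

namespace Groth.Agent.S12289

open CotT in
theorem toCot_surj {A : Type*} {B : Type*} {ι : Type*} {σ : Type*} [CommRing A] [CommRing B] [Algebra A B]
    (P : Algebra.Presentation A B ι σ) : Function.Surjective (CotT.toCot P) := by
  intro y
  obtain ⟨⟨x, hx⟩, rfl⟩ := Algebra.Extension.Cotangent.mk_surjective y
  have h1 : x ∈ P.ker := hx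
  rw [← CotT.range_jmap] at h1
  obtain ⟨f, rfl⟩ := h1
  refine ⟨(1 : B) ⊗ₜ f, ?_⟩
  rw [CotT.toCot_tmul, one_smul]
  rfl

theorem ker_toCot_le {A : Type*} {B : Type*} {ι : Type*} {σ : Type*} [CommRing A] [CommRing B] [Algebra A B]
    (P : Algebra.Presentation A B ι σ) (x : CotT.L1 P) (hx : CotT.toCot P x = 0) :
    x ∈ LinearMap.range (CotT.d2 P) := by
  have hsurj : Function.Surjective (algebraMap P.toExtension.Ring B) := P.toExtension.algebraMap_surjective
  have hall : ∀ x : CotT.L1 P, ∃ f : CotT.relMod P, x = (1 : B) ⊗ₜ[P.toExtension.Ring] f := by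
    intro x
    refine TensorProduct.induction_on x ?_ ?_ ?_
    · exact ⟨0, by rw [TensorProduct.tmul_zero]⟩
    · intro b f
      obtain ⟨r, rfl⟩ := hsurj b
      refine ⟨r • f, ?_⟩
      rw [← TensorProduct.smul_tmul, Algebra.smul_def, mul_one]
    · rintro x y ⟨f, hf⟩ ⟨g, hg⟩
      exact ⟨f + g, by rw [hf, hg, TensorProduct.tmul_add]⟩
  obtain ⟨f, rfl⟩ := hall x
  rw [CotT.toCot_tmul, one_smul, Algebra.Extension.Cotangent.mk_eq_zero_iff] at hx
  have hx' : CotT.jmap P f ∈ P.toExtension.ker ^ 2 := hx
  have key : ∀ r ∈ P.toExtension.ker ^ 2, ∃ g : CotT.relMod P, CotT.jmap P g = r ∧ (1 : B) ⊗ₜ[P.toExtension.Ring] g = 0 := by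
    intro r hr
    rw [pow_two] at hr
    refine Submodule.mul_induction_on hr ?_ ?_
    · intro a ha b hb
      have h1 : b ∈ P.ker := hb
      rw [← CotT.range_jmap] at h1
      obtain ⟨g, rfl⟩ := h1
      refine ⟨a • g, by rw [map_smul, smul_eq_mul], ?_⟩
      have ha' : algebraMap P.toExtension.Ring B a = 0 := ha
      rw [← TensorProduct.smul_tmul, Algebra.smul_def, ha', zero_mul, TensorProduct.zero_tmul]
    · rintro a b ⟨g, hg, hg'⟩ ⟨g2, hg2, hg2'⟩
      exact ⟨g + g2, by rw [map_add, hg, hg2], by rw [TensorProduct.tmul_add, hg', hg2', add_zero]⟩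
  obtain ⟨g, hg, hg'⟩ := key _ hx'
  refine ⟨Submodule.Quotient.mk ((1 : B) ⊗ₜ[P.toExtension.Ring] (⟨f - g, ?_⟩ : CotT.relKer P)), ?_⟩
  · rw [CotT.relKer, LinearMap.mem_ker, map_sub, hg, sub_self]
  · rw [CotT.d2_mk_tmul, TensorProduct.tmul_sub, hg', sub_zero]

/-- Let k be a commutative ring and B a k-algebra presented as R/I with R = k[x_i] a polynomial ring
(any set of variables) and chosen generators of I, and let M be a B-module; T^0(B/k, M) and T^1(B/k,
M) are computed from this presentation. Then the sequence 0 → T^0(B/k, M) → Hom_B(Ω_{R/k} ⊗_R B, M)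
→ Hom_B(I/I², M) → T^1(B/k, M) → 0 is exact, where the middle map is composition with the conormal
map d : I/I² → Ω_{R/k} ⊗_R B and the last map sends φ to the class of φ ∘ (F/IF → I/I²): the
submodule T^0(B/k, M) of Hom_B(Ω_{R/k} ⊗ B, M) is the kernel of composition with d, the kernel of
Hom_B(I/I², M) → T^1(B/k, M) is the image of composition with d, and Hom_B(I/I², M) → T^1(B/k, M) is
surjective. (The published statement takes finitely many variables over a field and adds that the
same holds over any base ring; this row allows any base ring and any set of variables.) -/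
theorem result
    (k B : Type u) [CommRing k] [CommRing B] [Algebra k B] (ι σ : Type w) (P : Algebra.Presentation k B ι σ)
    (M : Type m) [AddCommGroup M] [Module B M] :
    LinearMap.ker (CotT.d1Star P M) = LinearMap.ker (LinearMap.lcomp B M P.toExtension.cotangentComplex) ∧
    LinearMap.ker (CotT.homToT1 P M) = LinearMap.range (LinearMap.lcomp B M P.toExtension.cotangentComplex) ∧
    Function.Surjective (CotT.homToT1 P M) := by
  have hsurj := toCot_surj P
  refine ⟨?_, ?_, ?_⟩
  · ext φ
    rw [LinearMap.mem_ker, LinearMap.mem_ker, CotT.d1Star_apply, LinearMap.lcomp_apply']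
    constructor
    · intro h
      ext y
      obtain ⟨x, rfl⟩ := hsurj y
      exact LinearMap.congr_fun h x
    · intro h
      ext x
      exact LinearMap.congr_fun h (CotT.toCot P _)
  · ext φ
    rw [LinearMap.mem_ker, CotT.homToT1, LinearMap.comp_apply, Submodule.mkQ_apply, Submodule.Quotient.mk_eq_zero, LinearMap.mem_range]
    constructor
    · rintro ⟨ψ, hψ⟩
      refine ⟨ψ, ?_⟩
      ext y
      obtain ⟨x, rfl⟩ := hsurj y
      exact LinearMap.congr_fun hψ x
    · rintro ⟨ψ, rfl⟩
      exact ⟨ψ, rfl⟩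
  · intro t
    obtain ⟨⟨c, hc⟩, rfl⟩ := Submodule.Quotient.mk_surjective _ t
    have hc' : c ∘ₗ CotT.d2 P = 0 := hc
    have hle : LinearMap.ker (CotT.toCot P) ≤ LinearMap.ker c := by
      intro x hx
      obtain ⟨y, rfl⟩ := ker_toCot_le P x hx
      exact LinearMap.congr_fun hc' y
    let e := (CotT.toCot P).quotKerEquivOfSurjective hsurj
    let φ : P.toExtension.Cotangent →ₗ[B] M := (Submodule.liftQ _ c hle) ∘ₗ e.symm.toLinearMap
    have hφ : φ ∘ₗ CotT.toCot P = c := by
      refine LinearMap.ext fun x => ?_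
      have h1 : e.symm (CotT.toCot P x) = Submodule.Quotient.mk x := by
        rw [LinearEquiv.symm_apply_eq]
        rfl
      change (Submodule.liftQ _ c hle) (e.symm (CotT.toCot P x)) = c x
      rw [h1]
      rfl
    refine ⟨φ, ?_⟩
    change Submodule.Quotient.mk _ = Submodule.Quotient.mk _
    congr 1
    exact Subtype.ext hφ
end Groth.Agent.S12289
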