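import Groth.Statements.S12299
import Groth.Agent.Lib.Helper18_ArtFun
-- import your own Groth.Agent.* helpers here

set_option autoImplicit false
universe u v
open CategoryTheory
open ArtFun

namespace Groth.Agent.S12299

/-- Let k be an algebraically closed field, F a set-valued functor on local Artinian k-algebras with
residue field k, and (R, ξ) a miniversal family for F, with R a complete local Noetherian k-algebra
with residue field k: the morphism h_R → F has the lifting property along surjections and is
bijective on the dual numbers. Let S be a complete local Noetherian k-algebra with residue field k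
and g₁, g₂ : R → S two k-algebra maps compatible with the augmentations along which ξ induces the
same formal family over S (the same compatible sequence in the F(S/m^(n+1))). Then g₁ and g₂ induce
the same map R → S/m_S², so the map R/m_R² → S/m_S² attached to a formal family over S is well
defined. (Coefficient rings are taken Noetherian here.) -/
theorem result
    {k : Type u} [Field k] [IsAlgClosed k] {F : ArtFun.Art k k ⥤ Type v}
    (R : ArtFun.CRing k k) (ξ : ArtFun.Family R.carrier R.res F) (hξ : ArtFun.IsMiniversal ξ)
    (S : ArtFun.CRing k k) (g₁ g₂ : R.carrier →ₐ[k] S.carrier)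
    (hg₁ : S.res.comp g₁ = R.res) (hg₂ : S.res.comp g₂ = R.res)
    (h : (ξ.along g₁ hg₁).toFormalElt = (ξ.along g₂ hg₂).toFormalElt) :
    (S.truncHom 1).1.comp g₁ = (S.truncHom 1).1.comp g₂ := by
  apply AlgHom.ext
  intro x
  have h1 := congrArg (fun t : ArtFun.FormalElt F S => t.elt 1) h
  change ξ.app (S.trunc 1) ⟨(S.truncHom 1).1.comp g₁, _⟩ = ξ.app (S.trunc 1) ⟨(S.truncHom 1).1.comp g₂, _⟩ at h1
  have hmem : g₁ x - g₂ x ∈ (RingHom.ker S.res) ^ 2 ⊔ (RingHom.ker (algebraMap k k)).map (algebraMap k S.carrier) := by
    apply Groth.Agent.H18ArtFun.mem_of_forall_dual (Function.surjective_id) S.res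
    · rw [map_sub, sub_eq_zero]
      exact (AlgHom.congr_fun hg₁ x).trans (AlgHom.congr_fun hg₂ x).symm
    · intro χ
      have e : ξ.app _ (⟨χ.1.comp g₁, by rw [← AlgHom.comp_assoc, χ.2, hg₁]⟩ : ArtFun.HomSet R.carrier R.res (ArtFun.Art.dual k k)) =
          ξ.app _ (⟨χ.1.comp g₂, by rw [← AlgHom.comp_assoc, χ.2, hg₂]⟩ : ArtFun.HomSet R.carrier R.res (ArtFun.Art.dual k k)) := by
        have hker : ∀ a ∈ ArtFun.CRing.mpow S 1, χ.1 a = 0 := by
          intro a ha
          have hχm : ∀ b ∈ IsLocalRing.maximalIdeal S.carrier, TrivSqZeroExt.fst (show DualNumber k from χ.1 b) = 0 := by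
            intro b hb
            have := AlgHom.congr_fun χ.2 b
            rw [ArtFun.CRing.mem_maximalIdeal_iff] at hb
            exact this.trans hb
          have ha' : a ∈ IsLocalRing.maximalIdeal S.carrier * IsLocalRing.maximalIdeal S.carrier := by
            rw [← pow_two]; exact ha
          refine Submodule.mul_induction_on ha' ?_ ?_
          · intro b hb c hc
            rw [map_mul]
            refine TrivSqZeroExt.ext ?_ ?_
            · exact (TrivSqZeroExt.fst_mul _ _).trans (by rw [hχm b hb, zero_mul]; rfl)
            · exact (TrivSqZeroExt.snd_mul _ _).trans (by rw [hχm b hb, hχm c hc, zero_smul, MulOpposite.op_zero, zero_smul, add_zero]; rfl)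
          · intro b c hb hc
            rw [map_add, hb, hc, add_zero]
        let χ' : S.trunc 1 ⟶ ArtFun.Art.dual k k := ArtFun.Art.homMk (Ideal.Quotient.liftₐ (ArtFun.CRing.mpow S 1) χ.1 hker) (by
          apply AlgHom.ext
          intro y
          obtain ⟨a, rfl⟩ := Ideal.Quotient.mk_surjective y
          exact AlgHom.congr_fun χ.2 a)
        have := congrArg (F.map χ') h1
        rw [← ξ.natural, ← ξ.natural] at this
        exact this
      have e2 := hξ.2.1 e
      have e3 := congrArg (fun t : ArtFun.HomSet R.carrier R.res (ArtFun.Art.dual k k) => t.1 x) e2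
      change χ.1 (g₁ x) = χ.1 (g₂ x) at e3
      rw [map_sub, e3, sub_self]
      rfl
  have hbot : (RingHom.ker (algebraMap k k)).map (algebraMap k S.carrier) = ⊥ := by
    rw [(RingHom.injective_iff_ker_eq_bot _).1 (algebraMap k k).injective, Ideal.map_bot]
  rw [hbot, sup_bot_eq] at hmem
  have hm : RingHom.ker S.res = IsLocalRing.maximalIdeal S.carrier := by
    ext a
    rw [ArtFun.CRing.mem_maximalIdeal_iff]
    rfl
  rw [hm] at hmem
  exact Ideal.Quotient.eq.2 hmem
end Groth.Agent.S12299
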