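import Groth.Statements.S12301
import Groth.Agent.Lib.Helper18_ArtFun
-- import your own Groth.Agent.* helpers here

set_option autoImplicit false
universe u v
open CategoryTheory
open ArtFun

namespace Groth.Agent.S12301

/-- Let k be an algebraically closed field, f : F₁ → F₂ a morphism of set-valued functors on local
Artinian k-algebras with residue field k, (R₁, ξ₁) a family for F₁ and (R₂, ξ₂) a versal family for
F₂, where R₁, R₂ are complete local Noetherian k-algebras with residue field k and versal is meant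
in the strong sense: h_{R₂} → F₂ is surjective on every object and has the lifting property along
surjections. Then there is a k-algebra map φ : R₂ → R₁, compatible with the augmentations, such that
for every local Artinian A and every u : R₁ → A the element of F₂(A) given by ξ₂ at u ∘ φ equals the
image under f of the element of F₁(A) given by ξ₁ at u; in other words composition with φ, h_{R₁} →
h_{R₂}, covers f. (The published statement assumes (R₁, ξ₁) versal as well; this row asks nothing of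
ξ₁, which is all the argument uses, and takes the coefficient rings Noetherian.) -/
theorem result
    {k : Type u} [Field k] [IsAlgClosed k] {F₁ F₂ : ArtFun.Art k k ⥤ Type v} (f : F₁ ⟶ F₂)
    (R₁ : ArtFun.CRing k k) (ξ₁ : ArtFun.Family R₁.carrier R₁.res F₁)
    (R₂ : ArtFun.CRing k k) (ξ₂ : ArtFun.Family R₂.carrier R₂.res F₂) (hξ₂ : ArtFun.IsVersal ξ₂)
    (hsurj : ∀ A : ArtFun.Art k k, Function.Surjective (ξ₂.app A)) :
    ∃ (φ : R₂.carrier →ₐ[k] R₁.carrier) (hφ : R₁.res.comp φ = R₂.res),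
      ∀ (A : ArtFun.Art k k) (u : ArtFun.HomSet R₁.carrier R₁.res A),
        (ξ₂.along φ hφ).app A u = f.app A (ξ₁.app A u) := by
  have h0 : ∃ ψ : ArtFun.HomSet R₂.carrier R₂.res (R₁.trunc 0), ξ₂.app _ ψ = f.app _ (ξ₁.app _ (R₁.truncHom 0)) := hsurj _ _
  have hμ : ∀ n, Function.Surjective (R₁.truncMap n) := by
    intro n y
    obtain ⟨a, rfl⟩ := Ideal.Quotient.mk_surjective y
    exact ⟨Ideal.Quotient.mk _ a, rfl⟩
  have hs : ∀ (n : ℕ) (ψ : {ψ : ArtFun.HomSet R₂.carrier R₂.res (R₁.trunc n) // ξ₂.app _ ψ = f.app _ (ξ₁.app _ (R₁.truncHom n))}),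
      ∃ ψ' : {ψ : ArtFun.HomSet R₂.carrier R₂.res (R₁.trunc (n + 1)) // ξ₂.app _ ψ = f.app _ (ξ₁.app _ (R₁.truncHom (n + 1)))},
        ArtFun.HomSet.map (R₁.truncMap n) ψ'.1 = ψ.1 := by
    rintro n ⟨ψ, hψ⟩
    obtain ⟨ψ', h1, h2⟩ := hξ₂ (R₁.truncMap n) (hμ n) ψ (f.app _ (ξ₁.app _ (R₁.truncHom (n + 1)))) (by
      have e : ξ₁.app _ (R₁.truncHom n) = F₁.map (R₁.truncMap n) (ξ₁.app _ (R₁.truncHom (n + 1))) := by
        rw [← ξ₁.natural, ArtFun.CRing.truncMap_truncHom]
      rw [hψ, e]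
      exact (NatTrans.naturality_apply f (R₁.truncMap n) _).symm)
    exact ⟨⟨ψ', h2⟩, h1⟩
  choose nx hnx using hs
  obtain ⟨ψ0, hψ0⟩ := h0
  let seq : ∀ n : ℕ, {ψ : ArtFun.HomSet R₂.carrier R₂.res (R₁.trunc n) // ξ₂.app _ ψ = f.app _ (ξ₁.app _ (R₁.truncHom n))} :=
    fun n => Nat.rec ⟨ψ0, hψ0⟩ (fun n x => nx n x) n
  obtain ⟨g, hg, hgn⟩ := Groth.Agent.H18ArtFun.exists_limit R₁ (fun n => (seq n).1) (fun n => hnx n (seq n))
  refine ⟨g, hg, fun A u => ?_⟩
  obtain ⟨n, t, rfl⟩ := Groth.Agent.H18ArtFun.exists_factor R₁ u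
  rw [ξ₁.natural, NatTrans.naturality_apply f t, ← (seq n).2, ← ξ₂.natural]
  change ξ₂.app _ _ = ξ₂.app _ _
  congr 1
  apply Subtype.ext
  have := hgn n
  change (t.toAlgHom.comp (R₁.truncHom n).1).comp g = t.toAlgHom.comp (seq n).1.1
  rw [AlgHom.comp_assoc, this]
end Groth.Agent.S12301
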