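import Groth.Statements.S12302
import Groth.Agent.Lib.Helper18_ArtFun
-- import your own Groth.Agent.* helpers here

set_option autoImplicit false
universe u v
open CategoryTheory
open ArtFun

namespace Groth.Agent.S12302

/-- Let k be an algebraically closed field, F a set-valued functor on local Artinian k-algebras with
residue field k, and ξ : h_R → F a versal family in the strong sense, over an augmented k-algebra R:
ξ is surjective on every object and has the lifting property along surjections. Then F(k) has
exactly one element, and for every fibre-product square B = A' ×_A A'' in which A'' → A is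
surjective, the comparison map F(B) → F(A') ×_{F(A)} F(A'') is surjective. (The published form of
the second assertion allows arbitrary maps A' → A, A'' → A; for the functor of principal ideals
inside the maximal ideal, which has such a versal family over k[[x]], surjectivity fails for the two
maps k[s]/(s⁴) → k[x,y]/(x,y)³ ← k[t]/(t⁴) sending s to x and t to x + xy, and the published
argument lifts along one of the two maps, so that map is taken surjective here. The published
statement also takes R complete local, which the argument does not use.) -/
theorem result
    {k : Type u} [Field k] [IsAlgClosed k] {F : ArtFun.Art k k ⥤ Type v}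
    {R : Type u} [CommRing R] [Algebra k R] {resR : R →ₐ[k] k}
    (ξ : ArtFun.Family R resR F) (hξ : ArtFun.IsVersal ξ)
    (hsurj : ∀ A : ArtFun.Art k k, Function.Surjective (ξ.app A)) :
    ArtFun.H0 F ∧ ArtFun.S1 F := by
  constructor
  · constructor
    · exact ⟨ξ.app _ ⟨resR, AlgHom.id_comp _⟩⟩
    · refine ⟨fun x y => ?_⟩
      obtain ⟨a, rfl⟩ := hsurj _ x
      obtain ⟨b, rfl⟩ := hsurj _ y
      have : a = b := Subtype.ext (by
        have ha := a.2
        have hb := b.2
        have e1 : a.1 = resR := ha
        have e2 : b.1 = resR := hb
        rw [e1, e2])
      rw [this]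
  · intro B A A' A'' p' p'' f' f'' h hf'' z
    obtain ⟨φ', hφ'⟩ := hsurj _ z.1.1
    have hz := z.2
    obtain ⟨ψ, hψ1, hψ2⟩ := hξ f'' hf'' (ArtFun.HomSet.map f' φ') z.1.2 (by
      rw [ξ.natural, hφ', ← hz])
    obtain ⟨φ, h1, h2⟩ := Groth.Agent.H18ArtFun.exists_homSet_fibreProd h φ' ψ hψ1.symm
    refine ⟨ξ.app B φ, ?_⟩
    apply ArtFun.FibProd.ext
    · change F.map p' (ξ.app B φ) = _
      rw [← ξ.natural, h1, hφ']
    · change F.map p'' (ξ.app B φ) = _
      rw [← ξ.natural, h2, hψ2]
end Groth.Agent.S12302
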