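import Groth.Statements.S12303
import Groth.Agent.Lib.Helper18_ArtFun
-- import your own Groth.Agent.* helpers here

set_option autoImplicit false
universe u v
open CategoryTheory
open ArtFun

namespace Groth.Agent.S12303

/-- Let k be an algebraically closed field, F a set-valued functor on local Artinian k-algebras with
residue field k, and ξ : h_R → F a miniversal family in the strong sense, over an augmented
k-algebra R: ξ is surjective on every object, has the lifting property along surjections, and is
bijective on the dual numbers k[ε]. Then for every object A and every fibre-product square B = A ×_k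
k[ε] over k, the comparison map F(B) → F(A) ×_{F(k)} F(k[ε]) is bijective. (The published statement
takes R complete local, which the argument does not use.) -/
theorem result
    {k : Type u} [Field k] [IsAlgClosed k] {F : ArtFun.Art k k ⥤ Type v}
    {R : Type u} [CommRing R] [Algebra k R] {resR : R →ₐ[k] k}
    (ξ : ArtFun.Family R resR F) (hξ : ArtFun.IsMiniversal ξ)
    (hsurj : ∀ A : ArtFun.Art k k, Function.Surjective (ξ.app A)) :
    ArtFun.Heps F := by
  intro B A' p' p'' h
  have hp' : Function.Surjective p' := by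
    intro a
    obtain ⟨e, he⟩ := Groth.Agent.H18ArtFun.toBase_surjective (ArtFun.Art.dual k k) (A'.res a)
    obtain ⟨b, hb, _⟩ := h.surj a e he.symm
    exact ⟨b, hb⟩
  constructor
  · intro b₁ b₂ hb
    have e1 : F.map p' b₁ = F.map p' b₂ := congrArg (fun t => t.1.1) hb
    have e2 : F.map p'' b₁ = F.map p'' b₂ := congrArg (fun t => t.1.2) hb
    obtain ⟨φ₁, rfl⟩ := hsurj _ b₁
    obtain ⟨ψ, hψ1, hψ2⟩ := hξ.1 p' hp' (ArtFun.HomSet.map p' φ₁) b₂ (by rw [ξ.natural, e1])
    have hψ3 : ArtFun.HomSet.map p'' ψ = ArtFun.HomSet.map p'' φ₁ := by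
      apply hξ.2.1
      rw [ξ.natural, ξ.natural, hψ2, e2]
    have : ψ = φ₁ := by
      apply Subtype.ext
      apply AlgHom.ext
      intro r
      apply h.inj
      · exact congrArg (fun t : ArtFun.HomSet R resR A' => t.1 r) hψ1
      · exact congrArg (fun t : ArtFun.HomSet R resR (ArtFun.Art.dual k k) => t.1 r) hψ3
    rw [← hψ2, this]
  · intro z
    obtain ⟨φ', hφ'⟩ := hsurj _ z.1.1
    have hz := z.2
    obtain ⟨ψ, hψ1, hψ2⟩ := hξ.1 (ArtFun.Art.toBase (ArtFun.Art.dual k k)) (Groth.Agent.H18ArtFun.toBase_surjective _)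
      (ArtFun.HomSet.map (ArtFun.Art.toBase A') φ') z.1.2 (by
        rw [ξ.natural, hφ', ← hz])
    obtain ⟨φ, h1, h2⟩ := Groth.Agent.H18ArtFun.exists_homSet_fibreProd h φ' ψ hψ1.symm
    refine ⟨ξ.app B φ, ?_⟩
    apply ArtFun.FibProd.ext
    · change F.map p' (ξ.app B φ) = _
      rw [← ξ.natural, h1, hφ']
    · change F.map p'' (ξ.app B φ) = _
      rw [← ξ.natural, h2, hψ2]
end Groth.Agent.S12303
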