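import Groth.Statements.S12315
import Groth.Agent.Lib.Helper18_ArtFun
-- import your own Groth.Agent.* helpers here

set_option autoImplicit false
universe u v
open CategoryTheory
open SGA7

namespace Groth.Agent.S12315

/-- Let Λ be a complete Noetherian local ring with residue field k (the map Λ → k surjective), and
consider functors on the category of local Artinian Λ-algebras with residue field k. Let F be such a
functor, R a complete local Noetherian Λ-algebra with residue field k, and ξ a family of F over R (a
morphism h_R → F) which is injective on k[ε]: distinct augmented Λ-algebra maps R → k[ε] give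
distinct elements of F(k[ε]). Then every endomorphism of the pair (R, ξ), that is every Λ-algebra
map α : R → R compatible with the augmentation such that transporting ξ along α gives back ξ, is an
automorphism of R. (The published statement is for formal objects of a cofibred groupoid; this row
is the case of a set-valued functor.) -/
theorem result (Λ k : Type u) [CommRing Λ] [IsLocalRing Λ] [IsNoetherianRing Λ]
    [IsAdicComplete (IsLocalRing.maximalIdeal Λ) Λ] [Field k] [Algebra Λ k]
    (hk : Function.Surjective (algebraMap Λ k))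
    (F : ArtFun.Art Λ k ⥤ Type v) (R : ArtFun.CRing Λ k) (ξ : ArtFun.Family R.carrier R.res F)
    (hinj : Function.Injective (ξ.app (ArtFun.Art.dual Λ k)))
    (α : R.carrier →ₐ[Λ] R.carrier) (hα : R.res.comp α = R.res) (hξ : ξ.along α hα = ξ) :
    Function.Bijective α := by
  have hmax : RingHom.ker R.res = IsLocalRing.maximalIdeal R.carrier := by
    ext a
    rw [ArtFun.CRing.mem_maximalIdeal_iff]
    rfl
  have hαm : ∀ x, R.res (α x) = R.res x := fun x => AlgHom.congr_fun hα x
  have key : ∀ x ∈ IsLocalRing.maximalIdeal R.carrier, α x - x ∈ (IsLocalRing.maximalIdeal R.carrier) ^ 2 ⊔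
      (RingHom.ker (algebraMap Λ k)).map (algebraMap Λ R.carrier) := by
    intro x hx
    rw [← hmax]
    apply Groth.Agent.H18ArtFun.mem_of_forall_dual hk R.res
    · rw [map_sub, hαm, sub_self]
    · intro χ
      have h1 := congrArg (fun t : ArtFun.Family R.carrier R.res F => t.app _ χ) hξ
      change ξ.app _ _ = ξ.app _ _ at h1
      have h2 := hinj h1
      have h3 := congrArg (fun t : ArtFun.HomSet R.carrier R.res (ArtFun.Art.dual Λ k) => t.1 x) h2
      change χ.1 (α x) = χ.1 x at h3
      rw [map_sub, h3, sub_self]
      rfl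
  have hmap : (IsLocalRing.maximalIdeal R.carrier).map α.toRingHom ≤ IsLocalRing.maximalIdeal R.carrier := by
    rw [Ideal.map_le_iff_le_comap]
    intro a ha
    rw [Ideal.mem_comap, ArtFun.CRing.mem_maximalIdeal_iff]
    rw [ArtFun.CRing.mem_maximalIdeal_iff] at ha
    exact (hαm a).trans ha
  have hΛ : (RingHom.ker (algebraMap Λ k)).map (algebraMap Λ R.carrier) ≤ (IsLocalRing.maximalIdeal R.carrier).map α.toRingHom := by
    rw [Ideal.map_le_iff_le_comap]
    intro l hl
    rw [Ideal.mem_comap]
    have : algebraMap Λ R.carrier l = α.toRingHom (algebraMap Λ R.carrier l) := (α.commutes l).symm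
    rw [this]
    apply Ideal.mem_map_of_mem
    rw [ArtFun.CRing.mem_maximalIdeal_iff, AlgHom.commutes]
    exact hl
  have hle : IsLocalRing.maximalIdeal R.carrier ≤ (IsLocalRing.maximalIdeal R.carrier).map α.toRingHom ⊔
      IsLocalRing.maximalIdeal R.carrier • IsLocalRing.maximalIdeal R.carrier := by
    intro x hx
    have h1 := key x hx
    have h2 : α x ∈ (IsLocalRing.maximalIdeal R.carrier).map α.toRingHom := Ideal.mem_map_of_mem _ hx
    have h3 : x = α x - (α x - x) := by ring
    rw [h3]
    refine Submodule.sub_mem _ (Ideal.mem_sup_left h2) ?_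
    rw [pow_two] at h1
    refine (sup_le le_sup_right (hΛ.trans le_sup_left) : _ ≤ _) h1
  have hfg : (IsLocalRing.maximalIdeal R.carrier).FG := IsNoetherian.noetherian _
  have hle2 : IsLocalRing.maximalIdeal R.carrier ≤ (IsLocalRing.maximalIdeal R.carrier).map α.toRingHom :=
    Submodule.le_of_le_smul_of_le_jacobson_bot hfg (IsLocalRing.maximalIdeal_le_jacobson _) hle
  have heq := le_antisymm hmap hle2
  have hcomp := R.isAdicComplete
  have hsurj : Function.Surjective α.toRingHom := by
    have : IsHausdorff ((IsLocalRing.maximalIdeal R.carrier).map α.toRingHom) R.carrier := by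
      rw [heq]; exact hcomp.toIsHausdorff
    have := hcomp.toIsPrecomplete
    apply surjective_of_mk_map_comp_surjective (I := IsLocalRing.maximalIdeal R.carrier)
    intro y
    obtain ⟨y, rfl⟩ := Ideal.Quotient.mk_surjective y
    obtain ⟨l, hl⟩ := hk (R.res y)
    refine ⟨algebraMap Λ R.carrier l, ?_⟩
    change Ideal.Quotient.mk _ (α (algebraMap Λ R.carrier l)) = _
    rw [AlgHom.commutes]
    apply Ideal.Quotient.eq.2
    rw [heq, ArtFun.CRing.mem_maximalIdeal_iff, map_sub, AlgHom.commutes, hl, sub_self]
  refine ⟨?_, hsurj⟩
  -- injectivity: surjective endomorphism of a noetherian ring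
  have hmono : Monotone (fun n : ℕ => RingHom.ker ((α.toRingHom : R.carrier →+* R.carrier) ^ n)) := by
    refine monotone_nat_of_le_succ fun n x hx => ?_
    rw [RingHom.mem_ker] at hx ⊢
    rw [pow_succ', RingHom.mul_def, RingHom.comp_apply, hx, map_zero]
  obtain ⟨n, hn⟩ := monotone_stabilizes_iff_noetherian.2 (inferInstance : IsNoetherian R.carrier R.carrier) ⟨_, hmono⟩
  have hpow : ∀ n : ℕ, Function.Surjective ((α.toRingHom : R.carrier →+* R.carrier) ^ n) := by
    intro n
    induction n with
    | zero => exact fun x => ⟨x, rfl⟩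
    | succ n ih =>
      intro x
      obtain ⟨y, hy⟩ := hsurj x
      obtain ⟨z, hz⟩ := ih y
      exact ⟨z, by rw [pow_succ', RingHom.mul_def, RingHom.comp_apply, hz, hy]⟩
  have hinj' : Function.Injective α.toRingHom := by
    rw [injective_iff_map_eq_zero]
    intro x hx
    obtain ⟨y, rfl⟩ := hpow n x
    have h1 : y ∈ RingHom.ker ((α.toRingHom : R.carrier →+* R.carrier) ^ (n + 1)) := by
      rw [RingHom.mem_ker, pow_succ', RingHom.mul_def, RingHom.comp_apply, hx]
    have h2 := hn (n + 1) (Nat.le_succ n)
    change RingHom.ker ((α.toRingHom : R.carrier →+* R.carrier) ^ n) = RingHom.ker ((α.toRingHom : R.carrier →+* R.carrier) ^ (n + 1)) at h2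
    rw [← h2] at h1
    exact h1
  exact hinj'
end Groth.Agent.S12315
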