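import Groth.Statements.S12417
import Mathlib
-- import your own Groth.Agent.* helpers here

set_option autoImplicit false
universe u
open CategoryTheory AlgebraicGeometry
open Props

namespace Groth.Agent.S12417

/-- Let X be a quasi-compact quasi-separated scheme and P a property of opens of X such that (a) P holds
for every affine open, and (b) whenever a quasi-compact open U has a finite affine open covering U =
V_1 ∪ … ∪ V_n with P holding for every intersection V_i ∩ V_j, P holds for U. Then P holds for every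
quasi-compact open of X. -/
theorem result (X : Scheme.{u}) [CompactSpace X] [QuasiSeparatedSpace X]
    (P : X.Opens → Prop) (ha : ∀ U : X.Opens, IsAffineOpen U → P U)
    (hb : ∀ (U : X.Opens) (n : ℕ) (V : Fin n → X.Opens), IsCompact (U : Set X) →
      (∀ i, IsAffineOpen (V i)) → ⨆ i, V i = U → (∀ i j, P (V i ⊓ V j)) → P U)
    (U : X.Opens) (hU : IsCompact (U : Set X)) : P U := by
  -- compact opens inside an affine open
  have step1 : ∀ (W : X.Opens), IsAffineOpen W → ∀ U : X.Opens, U ≤ W → IsCompact (U : Set X) → P U := by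
    intro W hW U hUW hU
    have h1 : ∀ x : U, ∃ f : Γ(X, W), X.basicOpen f ≤ U ∧ (x : X) ∈ X.basicOpen f := fun x => by
      obtain ⟨f, hf, hx⟩ := hW.exists_basicOpen_le (V := U) x (hUW x.2)
      exact ⟨f, hf, hx⟩
    choose f hf hx using h1
    obtain ⟨t, ht⟩ := hU.elim_finite_subcover (fun x : U => ((X.basicOpen (f x) : X.Opens) : Set X)) (fun x => (X.basicOpen (f x)).2)
      (fun x hxU => Set.mem_iUnion.2 ⟨⟨x, hxU⟩, hx _⟩)
    let e := t.equivFin
    refine hb U t.card (fun i => X.basicOpen (f (e.symm i).1)) hU (fun i => hW.basicOpen _) ?_ ?_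
    · apply le_antisymm
      · exact iSup_le fun i => hf _
      · intro x hxU
        obtain ⟨y, hy⟩ := Set.mem_iUnion.1 (ht hxU)
        obtain ⟨hyt, hy⟩ := Set.mem_iUnion.1 hy
        refine TopologicalSpace.Opens.mem_iSup.2 ⟨e ⟨y, hyt⟩, ?_⟩
        rw [Equiv.symm_apply_apply]
        exact hy
    · intro i j
      rw [← Scheme.basicOpen_mul]
      exact ha _ (hW.basicOpen _)
  have h1 : ∀ x : U, ∃ W : X.Opens, IsAffineOpen W ∧ (x : X) ∈ W ∧ W ≤ U := by
    intro x
    obtain ⟨W, hW, hxW, hWU⟩ := AlgebraicGeometry.exists_isAffineOpen_mem_and_subset (U := U) x.2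
    exact ⟨W, hW, hxW, hWU⟩
  choose W hW hxW hWU using h1
  obtain ⟨t, ht⟩ := hU.elim_finite_subcover (fun x : U => ((W x : X.Opens) : Set X)) (fun x => (W x).2)
    (fun x hxU => Set.mem_iUnion.2 ⟨⟨x, hxU⟩, hxW _⟩)
  let e := t.equivFin
  refine hb U t.card (fun i => W (e.symm i).1) hU (fun i => hW _) ?_ ?_
  · apply le_antisymm
    · exact iSup_le fun i => hWU _
    · intro x hxU
      obtain ⟨y, hy⟩ := Set.mem_iUnion.1 (ht hxU)
      obtain ⟨hyt, hy⟩ := Set.mem_iUnion.1 hy
      refine TopologicalSpace.Opens.mem_iSup.2 ⟨e ⟨y, hyt⟩, ?_⟩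
      rw [Equiv.symm_apply_apply]
      exact hy
  · intro i j
    refine step1 _ (hW (e.symm i).1) _ inf_le_left ?_
    exact QuasiSeparatedSpace.inter_isCompact _ _ (W _).2 (hW _).isCompact (W _).2 (hW _).isCompact
end Groth.Agent.S12417
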