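import Groth.Statements.S12418
-- import your own Groth.Agent.* helpers here

set_option autoImplicit false
universe u
open CAlg

namespace Groth.Agent.S12418

/-- Let R be a Noetherian ring and b ∈ R; for x outside the ideal (b) put I_x = ((b) : x), the ideal of
r with r x ∈ (b). If s ∉ (b) and I_s is maximal among the I_x (x ∉ (b)), then I_s is prime. -/
theorem result {R : Type u} [CommRing R] [IsNoetherianRing R]
    (b s : R) (hs : s ∉ Ideal.span {b})
    (hmax : ∀ x : R, x ∉ Ideal.span {b} →
      Submodule.colon (Ideal.span {b}) (Ideal.span {s}) ≤ Submodule.colon (Ideal.span {b}) (Ideal.span {x}) →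
      Submodule.colon (Ideal.span {b}) (Ideal.span {x}) = Submodule.colon (Ideal.span {b}) (Ideal.span {s})) :
    (Submodule.colon (Ideal.span {b}) (Ideal.span ({s} : Set R))).IsPrime := by
  have key : ∀ t r : R, r ∈ Submodule.colon (Ideal.span {b}) (Ideal.span ({t} : Set R)) ↔ r * t ∈ Ideal.span {b} := by
    intro t r
    rw [Submodule.mem_colon]
    constructor
    · intro h
      exact h t (Ideal.mem_span_singleton_self t)
    · intro h p hp
      obtain ⟨c, rfl⟩ := Ideal.mem_span_singleton'.mp hp
      have : r • (c * t) = c * (r * t) := by simp [smul_eq_mul]; ring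
      rw [this]
      exact Ideal.mul_mem_left _ _ h
  constructor
  · intro h
    apply hs
    have := (key s 1).mp (by rw [h]; trivial)
    simpa using this
  · intro x y hxy
    by_cases hx : x ∈ Submodule.colon (Ideal.span {b}) (Ideal.span ({s} : Set R))
    · exact Or.inl hx
    · right
      have hx' : x * s ∉ Ideal.span {b} := fun h => hx ((key s x).mpr h)
      have := hmax (x * s) hx' (by
        intro r hr
        rw [key] at hr ⊢
        have : r * (x * s) = x * (r * s) := by ring
        rw [this]
        exact Ideal.mul_mem_left _ _ hr)
      rw [← this, key]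
      have h2 := (key s (x * y)).mp hxy
      have : y * (x * s) = x * y * s := by ring
      rw [this]; exact h2
end Groth.Agent.S12418
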