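import Groth.Statements.S12514
import Groth.Agent.Lib.H16_FunFldR

set_option autoImplicit false
open FunFld

namespace Groth.Agent.S12514

/-- For a geometric function field of one variable `K/k` and finite extensions `K ⊆ K' ⊆ K''`, the
conorm maps on divisors compose: `N*_{K''/K'} ∘ N*_{K'/K} = N*_{K''/K}`. The companion identity for
norms is not stated. -/
theorem result (k K K' K'' : Type*) [Field k] [Field K] [Field K'] [Field K'']
    [Algebra k K] [Algebra k K'] [Algebra k K''] [Algebra K K'] [Algebra K' K''] [Algebra K K'']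
    [IsScalarTower k K K'] [IsScalarTower k K' K''] [IsScalarTower k K K''] [IsScalarTower K K' K'']
    [FiniteDimensional K K'] [FiniteDimensional K' K'']
    (hK : FunFld.IsFunctionField k K) (hg : FunFld.IsGeometric k K) (D : FunFld.Divisor k K) :
    FunFld.conorm K'' (FunFld.conorm K' D) = FunFld.conorm K'' D := by
  have hF' : Groth.Agent.H16g.FF k K' := Groth.Agent.H16g.FF_ext (K := K) hK.1
  have hF'' : Groth.Agent.H16g.FF k K'' := Groth.Agent.H16g.FF_ext (K := K') hF'
  ext R
  obtain ⟨Q, e, he, hov⟩ := Groth.Agent.H16g.exists_below (K := K') (K' := K'') hF' R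
  obtain ⟨P, e', he', hov'⟩ := Groth.Agent.H16g.exists_below (K := K) (K' := K') hK.1 Q
  have hRP : FunFld.IsOverWith R P (e' * e) := by
    intro z
    rw [IsScalarTower.algebraMap_apply K K' K'', hov, hov', pow_mul]
  rw [Groth.Agent.H16g.conorm_apply_FF hF'' _ hov, Groth.Agent.H16g.conorm_apply_FF hF' _ hov',
    Groth.Agent.H16g.conorm_apply_FF hF'' _ hRP]
  push_cast; ring

end Groth.Agent.S12514
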