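import Groth.Statements.S12515

import Mathlib

set_option autoImplicit false
open FunFld

namespace Groth.Agent.S12515
section aux
variable {F K : Type*} [Field F] [Field K] [Algebra F K]

lemma exists_gen (hdeg : Module.finrank F K = 2) : ∃ z : K, z ∉ (algebraMap F K).range := by
  by_contra hcon
  push Not at hcon
  have h1 : (⊥ : Subalgebra F K) = ⊤ := by
    rw [eq_top_iff]
    intro z _
    exact Algebra.mem_bot.mpr (hcon z)
  have h2 := Subalgebra.bot_eq_top_iff_finrank_eq_one.mp h1
  omega

lemma exists_quad (hdeg : Module.finrank F K = 2) {z : K} (hz : z ∉ (algebraMap F K).range) :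
    ∃ b c : F, z ^ 2 + algebraMap F K b * z + algebraMap F K c = 0 := by
  haveI : FiniteDimensional F K := Module.finite_of_finrank_pos (by omega)
  have hint : IsIntegral F z := IsIntegral.of_finite F z
  have h1 := (minpoly.two_le_natDegree_iff hint).mpr hz
  have h2 : (minpoly F z).natDegree ≤ Module.finrank F K := minpoly.natDegree_le z
  have h3 : (minpoly F z).natDegree = 2 := by omega
  have h4 := minpoly.aeval F z
  rw [Polynomial.aeval_eq_sum_range, h3, Finset.sum_range_succ, Finset.sum_range_succ, Finset.sum_range_one] at h4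
  have h5 : (minpoly F z).coeff 2 = 1 := by
    have := (minpoly.monic hint).coeff_natDegree
    rwa [h3] at this
  rw [h5] at h4
  refine ⟨(minpoly F z).coeff 1, (minpoly F z).coeff 0, ?_⟩
  simp only [Algebra.smul_def, map_one, pow_zero, pow_one, mul_one, one_mul] at h4
  linear_combination h4

lemma adjoin_top (hdeg : Module.finrank F K = 2) {y : K} (hy : y ∉ (algebraMap F K).range) :
    IntermediateField.adjoin F ({y} : Set K) = ⊤ := by
  haveI : FiniteDimensional F K := Module.finite_of_finrank_pos (by omega)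
  have hint : IsIntegral F y := IsIntegral.of_finite F y
  have h1 := (minpoly.two_le_natDegree_iff hint).mpr hy
  rw [← IntermediateField.adjoin.finrank hint] at h1
  apply IntermediateField.eq_of_le_of_finrank_le le_top
  rw [IntermediateField.finrank_top', hdeg]
  exact h1
end aux

/-- If `char k ≠ 2` and `K` has degree `2` over the rational function field `k(x)`, then `K = k(x)(y)`
for some `y` with `y² = f(x)`, `f` a squarefree polynomial over `k`. -/
theorem result (k K : Type*) [Field k] [Field K] (h2 : ringChar k ≠ 2)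
    [Algebra (RatFunc k) K] (hdeg : Module.finrank (RatFunc k) K = 2) :
    ∃ (y : K) (f : Polynomial k), Squarefree f ∧
      y ^ 2 = algebraMap (RatFunc k) K (algebraMap (Polynomial k) (RatFunc k) f) ∧
      IntermediateField.adjoin (RatFunc k) ({y} : Set K) = ⊤ := by
  classical
  have h2k : (2 : k) ≠ 0 := Ring.two_ne_zero h2
  have h2F : (2 : RatFunc k) ≠ 0 := by
    have : (algebraMap k (RatFunc k)) 2 ≠ 0 := (map_ne_zero _).mpr h2k
    rwa [map_ofNat] at this
  obtain ⟨z, hz⟩ := exists_gen hdeg
  obtain ⟨b, c, hbc⟩ := exists_quad hdeg hz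
  let φ := algebraMap (RatFunc k) K
  let P : ℕ → Prop := fun n => ∃ (y : K) (f : Polynomial k), y ∉ (algebraMap (RatFunc k) K).range ∧
      y ^ 2 = algebraMap (RatFunc k) K (algebraMap (Polynomial k) (RatFunc k) f) ∧ f.natDegree = n
  have hP : ∃ n, P n := by
    obtain ⟨⟨p, q⟩, hpq⟩ := IsLocalization.surj (nonZeroDivisors (Polynomial k)) (b ^ 2 / 4 - c)
    have hq0 : algebraMap (Polynomial k) (RatFunc k) q ≠ 0 := by
      intro h0
      exact nonZeroDivisors.ne_zero q.2 ((map_eq_zero_iff _ (IsFractionRing.injective (Polynomial k) (RatFunc k))).mp h0)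
    have h4F : (4 : RatFunc k) ≠ 0 := by
      have : (4 : RatFunc k) = 2 * 2 := by norm_num
      rw [this]; exact mul_ne_zero h2F h2F
    refine ⟨_, φ (algebraMap (Polynomial k) (RatFunc k) q) * (z + φ (b / 2)), p * q, ?_, ?_, rfl⟩
    · rintro ⟨w, hw⟩
      apply hz
      refine ⟨w / algebraMap (Polynomial k) (RatFunc k) q - b / 2, ?_⟩
      rw [map_sub, map_div₀, hw]
      have : φ (algebraMap (Polynomial k) (RatFunc k) q) ≠ 0 := (map_ne_zero _).mpr hq0
      change φ (algebraMap (Polynomial k) (RatFunc k) q) * (z + φ (b / 2)) / φ (algebraMap (Polynomial k) (RatFunc k) q) - φ (b / 2) = z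
      rw [mul_div_cancel_left₀ _ this]; ring
    · have h5 : (z + φ (b / 2)) ^ 2 = φ (b ^ 2 / 4 - c) := by
        have h6 : φ (b / 2) ^ 2 = φ (b ^ 2 / 4) := by
          rw [← map_pow]; congr 1; field_simp; norm_num
        have h7 : φ b = 2 * φ (b / 2) := by
          have : φ b = φ (2 * (b / 2)) := by congr 1; field_simp
          rw [this, map_mul, map_ofNat]
        rw [map_sub, ← h6]
        have h8 : z ^ 2 + φ b * z + φ c = 0 := hbc
        rw [h7] at h8
        linear_combination h8
      rw [mul_pow, h5, ← map_pow, ← map_mul]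
      change φ _ = φ _
      congr 1
      rw [map_mul]
      have h9 : (b ^ 2 / 4 - c) * algebraMap (Polynomial k) (RatFunc k) q = algebraMap (Polynomial k) (RatFunc k) p := hpq
      rw [← h9]; ring
  obtain ⟨y, f, hy, hyf, hn⟩ := Nat.find_spec hP
  have hf0 : f ≠ 0 := by
    rintro rfl
    apply hy
    rw [map_zero, map_zero] at hyf
    have : y = 0 := by simpa using hyf
    rw [this]; exact zero_mem _
  refine ⟨y, f, ?_, hyf, adjoin_top hdeg hy⟩
  rintro g ⟨h, hgh⟩
  have hg0 : g ≠ 0 := by rintro rfl; apply hf0; rw [hgh]; ring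
  have hh0 : h ≠ 0 := by rintro rfl; apply hf0; rw [hgh]; ring
  have hgF : algebraMap (Polynomial k) (RatFunc k) g ≠ 0 := by
    intro h0
    exact hg0 ((map_eq_zero_iff _ (IsFractionRing.injective (Polynomial k) (RatFunc k))).mp h0)
  have hgK : φ (algebraMap (Polynomial k) (RatFunc k) g) ≠ 0 := (map_ne_zero _).mpr hgF
  by_contra hunit
  have hgd : 0 < g.natDegree := by
    rw [Nat.pos_iff_ne_zero]
    intro h0
    apply hunit
    exact Polynomial.isUnit_iff_degree_eq_zero.mpr (by rw [Polynomial.degree_eq_natDegree hg0, h0]; rfl)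
  have hdegf : f.natDegree = g.natDegree + g.natDegree + h.natDegree := by
    rw [hgh, Polynomial.natDegree_mul (mul_ne_zero hg0 hg0) hh0, Polynomial.natDegree_mul hg0 hg0]
  refine Nat.find_min hP (m := h.natDegree) (by omega) ⟨y / φ (algebraMap (Polynomial k) (RatFunc k) g), h, ?_, ?_, rfl⟩
  · rintro ⟨w, hw⟩
    apply hy
    refine ⟨w * algebraMap (Polynomial k) (RatFunc k) g, ?_⟩
    rw [map_mul, hw]
    exact div_mul_cancel₀ _ hgK
  · rw [div_pow, hyf, hgh, map_mul, map_mul, map_mul, map_mul]
    rw [div_eq_iff (pow_ne_zero 2 hgK)]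
    change φ _ * φ _ * φ _ = φ _ * φ _ ^ 2
    ring

end Groth.Agent.S12515
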