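import Groth.Statements.S12517

import Mathlib
import Groth.Agent.S12515

set_option autoImplicit false
open FunFld

namespace Groth.Agent.S12517

/-- If `k` is perfect of characteristic `2` and `K` is a separable extension of degree `2` of the
rational function field `k(x)`, then `K = k(x)(y)` for some `y` with `y² + y = f(x)`, `f ∈ k(x)`.
The correspondence between such extensions and cosets of `{a² + a}` in `k(x)` is not stated. -/
theorem result (k K : Type*) [Field k] [Field K] [PerfectField k]
    (h2 : ringChar k = 2) [Algebra (RatFunc k) K] (hdeg : Module.finrank (RatFunc k) K = 2)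
    [Algebra.IsSeparable (RatFunc k) K] :
    ∃ (y : K) (f : RatFunc k), y ^ 2 + y = algebraMap (RatFunc k) K f ∧
      IntermediateField.adjoin (RatFunc k) ({y} : Set K) = ⊤ := by
  have h2k : (2 : k) = 0 := by
    have := ringChar.Nat.cast_ringChar (R := k)
    rw [h2] at this
    exact_mod_cast this
  have h2F : (2 : RatFunc k) = 0 := by
    have : (algebraMap k (RatFunc k)) 2 = 0 := by rw [h2k, map_zero]
    rwa [map_ofNat] at this
  haveI : FiniteDimensional (RatFunc k) K := Module.finite_of_finrank_pos (by omega)
  obtain ⟨z, hz⟩ := Groth.Agent.S12515.exists_gen hdeg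
  have hint : IsIntegral (RatFunc k) z := IsIntegral.of_finite _ z
  have h1 := (minpoly.two_le_natDegree_iff hint).mpr hz
  have h2' : (minpoly (RatFunc k) z).natDegree ≤ Module.finrank (RatFunc k) K := minpoly.natDegree_le z
  have h3 : (minpoly (RatFunc k) z).natDegree = 2 := by omega
  have h4 := minpoly.aeval (RatFunc k) z
  rw [Polynomial.aeval_eq_sum_range, h3, Finset.sum_range_succ, Finset.sum_range_succ, Finset.sum_range_one] at h4
  have h5 : (minpoly (RatFunc k) z).coeff 2 = 1 := by
    have := (minpoly.monic hint).coeff_natDegree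
    rwa [h3] at this
  rw [h5] at h4
  simp only [Algebra.smul_def, map_one, pow_zero, pow_one, mul_one, one_mul] at h4
  set b := (minpoly (RatFunc k) z).coeff 1 with hb
  set c := (minpoly (RatFunc k) z).coeff 0 with hc
  have hb0 : b ≠ 0 := by
    intro h0
    have hsep := Algebra.IsSeparable.isSeparable (RatFunc k) z
    have hder : Polynomial.derivative (minpoly (RatFunc k) z) = 0 := by
      ext n
      rw [Polynomial.coeff_derivative, Polynomial.coeff_zero]
      rcases n with _ | _ | n
      · have : (minpoly (RatFunc k) z).coeff (0 + 1) = 0 := by rw [zero_add, ← hb, h0]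
        rw [this, zero_mul]
      · have h9 : ((((0 + 1 : ℕ) : RatFunc k)) + 1) = 0 := by
          push_cast
          linear_combination h2F
        rw [h9, mul_zero]
      · rw [Polynomial.coeff_eq_zero_of_natDegree_lt (by omega), zero_mul]
    have hs : IsCoprime (minpoly (RatFunc k) z) (Polynomial.derivative (minpoly (RatFunc k) z)) := hsep
    rw [hder, isCoprime_zero_right] at hs
    have := Polynomial.natDegree_eq_zero_of_isUnit hs
    omega
  have hbK : algebraMap (RatFunc k) K b ≠ 0 := (map_ne_zero _).mpr hb0
  have hyr : z / algebraMap (RatFunc k) K b ∉ (algebraMap (RatFunc k) K).range := by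
    rintro ⟨w, hw⟩
    apply hz
    refine ⟨w * b, ?_⟩
    rw [map_mul, hw]
    exact div_mul_cancel₀ _ hbK
  refine ⟨z / algebraMap (RatFunc k) K b, -c / b ^ 2, ?_, Groth.Agent.S12515.adjoin_top hdeg hyr⟩
  rw [map_div₀, map_neg, map_pow]
  field_simp
  linear_combination h4

end Groth.Agent.S12517
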