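import Groth.Statements.S12620

import Mathlib

set_option autoImplicit false
universe u v w
open LocRes

namespace Groth.Agent.S12620

/-- Let `K` be a field with a valuation `w` into `ℤ ∪ {0}` and `φ : K → F((X))` a `k`-algebra expansion
at `w` in a local parameter (valuation-compatible, valuation ring onto the coefficient field `F`,
`w` normalised). Then for every nonzero `f` the residue of the logarithmic differential `f⁻¹ df`
read through `φ` — the `X⁻¹`-coefficient of `φ(f)⁻¹ · (φ f)′` — is the order of `f` at `w` (the
integer `n` with `w f = exp (-n)`), viewed in `F`. (The published statement is for a complete field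
with a perfect coefficient field and its intrinsic residue; read through an expansion neither
completeness nor perfectness plays a role.) -/
theorem result {k : Type u} {K : Type v} {F : Type w} [CommRing k] [Field K] [Field F]
    [Algebra k K] [Algebra k F]
    (w : Valuation K (WithZero (Multiplicative ℤ))) (φ : K →ₐ[k] LaurentSeries F)
    (hφ : LocRes.IsExpansionAt w φ) (f : K) (hf : f ≠ 0) :
    LocRes.resExp φ f⁻¹ f = ((-WithZero.log (w f) : ℤ) : F) := by
  have hwf : w f ≠ 0 := (Valuation.ne_zero_iff w).mpr hf
  have hφf : φ f ≠ 0 := (map_ne_zero φ).mpr hf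
  set n : ℤ := -WithZero.log (w f) with hn
  have hwn : w f = WithZero.exp (-n) := by
    rw [hn, neg_neg, WithZero.exp_log hwf]
  have hs : ∀ m : ℤ, (HahnSeries.single m (1 : F) : LaurentSeries F) * HahnSeries.single (-m) 1 = 1 := by
    intro m
    rw [HahnSeries.single_mul_single, add_neg_cancel, one_mul]; rfl
  let g : LaurentSeries F := HahnSeries.single (-n) (1 : F) * φ f
  have hg0 : g ≠ 0 := by
    intro h0
    have h1 : HahnSeries.single n (1 : F) * g = φ f := by
      show HahnSeries.single n (1 : F) * (HahnSeries.single (-n) (1 : F) * φ f) = φ f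
      rw [← mul_assoc, hs, one_mul]
    rw [h0, mul_zero] at h1
    exact hφf h1.symm
  have hvg : Valued.v g = (1 : WithZero (Multiplicative ℤ)) := by
    show Valued.v (HahnSeries.single (-n) (1 : F) * φ f : LaurentSeries F) = 1
    rw [map_mul, LaurentSeries.valuation_single_zpow, hφ.1 f, hwn, ← WithZero.exp_add]
    simp
  obtain ⟨U, hU⟩ := (LaurentSeries.val_le_one_iff_eq_coe F g).mp hvg.le
  obtain ⟨V, hV⟩ := (LaurentSeries.val_le_one_iff_eq_coe F g⁻¹).mp (by rw [map_inv₀, hvg, inv_one])
  have hfg : φ f = HahnSeries.single n (1 : F) * g := by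
    show φ f = HahnSeries.single n (1 : F) * (HahnSeries.single (-n) (1 : F) * φ f)
    rw [← mul_assoc, hs, one_mul]
  have hfi : φ f⁻¹ = HahnSeries.single (-n) (1 : F) * g⁻¹ := by
    rw [map_inv₀, inv_eq_iff_eq_inv, hfg, mul_inv, inv_inv]
    congr 1
    exact eq_inv_of_mul_eq_one_left (hs n)
  have hD : LocRes.D F (φ f) = HahnSeries.single n (1 : F) * LocRes.D F g + HahnSeries.single (n - 1) (n • (1 : F)) * g := by
    rw [hfg]
    exact LocRes.derivative_single_mul (R := F) n 1 g
  show LocRes.res F (φ f⁻¹ * LocRes.D F (φ f)) = (n : F)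
  have e1 : φ f⁻¹ * LocRes.D F (φ f) = ((V * PowerSeries.derivative F U : PowerSeries F) : LaurentSeries F) + HahnSeries.single (-1) (n : F) := by
    rw [hD, hfi, PowerSeries.coe_mul, hV, ← LocRes.D_coe, hU]
    have h1 : g⁻¹ * g = 1 := inv_mul_cancel₀ hg0
    have h2 : (HahnSeries.single (-n) (1 : F) : LaurentSeries F) * HahnSeries.single n 1 = 1 := by rw [mul_comm]; exact hs n
    have h3 : (HahnSeries.single (-n) (1 : F) : LaurentSeries F) * HahnSeries.single (n - 1) (n • (1 : F)) = HahnSeries.single (-1) (n : F) := by
      rw [HahnSeries.single_mul_single]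
      congr 1
      · ring
      · simp
    linear_combination (g⁻¹ * LocRes.D F g) * h2 + (HahnSeries.single (-n) (1 : F) * HahnSeries.single (n - 1) (n • (1 : F))) * h1 + h3
  rw [e1, map_add, LocRes.res_apply, LocRes.res_apply, PowerSeries.coeff_coe, HahnSeries.coeff_single_same]
  simp

end Groth.Agent.S12620
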