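import Groth.Statements.S12626

import Mathlib

set_option autoImplicit false
universe u v
open CAlg

namespace Groth.Agent.S12626
lemma key (K : Type u) (A : Type v) [Field K] (p : ℕ) [Fact p.Prime] [CharP K p]
    [CommRing A] [Algebra K A] (x y : A) (j m : ℕ) :
    (x ^ (p ^ (j + (m + 1)))) • W4bk4bump814p2.delta K A p j y =
      W4bk4bump814p2.delta K A p j (x ^ (p ^ (m + 1)) * y) := by
  unfold W4bk4bump814p2.delta
  have hd : KaehlerDifferential.D K A (x ^ (p ^ (m + 1))) = 0 := by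
    rw [Derivation.leibniz_pow]
    have hp : ((p ^ (m + 1) : ℕ) : K) = 0 := by
      rw [Nat.cast_pow, CharP.cast_eq_zero, zero_pow (Nat.succ_ne_zero m)]
    rw [← Nat.cast_smul_eq_nsmul K, hp, zero_smul]
  rw [Derivation.leibniz, hd, smul_zero, add_zero, smul_smul, smul_smul]
  congr 1
  have hpp : 0 < p ^ j := pow_pos (Fact.out (p := p.Prime)).pos j
  obtain ⟨q, hq⟩ : ∃ q, p ^ j = q + 1 := ⟨p ^ j - 1, by omega⟩
  rw [pow_add, mul_comm (p ^ j), pow_mul, hq, Nat.add_sub_cancel, mul_pow]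
  ring

lemma gen (K : Type u) (A : Type v) [Field K] (p : ℕ) [Fact p.Prime] [CharP K p]
    [CommRing A] [Algebra K A] (x : A) (i : ℕ) : ∀ (N : ℕ), i ≤ N → ∀ ω : Ω[A⁄K], ω ∈ W4bk4bump814p2.sigma K A p i →
    (x ^ (p ^ N)) • ω ∈ W4bk4bump814p2.sigma K A p i := by
  induction i with
  | zero =>
    intro N _ ω hω
    have h0 : ω = 0 := hω
    rw [h0, smul_zero]
    rfl
  | succ i ih =>
    intro N hN ω hω
    obtain ⟨y, hσ⟩ := hω
    obtain ⟨m, rfl⟩ : ∃ m, N = i + (m + 1) := ⟨N - (i + 1), by omega⟩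
    refine ⟨x ^ (p ^ (m + 1)) * y, ?_⟩
    rw [← key, ← smul_sub]
    exact ih _ (by omega) _ hσ

/-- For a perfect field `K` of characteristic `p > 0` and a commutative `K`-algebra `A`, put `δ_i(x) =
x^(p^i - 1) dx` in `Ω_{A/K}` and let the subsets `Σ^i ⊆ Ω_{A/K}` be given by `Σ^0 = {0}` and
`Σ^(i+1) = {δ_i(x) + σ | x ∈ A, σ ∈ Σ^i}`; then `Σ^i` is stable under multiplication by `p^i`-th
powers of elements of `A`: for `x ∈ A` and `ω ∈ Σ^i`, `x^(p^i) ω ∈ Σ^i`. This stability is what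
turns the rule `x · [ω] = [x^(p^i) ω]` into an `A`-module structure on the quotient `Ω_{A/K} / Σ^i`
(the row states the stability; that `x ↦ [δ_i(x)]` is then a derivation is a direct computation and
is not restated). -/
theorem result (K : Type u) (A : Type v) [Field K] [PerfectField K] (p : ℕ) [Fact p.Prime] [CharP K p]
    [CommRing A] [Algebra K A] (i : ℕ) (x : A)
    (ω : Ω[A⁄K]) (hω : ω ∈ W4bk4bump814p2.sigma K A p i) :
    (x ^ (p ^ i)) • ω ∈ W4bk4bump814p2.sigma K A p i := by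
  exact gen K A p x i i le_rfl ω hω

end Groth.Agent.S12626
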