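import Groth.Statements.S13041

import Mathlib

set_option autoImplicit false
universe u
open MaxMod

namespace Groth.Agent.S13041
section aux
open TensorProduct
lemma clear_denom (R K A : Type u) [CommRing R] [IsDomain R] [Field K] [Algebra R K] [IsFractionRing R K]
    [CommRing A] [Algebra R A] (y : K ⊗[R] A) : ∃ r : R, r ≠ 0 ∧ ∃ a : A, r • y = (1 : K) ⊗ₜ[R] a := by
  induction y using TensorProduct.induction_on with
  | zero => exact ⟨1, one_ne_zero, 0, by simp⟩
  | tmul x a =>
    obtain ⟨p, q, hq, hx⟩ := IsFractionRing.div_surjective (A := R) x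
    have hq0 : q ≠ 0 := nonZeroDivisors.ne_zero hq
    have hqK : algebraMap R K q ≠ 0 := by
      intro h0
      exact hq0 ((map_eq_zero_iff _ (IsFractionRing.injective R K)).mp h0)
    refine ⟨q, hq0, p • a, ?_⟩
    rw [TensorProduct.smul_tmul', ← TensorProduct.smul_tmul, ← hx]
    congr 1
    rw [Algebra.smul_def, Algebra.smul_def, mul_one, mul_div_cancel₀ _ hqK]
  | add y z hy hz =>
    obtain ⟨r, hr, a, ha⟩ := hy
    obtain ⟨s, hs, b, hb⟩ := hz
    refine ⟨r * s, mul_ne_zero hr hs, s • a + r • b, ?_⟩
    have e1 : (r * s) • y = (1 : K) ⊗ₜ[R] (s • a) := by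
      rw [mul_comm, mul_smul, ha, TensorProduct.tmul_smul]
    have e2 : (r * s) • z = (1 : K) ⊗ₜ[R] (r • b) := by
      rw [mul_smul, hb, TensorProduct.tmul_smul]
    rw [smul_add, e1, e2, TensorProduct.tmul_add]
end aux

/-- Let R be a domain with fraction field K, let A → B be a homomorphism of commutative R-algebras that
are flat over R, with B module-finite over A, such that the induced map K ⊗_R A → K ⊗_R B is
bijective. If the A-linear map Hom_A(B, A) → A evaluating at 1 is surjective, then A → B is
bijective. (The published statement concerns a finite morphism of flat schemes over a discrete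
valuation ring, with locally free relative dualizing sheaves, that is an isomorphism over a
schematically dense open and whose trace map on dualizing sheaves is surjective; this row is the
statement about rings to which the printed proof reduces it and which that proof establishes, and
the argument uses only that R is a domain.) -/
theorem result
    (R K A B : Type u) [CommRing R] [IsDomain R] [Field K] [Algebra R K] [IsFractionRing R K]
    [CommRing A] [CommRing B] [Algebra R A] [Algebra R B] [Algebra A B] [IsScalarTower R A B]
    [Module.Flat R A] [Module.Flat R B] [Module.Finite A B]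
    (hK : Function.Bijective
      (Algebra.TensorProduct.map (AlgHom.id R K) (IsScalarTower.toAlgHom R A B)))
    (htr : Function.Surjective (fun u : B →ₗ[A] A => u 1)) :
    Function.Bijective (algebraMap A B) := by
  obtain ⟨u, hu⟩ := htr 1
  have hu1 : u 1 = 1 := hu
  have hua : ∀ a : A, u (algebraMap A B a) = a := by
    intro a
    rw [Algebra.algebraMap_eq_smul_one, map_smul, hu1, smul_eq_mul, mul_one]
  refine ⟨fun a b hab => by rw [← hua a, ← hua b, hab], fun b => ⟨u b, ?_⟩⟩
  obtain ⟨y, hy⟩ := hK.2 ((1 : K) ⊗ₜ[R] b)
  obtain ⟨r, hr, a, hra⟩ := clear_denom R K A y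
  have h1 : (1 : K) ⊗ₜ[R] (r • b) = (1 : K) ⊗ₜ[R] (algebraMap A B a) := by
    rw [TensorProduct.tmul_smul, ← hy, ← map_smul, hra, Algebra.TensorProduct.map_tmul, map_one]; rfl
  have h2 : r • b = algebraMap A B a :=
    Algebra.TensorProduct.includeRight_injective (R := R) (A := K) (B := B) (IsFractionRing.injective R K) h1
  have h3 : r • u b = a := by
    have : u (r • b) = r • u b := by
      rw [← algebraMap_smul A r b, map_smul, algebraMap_smul]
    rw [← this, h2, hua]
  have h4 : r • (algebraMap A B (u b)) = r • b := by
    rw [h2, ← h3, Algebra.smul_def, Algebra.smul_def, map_mul, ← IsScalarTower.algebraMap_apply]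
  haveI : Module.IsTorsionFree R B := inferInstance
  exact smul_right_injective B hr h4

end Groth.Agent.S13041
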