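import Groth.Statements.S13048

import Mathlib

set_option autoImplicit false
universe u
open FrobAlg

namespace Groth.Agent.S13048

/-- Let k be an algebraically closed field of characteristic p > 0 and let A be a reduced finitely
generated commutative k-algebra with connected spectrum (A ≠ 0 and 0, 1 are its only idempotents).
If x ∈ A is a p^n-th power in A for every n ≥ 0, then x lies in the image of k; that is, ⋂_n A^{p^n}
= k. (The published statement is: for an artinian local ring R of characteristic p and a flat
R-algebra A of finite type, the maps A^ét → O(π₀(A)) → A^{p^∞/R} from the largest étale subalgebra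
to the preperfection are isomorphisms. This row is the case R = k algebraically closed and A reduced
with connected spectrum, where A^ét = k and the preperfection is ⋂_n A^{p^n}; the printed proof
reduces to this case and its last step proves it.) -/
theorem result
    (p : ℕ) [Fact p.Prime] (k : Type u) [Field k] [IsAlgClosed k] [CharP k p]
    (A : Type u) [CommRing A] [Algebra k A] [Algebra.FiniteType k A] [IsReduced A] [Nontrivial A]
    (hconn : ∀ e : A, IsIdempotentElem e → e = 0 ∨ e = 1)
    (x : A) (hx : ∀ n : ℕ, ∃ a : A, a ^ p ^ n = x) :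
    x ∈ (algebraMap k A).range := by
  haveI : CharP A p := charP_of_injective_algebraMap (algebraMap k A).injective p
  haveI : IsNoetherianRing A := Algebra.FiniteType.isNoetherianRing k A
  obtain ⟨m0, hm0⟩ := Ideal.exists_maximal A
  letI : Field (A ⧸ m0) := Ideal.Quotient.field m0
  haveI : Algebra.FiniteType k (A ⧸ m0) := Algebra.FiniteType.of_surjective (Ideal.Quotient.mkₐ k m0) Ideal.Quotient.mk_surjective
  haveI : Module.Finite k (A ⧸ m0) := finite_of_finite_type_of_isJacobsonRing k (A ⧸ m0)
  have hbij : Function.Bijective (algebraMap k (A ⧸ m0)) := IsAlgClosed.algebraMap_bijective_of_isIntegral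
  obtain ⟨c, hc⟩ := hbij.2 (Ideal.Quotient.mk m0 x)
  set y := x - algebraMap k A c with hy
  have hym0 : y ∈ m0 := by
    rw [← Ideal.Quotient.eq_zero_iff_mem, hy, map_sub, ← hc, sub_eq_zero]; rfl
  have hroot : ∀ n : ℕ, ∃ b : A, b ^ p ^ n = y := by
    intro n
    obtain ⟨a, ha⟩ := hx n
    obtain ⟨cn, hcn⟩ := IsAlgClosed.exists_pow_nat_eq c (pow_pos (Fact.out : p.Prime).pos n)
    refine ⟨a - algebraMap k A cn, ?_⟩
    rw [sub_pow_char_pow, ha, ← map_pow, hcn]
  have hmax : ∀ m : Ideal A, m.IsMaximal → y ∈ m → ∃ r ∈ m, r * y = y := by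
    intro m hm hym
    have : y ∈ (⨅ i : ℕ, m ^ i • (⊤ : Submodule A A)) := by
      rw [Submodule.mem_iInf]
      intro i
      obtain ⟨b, hb⟩ := hroot i
      have hbm : b ∈ m := hm.isPrime.mem_of_pow_mem _ (by rw [hb]; exact hym)
      rw [smul_eq_mul, Ideal.mul_top]
      have h1 : y ∈ m ^ (p ^ i) := by rw [← hb]; exact Ideal.pow_mem_pow hbm _
      exact Ideal.pow_le_pow_right (Nat.lt_pow_self (Fact.out : p.Prime).one_lt).le h1
    rw [Ideal.mem_iInf_smul_pow_eq_bot_iff] at this
    obtain ⟨r, hr⟩ := this
    exact ⟨r, r.2, hr⟩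
  have htop : Ideal.span {y} ⊔ (Ideal.span {y}).annihilator = ⊤ := by
    by_contra hne
    obtain ⟨m, hm, hle⟩ := Ideal.exists_le_maximal _ hne
    have hym : y ∈ m := hle (Submodule.mem_sup_left (Ideal.mem_span_singleton_self y))
    obtain ⟨r, hr, hry⟩ := hmax m hm hym
    have h1 : 1 - r ∈ (Ideal.span {y}).annihilator := by
      rw [Submodule.mem_annihilator_span_singleton, smul_eq_mul, sub_mul, hry, one_mul, sub_self]
    have h2 := hle (Submodule.mem_sup_right h1)
    apply hm.ne_top
    rw [Ideal.eq_top_iff_one]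
    have : (1 : A) = (1 - r) + r := by ring
    rw [this]; exact add_mem h2 hr
  rw [Ideal.eq_top_iff_one, Submodule.mem_sup] at htop
  obtain ⟨e, he, s, hs, hes⟩ := htop
  obtain ⟨a, rfl⟩ := Ideal.mem_span_singleton'.mp he
  rw [Submodule.mem_annihilator_span_singleton, smul_eq_mul] at hs
  have hid : IsIdempotentElem (a * y) := by
    unfold IsIdempotentElem
    have : a * y * (a * y) = a * y * (a * y + s) - a * (s * y) := by ring
    rw [this, hes, hs]; ring
  rcases hconn _ hid with h0 | h1
  · rw [h0, zero_add] at hes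
    rw [hes, one_mul] at hs
    exact ⟨c, (sub_eq_zero.mp hs).symm⟩
  · exfalso
    apply hm0.ne_top
    rw [Ideal.eq_top_iff_one, ← h1]
    exact Ideal.mul_mem_left _ _ hym0

end Groth.Agent.S13048
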