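import Groth.Statements.S13057

import Mathlib

set_option autoImplicit false
universe u
open Zeta

namespace Groth.Agent.S13057

/-- A power series f = ∑_{m ≥ 0} a_m t^m over a field L lies in L(t), i.e. f · Q = P for some
polynomials P, Q with Q ≠ 0, if and only if there are natural numbers M, N such that the vectors
(a_i, a_{i+1}, …, a_{i+N}) ∈ L^{N+1}, i ≥ M, span a proper subspace. -/
theorem result {L : Type u} [Field L]
    (f : PowerSeries L) :
    (∃ P Q : Polynomial L, Q ≠ 0 ∧ f * (Q : PowerSeries L) = (P : PowerSeries L)) ↔
      ∃ M N : ℕ, Submodule.span L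
          {v : Fin (N + 1) → L | ∃ i : ℕ, M ≤ i ∧ v = fun j : Fin (N + 1) => PowerSeries.coeff (i + (j : ℕ)) f} ≠ ⊤ := by
  classical
  constructor
  · rintro ⟨P, Q, hQ, hfQ⟩
    refine ⟨P.natDegree + 1, Q.natDegree, ?_⟩
    intro htop
    let φ : (Fin (Q.natDegree + 1) → L) →ₗ[L] L :=
      ∑ j : Fin (Q.natDegree + 1), Q.coeff (Q.natDegree - (j : ℕ)) • LinearMap.proj j
    have hker : Submodule.span L {v : Fin (Q.natDegree + 1) → L | ∃ i : ℕ, P.natDegree + 1 ≤ i ∧
        v = fun j : Fin (Q.natDegree + 1) => PowerSeries.coeff (i + (j : ℕ)) f} ≤ LinearMap.ker φ := by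
      rw [Submodule.span_le]
      rintro _ ⟨i, hi, rfl⟩
      have h1 : PowerSeries.coeff (i + Q.natDegree) (f * (Q : PowerSeries L)) = 0 := by
        rw [hfQ, Polynomial.coeff_coe]
        exact Polynomial.coeff_eq_zero_of_natDegree_lt (by omega)
      rw [PowerSeries.coeff_mul, Finset.Nat.sum_antidiagonal_eq_sum_range_succ_mk] at h1
      simp only [SetLike.mem_coe, LinearMap.mem_ker, φ, LinearMap.sum_apply, LinearMap.smul_apply, LinearMap.proj_apply, smul_eq_mul]
      rw [Finset.sum_fin_eq_sum_range]
      rw [← h1]
      symm
      have : Finset.range (i + Q.natDegree).succ = Finset.range (i + (Q.natDegree + 1)) := by congr 1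
      rw [this, Finset.sum_range_add]
      rw [Finset.sum_eq_zero, zero_add]
      · apply Finset.sum_congr rfl
        intro j hj
        rw [Finset.mem_range] at hj
        rw [dif_pos hj, Polynomial.coeff_coe]
        have : i + Q.natDegree - (i + j) = Q.natDegree - j := by omega
        rw [this, mul_comm]
      · intro j hj
        rw [Finset.mem_range] at hj
        rw [Polynomial.coeff_coe, Polynomial.coeff_eq_zero_of_natDegree_lt (by omega : Q.natDegree < i + Q.natDegree - j), mul_zero]
    rw [htop, top_le_iff] at hker
    have : φ (Pi.single 0 1) = 0 := by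
      rw [← LinearMap.mem_ker, hker]; trivial
    simp only [φ, LinearMap.sum_apply, LinearMap.smul_apply, LinearMap.proj_apply, smul_eq_mul] at this
    rw [Finset.sum_eq_single 0 (by intro b _ hb; simp [Pi.single_eq_of_ne hb]) (by simp)] at this
    simp at this
    exact hQ this
  · rintro ⟨M, N, hMN⟩
    obtain ⟨φ, hφ0, hφ⟩ := Submodule.exists_le_ker_of_lt_top _ (lt_top_iff_ne_top.mpr hMN)
    let c : Fin (N + 1) → L := fun j => φ (Pi.single j 1)
    have hφc : ∀ v, φ v = ∑ j, v j * c j := by
      intro v
      conv_lhs => rw [← Finset.univ_sum_single v]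
      rw [map_sum]
      apply Finset.sum_congr rfl
      intro j _
      have : (Pi.single j (v j) : Fin (N+1) → L) = v j • Pi.single j 1 := by
        ext k; by_cases h : k = j
        · subst h; simp
        · simp [Pi.single_eq_of_ne h]
      rw [this, map_smul, smul_eq_mul]
    let Q : Polynomial L := ∑ j : Fin (N + 1), Polynomial.monomial (N - (j : ℕ)) (c j)
    have hQcoeff : ∀ k ≤ N, Q.coeff k = c ⟨N - k, by omega⟩ := by
      intro k hk
      simp only [Q, Polynomial.finsetSum_coeff, Polynomial.coeff_monomial]
      rw [Finset.sum_eq_single ⟨N - k, by omega⟩]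
      · rw [if_pos (by simp only []; omega)]
      · intro b _ hb
        rw [if_neg]
        intro h
        apply hb
        ext
        have := b.2
        simp only []
        omega
      · simp
    have hQcoeff' : ∀ k, N < k → Q.coeff k = 0 := by
      intro k hk
      simp only [Q, Polynomial.finsetSum_coeff, Polynomial.coeff_monomial]
      apply Finset.sum_eq_zero
      intro j _
      rw [if_neg (by omega)]
    refine ⟨PowerSeries.trunc (M + N) (f * (Q : PowerSeries L)), Q, ?_, ?_⟩
    · intro hQ0
      apply hφ0
      ext j
      have h1 := hQcoeff (N - (j : ℕ)) (by omega)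
      rw [hQ0, Polynomial.coeff_zero] at h1
      have h2 : (⟨N - (N - (j : ℕ)), by omega⟩ : Fin (N+1)) = j := by ext; simp; omega
      rw [h2] at h1
      simpa [c] using h1.symm
    · ext n
      rw [Polynomial.coeff_coe, PowerSeries.coeff_trunc]
      split_ifs with hn
      · rfl
      · push Not at hn
        obtain ⟨i, rfl⟩ : ∃ i, n = i + N := ⟨n - N, by omega⟩
        have hi : M ≤ i := by omega
        have h1 : φ (fun j : Fin (N + 1) => PowerSeries.coeff (i + (j : ℕ)) f) = 0 := by
          rw [← LinearMap.mem_ker]
          exact hφ (Submodule.subset_span ⟨i, hi, rfl⟩)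
        rw [hφc] at h1
        rw [PowerSeries.coeff_mul, Finset.Nat.sum_antidiagonal_eq_sum_range_succ_mk]
        have : Finset.range (i + N).succ = Finset.range (i + (N + 1)) := by congr 1
        rw [this, Finset.sum_range_add, Finset.sum_eq_zero, zero_add]
        · rw [← h1, Finset.sum_fin_eq_sum_range]
          apply Finset.sum_congr rfl
          intro j hj
          rw [Finset.mem_range] at hj
          rw [dif_pos hj, Polynomial.coeff_coe]
          have h3 : i + N - (i + j) = N - j := by omega
          rw [h3, hQcoeff _ (by omega)]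
          congr 2
          ext; simp; omega
        · intro j hj
          rw [Finset.mem_range] at hj
          rw [Polynomial.coeff_coe, hQcoeff' _ (by omega), mul_zero]

end Groth.Agent.S13057
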