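import Groth.Statements.S13058

import Mathlib
import Groth.Agent.S13057

set_option autoImplicit false
universe u v
open Zeta

namespace Groth.Agent.S13058

/-- If L'/L is a field extension, a power series f ∈ L⟦t⟧ belongs to L(t) exactly when it belongs to
L'(t); here membership in L(t) means f · Q = P for polynomials P, Q over the field in question with
Q ≠ 0. -/
theorem result {L : Type u} {L' : Type v} [Field L] [Field L']
    [Algebra L L'] (f : PowerSeries L) :
    (∃ P Q : Polynomial L', Q ≠ 0 ∧
        PowerSeries.map (algebraMap L L') f * (Q : PowerSeries L') = (P : PowerSeries L')) ↔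
      ∃ P Q : Polynomial L, Q ≠ 0 ∧ f * (Q : PowerSeries L) = (P : PowerSeries L) := by
  classical
  constructor
  · intro h
    rw [Groth.Agent.S13057.result] at h ⊢
    obtain ⟨M, N, h⟩ := h
    refine ⟨M, N, fun htop => h ?_⟩
    rw [eq_top_iff]
    intro v _
    let φ : (Fin (N + 1) → L) →ₗ[L] (Fin (N + 1) → L') := 
      LinearMap.pi (fun j => (Algebra.linearMap L L').comp (LinearMap.proj j))
    have hmem : ∀ w : Fin (N + 1) → L, φ w ∈ Submodule.span L' {v : Fin (N + 1) → L' | ∃ i : ℕ, M ≤ i ∧
        v = fun j : Fin (N + 1) => PowerSeries.coeff (i + (j : ℕ)) (PowerSeries.map (algebraMap L L') f)} := by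
      intro w
      have hw : w ∈ Submodule.span L {v : Fin (N + 1) → L | ∃ i : ℕ, M ≤ i ∧
        v = fun j : Fin (N + 1) => PowerSeries.coeff (i + (j : ℕ)) f} := by rw [htop]; trivial
      induction hw using Submodule.span_induction with
      | mem x hx =>
        obtain ⟨i, hi, rfl⟩ := hx
        apply Submodule.subset_span
        refine ⟨i, hi, ?_⟩
        ext j; simp [φ]
      | zero => rw [map_zero]; exact Submodule.zero_mem _
      | add x y _ _ hx hy => rw [map_add]; exact Submodule.add_mem _ hx hy
      | smul a x _ hx => 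
        rw [map_smul, ← algebraMap_smul L' a (φ x)]
        exact Submodule.smul_mem _ _ hx
    rw [← Finset.univ_sum_single v]
    apply Submodule.sum_mem
    intro j _
    have h1 : (Pi.single j (v j) : Fin (N+1) → L') = v j • φ (Pi.single j 1) := by
      ext k
      by_cases h : k = j
      · subst h; simp [φ]
      · simp [φ, Pi.single_eq_of_ne h]
    rw [h1]
    exact Submodule.smul_mem _ _ (hmem _)
  · rintro ⟨P, Q, hQ, h⟩
    refine ⟨P.map (algebraMap L L'), Q.map (algebraMap L L'), ?_, ?_⟩
    · rwa [Ne, Polynomial.map_eq_zero]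
    · rw [Polynomial.polynomial_map_coe, Polynomial.polynomial_map_coe, ← map_mul, h]

end Groth.Agent.S13058
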