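import Groth.Statements.S13060

import Mathlib

set_option autoImplicit false
universe u v w x
open TensorProduct
open Zeta

namespace Groth.Agent.S13060
open TensorProduct

/-- Let k be a field, V and W vector spaces over k and G a group acting on V by k-linear automorphisms;
for the induced action on V ⊗_k W (trivial on W) one has (V ⊗_k W)^G = V^G ⊗_k W, i.e. the
invariants of V ⊗ W are the image of V^G ⊗ W → V ⊗ W. -/
theorem result {k : Type u} [Field k] {G : Type v} [Group G]
    {V : Type w} {W : Type x} [AddCommGroup V] [Module k V] [AddCommGroup W] [Module k W]
    (ρ : Representation k G V) :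
    (ρ.tprod (Representation.trivial k G W)).invariants =
      LinearMap.range (TensorProduct.map ρ.invariants.subtype (LinearMap.id : W →ₗ[k] W)) := by
  classical
  apply le_antisymm
  · intro z hz
    let b := Module.Basis.ofVectorSpace k W
    let e := TensorProduct.equivFinsuppOfBasisRight (M := V) b
    have key : ∀ g : G, ∀ z : V ⊗[k] W, e ((ρ.tprod (Representation.trivial k G W)) g z) = Finsupp.mapRange (ρ g) (map_zero _) (e z) := by
      intro g z
      induction z with
      | zero => simp
      | tmul v w =>
        ext i
        simp [e, Representation.tprod_apply, Representation.trivial]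
      | add a b ha hb =>
        rw [map_add, map_add, ha, hb, map_add]
        ext i; simp
    have hinv : ∀ i, (e z) i ∈ ρ.invariants := by
      intro i g
      have h1 := key g z
      rw [hz g] at h1
      have := DFunLike.congr_fun h1 i
      simpa using this.symm
    have hz2 : z = ∑ i ∈ (e z).support, (e z) i ⊗ₜ[k] b i := by
      apply e.injective
      rw [map_sum]
      ext i
      rw [Finsupp.finsetSum_apply]
      simp only [e, TensorProduct.equivFinsuppOfBasisRight_apply_tmul_apply, Module.Basis.repr_self, Finsupp.single_apply, ite_smul, one_smul, zero_smul]
      simp +contextual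
    rw [hz2]
    apply Submodule.sum_mem
    intro i _
    exact ⟨⟨_, hinv i⟩ ⊗ₜ b i, by simp⟩
  · rintro _ ⟨z, rfl⟩ g
    induction z with
    | zero => simp
    | tmul v w => 
      have := v.2 g
      simp [Representation.trivial, this]
    | add a b ha hb => rw [map_add, map_add, ha, hb]

end Groth.Agent.S13060
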