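import Groth.Statements.S13061

import Mathlib

set_option autoImplicit false
universe u v w
open Zeta

namespace Groth.Agent.S13061

/-- Let A be a commutative algebra over a field k, G a finite group acting on A by k-algebra
automorphisms and I ⊆ A an ideal preserved by G. If p^n is the largest power of p = char(k) dividing
|G| (with p^n = 1 when char(k) = 0), then for every G-invariant b ∈ A/I the power b^{p^n} lies in
the image of A^G → (A/I)^G. (The published statement takes A finitely generated over k, which the
proof does not use.) -/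
theorem result {k : Type u} [Field k]
    {A : Type v} [CommRing A] [Algebra k A] {G : Type w} [Group G] [Finite G]
    [MulSemiringAction G A] [SMulCommClass G k A] (I : Ideal A)
    (hI : ∀ (g : G) (a : A), a ∈ I → g • a ∈ I) (u : A) (hu : ∀ g : G, g • u - u ∈ I) :
    ∃ a : A, (∀ g : G, g • a = a) ∧
      Ideal.Quotient.mk I a =
        Ideal.Quotient.mk I u ^ (ringChar k ^ (Nat.card G).factorization (ringChar k)) := by
  classical
  cases nonempty_fintype G
  set p := ringChar k with hp
  set N := Nat.card G with hN
  have hN0 : N ≠ 0 := Nat.card_pos.ne'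
  set q := p ^ N.factorization p with hq
  have hqdvd : q ∣ N := Nat.ordProj_dvd N p
  obtain ⟨m, hm⟩ := hqdvd
  have hm0 : m ≠ 0 := by rintro rfl; simp at hm; exact hN0 hm
  have hmk : (m : k) ≠ 0 := by
    intro h0
    rw [ringChar.spec, ← hp] at h0
    rcases CharP.char_is_prime_or_zero k p with hprime | hzero
    · have : ¬ p ∣ N / p ^ N.factorization p := Nat.not_dvd_ordCompl hprime hN0
      apply this
      rw [← hq, hm, Nat.mul_div_cancel_left _ (Nat.pos_of_ne_zero (by rintro h; rw [h] at hm; simp at hm; exact hN0 hm))]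
      exact h0
    · rw [hzero] at h0
      exact hm0 (Nat.eq_zero_of_zero_dvd h0)
  let φ : Polynomial A := MulSemiringAction.charpoly G u
  have hφ : φ.map (Ideal.Quotient.mk I) = (Polynomial.X ^ q - Polynomial.C (Ideal.Quotient.mk I u ^ q)) ^ m := by
    have h1 : φ.map (Ideal.Quotient.mk I) = (Polynomial.X - Polynomial.C (Ideal.Quotient.mk I u)) ^ N := by
      simp only [φ, MulSemiringAction.charpoly_eq, Polynomial.map_prod, Polynomial.map_sub, Polynomial.map_X, Polynomial.map_C]
      rw [hN, Nat.card_eq_fintype_card, ← Finset.card_univ, ← Finset.prod_const]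
      apply Finset.prod_congr rfl
      intro g _
      rw [Ideal.Quotient.mk_eq_mk_iff_sub_mem _ _ |>.mpr (hu g)]
    rw [h1, hm, pow_mul]
    congr 1
    rcases CharP.char_is_prime_or_zero k p with hprime | hzero
    · haveI : Fact p.Prime := ⟨hprime⟩
      by_cases hnt : Nontrivial (A ⧸ I)
      · haveI : CharP (A ⧸ I) p := charP_of_injective_algebraMap (algebraMap k (A ⧸ I)).injective p
        rw [hq, sub_pow_char_pow, Polynomial.C_pow]
      · rw [not_nontrivial_iff_subsingleton] at hnt
        exact Subsingleton.elim _ _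
    · have : q = 1 := by rw [hq, hzero]; simp
      rw [this]; simp
  have hcoef : Ideal.Quotient.mk I (φ.coeff (q * (m - 1))) = - (m : A ⧸ I) * (Ideal.Quotient.mk I u ^ q) := by
    have h2 : Ideal.Quotient.mk I (φ.coeff (q * (m - 1))) = (φ.map (Ideal.Quotient.mk I)).coeff (q * (m-1)) := by
      rw [Polynomial.coeff_map]
    rw [h2, hφ]
    have h3 : ((Polynomial.X ^ q - Polynomial.C (Ideal.Quotient.mk I u ^ q)) ^ m : Polynomial (A ⧸ I)) = Polynomial.expand (A ⧸ I) q ((Polynomial.X - Polynomial.C (Ideal.Quotient.mk I u ^ q)) ^ m) := by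
      simp
    have hqpos : 0 < q := Nat.pos_of_ne_zero (by rintro h; rw [h] at hm; simp at hm; exact hN0 hm)
    rw [h3, mul_comm q, Polynomial.coeff_expand_mul hqpos]
    rw [sub_eq_add_neg, ← Polynomial.C_neg, Polynomial.coeff_X_add_C_pow]
    have : m - (m - 1) = 1 := by omega
    have hch : Nat.choose m (m - 1) = m := by
      rw [Nat.choose_symm_of_eq_add (by omega : m = (m - 1) + 1)]; simp
    rw [this, pow_one, hch]
    ring
  refine ⟨algebraMap k A (-(m : k)⁻¹) * φ.coeff (q * (m - 1)), ?_, ?_⟩
  · intro g
    rw [smul_mul']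
    congr 1
    · rw [Algebra.algebraMap_eq_smul_one, smul_comm, smul_one]
    · exact MulSemiringAction.smul_coeff_charpoly u _ g
  · rw [map_mul, hcoef]
    have : Ideal.Quotient.mk I (algebraMap k A (-(m : k)⁻¹)) * (-(m : A ⧸ I)) = 1 := by
      have h4 : (-(m : A ⧸ I)) = Ideal.Quotient.mk I (algebraMap k A (-(m:k))) := by simp
      rw [h4, ← map_mul, ← map_mul]
      rw [neg_mul_neg, inv_mul_cancel₀ hmk]; simp
    rw [← mul_assoc, this, one_mul]

end Groth.Agent.S13061
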