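import Groth.Statements.S13120

import Mathlib

set_option autoImplicit false
universe u
open KumFam

namespace Groth.Agent.S13120
section aux
open MvPolynomial
variable {R : Type u} [CommRing R] [CharP R 2]

lemma two_eq (σ : Type) : (2 : MvPolynomial σ R) = 0 := by
  have : (2 : MvPolynomial σ R) = C (2 : R) := by rw [map_ofNat]
  rw [this, CharTwo.two_eq_zero, map_zero]

lemma der_expand (D : Derivation R (MvPolynomial (Fin 2) R) (MvPolynomial (Fin 2) R))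
    (p : MvPolynomial (Fin 2) R) : D (expand 2 p) = 0 := by
  induction p using MvPolynomial.induction_on with
  | C r => rw [expand_C]; exact MvPolynomial.derivation_C D r
  | add p q hp hq => rw [map_add, map_add, hp, hq, add_zero]
  | mul_X p i hp =>
    rw [map_mul, expand_X, Derivation.leibniz, hp, smul_zero, add_zero, Derivation.leibniz_pow]
    have h2 := two_eq (R := R) (Fin 2)
    simp only [smul_eq_mul, nsmul_eq_mul]
    push_cast
    rw [h2]; ring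

lemma sq_mul_eq_zero {p : MvPolynomial (Fin 2) R} (i : Fin 2) (n : ℕ) (h : p * X i ^ n = 0) : p = 0 := by
  have := (MvPolynomial.isRegular_X_pow (R := R) (n := i) n).right
  apply this
  show p * X i ^ n = 0 * X i ^ n
  rw [h, zero_mul]

lemma decomp {c0 c1 c2 : MvPolynomial (Fin 2) R}
    (h : expand 2 c0 + expand 2 c1 * X 0 ^ 3 + expand 2 c2 * X 1 ^ 3 = 0) : c1 = 0 ∧ c2 = 0 := by
  have h2 := two_eq (R := R) (Fin 2)
  constructor
  · have h1 := congrArg (pderiv (R := R) (0 : Fin 2)) h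
    rw [map_add, map_add, der_expand, Derivation.leibniz, der_expand, Derivation.leibniz, der_expand,
      Derivation.leibniz_pow, Derivation.leibniz_pow, pderiv_X_self, pderiv_X_of_ne (by decide), map_zero] at h1
    simp only [smul_eq_mul, nsmul_eq_mul] at h1
    push_cast at h1
    have h3 : expand 2 c1 * X 0 ^ 2 = 0 := by
      linear_combination h1 - expand 2 c1 * X 0 ^ 2 * h2
    exact (expand_eq_zero (by norm_num)).mp (sq_mul_eq_zero 0 2 h3)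
  · have h1 := congrArg (pderiv (R := R) (1 : Fin 2)) h
    rw [map_add, map_add, der_expand, Derivation.leibniz, der_expand, Derivation.leibniz, der_expand,
      Derivation.leibniz_pow, Derivation.leibniz_pow, pderiv_X_self, pderiv_X_of_ne (by decide), map_zero] at h1
    simp only [smul_eq_mul, nsmul_eq_mul] at h1
    push_cast at h1
    have h3 : expand 2 c2 * X 1 ^ 2 = 0 := by
      linear_combination h1 - expand 2 c2 * X 1 ^ 2 * h2
    exact (expand_eq_zero (by norm_num)).mp (sq_mul_eq_zero 1 2 h3)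

lemma form {a : MvPolynomial (Fin 2) R} (ha : a ∈ Algebra.adjoin R
      ({X 0 ^ 2, X 0 ^ 3, X 1 ^ 2, X 1 ^ 3} : Set (MvPolynomial (Fin 2) R))) :
    ∃ a0 a1 a2 a3 : MvPolynomial (Fin 2) R, a = expand 2 a0 + expand 2 a1 * X 0 ^ 3 + expand 2 a2 * X 1 ^ 3
      + expand 2 a3 * (X 0 ^ 3 * X 1 ^ 3) := by
  induction ha using Algebra.adjoin_induction with
  | mem x hx =>
    simp only [Set.mem_insert_iff, Set.mem_singleton_iff] at hx
    rcases hx with rfl | rfl | rfl | rfl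
    · exact ⟨X 0, 0, 0, 0, by simp [expand_X]⟩
    · exact ⟨0, 1, 0, 0, by simp⟩
    · exact ⟨X 1, 0, 0, 0, by simp [expand_X]⟩
    · exact ⟨0, 0, 1, 0, by simp⟩
  | algebraMap r => exact ⟨C r, 0, 0, 0, by rw [expand_C]; simp [algebraMap_eq]⟩
  | add x y _ _ hx hy =>
    obtain ⟨a0, a1, a2, a3, rfl⟩ := hx
    obtain ⟨b0, b1, b2, b3, rfl⟩ := hy
    exact ⟨a0 + b0, a1 + b1, a2 + b2, a3 + b3, by simp only [map_add]; ring⟩
  | mul x y _ _ hx hy =>
    obtain ⟨a0, a1, a2, a3, rfl⟩ := hx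
    obtain ⟨b0, b1, b2, b3, rfl⟩ := hy
    refine ⟨a0 * b0 + a1 * b1 * X 0 ^ 3 + a2 * b2 * X 1 ^ 3 + a3 * b3 * (X 0 ^ 3 * X 1 ^ 3),
      a0 * b1 + a1 * b0 + (a2 * b3 + a3 * b2) * X 1 ^ 3,
      a0 * b2 + a2 * b0 + (a1 * b3 + a3 * b1) * X 0 ^ 3,
      a0 * b3 + a3 * b0 + a1 * b2 + a2 * b1, ?_⟩
    simp only [map_add, map_mul, map_pow, expand_X]
    ring

lemma expand_mem {S : Subalgebra R (MvPolynomial (Fin 2) R)} (h0 : X 0 ^ 2 ∈ S) (h1 : X 1 ^ 2 ∈ S)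
    (p : MvPolynomial (Fin 2) R) : expand 2 p ∈ S := by
  induction p using MvPolynomial.induction_on with
  | C r => rw [expand_C]; exact S.algebraMap_mem r
  | add p q hp hq => rw [map_add]; exact add_mem hp hq
  | mul_X p i hp =>
    rw [map_mul, expand_X]
    refine mul_mem hp ?_
    fin_cases i
    · exact h0
    · exact h1
end aux

open MvPolynomial in
/-- Let R be a commutative ring of characteristic 2 and l0, l2, l4, s0, s2, s4, τ ∈ R with τ a unit.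
Inside R[u, v] (u = X 0, v = X 1) let A = R[u², u³, v², v³] be the coordinate ring of the product of
two cuspidal curves, and let D be the R-derivation of R[u, v] with D(u) = v²(l0 u⁴ + τ u³ + l2 u² +
l4) and D(v) = u²(s0 v⁴ + τ v³ + s2 v² + s4); D is u²v² times the rational vector field (l0 u² + τ u
+ l2 + l4 u⁻²) ∂_u + (s0 v² + τ v + s2 + s4 v⁻²) ∂_v, which maps A into itself, and u²v² is a
non-zero-divisor, so the kernel of that vector field on A is the set of a ∈ A with D(a) = 0. Then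
for a ∈ A: D(a) = 0 if and only if a ∈ R[u², v², g], where g = (s0 v⁴ + s2 v² + s4) u³ + (l0 u⁴ + l2
u² + l4) v³ + τ u³ v³. (The published statement identifies this kernel with the ring of invariants
of the corresponding action of the group scheme of square roots of unity; this row states the kernel
computation that is actually carried out.) -/
theorem result (R : Type u) [CommRing R] [CharP R 2]
    (l0 l2 l4 s0 s2 s4 τ : R) (hτ : IsUnit τ) (a : MvPolynomial (Fin 2) R)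
    (ha : a ∈ Algebra.adjoin R
      ({X 0 ^ 2, X 0 ^ 3, X 1 ^ 2, X 1 ^ 3} : Set (MvPolynomial (Fin 2) R))) :
    MvPolynomial.mkDerivation R
        (![X 1 ^ 2 * (C l0 * X 0 ^ 4 + C τ * X 0 ^ 3 + C l2 * X 0 ^ 2 + C l4),
          X 0 ^ 2 * (C s0 * X 1 ^ 4 + C τ * X 1 ^ 3 + C s2 * X 1 ^ 2 + C s4)] :
          Fin 2 → MvPolynomial (Fin 2) R) a = 0 ↔
      a ∈ Algebra.adjoin R
        ({X 0 ^ 2, X 1 ^ 2,
          (C s0 * X 1 ^ 4 + C s2 * X 1 ^ 2 + C s4) * X 0 ^ 3 +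
            (C l0 * X 0 ^ 4 + C l2 * X 0 ^ 2 + C l4) * X 1 ^ 3 +
            C τ * X 0 ^ 3 * X 1 ^ 3} : Set (MvPolynomial (Fin 2) R)) := by
  have h2 := two_eq (R := R) (Fin 2)
  set D := MvPolynomial.mkDerivation R
        (![X 1 ^ 2 * (C l0 * X 0 ^ 4 + C τ * X 0 ^ 3 + C l2 * X 0 ^ 2 + C l4),
          X 0 ^ 2 * (C s0 * X 1 ^ 4 + C τ * X 1 ^ 3 + C s2 * X 1 ^ 2 + C s4)] :
          Fin 2 → MvPolynomial (Fin 2) R) with hD
  have hD0 : D (X 0) = X 1 ^ 2 * (C l0 * X 0 ^ 4 + C τ * X 0 ^ 3 + C l2 * X 0 ^ 2 + C l4) := by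
    rw [hD, mkDerivation_X]; rfl
  have hD1 : D (X 1) = X 0 ^ 2 * (C s0 * X 1 ^ 4 + C τ * X 1 ^ 3 + C s2 * X 1 ^ 2 + C s4) := by
    rw [hD, mkDerivation_X]; rfl
  have hDC : ∀ r : R, D (C r) = 0 := fun r => MvPolynomial.derivation_C D r
  constructor
  · intro h
    obtain ⟨a0, a1, a2, a3, rfl⟩ := form ha
    simp only [map_add, Derivation.leibniz, der_expand, Derivation.leibniz_pow, hD0, hD1, smul_eq_mul, nsmul_eq_mul] at h
    push_cast at h
    obtain ⟨t, ht⟩ := hτ.exists_right_inv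
    have htC : (C τ * C t : MvPolynomial (Fin 2) R) = 1 := by rw [← map_mul, ht, map_one]
    have h3 : (expand 2 (a1 * (C l0 * X 0 ^ 2 + C l2 * X 0 + C l4) + a2 * (C s0 * X 1 ^ 2 + C s2 * X 1 + C s4)) +
        expand 2 (C τ * a1 + a3 * (C s0 * X 1 ^ 2 + C s2 * X 1 + C s4)) * X 0 ^ 3 +
        expand 2 (C τ * a2 + a3 * (C l0 * X 0 ^ 2 + C l2 * X 0 + C l4)) * X 1 ^ 3) * X 0 ^ 2 * X 1 ^ 2 = 0 := by
      simp only [map_add, map_mul, map_pow, expand_X, expand_C]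
      linear_combination h - (X 0 ^ 2 * X 1 ^ 2 * (expand 2 a1 * (C l0 * X 0 ^ 4 + C l2 * X 0 ^ 2 + C l4 + C τ * X 0 ^ 3) + expand 2 a2 * (C s0 * X 1 ^ 4 + C s2 * X 1 ^ 2 + C s4 + C τ * X 1 ^ 3) + expand 2 a3 * (X 0 ^ 3 * (C s0 * X 1 ^ 4 + C s2 * X 1 ^ 2 + C s4) + X 1 ^ 3 * (C l0 * X 0 ^ 4 + C l2 * X 0 ^ 2 + C l4))) + 3 * expand 2 a3 * X 0 ^ 5 * X 1 ^ 5 * C τ) * h2
    obtain ⟨e1, e2⟩ := decomp (sq_mul_eq_zero 0 2 (sq_mul_eq_zero 1 2 h3))
    have hS0 : (X 0 ^ 2 : MvPolynomial (Fin 2) R) ∈ Algebra.adjoin R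
        ({X 0 ^ 2, X 1 ^ 2,
          (C s0 * X 1 ^ 4 + C s2 * X 1 ^ 2 + C s4) * X 0 ^ 3 +
            (C l0 * X 0 ^ 4 + C l2 * X 0 ^ 2 + C l4) * X 1 ^ 3 +
            C τ * X 0 ^ 3 * X 1 ^ 3} : Set (MvPolynomial (Fin 2) R)) := Algebra.subset_adjoin (by simp)
    have hS1 : (X 1 ^ 2 : MvPolynomial (Fin 2) R) ∈ Algebra.adjoin R
        ({X 0 ^ 2, X 1 ^ 2,
          (C s0 * X 1 ^ 4 + C s2 * X 1 ^ 2 + C s4) * X 0 ^ 3 +
            (C l0 * X 0 ^ 4 + C l2 * X 0 ^ 2 + C l4) * X 1 ^ 3 +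
            C τ * X 0 ^ 3 * X 1 ^ 3} : Set (MvPolynomial (Fin 2) R)) := Algebra.subset_adjoin (by simp)
    have hg : ((C s0 * X 1 ^ 4 + C s2 * X 1 ^ 2 + C s4) * X 0 ^ 3 +
            (C l0 * X 0 ^ 4 + C l2 * X 0 ^ 2 + C l4) * X 1 ^ 3 +
            C τ * X 0 ^ 3 * X 1 ^ 3 : MvPolynomial (Fin 2) R) ∈ Algebra.adjoin R
        ({X 0 ^ 2, X 1 ^ 2,
          (C s0 * X 1 ^ 4 + C s2 * X 1 ^ 2 + C s4) * X 0 ^ 3 +
            (C l0 * X 0 ^ 4 + C l2 * X 0 ^ 2 + C l4) * X 1 ^ 3 +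
            C τ * X 0 ^ 3 * X 1 ^ 3} : Set (MvPolynomial (Fin 2) R)) := Algebra.subset_adjoin (by simp)
    have key : expand 2 a0 + expand 2 a1 * X 0 ^ 3 + expand 2 a2 * X 1 ^ 3
      + expand 2 a3 * (X 0 ^ 3 * X 1 ^ 3) = expand 2 a0 + expand 2 (C t * a3) * ((C s0 * X 1 ^ 4 + C s2 * X 1 ^ 2 + C s4) * X 0 ^ 3 +
            (C l0 * X 0 ^ 4 + C l2 * X 0 ^ 2 + C l4) * X 1 ^ 3 +
            C τ * X 0 ^ 3 * X 1 ^ 3) := by
      have f1 := congrArg (expand 2) e1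
      have f2 := congrArg (expand 2) e2
      simp only [map_add, map_mul, map_pow, expand_X, expand_C, map_zero] at f1 f2 ⊢
      linear_combination (-expand 2 a1 * X 0 ^ 3 - expand 2 a2 * X 1 ^ 3 - expand 2 a3 * X 0 ^ 3 * X 1 ^ 3) * htC + C t * X 0 ^ 3 * f1 + C t * X 1 ^ 3 * f2 - (expand 2 a3 * C t * X 0 ^ 3 * (C s0 * (X 1 ^ 2) ^ 2 + C s2 * X 1 ^ 2 + C s4) + expand 2 a3 * C t * X 1 ^ 3 * (C l0 * (X 0 ^ 2) ^ 2 + C l2 * X 0 ^ 2 + C l4)) * h2
    rw [key]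
    exact add_mem (expand_mem hS0 hS1 _) (mul_mem (expand_mem hS0 hS1 _) hg)
  · intro h
    clear ha
    induction h using Algebra.adjoin_induction with
    | mem x hx =>
      simp only [Set.mem_insert_iff, Set.mem_singleton_iff] at hx
      rcases hx with rfl | rfl | rfl
      · rw [← expand_X]; exact der_expand D _
      · rw [← expand_X]; exact der_expand D _
      · simp only [map_add, Derivation.leibniz, Derivation.leibniz_pow, hD0, hD1, hDC, smul_eq_mul, nsmul_eq_mul]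
        push_cast
        linear_combination (3 * X 0 ^ 2 * X 1 ^ 2 * (C l0 * X 0 ^ 4 + C l2 * X 0 ^ 2 + C l4) * (C s0 * X 1 ^ 4 + C s2 * X 1 ^ 2 + C s4) + 3 * X 0 ^ 2 * X 1 ^ 2 * (C τ * X 0 ^ 3 * (C s0 * X 1 ^ 4 + C s2 * X 1 ^ 2 + C s4) + C τ * X 1 ^ 3 * (C l0 * X 0 ^ 4 + C l2 * X 0 ^ 2 + C l4) + C τ ^ 2 * X 0 ^ 3 * X 1 ^ 3) + X 0 ^ 3 * (2 * C s0 * X 1 ^ 3 + C s2 * X 1) * (X 0 ^ 2 * (C s0 * X 1 ^ 4 + C τ * X 1 ^ 3 + C s2 * X 1 ^ 2 + C s4)) + X 1 ^ 3 * (2 * C l0 * X 0 ^ 3 + C l2 * X 0) * (X 1 ^ 2 * (C l0 * X 0 ^ 4 + C τ * X 0 ^ 3 + C l2 * X 0 ^ 2 + C l4))) * h2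
    | algebraMap r => exact D.map_algebraMap r
    | add x y _ _ hx hy => rw [map_add, hx, hy, add_zero]
    | mul x y _ _ hx hy => rw [Derivation.leibniz, hx, hy, smul_zero, smul_zero, add_zero]

end Groth.Agent.S13120
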