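import Groth.Statements.S13121

import Mathlib
import Groth.Agent.S13120

set_option autoImplicit false
universe u
open KumFam

namespace Groth.Agent.S13121
section aux
open MvPolynomial
variable {R : Type u} [CommRing R] [CharP R 2]

lemma two_eq (σ : Type) : (2 : MvPolynomial σ R) = 0 := by
  have : (2 : MvPolynomial σ R) = C (2 : R) := by rw [map_ofNat]
  rw [this, CharTwo.two_eq_zero, map_zero]

lemma decomp {c0 c1 P Q : MvPolynomial (Fin 2) R} {t τ : R} (ht : τ * t = 1)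
    (h : expand 2 c0 + expand 2 c1 * (expand 2 Q * X 0 ^ 3 + expand 2 P * X 1 ^ 3 + C τ * X 0 ^ 3 * X 1 ^ 3) = 0) : c0 = 0 ∧ c1 = 0 := by
  have h2 := two_eq (R := R) (Fin 2)
  have htC : (C τ * C t : MvPolynomial (Fin 2) R) = 1 := by rw [← map_mul, ht, map_one]
  have h1 := congrArg (pderiv (R := R) (0 : Fin 2)) h
  simp only [map_add, Groth.Agent.S13120.der_expand, Derivation.leibniz, Derivation.leibniz_pow, pderiv_X_self,
    pderiv_X_of_ne (show (1 : Fin 2) ≠ 0 by decide), map_zero, pderiv_C, smul_eq_mul, nsmul_eq_mul] at h1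
  push_cast at h1
  have h3 : (expand 2 c1 * expand 2 Q + expand 2 c1 * C τ * X 1 ^ 3) * X 0 ^ 2 = 0 := by
    linear_combination h1 - (expand 2 c1 * expand 2 Q + expand 2 c1 * C τ * X 1 ^ 3) * X 0 ^ 2 * h2
  have h4 := Groth.Agent.S13120.sq_mul_eq_zero 0 2 h3
  have h5 := congrArg (pderiv (R := R) (1 : Fin 2)) h4
  simp only [map_add, Groth.Agent.S13120.der_expand, Derivation.leibniz, Derivation.leibniz_pow, pderiv_X_self,
    map_zero, pderiv_C, smul_eq_mul, nsmul_eq_mul] at h5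
  push_cast at h5
  have h6 : expand 2 c1 * X 1 ^ 2 = 0 := by
    linear_combination C t * h5 - expand 2 c1 * X 1 ^ 2 * h2 * C τ * C t - expand 2 c1 * X 1 ^ 2 * htC
  have h7 := Groth.Agent.S13120.sq_mul_eq_zero 1 2 h6
  rw [h7, zero_mul, add_zero] at h
  exact ⟨(expand_eq_zero (by norm_num)).mp h, (expand_eq_zero (by norm_num)).mp h7⟩

omit [CharP R 2] in
lemma form {I : Ideal (MvPolynomial (Fin 3) R)} {G : MvPolynomial (Fin 2) R}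
    (hG : X 2 ^ 2 - rename (Fin.castSucc : Fin 2 → Fin 3) G ∈ I) (p : MvPolynomial (Fin 3) R) :
    ∃ p0 p1 : MvPolynomial (Fin 2) R, p - (rename (Fin.castSucc : Fin 2 → Fin 3) p0 + rename (Fin.castSucc : Fin 2 → Fin 3) p1 * X 2) ∈ I := by
  induction p using MvPolynomial.induction_on with
  | C r => exact ⟨C r, 0, by simp⟩
  | add p q hp hq =>
    obtain ⟨p0, p1, hp⟩ := hp
    obtain ⟨q0, q1, hq⟩ := hq
    refine ⟨p0 + q0, p1 + q1, ?_⟩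
    have := add_mem hp hq
    convert this using 1
    simp only [map_add]; ring
  | mul_X p i hp =>
    obtain ⟨p0, p1, hp⟩ := hp
    have h0 := I.mul_mem_right (X i) hp
    fin_cases i
    · refine ⟨p0 * X 0, p1 * X 0, ?_⟩
      convert h0 using 1
      simp only [map_mul, rename_X]
      show _ = (p - _) * X 0
      have : (Fin.castSucc (0 : Fin 2)) = (0 : Fin 3) := rfl
      rw [this]
      show p * X 0 - _ = _
      ring
    · refine ⟨p0 * X 1, p1 * X 1, ?_⟩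
      convert h0 using 1
      simp only [map_mul, rename_X]
      show _ = (p - _) * X 1
      have : (Fin.castSucc (1 : Fin 2)) = (1 : Fin 3) := rfl
      rw [this]
      show p * X 1 - _ = _
      ring
    · refine ⟨p1 * G, p0, ?_⟩
      have h1 := add_mem h0 (I.mul_mem_left (rename (Fin.castSucc : Fin 2 → Fin 3) p1) hG)
      convert h1 using 1
      simp only [map_mul]
      show p * X 2 - _ = (p - _) * X 2 + _
      ring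
end aux

open MvPolynomial in
/-- Let R be a commutative ring of characteristic 2 and l0, l2, l4, s0, s2, s4, τ ∈ R with τ a unit. In
R[u, v] (u = X 0, v = X 1) put g = (s0 v⁴ + s2 v² + s4) u³ + (l0 u⁴ + l2 u² + l4) v³ + τ u³ v³. Then
the kernel of the R-algebra homomorphism R[a, b, c] → R[u, v] (a = X 0, b = X 1, c = X 2) with a ↦
u², b ↦ v², c ↦ g is the ideal generated by c² + s0² a³ b⁴ + s2² a³ b² + s4² a³ + l0² a⁴ b³ + l2² a²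
b³ + l4² b³ + τ² a³ b³; its image is the subalgebra R[u², v², g], which is therefore presented by
this one equation. -/
theorem result (R : Type u) [CommRing R] [CharP R 2]
    (l0 l2 l4 s0 s2 s4 τ : R) (hτ : IsUnit τ) :
    RingHom.ker (MvPolynomial.aeval (R := R) (S₁ := MvPolynomial (Fin 2) R)
        ![X 0 ^ 2, X 1 ^ 2,
          (C s0 * X 1 ^ 4 + C s2 * X 1 ^ 2 + C s4) * X 0 ^ 3 +
            (C l0 * X 0 ^ 4 + C l2 * X 0 ^ 2 + C l4) * X 1 ^ 3 +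
            C τ * X 0 ^ 3 * X 1 ^ 3]) =
      Ideal.span {(X 2 ^ 2 + C (s0 ^ 2) * X 0 ^ 3 * X 1 ^ 4 + C (s2 ^ 2) * X 0 ^ 3 * X 1 ^ 2 +
        C (s4 ^ 2) * X 0 ^ 3 + C (l0 ^ 2) * X 0 ^ 4 * X 1 ^ 3 + C (l2 ^ 2) * X 0 ^ 2 * X 1 ^ 3 +
        C (l4 ^ 2) * X 1 ^ 3 + C (τ ^ 2) * X 0 ^ 3 * X 1 ^ 3 : MvPolynomial (Fin 3) R)} := by
  have h2 := two_eq (R := R) (Fin 2)
  have h23 := two_eq (R := R) (Fin 3)
  obtain ⟨t, ht⟩ := hτ.exists_right_inv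
  set φ := (MvPolynomial.aeval (R := R) (S₁ := MvPolynomial (Fin 2) R)
        ![X 0 ^ 2, X 1 ^ 2,
          (C s0 * X 1 ^ 4 + C s2 * X 1 ^ 2 + C s4) * X 0 ^ 3 +
            (C l0 * X 0 ^ 4 + C l2 * X 0 ^ 2 + C l4) * X 1 ^ 3 +
            C τ * X 0 ^ 3 * X 1 ^ 3]) with hφ
  have e0 : φ (X 0) = X 0 ^ 2 := by rw [hφ, aeval_X]; rfl
  have e1 : φ (X 1) = X 1 ^ 2 := by rw [hφ, aeval_X]; rfl
  have e2 : φ (X 2) = (C s0 * X 1 ^ 4 + C s2 * X 1 ^ 2 + C s4) * X 0 ^ 3 +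
            (C l0 * X 0 ^ 4 + C l2 * X 0 ^ 2 + C l4) * X 1 ^ 3 +
            C τ * X 0 ^ 3 * X 1 ^ 3 := by rw [hφ, aeval_X]; rfl
  have eC : ∀ r : R, φ (C r) = C r := fun r => φ.commutes r
  have eren : ∀ p : MvPolynomial (Fin 2) R, φ (rename (Fin.castSucc : Fin 2 → Fin 3) p) = expand 2 p := by
    intro p
    induction p using MvPolynomial.induction_on with
    | C r => rw [rename_C, expand_C, eC]
    | add p q hp hq => rw [map_add, map_add, map_add, hp, hq]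
    | mul_X p i hp =>
      rw [map_mul, map_mul, map_mul, hp, rename_X, expand_X]
      congr 1
      fin_cases i
      · exact e0
      · exact e1
  have hle : Ideal.span {(X 2 ^ 2 + C (s0 ^ 2) * X 0 ^ 3 * X 1 ^ 4 + C (s2 ^ 2) * X 0 ^ 3 * X 1 ^ 2 +
        C (s4 ^ 2) * X 0 ^ 3 + C (l0 ^ 2) * X 0 ^ 4 * X 1 ^ 3 + C (l2 ^ 2) * X 0 ^ 2 * X 1 ^ 3 +
        C (l4 ^ 2) * X 1 ^ 3 + C (τ ^ 2) * X 0 ^ 3 * X 1 ^ 3 : MvPolynomial (Fin 3) R)} ≤ RingHom.ker φ := by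
    rw [Ideal.span_singleton_le_iff_mem, RingHom.mem_ker]
    simp only [map_add, map_mul, map_pow, e0, e1, e2, eC]
    linear_combination ((C s0 * X 1 ^ 4 * X 0 ^ 3) ^ 2 + (C s2 * X 1 ^ 2 * X 0 ^ 3) ^ 2 + (C s4 * X 0 ^ 3) ^ 2 + (C l0 * X 0 ^ 4 * X 1 ^ 3) ^ 2 + (C l2 * X 0 ^ 2 * X 1 ^ 3) ^ 2 + (C l4 * X 1 ^ 3) ^ 2 + (C τ * X 0 ^ 3 * X 1 ^ 3) ^ 2
      + (C s0 * X 1 ^ 4 * X 0 ^ 3) * (C s2 * X 1 ^ 2 * X 0 ^ 3 + C s4 * X 0 ^ 3 + C l0 * X 0 ^ 4 * X 1 ^ 3 + C l2 * X 0 ^ 2 * X 1 ^ 3 + C l4 * X 1 ^ 3 + C τ * X 0 ^ 3 * X 1 ^ 3)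
      + (C s2 * X 1 ^ 2 * X 0 ^ 3) * (C s4 * X 0 ^ 3 + C l0 * X 0 ^ 4 * X 1 ^ 3 + C l2 * X 0 ^ 2 * X 1 ^ 3 + C l4 * X 1 ^ 3 + C τ * X 0 ^ 3 * X 1 ^ 3)
      + (C s4 * X 0 ^ 3) * (C l0 * X 0 ^ 4 * X 1 ^ 3 + C l2 * X 0 ^ 2 * X 1 ^ 3 + C l4 * X 1 ^ 3 + C τ * X 0 ^ 3 * X 1 ^ 3)
      + (C l0 * X 0 ^ 4 * X 1 ^ 3) * (C l2 * X 0 ^ 2 * X 1 ^ 3 + C l4 * X 1 ^ 3 + C τ * X 0 ^ 3 * X 1 ^ 3)
      + (C l2 * X 0 ^ 2 * X 1 ^ 3) * (C l4 * X 1 ^ 3 + C τ * X 0 ^ 3 * X 1 ^ 3)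
      + (C l4 * X 1 ^ 3) * (C τ * X 0 ^ 3 * X 1 ^ 3)) * h2
  refine le_antisymm ?_ hle
  intro p hp
  obtain ⟨p0, p1, hp01⟩ := form (I := Ideal.span {(X 2 ^ 2 + C (s0 ^ 2) * X 0 ^ 3 * X 1 ^ 4 + C (s2 ^ 2) * X 0 ^ 3 * X 1 ^ 2 +
        C (s4 ^ 2) * X 0 ^ 3 + C (l0 ^ 2) * X 0 ^ 4 * X 1 ^ 3 + C (l2 ^ 2) * X 0 ^ 2 * X 1 ^ 3 +
        C (l4 ^ 2) * X 1 ^ 3 + C (τ ^ 2) * X 0 ^ 3 * X 1 ^ 3 : MvPolynomial (Fin 3) R)})
    (G := -(C (s0 ^ 2) * X 0 ^ 3 * X 1 ^ 4 + C (s2 ^ 2) * X 0 ^ 3 * X 1 ^ 2 +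
        C (s4 ^ 2) * X 0 ^ 3 + C (l0 ^ 2) * X 0 ^ 4 * X 1 ^ 3 + C (l2 ^ 2) * X 0 ^ 2 * X 1 ^ 3 +
        C (l4 ^ 2) * X 1 ^ 3 + C (τ ^ 2) * X 0 ^ 3 * X 1 ^ 3)) (by
      apply Ideal.subset_span
      rw [Set.mem_singleton_iff]
      simp only [map_neg, map_add, map_mul, map_pow, rename_X, rename_C]
      have a0 : (Fin.castSucc (0 : Fin 2)) = (0 : Fin 3) := rfl
      have a1 : (Fin.castSucc (1 : Fin 2)) = (1 : Fin 3) := rfl
      rw [a0, a1]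
      ring) p
  have hz := hle hp01
  rw [RingHom.mem_ker, map_sub, RingHom.mem_ker.mp hp, map_add, map_mul, eren, eren, e2] at hz
  obtain ⟨f0, f1⟩ := decomp (c0 := p0) (c1 := p1) (P := C l0 * X 0 ^ 2 + C l2 * X 0 + C l4) (Q := C s0 * X 1 ^ 2 + C s2 * X 1 + C s4) ht (by
    simp only [map_add, map_mul, map_pow, expand_X, expand_C]
    linear_combination (-1) * hz)
  rw [f0, f1] at hp01
  simpa using hp01

end Groth.Agent.S13121
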