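import Groth.Statements.S13124

import Mathlib

set_option autoImplicit false
universe u v w
open KumFam
open TensorProduct

namespace Groth.Agent.S13124

/-- Let k be a commutative ring, A a commutative k-bialgebra that is flat over k, and R a commutative
k-algebra which is an integrally closed domain, with a coaction R → R ⊗ A that is an algebra
homomorphism. Then the ring of invariants (the elements f with coaction f ⊗ 1) is an integrally
closed domain. (The published statement is for a finite group scheme acting on a normal scheme whose
quotient is, locally, the spectrum of the ring of invariants; this row is the affine integral case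
and allows any commutative bialgebra flat over k, flatness being automatic over a field.) -/
theorem result (k : Type u) [CommRing k]
    (A : Type v) [CommRing A] [Bialgebra k A] [Module.Flat k A]
    (R : Type w) [CommRing R] [Algebra k R] [IsDomain R] [IsIntegrallyClosed R]
    [HopfRep.Comod k A R] [GLin.IsCoactAlg k A R] :
    IsIntegrallyClosed (GLin.invariants k A R) := by
  let K := FractionRing (GLin.invariants k A R)
  let L := FractionRing R
  rw [isIntegrallyClosed_iff K]
  intro x hx
  obtain ⟨a, b, hb, rfl⟩ := IsFractionRing.div_surjective (A := GLin.invariants k A R) x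
  have hb0 : b ≠ 0 := nonZeroDivisors.ne_zero hb
  have hbR : (b : R) ≠ 0 := fun h => hb0 (Subtype.ext h)
  have hinj : Function.Injective (algebraMap (GLin.invariants k A R) R) := Subtype.val_injective
  let ψ : K →+* L := IsFractionRing.map (A := GLin.invariants k A R) (B := R) hinj
  have hψ : ∀ c : GLin.invariants k A R, ψ (algebraMap (GLin.invariants k A R) K c) = algebraMap R L (c : R) := by
    intro c
    exact IsLocalization.map_eq _ c
  have hbK : algebraMap (GLin.invariants k A R) K b ≠ 0 := by
    intro h0
    exact hb0 ((map_eq_zero_iff _ (IsFractionRing.injective (GLin.invariants k A R) K)).mp h0)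
  have hint : IsIntegral R (ψ (algebraMap (GLin.invariants k A R) K a / algebraMap (GLin.invariants k A R) K b)) := by
    obtain ⟨p, hp, hp0⟩ := hx
    refine ⟨p.map (algebraMap (GLin.invariants k A R) R), hp.map _, ?_⟩
    rw [Polynomial.eval₂_map]
    have h1 := congrArg ψ hp0
    rw [Polynomial.hom_eval₂, map_zero] at h1
    have h2 : (algebraMap R L).comp (algebraMap (GLin.invariants k A R) R) = ψ.comp (algebraMap (GLin.invariants k A R) K) := by
      ext c
      exact (hψ c).symm
    rw [h2]
    exact h1
  obtain ⟨r, hr⟩ := IsIntegrallyClosed.isIntegral_iff.mp hint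
  have hrb : r * (b : R) = (a : R) := by
    apply IsFractionRing.injective R L
    rw [map_mul, hr, ← hψ b, ← hψ a, ← map_mul]
    congr 1
    exact div_mul_cancel₀ _ hbK
  have hmul : ∀ z : R ⊗[k] A, (LinearMap.mulRight k (b : R)).rTensor A z = z * ((b : R) ⊗ₜ[k] (1 : A)) := by
    intro z
    induction z using TensorProduct.induction_on with
    | zero => simp
    | tmul p q => simp
    | add p q hp hq => rw [map_add, hp, hq, add_mul]
  have hmi : Function.Injective ((LinearMap.mulRight k (b : R)).rTensor A) := by
    apply Module.Flat.rTensor_preserves_injective_linearMap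
    intro p q hpq
    exact mul_right_cancel₀ hbR hpq
  have hrC : r ∈ GLin.invariants k A R := by
    rw [GLin.mem_invariants_iff]
    apply hmi
    rw [hmul, hmul, ← (GLin.mem_invariants_iff k A R (b : R)).mp b.2, ← GLin.IsCoactAlg.coact_mul (k := k) (A := A), hrb,
      (GLin.mem_invariants_iff k A R (a : R)).mp a.2, (GLin.mem_invariants_iff k A R (b : R)).mp b.2,
      Algebra.TensorProduct.tmul_mul_tmul, hrb, one_mul]
  refine ⟨⟨r, hrC⟩, ?_⟩
  rw [eq_div_iff hbK, ← map_mul]
  congr 1
  exact Subtype.ext hrb

end Groth.Agent.S13124
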