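import Groth.Statements.S13125

import Mathlib

set_option autoImplicit false
universe u v
open KumFam

namespace Groth.Agent.S13125

/-- Let A be a commutative ring graded by an additive monoid ι (an abelian group in the published
statement) through additive subgroups 𝒜 i, and I an ideal of A. Then I is a homogeneous ideal if and
only if A/I carries a structure of ι-graded ring ℬ for which the quotient map sends 𝒜 i into ℬ i for
all i. -/
theorem result (ι : Type u) [DecidableEq ι] [AddMonoid ι]
    (A : Type v) [CommRing A] (𝒜 : ι → AddSubgroup A) [GradedRing 𝒜] (I : Ideal A) :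
    I.IsHomogeneous 𝒜 ↔
      ∃ ℬ : ι → AddSubgroup (A ⧸ I), Nonempty (GradedRing ℬ) ∧
        ∀ i : ι, (𝒜 i).map (Ideal.Quotient.mk I : A →+ A ⧸ I) ≤ ℬ i := by
  classical
  constructor
  · intro hI
    refine ⟨fun i => (𝒜 i).map (Ideal.Quotient.mk I : A →+ A ⧸ I), ?_, fun i => le_rfl⟩
    have hone : (1 : A ⧸ I) ∈ (𝒜 0).map (Ideal.Quotient.mk I : A →+ A ⧸ I) :=
      ⟨1, SetLike.GradedOne.one_mem, by simp⟩
    haveI : SetLike.GradedMonoid (fun i => (𝒜 i).map (Ideal.Quotient.mk I : A →+ A ⧸ I)) :=
      { one_mem := hone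
        mul_mem := by
          rintro i j _ _ ⟨a, ha, rfl⟩ ⟨b, hb, rfl⟩
          exact ⟨a * b, SetLike.GradedMul.mul_mem ha hb, by simp⟩ }
    -- decomposition
    have hdec : Nonempty (DirectSum.Decomposition (fun i => (𝒜 i).map (Ideal.Quotient.mk I : A →+ A ⧸ I))) := by
      refine ⟨DirectSum.IsInternal.chooseDecomposition _ ?_⟩
      constructor
      · rw [injective_iff_map_eq_zero]
        intro x hx
        -- lift x
        have hlift : ∀ i, ∃ a : A, a ∈ 𝒜 i ∧ (Ideal.Quotient.mk I a) = (x i : A ⧸ I) := by
          intro i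
          obtain ⟨a, ha, hae⟩ := (x i).2
          exact ⟨a, ha, hae⟩
        choose a ha hae using hlift
        have hsum : ∑ i ∈ x.support, (x i : A ⧸ I) = 0 := by
          have h3 := DirectSum.coeAddMonoidHom_eq_dfinsuppSum (fun i => (𝒜 i).map (Ideal.Quotient.mk I : A →+ A ⧸ I)) x
          rw [hx] at h3
          simpa [DFinsupp.sum] using h3.symm
        have hmem : ∑ i ∈ x.support, a i ∈ I := by
          rw [← Ideal.Quotient.eq_zero_iff_mem, map_sum]
          rw [← hsum]
          exact Finset.sum_congr rfl (fun i _ => hae i)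
        ext i
        by_cases hi : i ∈ x.support
        · have h1 := hI i hmem
          have h2 : (DirectSum.decompose 𝒜 (∑ i ∈ x.support, a i) i : A) = a i := by
            rw [DirectSum.decompose_sum]
            rw [DFinsupp.finsetSum_apply]
            rw [AddSubgroup.val_finsetSum]
            rw [Finset.sum_eq_single i]
            · rw [DirectSum.decompose_of_mem_same _ (ha i)]
            · intro j _ hj
              rw [DirectSum.decompose_of_mem_ne _ (ha j) hj]
            · intro h; exact absurd hi h
          rw [h2] at h1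
          rw [← hae i]
          simpa using Ideal.Quotient.eq_zero_iff_mem.mpr h1
        · simpa using hi
      · intro y
        obtain ⟨a, rfl⟩ := Ideal.Quotient.mk_surjective y
        refine ⟨∑ i ∈ (DirectSum.decompose 𝒜 a).support, DirectSum.of (fun i => ((𝒜 i).map (Ideal.Quotient.mk I : A →+ A ⧸ I))) i ⟨Ideal.Quotient.mk I (DirectSum.decompose 𝒜 a i), ⟨_, (DirectSum.decompose 𝒜 a i).2, rfl⟩⟩, ?_⟩
        rw [map_sum]
        simp only [DirectSum.coeAddMonoidHom_of]
        rw [← map_sum, DirectSum.sum_support_decompose]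
    obtain ⟨d⟩ := hdec
    exact ⟨{ d with }⟩
  · rintro ⟨ℬ, ⟨hB⟩, hle⟩ i x hx
    have h0 : (DirectSum.decompose ℬ (Ideal.Quotient.mk I x) i : A ⧸ I) = 0 := by
      rw [Ideal.Quotient.eq_zero_iff_mem.mpr hx]; simp
    rw [← Ideal.Quotient.eq_zero_iff_mem, ← h0]
    have key : ∀ y : A, (DirectSum.decompose ℬ (Ideal.Quotient.mk I y) i : A ⧸ I) = Ideal.Quotient.mk I (DirectSum.decompose 𝒜 y i) := by
      intro y
      induction y using DirectSum.Decomposition.inductionOn 𝒜 with
      | zero => simp
      | @homogeneous j m =>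
        have hm : Ideal.Quotient.mk I (m : A) ∈ ℬ j := hle j ⟨m, m.2, rfl⟩
        by_cases hij : j = i
        · subst hij
          rw [DirectSum.decompose_of_mem_same _ hm, DirectSum.decompose_of_mem_same _ m.2]
        · rw [DirectSum.decompose_of_mem_ne _ hm hij, DirectSum.decompose_of_mem_ne _ m.2 hij, map_zero]
      | add m m' h h' =>
        simp only [map_add, DirectSum.decompose_add, DirectSum.add_apply, AddSubgroup.coe_add, h, h']
    exact (key x).symm

end Groth.Agent.S13125
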