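import Groth.Statements.S13126

import Mathlib

set_option autoImplicit false
universe u
open KumFam

namespace Groth.Agent.S13126

open Polynomial in
/-- Let R be a commutative ring, n a natural number which is a unit in R, and ζ ∈ R with ζ^n = 1 and 1 −
ζ^i a unit for 0 < i < n (a primitive n-th root of unity in the fibrewise sense: the powers ζ^0, …,
ζ^(n−1) are roots of X^n − 1 with pairwise unit differences; over an integral domain in which n is a
unit this is the same as ζ having multiplicative order n). Then the R-algebra homomorphism R[X] →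
(Fin n → R) sending a polynomial to its values at ζ^0, …, ζ^(n−1) is surjective and its kernel is
the ideal generated by X^n − 1; hence R[X]/(X^n − 1) ≅ R^n as R-algebras, i.e. the scheme of n-th
roots of unity over Spec R is the disjoint union of n copies of Spec R. (The published statement
asks that R contain a primitive n-th root of unity without defining the term; its Chinese-remainder
argument uses that the ideals (X − ζ^i), i < n, are pairwise comaximal, which is the unit-difference
condition taken as the hypothesis here, whereas under the reading 'ζ has multiplicative order n'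
alone the surjectivity fails over a product of two fields. The published statement also asserts that
the isomorphism respects the group-scheme structures of the n-th roots of unity and of the constant
group ℤ/n; this row does not state that.) -/
theorem result (R : Type u) [CommRing R]
    (n : ℕ) (hn : IsUnit (n : R)) (ζ : R) (hζ : ζ ^ n = 1)
    (hprim : ∀ i : ℕ, 0 < i → i < n → IsUnit (1 - ζ ^ i)) :
    Function.Surjective (AlgHom.pi (fun i : Fin n => Polynomial.aeval (R := R) (ζ ^ (i : ℕ)))) ∧
      RingHom.ker (AlgHom.pi (fun i : Fin n => Polynomial.aeval (R := R) (ζ ^ (i : ℕ)))) =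
        Ideal.span {(X ^ n - 1 : R[X])} := by
  classical
  rcases Nat.eq_zero_or_pos n with h0 | hnpos
  · subst h0
    have : Subsingleton R := by
      rw [Nat.cast_zero] at hn
      exact subsingleton_of_zero_eq_one (isUnit_zero_iff.mp hn)
    haveI : Subsingleton (R[X]) := inferInstance
    refine ⟨fun y => ⟨0, Subsingleton.elim _ _⟩, ?_⟩
    exact Subsingleton.elim _ _
  have hζu : IsUnit ζ := IsUnit.of_pow_eq_one hζ hnpos.ne'
  let I : Fin n → Ideal R[X] := fun i => Ideal.span {X - C (ζ ^ (i : ℕ))}
  have hdiff : ∀ i j : Fin n, i < j → IsUnit (ζ ^ (i : ℕ) - ζ ^ (j : ℕ)) := by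
    intro i j hij
    have : ζ ^ (i : ℕ) - ζ ^ (j : ℕ) = ζ ^ (i : ℕ) * (1 - ζ ^ ((j : ℕ) - i)) := by
      rw [mul_sub, mul_one, ← pow_add, Nat.add_sub_cancel' (le_of_lt hij)]
    rw [this]
    exact (hζu.pow _).mul (hprim _ (by omega) (by omega))
  have hdiff' : ∀ i j : Fin n, i ≠ j → IsUnit (ζ ^ (i : ℕ) - ζ ^ (j : ℕ)) := by
    intro i j hij
    rcases lt_or_gt_of_ne hij with h | h
    · exact hdiff i j h
    · rw [← neg_sub]; exact (hdiff j i h).neg
  have hcop : Pairwise (fun i j : Fin n => IsCoprime (X - C (ζ ^ (i : ℕ)) : R[X]) (X - C (ζ ^ (j : ℕ)))) := by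
    intro i j hij
    exact isCoprime_X_sub_C_of_isUnit_sub (hdiff' i j hij)
  have hprod : (∏ i : Fin n, (X - C (ζ ^ (i : ℕ))) : R[X]) = X ^ n - 1 := by
    nontriviality R
    have hdvd : (∏ i : Fin n, (X - C (ζ ^ (i : ℕ))) : R[X]) ∣ X ^ n - 1 := by
      apply Finset.prod_dvd_of_coprime
      · intro i _ j _ hij; exact hcop hij
      · intro i _
        rw [dvd_iff_isRoot]
        simp [← pow_mul, mul_comm _ n, pow_mul ζ n, hζ]
    obtain ⟨c, hc⟩ := hdvd
    have hm1 : (∏ i : Fin n, (X - C (ζ ^ (i : ℕ))) : R[X]).Monic := monic_prod_of_monic _ _ (fun i _ => monic_X_sub_C _)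
    have hm2 : (X ^ n - 1 : R[X]).Monic := monic_X_pow_sub_C (1:R) hnpos.ne' |> fun h => by simpa using h
    have hd1 : (∏ i : Fin n, (X - C (ζ ^ (i : ℕ))) : R[X]).natDegree = n := by
      rw [natDegree_prod_of_monic _ _ (fun i _ => monic_X_sub_C _)]
      simp only [natDegree_X_sub_C, Finset.sum_const, Finset.card_univ, Fintype.card_fin, smul_eq_mul, mul_one]
    have hd2 : (X ^ n - 1 : R[X]).natDegree = n := by
      have := natDegree_X_pow_sub_C (R := R) (n := n) (r := 1)
      simpa using this
    exact (eq_of_monic_of_dvd_of_natDegree_le hm1 hm2 ⟨c, hc⟩ (by rw [hd1, hd2])).symm ▸ rfl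
  constructor
  · intro y
    obtain ⟨f, hf⟩ : ∃ f : R[X], ∀ i : Fin n, f - C (y i) ∈ I i := by
      have := Ideal.quotientInfToPiQuotient_surj (I := I) (fun i j hij => by
        show IsCoprime (I i) (I j)
        rw [Ideal.isCoprime_iff_exists]
        obtain ⟨a, b, hab⟩ := hcop hij
        exact ⟨a * (X - C (ζ ^ (i : ℕ))), Ideal.mul_mem_left _ _ (Ideal.mem_span_singleton_self _), b * (X - C (ζ ^ (j : ℕ))), Ideal.mul_mem_left _ _ (Ideal.mem_span_singleton_self _), hab⟩)
      obtain ⟨q, hq⟩ := this (fun i => Ideal.Quotient.mk (I i) (C (y i)))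
      obtain ⟨f, rfl⟩ := Ideal.Quotient.mk_surjective q
      refine ⟨f, fun i => ?_⟩
      have := congrFun hq i
      rw [← Ideal.Quotient.mk_eq_mk_iff_sub_mem]
      exact this
    refine ⟨f, ?_⟩
    funext i
    have h1 := hf i
    rw [Ideal.mem_span_singleton] at h1
    obtain ⟨g, hg⟩ := h1
    have : f = C (y i) + (X - C (ζ ^ (i : ℕ))) * g := by rw [← hg]; ring
    simp only [AlgHom.pi_apply]
    rw [this]
    simp
  · ext f
    rw [RingHom.mem_ker, Ideal.mem_span_singleton, ← hprod]
    constructor
    · intro hf
      apply Finset.prod_dvd_of_coprime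
      · intro i _ j _ hij; exact hcop hij
      · intro i _
        rw [dvd_iff_isRoot]
        have := congrFun hf i
        simpa [AlgHom.pi_apply, aeval_def] using this
    · rintro ⟨g, rfl⟩
      funext i
      simp only [AlgHom.pi_apply, map_mul, Pi.mul_apply, map_prod]
      rw [Finset.prod_eq_zero (Finset.mem_univ i) (by simp)]
      simp

end Groth.Agent.S13126
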