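import Groth.Statements.S13127

import Mathlib
import Groth.Agent.Lib.Helper19PS

set_option autoImplicit false
universe u
open KumFam

namespace Groth.Agent.S13127

open MvPowerSeries in
/-- Let R be a commutative ring of characteristic 2 and l0, l2, l4, s0, s2, s4, τ, lam, sig ∈ R with l4,
s4, lam, sig units, and let κ₁, κ₂ ∈ R satisfy s4² κ₁³ = sig² and l4² κ₂³ = lam² (cube roots of
sig²/s4² and lam²/l4²). In the power series ring R[[a, b, c]] (a = X 0, b = X 1, c = X 2) put F = c²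
+ s0² a³ b⁴ + s2² a³ b² + s4² a³ + l0² a⁴ b³ + l2² a² b³ + l4² b³ + τ² a³ b³ and F₀ = c² + sig² a³ +
lam² b³. Then some R-algebra automorphism of R[[a, b, c]] maps F to F₀; consequently R[[a, b,
c]]/(F) ≅ R[[a, b, c]]/(F₀). (In the published statement lam, sig are the representatives in the
ground field of the residues of l4, s4 at a rational point, so that F₀ is the equation of the
special fibre made constant; this row takes them to be arbitrary units.) -/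
theorem result (R : Type u) [CommRing R] [CharP R 2]
    (l0 l2 l4 s0 s2 s4 τ lam sig κ₁ κ₂ : R) (hl4 : IsUnit l4) (hs4 : IsUnit s4) (hlam : IsUnit lam)
    (hsig : IsUnit sig) (h₁ : s4 ^ 2 * κ₁ ^ 3 = sig ^ 2) (h₂ : l4 ^ 2 * κ₂ ^ 3 = lam ^ 2) :
    ∃ φ : MvPowerSeries (Fin 3) R ≃ₐ[R] MvPowerSeries (Fin 3) R,
      φ ((X 2 ^ 2 + C (s0 ^ 2) * X 0 ^ 3 * X 1 ^ 4 + C (s2 ^ 2) * X 0 ^ 3 * X 1 ^ 2 +
          C (s4 ^ 2) * X 0 ^ 3 + C (l0 ^ 2) * X 0 ^ 4 * X 1 ^ 3 + C (l2 ^ 2) * X 0 ^ 2 * X 1 ^ 3 +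
          C (l4 ^ 2) * X 1 ^ 3 + C (τ ^ 2) * X 0 ^ 3 * X 1 ^ 3 : MvPowerSeries (Fin 3) R)) =
        (X 2 ^ 2 + C (sig ^ 2) * X 0 ^ 3 + C (lam ^ 2) * X 1 ^ 3 : MvPowerSeries (Fin 3) R) := by
  have hκ₁ : IsUnit κ₁ := by
    have : IsUnit (s4 ^ 2 * κ₁ ^ 3) := h₁ ▸ hsig.pow 2
    exact isUnit_pow_iff (by norm_num) |>.mp (isUnit_of_mul_isUnit_right this)
  have hκ₂ : IsUnit κ₂ := by
    have : IsUnit (l4 ^ 2 * κ₂ ^ 3) := h₂ ▸ hlam.pow 2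
    exact isUnit_pow_iff (by norm_num) |>.mp (isUnit_of_mul_isUnit_right this)
  obtain ⟨k1, hk1⟩ := hκ₁.exists_right_inv
  obtain ⟨k2, hk2⟩ := hκ₂.exists_right_inv
  obtain ⟨sg, hsg⟩ := (hsig.pow 2).exists_right_inv
  obtain ⟨lm, hlm⟩ := (hlam.pow 2).exists_right_inv
  -- s4^2 * sg = k1^3
  have e1 : s4 ^ 2 * sg = k1 ^ 3 := by
    have : s4 ^ 2 * sg * (κ₁ * k1) ^ 3 = s4 ^ 2 * κ₁ ^ 3 * sg * k1 ^ 3 := by ring
    rw [hk1, one_pow, mul_one, h₁, hsg, one_mul] at this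
    exact this
  have e2 : l4 ^ 2 * lm = k2 ^ 3 := by
    have : l4 ^ 2 * lm * (κ₂ * k2) ^ 3 = l4 ^ 2 * κ₂ ^ 3 * lm * k2 ^ 3 := by ring
    rw [hk2, one_pow, mul_one, h₂, hlm, one_mul] at this
    exact this
  have hk1u : IsUnit k1 := IsUnit.of_mul_eq_one κ₁ (by rw [mul_comm]; exact hk1)
  have hk2u : IsUnit k2 := IsUnit.of_mul_eq_one κ₂ (by rw [mul_comm]; exact hk2)
  obtain ⟨u, hu3, huu⟩ := Groth.Agent.H19PS.exists_cube_root
    ((C sg * (C (s4 ^ 2) + C (s2 ^ 2) * X 1 ^ 2 + C (s0 ^ 2) * X 1 ^ 4 + C (τ ^ 2) * X 1 ^ 3) : MvPowerSeries (Fin 3) R)) k1 hk1u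
    (by simp [← e1, mul_comm])
  obtain ⟨v, hv3, hvu⟩ := Groth.Agent.H19PS.exists_cube_root
    ((C lm * (C (l4 ^ 2) + C (l2 ^ 2) * X 0 ^ 2 + C (l0 ^ 2) * X 0 ^ 4) : MvPowerSeries (Fin 3) R)) k2 hk2u
    (by simp [← e2, mul_comm])
  obtain ⟨e, he⟩ := Groth.Agent.H19PS.exists_equiv (R := R) ![u, v, 1] (by
    intro s
    fin_cases s
    · exact huu
    · exact hvu
    · simp)
  refine ⟨e.symm, ?_⟩
  rw [AlgEquiv.symm_apply_eq]
  have h0 : e (X 0) = X 0 * u := he 0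
  have h1 : e (X 1) = X 1 * v := he 1
  have h2 : e (X 2) = X 2 := by rw [he 2]; simp
  have hC : ∀ r : R, e (C r) = C r := fun r => e.commutes r
  simp only [map_add, map_mul, map_pow, h0, h1, h2, hC, mul_pow, hu3, hv3]
  have hsg' : (C sig ^ 2 * C sg : MvPowerSeries (Fin 3) R) = 1 := by
    rw [← map_pow, ← map_mul, hsg, map_one]
  have hlm' : (C lam ^ 2 * C lm : MvPowerSeries (Fin 3) R) = 1 := by
    rw [← map_pow, ← map_mul, hlm, map_one]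
  linear_combination (-(X 0 ^ 3 * (C s4 ^ 2 + C s2 ^ 2 * X 1 ^ 2 + C s0 ^ 2 * X 1 ^ 4 + C τ ^ 2 * X 1 ^ 3))) * hsg' - (X 1 ^ 3 * (C l4 ^ 2 + C l2 ^ 2 * X 0 ^ 2 + C l0 ^ 2 * X 0 ^ 4)) * hlm'

end Groth.Agent.S13127
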