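import Groth.Statements.S13128

import Mathlib
import Groth.Agent.Lib.Helper19PS

set_option autoImplicit false
universe u
open KumFam

namespace Groth.Agent.S13128
open MvPowerSeries

lemma shear {R : Type u} [CommRing R] [CharP R 2] (g : MvPowerSeries (Fin 3) R) (hg : constantCoeff g = 0)
    (hfix : ∀ ha : HasSubst (![X 0, X 1, X 2 + g] : Fin 3 → MvPowerSeries (Fin 3) R),
      substAlgHom (R := R) ha g = g) :
    ∃ e : MvPowerSeries (Fin 3) R ≃ₐ[R] MvPowerSeries (Fin 3) R, e (X 0) = X 0 ∧ e (X 1) = X 1 ∧ e (X 2) = X 2 + g := by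
  have ha : HasSubst (![X 0, X 1, X 2 + g] : Fin 3 → MvPowerSeries (Fin 3) R) := by
    apply hasSubst_of_constantCoeff_zero
    intro s
    fin_cases s <;> simp [hg]
  have h2 : (2 : MvPowerSeries (Fin 3) R) = 0 := by
    have : (2 : MvPowerSeries (Fin 3) R) = C (2 : R) := by rw [map_ofNat]
    rw [this, CharTwo.two_eq_zero, map_zero]
  have hcomp : ∀ f : MvPowerSeries (Fin 3) R, substAlgHom (R := R) ha (substAlgHom (R := R) ha f) = f := by
    intro f
    rw [substAlgHom_apply, substAlgHom_apply, subst_comp_subst_apply ha ha]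
    have : (fun s => subst (![X 0, X 1, X 2 + g] : Fin 3 → MvPowerSeries (Fin 3) R) ((![X 0, X 1, X 2 + g] : Fin 3 → MvPowerSeries (Fin 3) R) s)) = (X : Fin 3 → MvPowerSeries (Fin 3) R) := by
      funext s
      rw [← substAlgHom_apply ha]
      fin_cases s
      · show substAlgHom ha (X 0) = X 0
        rw [substAlgHom_X]; rfl
      · show substAlgHom ha (X 1) = X 1
        rw [substAlgHom_X]; rfl
      · show substAlgHom ha (X 2 + g) = X 2
        rw [map_add, substAlgHom_X, hfix ha]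
        show X 2 + g + g = X 2
        linear_combination g * h2
    rw [this, subst_self]; rfl
  refine ⟨AlgEquiv.ofAlgHom (substAlgHom (R := R) ha) (substAlgHom (R := R) ha) (by ext1 f; exact hcomp f) (by ext1 f; exact hcomp f), ?_, ?_, ?_⟩
  · exact substAlgHom_X ha 0
  · exact substAlgHom_X ha 1
  · exact substAlgHom_X ha 2

open MvPowerSeries in
/-- Let R be a commutative ring of characteristic 2, l0, l2, l4, s0, s2, s4, τ ∈ R with τ a unit, and α,
β ∈ R with l4² α⁴ + l2² α² + τ² α + l0² = 0 and s4² β⁴ + s2² β² + τ² β + s0² = 0. In characteristic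
2 these relations give τ² α = (l4 α² + l2 α + l0)² and τ² β = (s4 β² + s2 β + s0)², so α = α′² and β
= β′² with α′ = (l4 α² + l2 α + l0)/τ and β′ = (s4 β² + s2 β + s0)/τ. In R[[a, b, c]] (a = X 0, b =
X 1, c = X 2) put h = c² + τ² a b + (s4² b⁴ + s2² b²) a + (l4² a⁴ + l2² a²) b + l4² β a⁴ + l2² β a²
+ s4² α b⁴ + s2² α b²; this is the chart equation c² + τ² a b + (s4² b⁴ + s2² b² + s0²) a + (l4² a⁴
+ l2² a² + l0²) b after the substitution a ↦ a + α, b ↦ b + β, c ↦ c + τ α′ β′, which moves the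
point (α, β, τ α′ β′) of that surface, where all partial derivatives vanish, to the origin. Then
some R-algebra automorphism of R[[a, b, c]] maps h to c² + a b; consequently R[[a, b, c]]/(h) ≅
R[[a, b, c]]/(c² + a b), the completed local ring of an ordinary double point, constant over R. (The
published statement translates only a and b, so that its h carries the additional constant term τ² α
β; with that term h is a unit of R[[a, b, c]] whenever τ α β is a unit, for instance c² + a b + 1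
over the field with two elements with l0 = s0 = τ = α = β = 1 and l2 = l4 = s2 = s4 = 0, and no ring
automorphism carries a unit to c² + a b. The published proof begins by shifting c by a polynomial in
a, b whose constant term is τ α′ β′, a substitution of the polynomial ring which removes the term τ²
α β, and the rest of its argument takes place in R[[a, b, c]]; this row states the result for the
fully translated equation, which is what that argument proves.) -/
theorem result (R : Type u) [CommRing R] [CharP R 2]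
    (l0 l2 l4 s0 s2 s4 τ α β : R) (hτ : IsUnit τ)
    (hα : l4 ^ 2 * α ^ 4 + l2 ^ 2 * α ^ 2 + τ ^ 2 * α + l0 ^ 2 = 0)
    (hβ : s4 ^ 2 * β ^ 4 + s2 ^ 2 * β ^ 2 + τ ^ 2 * β + s0 ^ 2 = 0) :
    ∃ φ : MvPowerSeries (Fin 3) R ≃ₐ[R] MvPowerSeries (Fin 3) R,
      φ ((X 2 ^ 2 + C (τ ^ 2) * X 0 * X 1 + (C (s4 ^ 2) * X 1 ^ 4 + C (s2 ^ 2) * X 1 ^ 2) * X 0 +
          (C (l4 ^ 2) * X 0 ^ 4 + C (l2 ^ 2) * X 0 ^ 2) * X 1 + C (l4 ^ 2 * β) * X 0 ^ 4 +
          C (l2 ^ 2 * β) * X 0 ^ 2 + C (s4 ^ 2 * α) * X 1 ^ 4 + C (s2 ^ 2 * α) * X 1 ^ 2 :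
          MvPowerSeries (Fin 3) R)) =
        (X 2 ^ 2 + X 0 * X 1 : MvPowerSeries (Fin 3) R) := by
  have h2R : (2 : R) = 0 := CharTwo.two_eq_zero
  have h2 : (2 : MvPowerSeries (Fin 3) R) = 0 := by
    have : (2 : MvPowerSeries (Fin 3) R) = C (2 : R) := by rw [map_ofNat]
    rw [this, h2R, map_zero]
  obtain ⟨t, ht⟩ := hτ.exists_right_inv
  -- square roots
  have ea : α = ((l4 * α ^ 2 + l2 * α + l0) * t) ^ 2 := by
    have h3 : τ ^ 2 * α = (l4 * α ^ 2 + l2 * α + l0) ^ 2 := by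
      linear_combination hα - (l4 ^ 2 * α ^ 4 + l2 ^ 2 * α ^ 2 + l0 ^ 2 + l4 * l2 * α ^ 3 + l4 * l0 * α ^ 2 + l2 * l0 * α) * h2R
    rw [mul_pow, ← h3]
    have : τ ^ 2 * α * t ^ 2 = α * (τ * t) ^ 2 := by ring
    rw [this, ht]; ring
  have eb : β = ((s4 * β ^ 2 + s2 * β + s0) * t) ^ 2 := by
    have h3 : τ ^ 2 * β = (s4 * β ^ 2 + s2 * β + s0) ^ 2 := by
      linear_combination hβ - (s4 ^ 2 * β ^ 4 + s2 ^ 2 * β ^ 2 + s0 ^ 2 + s4 * s2 * β ^ 3 + s4 * s0 * β ^ 2 + s2 * s0 * β) * h2R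
    rw [mul_pow, ← h3]
    have : τ ^ 2 * β * t ^ 2 = β * (τ * t) ^ 2 := by ring
    rw [this, ht]; ring
  set α' := (l4 * α ^ 2 + l2 * α + l0) * t with hα'
  set β' := (s4 * β ^ 2 + s2 * β + s0) * t with hβ'
  let g : MvPowerSeries (Fin 3) R := C (l4 * β') * X 0 ^ 2 + C (l2 * β') * X 0 + C (s4 * α') * X 1 ^ 2 + C (s2 * α') * X 1
  let w : MvPowerSeries (Fin 3) R := C (τ ^ 2) + C (s4 ^ 2) * X 1 ^ 3 + C (s2 ^ 2) * X 1 + C (l4 ^ 2) * X 0 ^ 3 + C (l2 ^ 2) * X 0
  obtain ⟨e1, he0, he1, he2⟩ := shear g (by simp [g]) (by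
    intro ha
    have h0 : substAlgHom (R := R) ha (X 0) = X 0 := substAlgHom_X ha 0
    have h1 : substAlgHom (R := R) ha (X 1) = X 1 := substAlgHom_X ha 1
    have hC : ∀ r : R, substAlgHom (R := R) ha (C r) = C r := fun r => (substAlgHom (R := R) ha).commutes r
    have hg' : g = C (l4 * β') * X 0 ^ 2 + C (l2 * β') * X 0 + C (s4 * α') * X 1 ^ 2 + C (s2 * α') * X 1 := rfl
    have : substAlgHom (R := R) ha (C (l4 * β') * X 0 ^ 2 + C (l2 * β') * X 0 + C (s4 * α') * X 1 ^ 2 + C (s2 * α') * X 1) = C (l4 * β') * X 0 ^ 2 + C (l2 * β') * X 0 + C (s4 * α') * X 1 ^ 2 + C (s2 * α') * X 1 := by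
      simp only [map_add, map_mul, map_pow, h0, h1, hC]
    exact this)
  obtain ⟨d, hd⟩ := Groth.Agent.H19PS.exists_equiv (R := R) ![w, 1, 1] (by
    intro s
    fin_cases s
    · simpa [w] using hτ.pow 2
    · simp
    · simp)
  have hd0 : d (X 0) = X 0 * w := hd 0
  have hd1 : d (X 1) = X 1 := by rw [hd 1]; simp
  have hd2 : d (X 2) = X 2 := by rw [hd 2]; simp
  have heC : ∀ r : R, e1 (C r) = C r := fun r => e1.commutes r
  refine ⟨(d.trans e1).symm, ?_⟩
  rw [AlgEquiv.symm_apply_eq, AlgEquiv.trans_apply]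
  simp only [map_add, map_mul, map_pow, hd0, hd1, hd2, he0, he1, he2, w, g, heC]
  have hCa : (C α : MvPowerSeries (Fin 3) R) = (C α') ^ 2 := by rw [← map_pow, ← ea]
  have hCb : (C β : MvPowerSeries (Fin 3) R) = (C β') ^ 2 := by rw [← map_pow, ← eb]
  rw [hCa, hCb]
  linear_combination (-(X 2 * (C l4 * C β' * X 0 ^ 2 + C l2 * C β' * X 0 + C s4 * C α' * X 1 ^ 2 + C s2 * C α' * X 1)) -
    (C l4 * C β' * X 0 ^ 2 * (C l2 * C β' * X 0) + C l4 * C β' * X 0 ^ 2 * (C s4 * C α' * X 1 ^ 2) +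
     C l4 * C β' * X 0 ^ 2 * (C s2 * C α' * X 1) + C l2 * C β' * X 0 * (C s4 * C α' * X 1 ^ 2) +
     C l2 * C β' * X 0 * (C s2 * C α' * X 1) + C s4 * C α' * X 1 ^ 2 * (C s2 * C α' * X 1))) * h2

end Groth.Agent.S13128
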