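import Groth.Statements.S13130

import Mathlib

set_option autoImplicit false
universe u v
open KumFam

namespace Groth.Agent.S13130

/-- Let R be a nontrivial commutative ring and M a commutative group, with group algebra R[M], the
coordinate ring of the diagonalizable group scheme D(M) over Spec R. Then D(M) is integral over Spec
R, i.e. R[M] is an integral R-algebra, if and only if M is a torsion group. (The published statement
is over an arbitrary base scheme; the question is local and this row is the affine form, with R
nontrivial so that the elements of M are R-linearly independent.) -/
theorem result (R : Type u) [CommRing R] [Nontrivial R]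
    (M : Type v) [CommGroup M] :
    Algebra.IsIntegral R (MonoidAlgebra R M) ↔ IsMulTorsion M := by
  classical
  constructor
  · intro h m
    obtain ⟨f, hf, hfm⟩ := h.isIntegral (MonoidAlgebra.single m (1 : R))
    by_contra hm
    have hinj : Function.Injective (fun n : ℕ => m ^ n) := by
      rw [injective_pow_iff_not_isOfFinOrder]; exact hm
    rw [← Polynomial.aeval_def, Polynomial.aeval_eq_sum_range] at hfm
    have h1 := congrArg (fun z : MonoidAlgebra R M => z.coeff (m ^ f.natDegree)) hfm
    simp only [MonoidAlgebra.single_pow, one_pow, MonoidAlgebra.coeff_sum, Finsupp.finsetSum_apply, MonoidAlgebra.coeff_zero, Finsupp.zero_apply] at h1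
    rw [Finset.sum_eq_single f.natDegree] at h1
    · simp [hf.coeff_natDegree] at h1
    · intro i _ hi
      have : m ^ i ≠ m ^ f.natDegree := fun h => hi (hinj h)
      simp [this]
    · simp
  · intro h
    refine ⟨fun x => ?_⟩
    induction x using MonoidAlgebra.induction_on with
    | of m =>
      obtain ⟨n, hn, hmn⟩ := (h m).exists_pow_eq_one
      apply IsIntegral.of_pow hn
      rw [← map_pow, hmn, map_one]
      exact isIntegral_one
    | add a b ha hb => exact ha.add hb
    | smul r a ha => exact ha.smul r

end Groth.Agent.S13130
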