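import Groth.Statements.S13131

import Mathlib

set_option autoImplicit false
universe u
open CategoryTheory CategoryTheory.Limits AlgebraicGeometry
open KumFam

namespace Groth.Agent.S13131
section aux
variable (S : Scheme.{u}) (M : Type u)

lemma idx_lc : IsLocallyConstant (fun x : (∐ (fun _ : M => S) : Scheme.{u}) => ((sigmaMk (fun _ : M => S)).symm x).1) := by
  have h1 : IsLocallyConstant (fun x : (Σ _ : M, (S : Type u)) => x.1) := by
    intro s
    rw [isOpen_sigma_iff]
    intro i
    have : Sigma.mk i ⁻¹' ((fun x : (Σ _ : M, (S : Type u)) => x.1) ⁻¹' s) = {x | i ∈ s} := by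
      ext x; rfl
    rw [this]
    exact isOpen_const
  exact h1.comp_continuous (sigmaMk (fun _ : M => S)).symm.continuous

lemma idx_ι (m : M) (s : S) :
    ((sigmaMk (fun _ : M => S)).symm ((Sigma.ι (fun _ : M => S) m) s)).1 = m := by
  have := sigmaMk_mk (f := fun _ : M => S) m s
  rw [← this, Homeomorph.symm_apply_apply]

lemma eq_of_idx {P : Scheme.{u}} (a : P ⟶ ∐ (fun _ : M => S)) (m : M)
    (h : ∀ x, ((sigmaMk (fun _ : M => S)).symm (a x)).1 = m) :
    a = (a ≫ Sigma.desc (fun _ : M => 𝟙 S)) ≫ Sigma.ι (fun _ : M => S) m := by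
  have hr : Set.range a ⊆ Set.range (Sigma.ι (fun _ : M => S) m) := by
    rintro _ ⟨x, rfl⟩
    obtain ⟨y, hy⟩ := (sigmaMk (fun _ : M => S)).surjective (a x)
    obtain ⟨m', s⟩ := y
    have hx := h x
    rw [← hy, Homeomorph.symm_apply_apply] at hx
    have hm : m' = m := hx
    subst hm
    exact ⟨s, by rw [← hy, sigmaMk_mk]⟩
  have hl := IsOpenImmersion.lift_fac (Sigma.ι (fun _ : M => S) m) a hr
  have h2 : a ≫ Sigma.desc (fun _ : M => 𝟙 S) = IsOpenImmersion.lift (Sigma.ι (fun _ : M => S) m) a hr := by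
    conv_lhs => rw [← hl]
    rw [Category.assoc, Sigma.ι_desc, Category.comp_id]
  rw [h2, hl]
end aux

/-- Let S be a scheme, M a set and p : T → S a scheme over S. The S-morphisms T → ∐_{m ∈ M} S (the
constant S-scheme on M, with its structure map the codiagonal) are in bijection with the locally
constant maps T → M, a morphism f corresponding to the function sending t to the index of the copy
of S containing f(t). (In the published statement M is a group and ∐_M S the constant group scheme;
the group structures play no role in this description of T-points.) -/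
theorem result (S : Scheme.{u}) (M : Type u)
    (T : Scheme.{u}) (p : T ⟶ S) :
    ∃ e : {f : T ⟶ ∐ (fun _ : M => S) // f ≫ Sigma.desc (fun _ : M => 𝟙 S) = p} ≃
        LocallyConstant T M,
      ∀ (f : {f : T ⟶ ∐ (fun _ : M => S) // f ≫ Sigma.desc (fun _ : M => 𝟙 S) = p}) (t : T),
        e f t = ((sigmaMk (fun _ : M => S)).symm (f.1.base t)).1 := by
  let F : {f : T ⟶ ∐ (fun _ : M => S) // f ≫ Sigma.desc (fun _ : M => 𝟙 S) = p} →
        LocallyConstant T M := fun f =>
    ⟨fun t => ((sigmaMk (fun _ : M => S)).symm (f.1.base t)).1, (idx_lc S M).comp_continuous f.1.continuous⟩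
  let U : LocallyConstant T M → M → T.Opens := fun l m => ⟨l ⁻¹' {m}, l.isLocallyConstant {m}⟩
  have hU : ∀ l, TopologicalSpace.IsOpenCover (U l) := by
    intro l
    rw [TopologicalSpace.IsOpenCover, eq_top_iff]
    intro t _
    exact TopologicalSpace.Opens.mem_iSup.mpr ⟨l t, rfl⟩
  have hinj : Function.Injective F := by
    intro f g hfg
    apply Subtype.ext
    refine Scheme.Cover.hom_ext (T.openCoverOfIsOpenCover (U (F f)) (hU (F f))) _ _ (fun m => ?_)
    show (U (F f) m).ι ≫ f.1 = (U (F f) m).ι ≫ g.1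
    rw [eq_of_idx S M ((U (F f) m).ι ≫ f.1) m, eq_of_idx S M ((U (F f) m).ι ≫ g.1) m,
      Category.assoc, Category.assoc, Category.assoc, Category.assoc, reassoc_of% f.2, reassoc_of% g.2]
    · intro x
      have hx : (F f) x.1 = m := x.2
      have hx2 : (F f) x.1 = (F g) x.1 := congrArg (fun q : LocallyConstant T M => q x.1) hfg
      exact hx2.symm.trans hx
    · intro x
      have hx : (F f) x.1 = m := x.2
      exact hx
  have hsurj : Function.Surjective F := by
    intro l
    let 𝒰 := T.openCoverOfIsOpenCover (U l) (hU l)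
    let g : T ⟶ ∐ (fun _ : M => S) := 𝒰.glueMorphisms (fun m : M => (U l m).ι ≫ p ≫ Sigma.ι (fun _ : M => S) m) (by
      intro m m'
      by_cases hmm : m = m'
      · subst hmm
        exact pullback.condition_assoc (f := (U l m).ι) (g := (U l m).ι) _
      · have : IsEmpty ↥(pullback (𝒰.f m) (𝒰.f m')) := by
          constructor
          intro x
          have h1 : l ((U l m).ι (pullback.fst (𝒰.f m) (𝒰.f m') x)) = m := (pullback.fst (𝒰.f m) (𝒰.f m') x).2
          have h2 : l ((U l m').ι (pullback.snd (𝒰.f m) (𝒰.f m') x)) = m' := (pullback.snd (𝒰.f m) (𝒰.f m') x).2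
          have h3 : (U l m).ι (pullback.fst (𝒰.f m) (𝒰.f m') x) = (U l m').ι (pullback.snd (𝒰.f m) (𝒰.f m') x) := by
            have := congrArg (fun q : pullback (𝒰.f m) (𝒰.f m') ⟶ T => q x) (pullback.condition (f := 𝒰.f m) (g := 𝒰.f m'))
            exact this
          rw [h3, h2] at h1
          exact hmm h1.symm
        exact (isInitialOfIsEmpty (X := pullback (𝒰.f m) (𝒰.f m'))).hom_ext _ _)
    have hg : ∀ m : M, (U l m).ι ≫ g = (U l m).ι ≫ p ≫ Sigma.ι (fun _ : M => S) m := fun m => 𝒰.ι_glueMorphisms _ _ m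
    refine ⟨⟨g, ?_⟩, ?_⟩
    · refine Scheme.Cover.hom_ext 𝒰 _ _ (fun m => ?_)
      show (U l m).ι ≫ g ≫ _ = (U l m).ι ≫ p
      rw [reassoc_of% hg m, Sigma.ι_desc, Category.comp_id]
    · ext t
      show ((sigmaMk (fun _ : M => S)).symm (g t)).1 = l t
      have h1 : g t = Sigma.ι (fun _ : M => S) (l t) (p t) := by
        have := congrArg (fun q : (U l (l t) : Scheme.{u}) ⟶ ∐ (fun _ : M => S) => q (⟨t, rfl⟩ : U l (l t))) (hg (l t))
        exact this
      rw [h1, idx_ι]
  exact ⟨Equiv.ofBijective F ⟨hinj, hsurj⟩, fun f t => rfl⟩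

end Groth.Agent.S13131
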