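import Groth.Statements.S13163

set_option autoImplicit false
universe u
open ZeroCyc

namespace Groth.Agent.S13163

open Polynomial in
/-- Let P_d(T) = ∏_{0 ≤ i < j ≤ d} (T^i − T^j) − 1 ∈ ℤ[T]. Every residue field of ℤ[T]/(P_d), i.e. every
field receiving a ring homomorphism from it, has at least d + 1 elements. -/
theorem result (d : ℕ) (k : Type u) [Field k]
    (φ : (ℤ[X] ⧸ Ideal.span {(∏ j ∈ Finset.range (d + 1), ∏ i ∈ Finset.range j,
        ((X : ℤ[X]) ^ i - X ^ j)) - 1}) →+* k) :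
    ((d + 1 : ℕ) : Cardinal) ≤ Cardinal.mk k := by
  set I : Ideal ℤ[X] := Ideal.span {(∏ j ∈ Finset.range (d + 1), ∏ i ∈ Finset.range j,
        ((X : ℤ[X]) ^ i - X ^ j)) - 1} with hI
  let t : k := φ (Ideal.Quotient.mk I X)
  have h1 : ∏ j ∈ Finset.range (d + 1), ∏ i ∈ Finset.range j, (t ^ i - t ^ j) = 1 := by
    have h2 : φ (Ideal.Quotient.mk I ((∏ j ∈ Finset.range (d + 1), ∏ i ∈ Finset.range j,
        ((X : ℤ[X]) ^ i - X ^ j)) - 1)) = 0 := by
      rw [Ideal.Quotient.eq_zero_iff_mem.2 (show _ ∈ I from Ideal.subset_span (Set.mem_singleton _)), map_zero]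
    simp only [map_sub, map_prod, map_pow, map_one] at h2
    exact sub_eq_zero.1 h2
  have h3 : ∀ j ∈ Finset.range (d + 1), ∀ i ∈ Finset.range j, t ^ i ≠ t ^ j := by
    intro j hj i hi he
    have : ∏ j ∈ Finset.range (d + 1), ∏ i ∈ Finset.range j, (t ^ i - t ^ j) = 0 :=
      Finset.prod_eq_zero hj (Finset.prod_eq_zero hi (by rw [he, sub_self]))
    rw [this] at h1
    exact zero_ne_one h1
  have hinj : Function.Injective (fun i : Fin (d + 1) => t ^ (i : ℕ)) := by
    intro a b hab
    rcases lt_trichotomy a b with h | h | h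
    · exact absurd hab (h3 b (Finset.mem_range.2 b.2) a (Finset.mem_range.2 h))
    · exact h
    · exact absurd hab.symm (h3 a (Finset.mem_range.2 a.2) b (Finset.mem_range.2 h))
  have h4 := Cardinal.mk_le_of_injective (f := fun i : ULift.{u} (Fin (d + 1)) => t ^ (i.down : ℕ)) (by
    intro a b hab
    exact ULift.ext _ _ (hinj hab))
  simpa using h4

end Groth.Agent.S13163
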