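import Groth.Statements.S14728
-- import your own Groth.Agent.* helpers here
import Mathlib

set_option autoImplicit false
universe u
open ValPrufer

namespace Groth.Agent.S14728
lemma aux {R B : Type u} [CommRing R] [CommRing B] (f : R →+* B) (q : Ideal B) [q.IsPrime] [IsDomain (Localization.AtPrime q)] [IsDomain (Localization.AtPrime (q.comap f))]
    (h : ∀ b : B, ∃ r s : R, f s * b = f r ∧ f s ∉ q)
    (hV : ValuationRing (Localization.AtPrime (q.comap f))) : ValuationRing (Localization.AtPrime q) := by
  let g := Localization.localRingHom (q.comap f) q f rfl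
  have hg : Function.Surjective g := by
    intro x
    obtain ⟨b, t, rfl⟩ := IsLocalization.exists_mk'_eq q.primeCompl x
    obtain ⟨r, s, hrs, hs⟩ := h b
    obtain ⟨r', s', hrs', hs'⟩ := h t.1
    have hr' : f r' ∉ q := by
      rw [← hrs']
      intro hmem
      rcases (inferInstance : q.IsPrime).mem_or_mem hmem with h1 | h1
      · exact hs' h1
      · exact t.2 h1
    have hden : s * r' ∈ (q.comap f).primeCompl := by
      intro hmem
      have : f (s * r') ∈ q := hmem
      rw [map_mul] at this
      rcases (inferInstance : q.IsPrime).mem_or_mem this with h1 | h1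
      · exact hs h1
      · exact hr' h1
    refine ⟨IsLocalization.mk' _ (r * s') (⟨s * r', hden⟩ : (q.comap f).primeCompl), ?_⟩
    rw [Localization.localRingHom_mk']
    rw [IsLocalization.mk'_eq_iff_eq]
    congr 1
    show t.1 * f (r * s') = f (s * r') * b
    rw [map_mul, map_mul]
    calc t.1 * (f r * f s') = f r * (f s' * t.1) := by ring
      _ = (f s * b) * f r' := by rw [hrs', hrs]
      _ = f s * f r' * b := by ring
  exact Function.Surjective.valuationRing g hg


/-- Let R be a Prüfer domain, i.e. a domain all of whose local rings at primes are valuation rings. (a)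
For a multiplicative subset S, any localisation B = S⁻¹R that is a domain (S not containing 0) is a
Prüfer domain. (b) For a prime ideal I, the quotient R/I is a Prüfer domain. -/
theorem result
    (R : Type u) [CommRing R] [IsDomain R]
    (hR : ∀ (p : Ideal R) [p.IsPrime], ValuationRing (Localization.AtPrime p))
    (S : Submonoid R) (B : Type u) [CommRing B] [IsDomain B] [Algebra R B] [IsLocalization S B]
    (I : Ideal R) [I.IsPrime] :
    (∀ (q : Ideal B) [q.IsPrime], ValuationRing (Localization.AtPrime q)) ∧
      (∀ (q : Ideal (R ⧸ I)) [q.IsPrime], ValuationRing (Localization.AtPrime q)) := by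
  constructor
  · intro q _
    apply aux (algebraMap R B) q _ (hR _)
    intro b
    obtain ⟨⟨r, s⟩, hrs⟩ := IsLocalization.surj S b
    refine ⟨r, s, by rw [mul_comm]; exact hrs, ?_⟩
    intro hmem
    exact (inferInstance : q.IsPrime).ne_top (Ideal.eq_top_of_isUnit_mem q hmem (IsLocalization.map_units B s))
  · intro q _
    apply aux (Ideal.Quotient.mk I) q _ (hR _)
    intro b
    obtain ⟨r, rfl⟩ := Ideal.Quotient.mk_surjective b
    refine ⟨r, 1, by rw [map_one, one_mul], ?_⟩
    rw [map_one]
    intro hmem
    exact (inferInstance : q.IsPrime).ne_top ((Ideal.eq_top_iff_one q).2 hmem)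

end Groth.Agent.S14728
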