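import Groth.Statements.S14745
-- import your own Groth.Agent.* helpers here
import Mathlib

set_option autoImplicit false
universe u v w
open CAlg

namespace Groth.Agent.S14745

/-- Let k be a field of characteristic zero, A a commutative k-algebra on which a finite group Γ acts by
k-algebra automorphisms, and I the ideal of A generated by a set of Γ-invariant elements. Then the
Γ-invariants of A map onto the Γ-invariants of A/I: every element of A whose class modulo I is
Γ-invariant is congruent modulo I to a Γ-invariant element. (The published statement takes A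
finitely generated and finitely many invariant generators; neither finiteness is used.) -/
theorem result (k : Type u) [Field k] [CharZero k]
    (A : Type v) [CommRing A] [Algebra k A] (Γ : Type w) [Group Γ] [Finite Γ]
    [MulSemiringAction Γ A] [SMulCommClass Γ k A]
    (S : Set A) (hS : ∀ f ∈ S, ∀ γ : Γ, γ • f = f) (a : A) (ha : ∀ γ : Γ, γ • a - a ∈ Ideal.span S) :
    ∃ b : A, (∀ γ : Γ, γ • b = b) ∧ a - b ∈ Ideal.span S := by
  classical
  haveI := Fintype.ofFinite Γ
  have hcard : (Fintype.card Γ : k) ≠ 0 := by
    exact_mod_cast Fintype.card_ne_zero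
  obtain ⟨b, hb⟩ : ∃ b, b = (Fintype.card Γ : k)⁻¹ • ∑ γ : Γ, γ • a := ⟨_, rfl⟩
  refine ⟨b, ?_, ?_⟩
  · intro γ
    rw [hb, smul_comm, Finset.smul_sum]
    congr 1
    simp only [smul_smul]
    exact Fintype.sum_equiv (Equiv.mulLeft γ) _ _ (fun x => rfl)
  · have h1 : a - b = - ((Fintype.card Γ : k)⁻¹ • ∑ γ : Γ, (γ • a - a)) := by
      rw [Finset.sum_sub_distrib, Finset.sum_const, Finset.card_univ, smul_sub, ← hb, ← Nat.cast_smul_eq_nsmul k, smul_smul,
        inv_mul_cancel₀ hcard, one_smul]
      abel
    rw [h1]
    apply Submodule.neg_mem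
    rw [Algebra.smul_def]
    apply Ideal.mul_mem_left
    exact Submodule.sum_mem _ (fun γ _ => ha γ)

end Groth.Agent.S14745
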