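import Groth.Statements.S14807
-- import your own Groth.Agent.* helpers here
import Mathlib

set_option autoImplicit false
universe u
open CAlg

namespace Groth.Agent.S14807

/-- Let G be a finite abelian group, written additively, and ℓ a prime number. Every sequence (g_n)_{n ≥
0} of elements of G with ℓ^n · g_n = 0 and ℓ · g_{n+1} = g_n for all n is identically zero; in other
words the inverse limit of the subgroups of ℓ^n-torsion elements, with transition maps
multiplication by ℓ, vanishes. -/
theorem result (G : Type u) [AddCommGroup G] [Finite G]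
    (ℓ : ℕ) (hℓ : ℓ.Prime) (g : ℕ → G) (htor : ∀ n : ℕ, ℓ ^ n • g n = 0)
    (hcomp : ∀ n : ℕ, ℓ • g (n + 1) = g n) (n : ℕ) : g n = 0 := by
  have key : ∀ k n, ℓ ^ k • g (n + k) = g n := by
    intro k
    induction k with
    | zero => intro n; simp
    | succ k ih => intro n; rw [pow_succ, mul_smul, ← add_assoc, hcomp, ih]
  have hN : Nat.card G ≠ 0 := Nat.card_pos.ne'
  obtain ⟨k, m, hm, hNk⟩ := Nat.exists_eq_pow_mul_and_not_dvd hN ℓ hℓ.ne_one
  have h1 : addOrderOf (g (n+k)) ∣ ℓ^(n+k) := addOrderOf_dvd_of_nsmul_eq_zero (htor _)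
  have h2 : addOrderOf (g (n+k)) ∣ Nat.card G := addOrderOf_dvd_natCard _
  rw [hNk] at h2
  have h3 : Nat.Coprime (addOrderOf (g (n+k))) m :=
    Nat.Coprime.coprime_dvd_left h1 (Nat.Coprime.pow_left _ ((Nat.Prime.coprime_iff_not_dvd hℓ).2 hm))
  have h4 := h3.dvd_of_dvd_mul_right h2
  rw [← key k n]
  exact addOrderOf_dvd_iff_nsmul_eq_zero.1 h4

end Groth.Agent.S14807
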