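import Groth.Statements.S14955
-- import your own Groth.Agent.* helpers here
import Mathlib
import Groth.Agent.Lib.H22_Milnor

set_option autoImplicit false
universe u
open TensorProduct
open EtAlg

namespace Groth.Agent.S14955

/-- Let B' = B ×_A A' be a fibre product of commutative rings with A' → A surjective. Then the square is
also a pushout of commutative rings: the canonical map B ⊗_{B'} A' → A is an isomorphism. -/
theorem result (B' B A' A : Type u) [CommRing B'] [CommRing B] [CommRing A'] [CommRing A]
    [Algebra B' B] [Algebra B' A'] [Algebra B A] [Algebra A' A] [Algebra B' A] [IsScalarTower B' B A] [IsScalarTower B' A' A]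
    (hsq : EtMil.IsFibreSquare B' B A' A) : Algebra.IsPushout B' B A' A := by
  have hsurj := H22Mil.surj hsq
  constructor
  show Function.Bijective _
  constructor
  · rw [injective_iff_map_eq_zero]
    intro z hz
    obtain ⟨a', rfl⟩ : ∃ a' : A', z = (1 : B) ⊗ₜ[B'] a' := by
      clear hz
      induction z with
      | zero => exact ⟨0, by simp⟩
      | tmul b a' =>
        obtain ⟨b', rfl⟩ := hsurj b
        refine ⟨b' • a', ?_⟩
        rw [← TensorProduct.smul_tmul, Algebra.smul_def, mul_one]
      | add x y hx hy =>
        obtain ⟨a, rfl⟩ := hx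
        obtain ⟨b, rfl⟩ := hy
        exact ⟨a + b, by rw [TensorProduct.tmul_add]⟩
    have hz' : algebraMap A' A a' = 0 := by
      simpa using hz
    obtain ⟨b', ⟨h1, h2⟩, _⟩ := hsq.2 0 a' (by rw [map_zero, hz'])
    have h3 : a' = b' • (1 : A') := by rw [Algebra.smul_def, mul_one, h2]
    rw [h3, ← TensorProduct.smul_tmul, Algebra.smul_def, h1, zero_mul, TensorProduct.zero_tmul]
  · intro a
    obtain ⟨a', rfl⟩ := hsq.1 a
    exact ⟨(1 : B) ⊗ₜ[B'] a', by simp⟩

end Groth.Agent.S14955
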