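import Groth.Statements.S14964
-- import your own Groth.Agent.* helpers here
import Mathlib

set_option autoImplicit false
universe u v w
open EtAlg

namespace Groth.Agent.S14964

/-- Let f : A → A' be a homomorphism of commutative rings, M an A-module and M' an A'-module together
with an A-linear map u : M → M' whose image generates M' over A' (so M' is a quotient of A' ⊗_A M).
Let I be an ideal of A such that the ideal of A' generated by f(I) consists of the elements f(i), i
∈ I. Then f(I) M' = u(I M) as subsets of M'; in particular u(I M) is an A'-submodule. -/
theorem result (A : Type u) [CommRing A] (A' : Type v) [CommRing A'] [Algebra A A']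
    (M : Type w) [AddCommGroup M] [Module A M] (M' : Type w) [AddCommGroup M'] [Module A' M'] [Module A M'] [IsScalarTower A A' M']
    (u : M →ₗ[A] M') (hu : Submodule.span A' (Set.range u) = ⊤)
    (I : Ideal A) (hI : ∀ a ∈ Ideal.map (algebraMap A A') I, ∃ i ∈ I, algebraMap A A' i = a) :
    ((Ideal.map (algebraMap A A') I) • (⊤ : Submodule A' M')).restrictScalars A = Submodule.map u (I • (⊤ : Submodule A M)) := by
  apply le_antisymm
  · intro x hx
    have hx' : x ∈ (Ideal.map (algebraMap A A') I) • (⊤ : Submodule A' M') := hx
    clear hx
    refine Submodule.smul_induction_on hx' ?_ (fun x y hx hy => Submodule.add_mem _ hx hy)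
    intro a ha n _
    have hn : n ∈ Submodule.span A' (Set.range u) := by rw [hu]; trivial
    induction hn using Submodule.span_induction generalizing a with
    | mem x hx =>
      obtain ⟨m, rfl⟩ := hx
      obtain ⟨i, hi, rfl⟩ := hI a ha
      refine ⟨i • m, Submodule.smul_mem_smul hi trivial, ?_⟩
      rw [map_smul, algebraMap_smul]
    | zero => rw [smul_zero]; exact Submodule.zero_mem _
    | add x y _ _ hx hy => rw [smul_add]; exact Submodule.add_mem _ (hx a ha trivial) (hy a ha trivial)
    | smul r x _ hx =>
      rw [smul_smul]
      exact hx (a * r) (Ideal.mul_mem_right _ _ ha) trivial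
  · rw [Submodule.map_le_iff_le_comap, Submodule.smul_le]
    intro i hi m _
    show u (i • m) ∈ (Ideal.map (algebraMap A A') I) • (⊤ : Submodule A' M')
    rw [map_smul, ← algebraMap_smul A' i (u m)]
    exact Submodule.smul_mem_smul (Ideal.mem_map_of_mem _ hi) trivial

end Groth.Agent.S14964
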