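import Groth.Statements.S14966
-- import your own Groth.Agent.* helpers here
import Mathlib
import Groth.Agent.Lib.H22_Milnor

set_option autoImplicit false
universe u
open EtAlg

namespace Groth.Agent.S14966

/-- Let A → A' be an injective homomorphism of commutative rings and let I ⊆ A be the conductor, i.e.
the annihilator of the A-module A'/A. Then the conductor square formed by A → A/I, A → A', A/I →
A'/IA' and A' → A'/IA' is a fibre product square of rings with A' → A'/IA' surjective: A = A/I
×_{A'/IA'} A'. (The published Lemma is for the conductor square of a finite modification of schemes;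
this row is the underlying statement for one injective ring map, which needs no finiteness.) -/
theorem result (A A' : Type u) [CommRing A] [CommRing A'] [Algebra A A']
    (hinj : Function.Injective (algebraMap A A')) :
    EtMil.IsFibreSquare A (A ⧸ Module.annihilator A (A' ⧸ LinearMap.range (Algebra.linearMap A A'))) A'
      (A' ⧸ Ideal.map (algebraMap A A') (Module.annihilator A (A' ⧸ LinearMap.range (Algebra.linearMap A A')))) := by
  classical
  obtain ⟨I, hI⟩ : ∃ I, I = Module.annihilator A (A' ⧸ LinearMap.range (Algebra.linearMap A A')) := ⟨_, rfl⟩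
  have hmem : ∀ i ∈ I, ∀ x : A', ∃ y ∈ I, algebraMap A A' y = algebraMap A A' i * x := by
    have h1 : ∀ i ∈ I, ∀ x : A', ∃ y : A, algebraMap A A' y = algebraMap A A' i * x := by
      intro i hi x
      rw [hI, Module.mem_annihilator] at hi
      have h2 := hi (Submodule.Quotient.mk x)
      rw [← Submodule.Quotient.mk_smul, Submodule.Quotient.mk_eq_zero] at h2
      obtain ⟨y, hy⟩ := h2
      exact ⟨y, by rw [← Algebra.smul_def]; exact hy⟩
    intro i hi x
    obtain ⟨y, hy⟩ := h1 i hi x
    refine ⟨y, ?_, hy⟩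
    rw [hI, Module.mem_annihilator]
    intro m
    obtain ⟨z, rfl⟩ := Submodule.Quotient.mk_surjective _ m
    rw [← Submodule.Quotient.mk_smul, Submodule.Quotient.mk_eq_zero]
    obtain ⟨w, hw⟩ := h1 i hi (x * z)
    refine ⟨w, ?_⟩
    show algebraMap A A' w = y • z
    rw [Algebra.smul_def, hy, hw, mul_assoc]
  have hmap : ∀ x ∈ Ideal.map (algebraMap A A') I, ∃ y ∈ I, algebraMap A A' y = x := by
    intro x hx
    induction hx using Submodule.span_induction with
    | mem x hx =>
      obtain ⟨i, hi, rfl⟩ := hx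
      exact ⟨i, hi, rfl⟩
    | zero => exact ⟨0, I.zero_mem, map_zero _⟩
    | add x y _ _ hx hy =>
      obtain ⟨a, ha, rfl⟩ := hx
      obtain ⟨b, hb, rfl⟩ := hy
      exact ⟨a + b, I.add_mem ha hb, map_add _ _ _⟩
    | smul r x _ hx =>
      obtain ⟨a, ha, rfl⟩ := hx
      obtain ⟨y, hy, hy'⟩ := hmem a ha r
      exact ⟨y, hy, by rw [hy', smul_eq_mul, mul_comm]⟩
  rw [← hI]
  refine ⟨Ideal.Quotient.mk_surjective, ?_⟩
  intro b a' hba
  obtain ⟨a₀, rfl⟩ := Ideal.Quotient.mk_surjective b
  have h3 : Ideal.Quotient.mk (Ideal.map (algebraMap A A') I) (algebraMap A A' a₀) = Ideal.Quotient.mk (Ideal.map (algebraMap A A') I) a' := hba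
  rw [eq_comm, Ideal.Quotient.eq] at h3
  obtain ⟨i, hi, hi'⟩ := hmap _ h3
  refine ⟨a₀ + i, ⟨?_, ?_⟩, ?_⟩
  · show Ideal.Quotient.mk I (a₀ + i) = Ideal.Quotient.mk I a₀
    rw [map_add, Ideal.Quotient.eq_zero_iff_mem.2 hi, add_zero]
  · rw [map_add, hi']; abel
  · rintro y ⟨_, hy⟩
    apply hinj
    rw [hy, map_add, hi']; abel

end Groth.Agent.S14966
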