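import Groth.Statements.S15004
-- import your own Groth.Agent.* helpers here
import Mathlib

set_option autoImplicit false
universe u v
open Harb

namespace Groth.Agent.S15004

/-- Let C be a finite family of d curves, recorded as an incidence relation between a type of points and
a finite index type, such that any two distinct curves of the family meet in exactly h points; for a
point p write r_p for the number of curves of the family through p. Then for every curve C_i of the
family, Σ_{p ∈ C_i} (r_p − 1) = h (d − 1), the sum being finitely supported. (The published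
statement is for a transversal arrangement of curves on a geometrically ruled surface with invariant
e, all numerically equivalent to a C₀ + b f, where any two of the curves meet transversally in h =
2ab − a²e points; only this common pairwise intersection count enters the proof, and this row states
the identity for an abstract incidence relation.) -/
theorem result (P : Type u) (ι : Type v) [Fintype ι]
    (inc : P → ι → Prop) (h : ℕ)
    (hfin : ∀ i j : ι, i ≠ j → {p : P | inc p i ∧ inc p j}.Finite)
    (hcount : ∀ i j : ι, i ≠ j → {p : P | inc p i ∧ inc p j}.ncard = h) (i : ι) :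
    ∑ᶠ p ∈ {p : P | inc p i}, (Nat.card {j : ι // inc p j} - 1) = h * (Fintype.card ι - 1) := by
  classical
  have hfinS : {p : P | inc p i ∧ ∃ j, j ≠ i ∧ inc p j}.Finite := by
    have : {p : P | inc p i ∧ ∃ j, j ≠ i ∧ inc p j} ⊆ ⋃ j ∈ (Finset.univ.erase i : Finset ι), {p : P | inc p i ∧ inc p j} := by
      rintro p ⟨h1, j, hj, h2⟩
      simp only [Set.mem_iUnion]
      exact ⟨j, by simp [hj], h1, h2⟩
    refine Set.Finite.subset ?_ this
    apply Set.Finite.biUnion (Finset.finite_toSet _)
    intro j hj
    exact hfin i j (fun h => by subst h; simp at hj)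
  obtain ⟨T, hT⟩ : ∃ T : Finset P, ∀ p, p ∈ T ↔ (inc p i ∧ ∃ j, j ≠ i ∧ inc p j) :=
    ⟨hfinS.toFinset, fun p => by rw [Set.Finite.mem_toFinset]; rfl⟩
  have hcard : ∀ p, inc p i → Nat.card {j : ι // inc p j} - 1 = ∑ j ∈ Finset.univ.erase i, (if inc p j then 1 else 0) := by
    intro p hp
    rw [← Finset.card_filter, Nat.card_eq_fintype_card, Fintype.card_subtype]
    have h3 : (Finset.univ.filter (fun j => inc p j)).erase i = (Finset.univ.erase i).filter (fun j => inc p j) := by
      ext j; simp [and_assoc]
    rw [← h3, Finset.card_erase_of_mem (by simp [hp])]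
  rw [finsum_mem_eq_sum_of_inter_support_eq (t := T)]
  · rw [Finset.sum_congr rfl (fun p hp => hcard p ((hT p).1 hp).1), Finset.sum_comm]
    have h4 : ∀ j ∈ Finset.univ.erase i, ∑ p ∈ T, (if inc p j then 1 else 0) = h := by
      intro j hj
      have hji : i ≠ j := fun h' => by subst h'; simp at hj
      rw [← Finset.card_filter, ← hcount i j hji, ← Set.ncard_coe_finset]
      congr 1
      ext p
      simp only [Finset.coe_filter, Set.mem_setOf_eq, hT]
      constructor
      · rintro ⟨⟨h1, _⟩, h2⟩; exact ⟨h1, h2⟩
      · rintro ⟨h1, h2⟩; exact ⟨⟨h1, j, hji.symm, h2⟩, h2⟩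
    rw [Finset.sum_congr rfl h4, Finset.sum_const, Finset.card_erase_of_mem (Finset.mem_univ _), Finset.card_univ, smul_eq_mul, mul_comm]
  · ext p
    simp only [Set.mem_inter_iff, Set.mem_setOf_eq, Function.mem_support, Finset.mem_coe, hT]
    constructor
    · rintro ⟨h1, h2⟩
      refine ⟨⟨h1, ?_⟩, h2⟩
      rw [hcard p h1] at h2
      obtain ⟨j, hj, hj'⟩ := Finset.exists_ne_zero_of_sum_ne_zero h2
      refine ⟨j, Finset.ne_of_mem_erase hj, ?_⟩
      by_contra hcon
      simp [hcon] at hj'
    · rintro ⟨⟨h1, _⟩, h2⟩; exact ⟨h1, h2⟩

end Groth.Agent.S15004
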