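import Groth.Statements.S15005
-- import your own Groth.Agent.* helpers here
import Mathlib

set_option autoImplicit false
universe u v
open Harb

namespace Groth.Agent.S15005

/-- Let C be a finite family of d curves, recorded as an incidence relation between a type of points and
a finite index type, such that any two distinct curves of the family meet in exactly h points; let
t_k be the number of k-fold points (points lying on exactly k curves of the family). Then f₂ − f₁ =
Σ_{k ≥ 2} k(k − 1) t_k equals h d(d − 1), where f_i = Σ_{k ≥ 2} k^i t_k. (The published statement is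
for a transversal arrangement of curves on a geometrically ruled surface with invariant e, all
numerically equivalent to a C₀ + b f, where any two of the curves meet transversally in h = 2ab −
a²e points; only this common pairwise intersection count enters the proof, and this row states the
identity for an abstract incidence relation.) -/
theorem result (P : Type u) (ι : Type v) [Fintype ι]
    (inc : P → ι → Prop) (h : ℕ)
    (hfin : ∀ i j : ι, i ≠ j → {p : P | inc p i ∧ inc p j}.Finite)
    (hcount : ∀ i j : ι, i ≠ j → {p : P | inc p i ∧ inc p j}.ncard = h) :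
    ∑ k ∈ Finset.Icc 2 (Fintype.card ι), k * (k - 1) * Nat.card {p : P // Nat.card {j : ι // inc p j} = k} =
      h * (Fintype.card ι * (Fintype.card ι - 1)) := by
  classical
  have hfinS : {p : P | ∃ i j, i ≠ j ∧ inc p i ∧ inc p j}.Finite := by
    have : {p : P | ∃ i j, i ≠ j ∧ inc p i ∧ inc p j} ⊆ ⋃ ij ∈ (Finset.univ.filter (fun ij : ι × ι => ij.1 ≠ ij.2)), {p : P | inc p ij.1 ∧ inc p ij.2} := by
      rintro p ⟨i, j, hij, h1, h2⟩
      simp only [Set.mem_iUnion]
      exact ⟨(i, j), by simp [hij], h1, h2⟩
    refine Set.Finite.subset ?_ this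
    apply Set.Finite.biUnion (Finset.finite_toSet _)
    intro ij hij
    exact hfin ij.1 ij.2 (by simpa using hij)
  obtain ⟨T, hT⟩ : ∃ T : Finset P, ∀ p, p ∈ T ↔ (∃ i j, i ≠ j ∧ inc p i ∧ inc p j) :=
    ⟨hfinS.toFinset, fun p => by rw [Set.Finite.mem_toFinset]; rfl⟩
  let r : P → ℕ := fun p => (Finset.univ.filter (fun j => inc p j)).card
  have hr : ∀ p, Nat.card {j : ι // inc p j} = r p := by
    intro p
    rw [Nat.card_eq_fintype_card, Fintype.card_subtype]
  have hTr : ∀ p, p ∈ T ↔ 2 ≤ r p := by
    intro p
    rw [hT]
    constructor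
    · rintro ⟨i, j, hij, h1, h2⟩
      have : ({i, j} : Finset ι) ⊆ Finset.univ.filter (fun j => inc p j) := by
        intro x hx; simp only [Finset.mem_insert, Finset.mem_singleton] at hx
        rcases hx with rfl | rfl <;> simp [h1, h2]
      calc 2 = ({i, j} : Finset ι).card := (Finset.card_pair hij).symm
        _ ≤ _ := Finset.card_le_card this
    · intro h2
      obtain ⟨i, hi, j, hj, hij⟩ := Finset.one_lt_card.1 (show 1 < (Finset.univ.filter (fun j => inc p j)).card from h2)
      exact ⟨i, j, hij, by simpa using hi, by simpa using hj⟩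
  have hrle : ∀ p, r p ≤ Fintype.card ι := fun p => Finset.card_le_univ _
  have h1 : ∑ k ∈ Finset.Icc 2 (Fintype.card ι), k * (k - 1) * Nat.card {p : P // Nat.card {j : ι // inc p j} = k} =
      ∑ p ∈ T, r p * (r p - 1) := by
    rw [← Finset.sum_fiberwise_of_maps_to (s := T) (t := Finset.Icc 2 (Fintype.card ι)) (g := r)
      (fun p hp => Finset.mem_Icc.2 ⟨(hTr p).1 hp, hrle p⟩)]
    apply Finset.sum_congr rfl
    intro k hk
    rw [Finset.mem_Icc] at hk
    have h2 : Nat.card {p : P // Nat.card {j : ι // inc p j} = k} = (T.filter (fun p => r p = k)).card := by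
      have : {p : P | Nat.card {j : ι // inc p j} = k} = ↑(T.filter (fun p => r p = k)) := by
        ext p
        simp only [Set.mem_setOf_eq, Finset.coe_filter, hr, hTr]
        constructor
        · intro h; exact ⟨by omega, h⟩
        · exact fun h => h.2
      have h3 := congrArg Set.ncard this
      rw [Set.ncard_coe_finset] at h3
      exact h3
    rw [h2, Finset.sum_congr rfl (g := fun _ => k * (k - 1)) (fun p hp => by rw [(Finset.mem_filter.1 hp).2]), Finset.sum_const, smul_eq_mul, mul_comm]
  rw [h1]
  have h2 : ∀ p, r p * (r p - 1) = ∑ ij ∈ (Finset.univ : Finset ι).offDiag, (if inc p ij.1 ∧ inc p ij.2 then 1 else 0) := by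
    intro p
    rw [← Finset.card_filter]
    have : (Finset.univ : Finset ι).offDiag.filter (fun ij => inc p ij.1 ∧ inc p ij.2) = (Finset.univ.filter (fun j => inc p j)).offDiag := by
      ext ⟨a, b⟩
      simp only [Finset.mem_filter, Finset.mem_offDiag, Finset.mem_univ, true_and]
      tauto
    rw [this, Finset.offDiag_card]
    show r p * (r p - 1) = r p * r p - r p
    rw [Nat.mul_sub, mul_one]
  rw [Finset.sum_congr rfl (fun p _ => h2 p), Finset.sum_comm]
  have h3 : ∀ ij ∈ (Finset.univ : Finset ι).offDiag, ∑ p ∈ T, (if inc p ij.1 ∧ inc p ij.2 then 1 else 0) = h := by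
    rintro ⟨i, j⟩ hij
    simp only [Finset.mem_offDiag, Finset.mem_univ, true_and] at hij
    rw [← Finset.card_filter, ← hcount i j hij, ← Set.ncard_coe_finset]
    congr 1
    ext p
    simp only [Finset.coe_filter, Set.mem_setOf_eq, hT]
    constructor
    · rintro ⟨_, h2⟩; exact h2
    · intro h2; exact ⟨⟨i, j, hij, h2.1, h2.2⟩, h2⟩
  rw [Finset.sum_congr rfl h3, Finset.sum_const, Finset.offDiag_card, Finset.card_univ, smul_eq_mul, mul_comm]
  congr 1
  rw [Nat.mul_sub, mul_one]

end Groth.Agent.S15005
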