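import Groth.Statements.S15006
-- import your own Groth.Agent.* helpers here
import Mathlib
import Groth.Agent.Lib.H22_Harb

set_option autoImplicit false
universe u v
open Harb

namespace Groth.Agent.S15006

/-- Let C be a finite family of d ≥ 2 curves, recorded as an incidence relation between a type of points
and a finite index type, such that any two distinct curves of the family meet in exactly h ≥ 1
points and no point lies on every curve of the family. Then f₀ ≥ d: the number of multiple points
(points lying on at least two of the curves) is at least the number of curves. (The published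
statement is for a transversal arrangement of d ≥ 4 curves on a geometrically ruled surface with
invariant e ≥ 4, all numerically equivalent to a C₀ + b f with a ≥ 1 and b ≥ ae and with no point
common to all of them, satisfying in addition either a ≥ 2, or a = 1 with some four of the curves
having no point in common, where any two of the curves meet transversally in h = 2ab − a²e ≥ 1
points; only d ≥ 2, h ≥ 1 and the absence of a common point enter the proof, and this row states the
bound for an abstract incidence relation.) -/
theorem result (P : Type u) (ι : Type v) [Fintype ι]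
    (inc : P → ι → Prop) (h : ℕ) (hh : 0 < h) (hd : 2 ≤ Fintype.card ι)
    (hfin : ∀ i j : ι, i ≠ j → {p : P | inc p i ∧ inc p j}.Finite)
    (hcount : ∀ i j : ι, i ≠ j → {p : P | inc p i ∧ inc p j}.ncard = h)
    (hnone : ∀ p : P, ∃ i : ι, ¬ inc p i) :
    Fintype.card ι ≤ Nat.card {p : P // 2 ≤ Nat.card {j : ι // inc p j}} := by
  classical
  obtain ⟨F, hF, hcard, h2, h1⟩ := H22Harb.core inc h hh hd hfin hcount hnone
  rw [hcard]
  let v : ι → (F → ℝ) := fun i p => if inc p.1 i then 1 else 0
  have hii : ∀ i, ∑ p : F, v i p * v i p = ((F.filter (fun p => inc p i)).card : ℝ) := by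
    intro i
    rw [Finset.card_filter, Nat.cast_sum, ← Finset.sum_coe_sort F]
    refine Finset.sum_congr rfl fun p _ => ?_
    simp only [v]
    split_ifs <;> simp
  have hij : ∀ i j, i ≠ j → ∑ p : F, v i p * v j p = (h : ℝ) := by
    intro i j hne
    rw [← h2 i j hne, Finset.card_filter, Nat.cast_sum, ← Finset.sum_coe_sort F]
    refine Finset.sum_congr rfl fun p _ => ?_
    simp only [v]
    by_cases ha : inc p.1 i <;> by_cases hb : inc p.1 j <;> simp [ha, hb]
  have hli : LinearIndependent ℝ v := by
    rw [Fintype.linearIndependent_iff]
    intro g hg
    have hzero : ∀ p : F, ∑ i, g i * v i p = 0 := by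
      intro p
      have := congrFun hg p
      simpa [Finset.sum_apply] using this
    have hq : ∑ p : F, (∑ i, g i * v i p) * (∑ j, g j * v j p) = 0 := by
      simp [hzero]
    have hexp : ∑ p : F, (∑ i, g i * v i p) * (∑ j, g j * v j p)
        = ∑ i, ∑ j, g i * g j * ∑ p : F, v i p * v j p := by
      simp only [Finset.sum_mul_sum]
      simp only [Finset.mul_sum]
      rw [Finset.sum_comm]
      refine Finset.sum_congr rfl fun i _ => ?_
      rw [Finset.sum_comm]
      refine Finset.sum_congr rfl fun j _ => ?_
      refine Finset.sum_congr rfl fun p _ => ?_
      ring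
    have hform : ∑ i, ∑ j, g i * g j * ∑ p : F, v i p * v j p
        = h * (∑ i, g i) * (∑ j, g j) +
          ∑ i, g i * g i * (((F.filter (fun p => inc p i)).card : ℝ) - h) := by
      have e1 : ∀ i j, g i * g j * ∑ p : F, v i p * v j p
          = h * (g i * g j) + if i = j then g i * g i * (((F.filter (fun p => inc p i)).card : ℝ) - h) else 0 := by
        intro i j
        by_cases hne : i = j
        · subst hne
          rw [hii, if_pos rfl]
          ring
        · rw [hij i j hne, if_neg hne]
          ring
      simp only [e1, Finset.sum_add_distrib, Finset.sum_ite_eq, Finset.mem_univ, if_true]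
      congr 1
      rw [mul_assoc, Finset.sum_mul_sum, Finset.mul_sum]
      refine Finset.sum_congr rfl fun i _ => ?_
      rw [Finset.mul_sum]
    rw [hexp, hform] at hq
    have hnn : ∀ i ∈ Finset.univ, 0 ≤ g i * g i * (((F.filter (fun p => inc p i)).card : ℝ) - h) := by
      intro i _
      refine mul_nonneg (mul_self_nonneg _) ?_
      have : (h : ℝ) < ((F.filter (fun p => inc p i)).card : ℝ) := by exact_mod_cast h1 i
      linarith
    have hsq : 0 ≤ (h : ℝ) * (∑ i, g i) * (∑ j, g j) := by
      rw [mul_assoc]
      exact mul_nonneg (Nat.cast_nonneg _) (mul_self_nonneg _)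
    have hs0 : ∑ i, g i * g i * (((F.filter (fun p => inc p i)).card : ℝ) - h) = 0 := by
      have := Finset.sum_nonneg hnn
      linarith
    intro i
    have := (Finset.sum_eq_zero_iff_of_nonneg hnn).1 hs0 i (Finset.mem_univ _)
    have hpos : (h : ℝ) < ((F.filter (fun p => inc p i)).card : ℝ) := by exact_mod_cast h1 i
    rcases mul_eq_zero.1 this with h' | h'
    · exact mul_self_eq_zero.1 h'
    · exfalso; linarith
  have := hli.fintype_card_le_finrank
  simpa using this

end Groth.Agent.S15006
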