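import Groth.Statements.S15083
-- import your own Groth.Agent.* helpers here
import Mathlib

set_option autoImplicit false
universe u
open MovLem

namespace Groth.Agent.S15083
open Matrix in
theorem white {K : Type u} [Field K] {n : Type} [Fintype n] [DecidableEq n] (i j : n) (hij : i ≠ j)
    (w : K) (hw : w ≠ 0) :
    (diagonal (fun a => if a = i then w else if a = j then w⁻¹ else 1) : Matrix n n K) =
      transvection i j w * (transvection j i (-w⁻¹) * (transvection i j w *
        (transvection i j (-1) * (transvection j i 1 * (transvection i j (-1) * 1))))) := by
  have hji := hij.symm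
  have hta : ∀ (i j : n) (c : K) (a b : n), transvection i j c a b =
      (if a = b then 1 else 0) + (if i = a ∧ j = b then c else 0) := by
    intro i j c a b
    simp [transvection, Matrix.single_apply, Matrix.one_apply]
  ext a b
  by_cases ha : a = i
  · subst ha
    by_cases hb : b = a
    · subst hb
      simp [transvection_mul_apply_same, transvection_mul_apply_of_ne, hij, hji, one_apply, diagonal_apply, hw, hta]
      try field_simp
      try ring
    · have hb' : a ≠ b := fun e => hb e.symm
      by_cases hb2 : b = j
      · subst hb2
        simp [transvection_mul_apply_same, transvection_mul_apply_of_ne, hij, hji, one_apply, diagonal_apply, hw, hta]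
        try field_simp
        try ring
      · have hb2' : j ≠ b := fun e => hb2 e.symm
        simp [transvection_mul_apply_same, transvection_mul_apply_of_ne, hij, hji, one_apply, diagonal_apply, hw,
          hb, hb', hb2, hb2', hta]
        try field_simp
        try ring
  · by_cases haj : a = j
    · subst haj
      by_cases hb : b = i
      · subst hb
        simp [transvection_mul_apply_same, transvection_mul_apply_of_ne, hij, hji, one_apply, diagonal_apply, hw, hta]
        try field_simp
        try ring
      · have hb' : i ≠ b := fun e => hb e.symm
        by_cases hb2 : b = a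
        · subst hb2
          simp [transvection_mul_apply_same, transvection_mul_apply_of_ne, hij, hji, one_apply, diagonal_apply, hw, hta]
          try field_simp
          try ring
        · have hb2' : a ≠ b := fun e => hb2 e.symm
          simp [transvection_mul_apply_same, transvection_mul_apply_of_ne, hij, hji, one_apply, diagonal_apply, hw,
            hb, hb', hb2, hb2', hta]
          try field_simp
          try ring
    · rw [transvection_mul_apply_of_ne _ _ _ _ ha, transvection_mul_apply_of_ne _ _ _ _ haj,
        transvection_mul_apply_of_ne _ _ _ _ ha, transvection_mul_apply_of_ne _ _ _ _ ha,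
        transvection_mul_apply_of_ne _ _ _ _ haj, transvection_mul_apply_of_ne _ _ _ _ ha]
      simp [one_apply, diagonal_apply, ha, haj]

def PP {K : Type u} [Field K] {n : Type} [Fintype n] [DecidableEq n] (M : Matrix n n K) : Prop :=
  ∃ N : Matrix n n (Polynomial K), N.det = 1 ∧ (Polynomial.evalRingHom (0 : K)).mapMatrix N = 1 ∧
    (Polynomial.evalRingHom (1 : K)).mapMatrix N = M

theorem PP_one {K : Type u} [Field K] {n : Type} [Fintype n] [DecidableEq n] :
    PP (1 : Matrix n n K) := ⟨1, by simp, by simp, by simp⟩

theorem PP_mul {K : Type u} [Field K] {n : Type} [Fintype n] [DecidableEq n] (M M' : Matrix n n K)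
    (h : PP M) (h' : PP M') : PP (M * M') := by
  obtain ⟨N, h1, h2, h3⟩ := h
  obtain ⟨N', h1', h2', h3'⟩ := h'
  exact ⟨N * N', by rw [Matrix.det_mul, h1, h1', one_mul], by rw [map_mul, h2, h2', one_mul],
    by rw [map_mul, h3, h3']⟩

open Matrix in
theorem PP_trans {K : Type u} [Field K] {n : Type} [Fintype n] [DecidableEq n] (i j : n) (hij : i ≠ j)
    (c : K) : PP (transvection i j c) := by
  have hmap : ∀ (f : Polynomial K →+* K) (d : Polynomial K),
      f.mapMatrix (transvection i j d) = transvection i j (f d) := by
    intro f d
    ext a b
    simp only [transvection, RingHom.mapMatrix_apply, Matrix.map_apply, Matrix.add_apply, Matrix.one_apply,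
      Matrix.single_apply, map_add]
    congr 1 <;> split_ifs <;> simp
  refine ⟨transvection i j (Polynomial.C c * Polynomial.X), Matrix.det_transvection_of_ne i j hij _, ?_, ?_⟩
  · rw [hmap]
    simp
  · rw [hmap]
    simp

open Matrix Classical in
theorem PP_diag {K : Type u} [Field K] {n : Type} [Fintype n] [DecidableEq n] (k : ℕ) :
    ∀ D : n → K, ∏ i, D i = 1 → (Finset.univ.filter (fun i => D i ≠ 1)).card ≤ k →
      PP (diagonal D : Matrix n n K) := by
  induction k with
  | zero =>
    intro D _ hc
    have h0 : Finset.univ.filter (fun i => D i ≠ 1) = ∅ := Finset.card_eq_zero.1 (Nat.le_zero.1 hc)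
    have : D = fun _ => 1 := by
      funext i
      by_contra hne
      have : i ∈ Finset.univ.filter (fun i => D i ≠ 1) := by simp [hne]
      rw [h0] at this
      simp at this
    rw [this]
    have e : (diagonal (fun _ => 1) : Matrix n n K) = 1 := Matrix.diagonal_one
    rw [e]
    exact PP_one
  | succ k ih =>
    intro D hD hc
    by_cases hall : ∀ i, D i = 1
    · have : D = fun _ => 1 := funext hall
      rw [this]
      have e : (diagonal (fun _ => 1) : Matrix n n K) = 1 := Matrix.diagonal_one
      rw [e]
      exact PP_one
    · push Not at hall
      obtain ⟨i, hi⟩ := hall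
      have hne0 : ∀ a, D a ≠ 0 := by
        intro a ha
        rw [Finset.prod_eq_zero (Finset.mem_univ a) ha] at hD
        exact zero_ne_one hD
      obtain ⟨j, hji, hj⟩ : ∃ j, j ≠ i ∧ D j ≠ 1 := by
        by_contra hcon
        push Not at hcon
        rw [Finset.prod_eq_single i (fun b _ hb => hcon b hb) (fun h => absurd (Finset.mem_univ _) h)] at hD
        exact hi hD
      let D' : n → K := fun a => if a = i then 1 else if a = j then D j * D i else D a
      have hfac : (diagonal D : Matrix n n K) =
          diagonal (fun a => if a = i then D i else if a = j then (D i)⁻¹ else 1) * diagonal D' := by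
        rw [Matrix.diagonal_mul_diagonal]
        congr 1
        funext a
        simp only [D']
        by_cases ha : a = i
        · simp [ha]
        · by_cases haj : a = j
          · have hii := hne0 i
            simp only [ha, haj, if_false, if_true, if_neg hji]
            field_simp
          · simp [ha, haj]
      rw [hfac]
      have hprod' : ∏ a, D' a = 1 := by
        have h1 := congrArg Matrix.det hfac
        rw [Matrix.det_mul, Matrix.det_diagonal, Matrix.det_diagonal, Matrix.det_diagonal, hD] at h1
        have h2 : ∏ a, (if a = i then D i else if a = j then (D i)⁻¹ else (1 : K)) = 1 := by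
          rw [← Finset.mul_prod_erase Finset.univ _ (Finset.mem_univ i),
            ← Finset.mul_prod_erase (Finset.univ.erase i) _ (Finset.mem_erase.2 ⟨hji, Finset.mem_univ j⟩)]
          rw [Finset.prod_eq_one]
          · have hii := hne0 i
            simp only [if_true, if_neg hji]
            field_simp
          · intro x hx
            rw [Finset.mem_erase, Finset.mem_erase] at hx
            rw [if_neg hx.2.1, if_neg hx.1]
        rw [h2, one_mul] at h1
        exact h1.symm
      refine PP_mul _ _ ?_ (ih D' hprod' ?_)
      · rw [white i j hji.symm (D i) (hne0 i)]
        exact PP_mul _ _ (PP_trans _ _ hji.symm _) (PP_mul _ _ (PP_trans _ _ hji _) (PP_mul _ _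
          (PP_trans _ _ hji.symm _) (PP_mul _ _ (PP_trans _ _ hji.symm _) (PP_mul _ _
            (PP_trans _ _ hji _) (PP_mul _ _ (PP_trans _ _ hji.symm _) PP_one)))))
      · have hsub : Finset.univ.filter (fun a => D' a ≠ 1) ⊆
            (Finset.univ.filter (fun a => D a ≠ 1)).erase i := by
          intro a ha
          rw [Finset.mem_filter] at ha
          have ha2 := ha.2
          simp only [D'] at ha2
          by_cases hai : a = i
          · simp [hai] at ha2
          · rw [if_neg hai] at ha2
            rw [Finset.mem_erase, Finset.mem_filter]
            refine ⟨hai, Finset.mem_univ _, ?_⟩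
            by_cases haj : a = j
            · rw [haj]; exact hj
            · rw [if_neg haj] at ha2
              exact ha2
        have := Finset.card_le_card hsub
        rw [Finset.card_erase_of_mem (by simp [hi])] at this
        omega

/-- Let K be a field and r ≥ 1. For every element A of the special linear group SL_{r+1}(K) there is an
algebraic path in SL_{r+1} from the identity to A defined over K: a matrix M of determinant 1 with
entries in the polynomial ring K[y] such that M(0) is the identity matrix and M(1) = A. (The
published statement takes K to be the function field of SL_{r+1} over the ground field, A its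
generic point viewed as a K-rational point, and the parameter space to be the projective line minus
the point 1, with endpoints 0 and ∞; this row gives the path for an arbitrary K-point A on the
affine line with endpoints 0 and 1, which is what the published construction provides before
composing with the coordinate change y ↦ y/(y − 1).) -/
theorem result
    (K : Type u) [Field K] (r : ℕ) (hr : 1 ≤ r)
    (A : Matrix.SpecialLinearGroup (Fin (r + 1)) K) :
    ∃ M : Matrix.SpecialLinearGroup (Fin (r + 1)) (Polynomial K),
      Matrix.SpecialLinearGroup.map (Polynomial.evalRingHom (0 : K)) M = 1 ∧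
      Matrix.SpecialLinearGroup.map (Polynomial.evalRingHom (1 : K)) M = A := by
  have hP : PP (A.1) := by
    apply Matrix.diagonal_transvection_induction PP A.1
    · intro D hD
      rw [A.2, Matrix.det_diagonal] at hD
      exact PP_diag _ D hD le_rfl
    · intro t
      exact PP_trans _ _ t.hij _
    · exact PP_mul
  obtain ⟨N, h1, h2, h3⟩ := hP
  exact ⟨⟨N, h1⟩, Subtype.ext h2, Subtype.ext h3⟩

end Groth.Agent.S15083
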