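import Groth.Statements.S15084
-- import your own Groth.Agent.* helpers here
import Mathlib

set_option autoImplicit false
universe u
open MovLem

namespace Groth.Agent.S15084

/-- Let A be a Noetherian integrally closed domain with fraction field K, let B be a domain with
fraction field L, and let A → B be an injective ring homomorphism, with K → L the induced map of
fraction fields, such that Spec B → Spec A is surjective (every prime ideal of A is the contraction
of a prime ideal of B). If a ∈ K is such that its image in L lies in B, then a ∈ A. (The published
statement: for a surjective morphism f : Y → X of normal integral separated schemes of finite type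
over a perfect field and a Cartier divisor D on X, if f^*D is effective then D is effective; a
Cartier divisor is locally the divisor of a nonzero rational function a, effectivity of div(a) on a
normal scheme means that a is a regular function, and this row is that local statement, which is
what the published proof establishes.) -/
theorem result
    (A B K L : Type u) [CommRing A] [IsDomain A] [IsNoetherianRing A] [IsIntegrallyClosed A]
    [CommRing B] [IsDomain B] [Field K] [Field L]
    [Algebra A B] [Algebra A K] [IsFractionRing A K] [Algebra B L] [IsFractionRing B L]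
    [Algebra K L] [Algebra A L] [IsScalarTower A K L] [IsScalarTower A B L]
    (hinj : Function.Injective (algebraMap A B))
    (hsurj : ∀ p : Ideal A, p.IsPrime → ∃ q : Ideal B, q.IsPrime ∧ q.comap (algebraMap A B) = p)
    (a : K) (ha : algebraMap K L a ∈ (algebraMap B L).range) :
    a ∈ (algebraMap A K).range := by
  classical
  by_contra hna
  -- ideal of denominators
  let col : K → Ideal A := fun b => (LinearMap.range (Algebra.linearMap A K)).comap (LinearMap.toSpanSingleton A K b)
  have hcol : ∀ b x, x ∈ col b ↔ ∃ y : A, algebraMap A K y = algebraMap A K x * b := by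
    intro b x
    simp only [col, Submodule.mem_comap, LinearMap.toSpanSingleton_apply, LinearMap.mem_range,
      Algebra.linearMap_apply, Algebra.smul_def]
  let S : Set (Ideal A) := {I | ∃ b : K, algebraMap K L b ∈ (algebraMap B L).range ∧
    b ∉ (algebraMap A K).range ∧ I = col b}
  obtain ⟨P, ⟨b, hb1, hb2, rfl⟩, hmax⟩ := set_has_maximal_iff_noetherian.2
    (inferInstance : IsNoetherian A A) S ⟨col a, a, ha, hna, rfl⟩
  have hprime : (col b).IsPrime := by
    constructor
    · intro htop
      have h1 : (1 : A) ∈ col b := by rw [htop]; trivial
      rw [hcol] at h1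
      obtain ⟨y, hy⟩ := h1
      exact hb2 ⟨y, by rw [hy]; simp⟩
    · intro x y hxy
      by_contra hcon
      push Not at hcon
      obtain ⟨hx, hy⟩ := hcon
      have hyb : algebraMap A K y * b ∉ (algebraMap A K).range := by
        rintro ⟨z, hz⟩
        exact hy ((hcol _ _).2 ⟨z, hz⟩)
      have hyb' : algebraMap K L (algebraMap A K y * b) ∈ (algebraMap B L).range := by
        rw [map_mul, ← IsScalarTower.algebraMap_apply A K L, IsScalarTower.algebraMap_apply A B L]
        exact mul_mem ⟨_, rfl⟩ hb1
      have hle : col b ≤ col (algebraMap A K y * b) := by
        intro z hz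
        rw [hcol] at hz ⊢
        obtain ⟨w, hw⟩ := hz
        refine ⟨y * w, ?_⟩
        rw [map_mul, hw]; ring
      have hnlt := hmax (col (algebraMap A K y * b)) ⟨_, hyb', hyb, rfl⟩
      apply hnlt
      refine lt_of_le_of_ne hle ?_
      intro he
      apply hx
      rw [he, hcol]
      rw [hcol] at hxy
      obtain ⟨w, hw⟩ := hxy
      refine ⟨w, ?_⟩
      rw [hw, map_mul]; ring
  obtain ⟨q, hq, hqP⟩ := hsurj _ hprime
  obtain ⟨β, hβ⟩ := hb1
  by_cases hcase : ∀ x ∈ col b, ∃ y ∈ col b, algebraMap A K y = algebraMap A K x * b
  · -- b is integral
    have hint : IsIntegral A b := by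
      refine isIntegral_of_smul_mem_submodule (Submodule.map (Algebra.linearMap A K) (col b)) ?_ ?_ b ?_
      · intro hbot
        obtain ⟨x, s, hs, hxs⟩ := IsFractionRing.div_surjective (A := A) b
        have hs0 : algebraMap A K s ≠ 0 := by
          intro h0
          exact nonZeroDivisors.ne_zero hs ((IsFractionRing.injective A K) (by rw [h0, map_zero]))
        have hsmem : s ∈ col b := by
          rw [hcol]
          refine ⟨x, ?_⟩
          rw [← hxs]
          field_simp
        have : (Algebra.linearMap A K) s ∈ Submodule.map (Algebra.linearMap A K) (col b) :=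
          Submodule.mem_map_of_mem hsmem
        rw [hbot, Submodule.mem_bot] at this
        exact hs0 this
      · exact Submodule.FG.map _ (IsNoetherian.noetherian (col b))
      · rintro n ⟨x, hx, rfl⟩
        obtain ⟨y, hy, hyx⟩ := hcase x hx
        refine ⟨y, hy, ?_⟩
        rw [Algebra.linearMap_apply, hyx, Algebra.linearMap_apply, smul_eq_mul, mul_comm]
    obtain ⟨y, hy⟩ := IsIntegrallyClosed.isIntegral_iff.1 hint
    exact hb2 ⟨y, hy⟩
  · push Not at hcase
    obtain ⟨x, hx, hxy⟩ := hcase
    obtain ⟨s, hs⟩ := (hcol _ _).1 hx
    have hsn : s ∉ col b := fun h => hxy s h hs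
    apply hsn
    rw [← hqP, Ideal.mem_comap]
    have hxq : algebraMap A B x ∈ q := by
      rw [← Ideal.mem_comap, hqP]; exact hx
    have heq : algebraMap A B s = algebraMap A B x * β := by
      apply IsFractionRing.injective B L
      rw [map_mul, ← IsScalarTower.algebraMap_apply A B L, ← IsScalarTower.algebraMap_apply A B L, hβ,
        IsScalarTower.algebraMap_apply A K L, IsScalarTower.algebraMap_apply A K L, hs, map_mul]
    rw [heq]
    exact q.mul_mem_right _ hxq

end Groth.Agent.S15084
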