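import Groth.Statements.S15122
-- import your own Groth.Agent.* helpers here
import Mathlib

set_option autoImplicit false
universe u v w
open GIT

namespace Groth.Agent.S15122

/-- Let R be a commutative ring, A a commutative R-algebra graded by the natural numbers, σ a
homogeneous element of degree zero, and B the localisation of A away from σ, equipped with a grading
by the natural numbers for which the localisation map ι : A → B is a graded ring homomorphism (such
a grading is necessarily the one induced from A). Then the homogeneous ideal of B generated by the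
image of the irrelevant ideal of A is the whole irrelevant ideal of B; in other words the induced
rational map from Proj B to Proj A is defined everywhere. (The published statement also assumes σ a
non-zero-divisor, which this step does not use, and goes on to conclude that Proj B → Proj A is an
open immersion onto the basic open set of σ.) -/
theorem result
    (R : Type u) (A : Type v) (B : Type w) [CommRing R] [CommRing A] [CommRing B] [Algebra R A] [Algebra R B]
    [Algebra A B] [IsScalarTower R A B]
    (𝒜 : ℕ → Submodule R A) [GradedAlgebra 𝒜] (ℬ : ℕ → Submodule R B) [GradedAlgebra ℬ]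
    (σ : A) (hσ0 : σ ∈ 𝒜 0) [IsLocalization.Away σ B]
    (ι : 𝒜 →+*ᵍ ℬ) (hι : ∀ a : A, ι a = algebraMap A B a) :
    (HomogeneousIdeal.irrelevant 𝒜).map ι = HomogeneousIdeal.irrelevant ℬ := by
  apply HomogeneousIdeal.toIdeal_injective
  rw [HomogeneousIdeal.toIdeal_map]
  apply le_antisymm
  · rw [Ideal.map_le_iff_le_comap, HomogeneousIdeal.toIdeal_irrelevant_le]
    intro i hi x hx
    exact HomogeneousIdeal.mem_irrelevant_of_mem _ hi (ι.2 hx)
  · rw [HomogeneousIdeal.toIdeal_irrelevant_le]
    intro i hi b hb
    obtain ⟨⟨a, s⟩, hs⟩ := IsLocalization.surj (Submonoid.powers σ) b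
    simp only at hs
    obtain ⟨k, hk⟩ := s.2
    have hsig : (s : A) ∈ 𝒜 0 := by
      rw [← hk]
      have := SetLike.pow_mem_graded k hσ0
      rwa [smul_zero] at this
    have hmem : ι a ∈ ℬ i := by
      rw [hι, ← hs]
      have h1 : algebraMap A B (s : A) ∈ ℬ 0 := by rw [← hι]; exact ι.2 hsig
      have h2 := SetLike.mul_mem_graded (show b ∈ ℬ i from hb) h1
      rwa [add_zero] at h2
    have h2 : ι (DirectSum.decompose 𝒜 a i : A) = ι a := by
      rw [ι.map_directSumDecompose, DirectSum.decompose_of_mem_same _ hmem]
    obtain ⟨u, hu⟩ := IsLocalization.map_units B s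
    have h3 : b = ι (DirectSum.decompose 𝒜 a i : A) * (u⁻¹ : Bˣ) := by
      rw [h2, hι, ← hs, ← hu, Units.mul_inv_cancel_right]
    show b ∈ Ideal.map ι _
    rw [h3]
    apply Ideal.mul_mem_right
    apply Ideal.mem_map_of_mem
    exact HomogeneousIdeal.mem_irrelevant_of_mem _ hi (SetLike.coe_mem _)

end Groth.Agent.S15122
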