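import Groth.Statements.S15128
-- import your own Groth.Agent.* helpers here
import Mathlib

set_option autoImplicit false
universe u v
open CAlg

namespace Groth.Agent.S15128

/-- Over an Artinian local ring A with residue field k, a linear map h between flat A-modules (of any
size) is injective, resp. surjective, as soon as its reduction k ⊗_A h is. (The published statement
is for local Artinian algebras over an algebraically closed field of characteristic zero having that
field as residue field; this row allows any Artinian local ring.) -/
theorem result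
    (A : Type u) [CommRing A] [IsLocalRing A] [IsArtinianRing A]
    (P L : Type v) [AddCommGroup P] [Module A P] [AddCommGroup L] [Module A L]
    [Module.Flat A P] [Module.Flat A L] (h : P →ₗ[A] L) :
    (Function.Injective (h.lTensor (IsLocalRing.ResidueField A)) → Function.Injective h) ∧
    (Function.Surjective (h.lTensor (IsLocalRing.ResidueField A)) → Function.Surjective h) := by
  classical
  obtain ⟨m, hm⟩ : ∃ m, m = IsLocalRing.maximalIdeal A := ⟨_, rfl⟩
  have key : ∀ (N : Type u) [AddCommGroup N] [Module A N] [Module.Finite A N],
      (Function.Injective (h.lTensor (IsLocalRing.ResidueField A)) → Function.Injective (h.lTensor N)) ∧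
      (Function.Surjective (h.lTensor (IsLocalRing.ResidueField A)) → Function.Surjective (h.lTensor N)) := by
    intro N _ _ hfin
    induction hfin using IsNoetherianRing.induction_on_isQuotientEquivQuotientPrime A with
    | subsingleton N =>
      refine ⟨fun _ => ?_, fun _ => ?_⟩
      · exact Function.injective_of_subsingleton _
      · exact Function.surjective_to_subsingleton _
    | quotient N q e =>
      have hq : q.1 = IsLocalRing.maximalIdeal A := IsLocalRing.eq_maximalIdeal (Ideal.IsPrime.isMaximal' q.2)
      have e' : N ≃ₗ[A] IsLocalRing.ResidueField A := e.trans (Submodule.quotEquivOfEq _ _ hq)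
      have hcomm : (h.lTensor (IsLocalRing.ResidueField A)) ∘ₗ (e'.toLinearMap.rTensor P) = (e'.toLinearMap.rTensor L) ∘ₗ (h.lTensor N) := by
        ext x y; simp
      have b1 : Function.Bijective (e'.toLinearMap.rTensor P) := (TensorProduct.congr e' (LinearEquiv.refl A P)).bijective
      have b2 : Function.Bijective (e'.toLinearMap.rTensor L) := (TensorProduct.congr e' (LinearEquiv.refl A L)).bijective
      refine ⟨fun hi => ?_, fun hs => ?_⟩
      · have h1 : Function.Injective ((e'.toLinearMap.rTensor L) ∘ₗ (h.lTensor N)) := by
          rw [← hcomm]; exact hi.comp b1.1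
        exact Function.Injective.of_comp h1
      · have h1 : Function.Surjective ((e'.toLinearMap.rTensor L) ∘ₗ (h.lTensor N)) := by
          rw [← hcomm]; exact hs.comp b1.2
        intro y
        obtain ⟨x, hx⟩ := h1 (e'.toLinearMap.rTensor L y)
        exact ⟨x, b2.1 hx⟩
    | exact N₁ N₂ N₃ f g hf hg hfg h1 h3 =>
      have hcf : ∀ x, (h.lTensor N₂) (f.rTensor P x) = f.rTensor L (h.lTensor N₁ x) := by
        intro x
        have : (h.lTensor N₂) ∘ₗ (f.rTensor P) = (f.rTensor L) ∘ₗ (h.lTensor N₁) := by ext a b; simp
        exact LinearMap.congr_fun this x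
      have hcg : ∀ x, (h.lTensor N₃) (g.rTensor P x) = g.rTensor L (h.lTensor N₂ x) := by
        intro x
        have : (h.lTensor N₃) ∘ₗ (g.rTensor P) = (g.rTensor L) ∘ₗ (h.lTensor N₂) := by ext a b; simp
        exact LinearMap.congr_fun this x
      have exP : Function.Exact (f.rTensor P) (g.rTensor P) := rTensor_exact P hfg hg
      have exL : Function.Exact (f.rTensor L) (g.rTensor L) := rTensor_exact L hfg hg
      refine ⟨fun hi => ?_, fun hs => ?_⟩
      · rw [injective_iff_map_eq_zero]
        intro x hx
        have h4 : g.rTensor P x = 0 := by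
          apply h3.1 hi
          rw [hcg, hx, map_zero, map_zero]
        obtain ⟨y, rfl⟩ := (exP x).1 h4
        rw [hcf] at hx
        have h5 := Module.Flat.rTensor_preserves_injective_linearMap (M := L) f hf
        have h6 : h.lTensor N₁ y = 0 := by apply h5; rw [hx, map_zero]
        have h7 : y = 0 := by apply h1.1 hi; rw [h6, map_zero]
        rw [h7, map_zero]
      · intro z
        obtain ⟨w', hw'⟩ := h3.2 hs (g.rTensor L z)
        obtain ⟨w, rfl⟩ := LinearMap.rTensor_surjective P hg w'
        rw [hcg] at hw'
        have h4 : g.rTensor L (z - h.lTensor N₂ w) = 0 := by rw [map_sub, hw', sub_self]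
        obtain ⟨y, hy⟩ := (exL _).1 h4
        obtain ⟨y', rfl⟩ := h1.2 hs y
        refine ⟨w + f.rTensor P y', ?_⟩
        rw [map_add, hcf, hy]; abel
  obtain ⟨k1, k2⟩ := key A
  have hcomm : h ∘ₗ (TensorProduct.lid A P).toLinearMap = (TensorProduct.lid A L).toLinearMap ∘ₗ (h.lTensor A) := by
    ext x; simp
  refine ⟨fun hi => ?_, fun hs => ?_⟩
  · have h1 : Function.Injective (h ∘ₗ (TensorProduct.lid A P).toLinearMap) := by
      rw [hcomm]; exact (TensorProduct.lid A L).injective.comp (k1 hi)
    intro x y hxy
    obtain ⟨x', rfl⟩ := (TensorProduct.lid A P).surjective x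
    obtain ⟨y', rfl⟩ := (TensorProduct.lid A P).surjective y
    rw [h1 hxy]
  · have h1 : Function.Surjective (h ∘ₗ (TensorProduct.lid A P).toLinearMap) := by
      rw [hcomm]; exact (TensorProduct.lid A L).surjective.comp (k2 hs)
    intro z
    obtain ⟨w, hw⟩ := h1 z
    exact ⟨_, hw⟩

end Groth.Agent.S15128
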