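import Groth.Statements.S15130
-- import your own Groth.Agent.* helpers here
import Mathlib
import Groth.Agent.Lib.H22_Art

set_option autoImplicit false
universe u v
open CAlg

namespace Groth.Agent.S15130

/-- Let A be an Artinian local ring with residue field k and P → Q → R → M → 0 a complex of A-modules
with P, Q, R flat which is exact at R and at M. If the reduced complex k ⊗ P → k ⊗ Q → k ⊗ R is
exact (the rest of the reduced sequence is then automatically exact), then M is flat and the
original complex is exact at Q as well. (The published statement is for local Artinian algebras over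
an algebraically closed field of characteristic zero having that field as residue field; this row
allows any Artinian local ring.) -/
theorem result
    (A : Type u) [CommRing A] [IsLocalRing A] [IsArtinianRing A]
    (P Q R M : Type v) [AddCommGroup P] [Module A P] [AddCommGroup Q] [Module A Q]
    [AddCommGroup R] [Module A R] [AddCommGroup M] [Module A M]
    [Module.Flat A P] [Module.Flat A Q] [Module.Flat A R]
    (f : P →ₗ[A] Q) (g : Q →ₗ[A] R) (h : R →ₗ[A] M)
    (hfg : g ∘ₗ f = 0) (hgh : Function.Exact g h) (hh : Function.Surjective h)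
    (hred : Function.Exact (f.lTensor (IsLocalRing.ResidueField A)) (g.lTensor (IsLocalRing.ResidueField A))) :
    Module.Flat A M ∧ Function.Exact f g := by
  -- Q' = Q / range f
  have hle : LinearMap.range f ≤ LinearMap.ker g := by
    rintro _ ⟨x, rfl⟩
    rw [LinearMap.mem_ker, ← LinearMap.comp_apply, hfg, LinearMap.zero_apply]
  obtain ⟨g', hg'⟩ : ∃ g' : (Q ⧸ LinearMap.range f) →ₗ[A] R, g' ∘ₗ (LinearMap.range f).mkQ = g :=
    ⟨(LinearMap.range f).liftQ g hle, Submodule.liftQ_mkQ _ _ _⟩
  have hex : Function.Exact f (LinearMap.range f).mkQ := by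
    intro x; rw [Submodule.mkQ_apply, Submodule.Quotient.mk_eq_zero]; rfl
  have hi : Function.Injective (g'.lTensor (IsLocalRing.ResidueField A)) := by
    rw [injective_iff_map_eq_zero]
    intro z hz
    obtain ⟨w, rfl⟩ := LinearMap.lTensor_surjective (IsLocalRing.ResidueField A) (Submodule.mkQ_surjective (LinearMap.range f)) z
    rw [← LinearMap.comp_apply, ← LinearMap.lTensor_comp, hg'] at hz
    obtain ⟨v, rfl⟩ := (hred _).1 hz
    exact (lTensor_exact (IsLocalRing.ResidueField A) hex (Submodule.mkQ_surjective _) _).2 ⟨_, rfl⟩
  have hinj := H22Art.inj_of A _ _ g' hi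
  have hgh' : Function.Exact g' h := by
    intro x
    rw [hgh x]
    constructor
    · rintro ⟨y, rfl⟩; exact ⟨(LinearMap.range f).mkQ y, by rw [← LinearMap.comp_apply, hg']⟩
    · rintro ⟨y, rfl⟩
      obtain ⟨y', rfl⟩ := Submodule.mkQ_surjective _ y
      exact ⟨y', by rw [← LinearMap.comp_apply, hg']⟩
  refine ⟨H22Art.flat_of A _ R M g' h hh hgh' hi, ?_⟩
  intro x
  constructor
  · intro hx
    have h1 : g' ((LinearMap.range f).mkQ x) = 0 := by rw [← LinearMap.comp_apply, hg', hx]
    have h2 : (LinearMap.range f).mkQ x = 0 := hinj (by rw [h1, map_zero])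
    exact (hex x).1 h2
  · rintro ⟨y, rfl⟩
    rw [← LinearMap.comp_apply, hfg, LinearMap.zero_apply]

end Groth.Agent.S15130
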