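import Groth.Statements.S15315
import Mathlib

set_option autoImplicit false
universe u
open ArLef

namespace Groth.Agent.S15315

theorem exact_aux {A : Type*} [CommRing A] (J K : Ideal A) (a : A)
    (h : K ≤ Submodule.comap (LinearMap.lsmul A A a) J) :
    Function.Exact (Submodule.mapQ K J (LinearMap.lsmul A A a) h)
      (Submodule.factor (le_sup_left : J ≤ J ⊔ Ideal.span {a})) := by
  intro y
  obtain ⟨z, rfl⟩ := Submodule.Quotient.mk_surjective _ y
  constructor
  · intro hz
    have hz' : z ∈ J ⊔ Ideal.span {a} := by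
      rw [← Submodule.Quotient.mk_eq_zero]; exact hz
    obtain ⟨j, hj, w, hw, rfl⟩ := Submodule.mem_sup.mp hz'
    obtain ⟨c, rfl⟩ := Ideal.mem_span_singleton'.mp hw
    refine ⟨Submodule.Quotient.mk c, ?_⟩
    rw [Submodule.mapQ_apply, Submodule.Quotient.eq]
    have : (LinearMap.lsmul A A a) c - (j + c * a) = -j := by
      simp only [LinearMap.lsmul_apply, smul_eq_mul]; ring
    rw [this]
    exact J.neg_mem hj
  · rintro ⟨x, hx⟩
    obtain ⟨c, rfl⟩ := Submodule.Quotient.mk_surjective _ x
    rw [← hx, Submodule.mapQ_apply]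
    show Submodule.Quotient.mk _ = _
    rw [Submodule.Quotient.mk_eq_zero]
    apply Ideal.mem_sup_right
    exact Ideal.mem_span_singleton'.mpr ⟨c, by simp [mul_comm]⟩

/-- For a Noetherian commutative ring A, elements a, b with a a non-zero-divisor on A/(b), and an ideal
I, one has length(A/(aI + bA)) = length(A/(a, b)) + length(A/(I + bA)) as extended natural numbers;
in particular when two of the three quotients have finite length so does the third. -/
theorem result (A : Type u) [CommRing A] [IsNoetherianRing A] (a b : A) (I : Ideal A)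
    (ha : IsSMulRegular (A ⧸ Ideal.span ({b} : Set A)) a) :
    Module.length A (A ⧸ (Ideal.span {a} * I ⊔ Ideal.span {b})) =
      Module.length A (A ⧸ Ideal.span ({a, b} : Set A)) + Module.length A (A ⧸ (I ⊔ Ideal.span {b})) := by
  have hle : I ⊔ Ideal.span {b} ≤ Submodule.comap (LinearMap.lsmul A A a) (Ideal.span {a} * I ⊔ Ideal.span {b}) := by
    intro x hx
    obtain ⟨j, hj, w, hw, rfl⟩ := Submodule.mem_sup.mp hx
    show a • (j + w) ∈ (Ideal.span {a} * I ⊔ Ideal.span {b})
    rw [smul_add]
    apply Ideal.add_mem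
    · exact Ideal.mem_sup_left (Ideal.mul_mem_mul (Ideal.mem_span_singleton_self a) hj)
    · exact Ideal.mem_sup_right (Ideal.mul_mem_left _ a hw)
  have hex := exact_aux (Ideal.span {a} * I ⊔ Ideal.span {b}) (I ⊔ Ideal.span {b}) a hle
  have hinj : Function.Injective (Submodule.mapQ (I ⊔ Ideal.span {b})
      (Ideal.span {a} * I ⊔ Ideal.span {b}) (LinearMap.lsmul A A a) hle) := by
    rw [injective_iff_map_eq_zero]
    intro x hx
    obtain ⟨c, rfl⟩ := Submodule.Quotient.mk_surjective _ x
    rw [Submodule.mapQ_apply, Submodule.Quotient.mk_eq_zero] at hx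
    rw [Submodule.Quotient.mk_eq_zero]
    obtain ⟨j, hj, w, hw, hjw⟩ := Submodule.mem_sup.mp hx
    obtain ⟨i, hi, rfl⟩ := Ideal.mem_span_singleton_mul.mp hj
    have hmem : a * (c - i) ∈ Ideal.span {b} := by
      have : a * (c - i) = w := by
        have h2 : a * c = a * i + w := hjw.symm
        rw [mul_sub, h2]; ring
      rw [this]; exact hw
    have hz : (Submodule.Quotient.mk (c - i) : A ⧸ Ideal.span {b}) = 0 := by
      apply ha
      show a • Submodule.Quotient.mk (c - i) = a • (0 : A ⧸ Ideal.span {b})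
      rw [smul_zero, ← Submodule.Quotient.mk_smul, Submodule.Quotient.mk_eq_zero]
      exact hmem
    rw [Submodule.Quotient.mk_eq_zero] at hz
    have : c = i + (c - i) := by ring
    rw [this]
    exact Ideal.add_mem _ (Ideal.mem_sup_left hi) (Ideal.mem_sup_right hz)
  have hlen := Module.length_eq_add_of_exact _ _ hinj
    (Submodule.factor_surjective (le_sup_left :
      (Ideal.span {a} * I ⊔ Ideal.span {b}) ≤ (Ideal.span {a} * I ⊔ Ideal.span {b}) ⊔ Ideal.span {a})) hex
  have heq : (Ideal.span {a} * I ⊔ Ideal.span {b}) ⊔ Ideal.span {a} = Ideal.span ({a, b} : Set A) := by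
    rw [sup_assoc, sup_comm (Ideal.span {b}), ← sup_assoc]
    rw [sup_eq_right.mpr (Ideal.mul_le_inf.trans inf_le_left : Ideal.span {a} * I ≤ Ideal.span {a}), Ideal.span_insert]
  rw [hlen, heq, add_comm]

end Groth.Agent.S15315
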