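import Groth.Statements.S15326
import Mathlib.Tactic
import Mathlib.RingTheory.Localization.AtPrime.Basic

set_option autoImplicit false
universe u
open ArLef

namespace Groth.Agent.S15326

/-- Let A be a commutative ring, t an element generating a prime ideal (a local equation of an
irreducible component C of the closed fibre), v an element outside (t) with π = vt the uniformizer,
and σ a ring automorphism of A with σ(vt) = vt whose fixed-point ideal is contained in (t^i) for
some i ≥ 1 (C has multiplicity at least i in the fixed locus). Then σ(t) - t lies in t^(i+1) A_(t),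
the localization at the prime (t): σ - 1 vanishes on (t)/(t^(i+1)) at the generic point of C. -/
theorem result (A : Type u) [CommRing A] (t v : A)
    [ht : (Ideal.span ({t} : Set A)).IsPrime] (hv : v ∉ Ideal.span ({t} : Set A))
    (σ : A ≃+* A) (hσ : σ (v * t) = v * t) (i : ℕ) (hi : 1 ≤ i)
    (hI : ArLef.fixIdeal σ ≤ Ideal.span ({t ^ i} : Set A)) :
    algebraMap A (Localization.AtPrime (Ideal.span ({t} : Set A))) (σ t - t) ∈
      Ideal.span ({algebraMap A (Localization.AtPrime (Ideal.span ({t} : Set A))) (t ^ (i + 1))} :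
        Set (Localization.AtPrime (Ideal.span ({t} : Set A)))) := by
  have hfix : ∀ r : A, σ r - r ∈ Ideal.span ({t ^ i} : Set A) := fun r =>
    hI (Ideal.subset_span ⟨r, rfl⟩)
  obtain ⟨x, hx⟩ := Ideal.mem_span_singleton'.mp (hfix v)
  obtain ⟨y, hy⟩ := Ideal.mem_span_singleton'.mp (hfix t)
  rw [map_mul] at hσ
  obtain ⟨j, rfl⟩ : ∃ j, i = j + 1 := ⟨i - 1, by omega⟩
  have h1 : v * (σ t - t) = -(x * (1 + y * t ^ j)) * t ^ (j + 1 + 1) := by
    have h2 : σ t = t + y * t ^ (j + 1) := by rw [hy]; ring
    have h3 : σ v = v + x * t ^ (j + 1) := by rw [hx]; ring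
    rw [h3, h2] at hσ
    rw [h2]
    linear_combination hσ
  have hu : IsUnit (algebraMap A (Localization.AtPrime (Ideal.span ({t} : Set A))) v) :=
    IsLocalization.map_units _ (⟨v, hv⟩ : (Ideal.span ({t} : Set A)).primeCompl)
  obtain ⟨w, hw⟩ := hu
  rw [Ideal.mem_span_singleton']
  refine ⟨(w⁻¹ : (Localization.AtPrime (Ideal.span ({t} : Set A)))ˣ) * algebraMap A _ (-(x * (1 + y * t ^ j))), ?_⟩
  rw [mul_assoc, ← map_mul, ← h1, map_mul, ← hw, Units.inv_mul_cancel_left]

end Groth.Agent.S15326
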