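import Groth.Statements.S15327
import Mathlib

set_option autoImplicit false
open ArLef ArLef.BlowupGraph

namespace Groth.Agent.S15327

section aux
variable {n : ℕ} (G : ArLef.BlowupGraph n)

theorem ttN_lt (k m : ℕ) (h : m < k) : G.ttN k m = 0 := by
  rw [ttN]; simp [h]

theorem tt_rec (k m : Fin n) :
    G.tt k m = (if k = m then 1 else 0) + ∑ p ∈ G.par m, G.tt k p := by
  have hsum : ∑ p ∈ (G.parN m.1).attach, G.ttN k.1 p.1 = ∑ p ∈ G.par m, G.tt k p := by
    rw [Finset.sum_attach (G.parN m.1) (fun p => G.ttN k.1 p)]
    have : G.parN m.1 = (G.par m).map Fin.valEmbedding := by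
      unfold parN
      rw [dif_pos m.2]
    rw [this, Finset.sum_map]
    rfl
  have hz : ∀ m' : Fin n, m' ≤ k → ∑ p ∈ G.par m', G.tt k p = 0 := by
    intro m' hm'
    apply Finset.sum_eq_zero
    intro p hp
    have h1 : p < m' := G.par_lt m' p hp
    exact ttN_lt G k.1 p.1 (lt_of_lt_of_le h1 hm')
  unfold tt
  rw [ttN]
  rcases lt_trichotomy m k with h | h | h
  · have h' : m.1 < k.1 := h
    rw [if_pos h', if_neg (ne_of_gt h)]
    have := hz m h.le
    unfold tt at this
    rw [this]; rfl
  · subst h
    rw [if_neg (lt_irrefl _), if_pos rfl, if_pos rfl]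
    have := hz m le_rfl
    unfold tt at this
    rw [this]; rfl
  · have h' : ¬ m.1 < k.1 := not_lt.mpr (le_of_lt h)
    have h'' : ¬ m.1 = k.1 := fun e => (ne_of_gt h) (Fin.ext e)
    rw [if_neg h', if_neg h'', if_neg (ne_of_lt h), hsum, zero_add]
    rfl

/-- Proximity matrix. -/
def PM : Matrix (Fin n) (Fin n) ℚ := fun m p => if p ∈ G.par m then 1 else 0

/-- Total transform matrix. -/
def TM : Matrix (Fin n) (Fin n) ℚ := fun k m => (G.tt k m : ℚ)

theorem TM_mul : TM G * (1 - (PM G).transpose) = 1 := by
  ext k m
  rw [mul_sub, mul_one, Matrix.sub_apply, Matrix.mul_apply]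
  have h1 : ∑ j, TM G k j * (PM G).transpose j m = ∑ p ∈ G.par m, (G.tt k p : ℚ) := by
    rw [← Finset.sum_filter_add_sum_filter_not Finset.univ (fun p => p ∈ G.par m)]
    rw [Finset.sum_eq_zero (s := Finset.univ.filter (fun p => ¬ p ∈ G.par m)), add_zero]
    · have : Finset.univ.filter (fun p => p ∈ G.par m) = G.par m := by ext; simp
      rw [this]
      apply Finset.sum_congr rfl
      intro p hp
      simp [TM, PM, Matrix.transpose_apply, hp]
    · intro p hp
      have hp' : p ∉ G.par m := (Finset.mem_filter.mp hp).2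
      simp [TM, PM, Matrix.transpose_apply, hp']
  rw [h1]
  have h2 := tt_rec G k m
  have h3 : (G.tt k m : ℚ) = (if k = m then 1 else 0) + ∑ p ∈ G.par m, (G.tt k p : ℚ) := by
    rw [h2]; push_cast; split_ifs <;> simp
  show (G.tt k m : ℚ) - _ = _
  rw [h3, Matrix.one_apply]
  ring

theorem sum_PM (p q : Fin n) : ∑ m, PM G m p * PM G m q =
    ((Finset.univ.filter fun m => p ∈ G.par m ∧ q ∈ G.par m).card : ℚ) := by
  rw [Finset.card_eq_sum_ones, Finset.sum_filter]
  push_cast
  apply Finset.sum_congr rfl
  intro m _
  unfold PM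
  by_cases h1 : p ∈ G.par m <;> by_cases h2 : q ∈ G.par m <;> simp [h1, h2]

theorem prod_entry (p q : Fin n) : ((1 - (PM G).transpose) * (1 - PM G)) p q =
    (if p = q then 1 else 0) - PM G p q - PM G q p +
    ((Finset.univ.filter fun m => p ∈ G.par m ∧ q ∈ G.par m).card : ℚ) := by
  have : (1 - (PM G).transpose) * (1 - PM G) = 1 - PM G - (PM G).transpose + (PM G).transpose * PM G := by
    rw [sub_mul, mul_sub, mul_sub, one_mul, one_mul, mul_one]; abel
  rw [this, Matrix.add_apply, Matrix.sub_apply, Matrix.sub_apply, Matrix.one_apply, Matrix.mul_apply,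
    ← sum_PM]
  rfl

theorem par_eq_pair {m p q : Fin n} (hpq : p ≠ q) (hp : p ∈ G.par m) (hq : q ∈ G.par m) :
    G.par m = {p, q} := by
  symm
  apply Finset.eq_of_subset_of_card_le
  · intro x hx
    simp only [Finset.mem_insert, Finset.mem_singleton] at hx
    rcases hx with rfl | rfl <;> assumption
  · rw [Finset.card_pair hpq]
    exact G.card_le_two m

theorem entry_lt {p q : Fin n} (h : p < q) :
    (if G.Adj p q then (1 : ℚ) else 0) = PM G p q + PM G q p -
    ((Finset.univ.filter fun m => p ∈ G.par m ∧ q ∈ G.par m).card : ℚ) := by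
  have hPpq : q ∉ G.par p := fun h' => lt_asymm h (G.par_lt p q h')
  have e1 : PM G p q = 0 := by simp [PM, hPpq]
  have hadj : G.Adj p q ↔ (p ∈ G.par q ∧ ∀ m, q < m → G.par m ≠ {p, q}) := by
    unfold Adj
    constructor
    · rintro (h' | h')
      · exact h'
      · exact absurd h'.1 hPpq
    · intro h'; exact Or.inl h'
  by_cases hp : p ∈ G.par q
  · have e2 : PM G q p = 1 := by simp [PM, hp]
    by_cases hex : ∃ m, p ∈ G.par m ∧ q ∈ G.par m
    · obtain ⟨m, hm1, hm2⟩ := hex
      have hmeq : G.par m = {p, q} := par_eq_pair G (ne_of_lt h) hm1 hm2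
      have hnadj : ¬ G.Adj p q := by
        rw [hadj]
        rintro ⟨_, h2⟩
        exact h2 m (G.par_lt m q hm2) hmeq
      have huniq : Finset.univ.filter (fun m => p ∈ G.par m ∧ q ∈ G.par m) = {m} := by
        ext m'
        simp only [Finset.mem_filter, Finset.mem_univ, true_and, Finset.mem_singleton]
        constructor
        · rintro ⟨h1, h2⟩
          have hmeq' : G.par m' = {p, q} := par_eq_pair G (ne_of_lt h) h1 h2
          rcases lt_trichotomy m m' with hlt | heq | hlt
          · exact absurd hmeq ((G.meet_of_two m' p q h1 h2 h).2 m (G.par_lt m q hm2) hlt)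
          · exact heq.symm
          · exact absurd hmeq' ((G.meet_of_two m p q hm1 hm2 h).2 m' (G.par_lt m' q h2) hlt)
        · rintro rfl; exact ⟨hm1, hm2⟩
      rw [if_neg hnadj, e1, e2, huniq]
      simp
    · have hempty : Finset.univ.filter (fun m => p ∈ G.par m ∧ q ∈ G.par m) = ∅ := by
        rw [Finset.filter_eq_empty_iff]
        intro m _ hm
        exact hex ⟨m, hm⟩
      have hadj' : G.Adj p q := by
        rw [hadj]
        refine ⟨hp, fun m _ hm => hex ⟨m, ?_, ?_⟩⟩
        · rw [hm]; simp
        · rw [hm]; simp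
      rw [if_pos hadj', e1, e2, hempty]
      simp
  · have e2 : PM G q p = 0 := by simp [PM, hp]
    have hempty : Finset.univ.filter (fun m => p ∈ G.par m ∧ q ∈ G.par m) = ∅ := by
      rw [Finset.filter_eq_empty_iff]
      intro m _ hm
      exact hp (G.meet_of_two m p q hm.1 hm.2 h).1
    have hnadj : ¬ G.Adj p q := by
      rw [hadj]
      rintro ⟨h1, _⟩
      exact hp h1
    rw [if_neg hnadj, e1, e2, hempty]
    simp

theorem adj_comm (p q : Fin n) : G.Adj p q ↔ G.Adj q p := by
  unfold Adj
  exact or_comm

theorem mat_eq : G.mat = -((1 - (PM G).transpose) * (1 - PM G)) := by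
  ext p q
  rw [Matrix.neg_apply, prod_entry]
  unfold mat
  by_cases hpq : p = q
  · subst hpq
    rw [if_pos rfl, if_pos rfl]
    have e : PM G p p = 0 := by
      have : p ∉ G.par p := fun h => lt_irrefl _ (G.par_lt p p h)
      simp [PM, this]
    rw [e]
    unfold selfInt
    simp only [and_self]
    push_cast
    ring
  · rw [if_neg hpq, if_neg hpq]
    rcases lt_or_gt_of_ne hpq with h | h
    · rw [entry_lt G h]; ring
    · have := entry_lt G h
      rw [show (if G.Adj p q then (1 : ℚ) else 0) = (if G.Adj q p then (1 : ℚ) else 0) from by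
        rw [if_congr (adj_comm G p q) rfl rfl], this]
      have e3 : Finset.univ.filter (fun m => p ∈ G.par m ∧ q ∈ G.par m) =
        Finset.univ.filter (fun m => q ∈ G.par m ∧ p ∈ G.par m) := by
        ext; simp [and_comm]
      rw [e3]; ring

theorem mat_symm (p q : Fin n) : G.mat p q = G.mat q p := by
  have h : (G.mat).transpose = G.mat := by
    rw [mat_eq, Matrix.transpose_neg, Matrix.transpose_mul, Matrix.transpose_sub, Matrix.transpose_sub,
      Matrix.transpose_transpose, Matrix.transpose_one]
  exact congrFun (congrFun h.symm p) q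

theorem one_sub_PMt_mul : (1 - (PM G).transpose) * TM G = 1 :=
  mul_eq_one_comm.mp (TM_mul G)

theorem mult_mul_mat (i k : Fin n) : ∑ j, (G.mult i j : ℚ) * G.mat j k = if i = k then -1 else 0 := by
  have h1 : ((TM G).transpose * TM G) * G.mat = -1 := by
    rw [mat_eq, mul_neg, Matrix.mul_assoc, ← Matrix.mul_assoc (TM G), TM_mul, Matrix.one_mul]
    congr 1
    have := congrArg Matrix.transpose (one_sub_PMt_mul G)
    rw [Matrix.transpose_mul, Matrix.transpose_sub, Matrix.transpose_transpose, Matrix.transpose_one] at this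
    exact this
  have h2 := congrFun (congrFun h1 i) k
  rw [Matrix.mul_apply, Matrix.neg_apply, Matrix.one_apply] at h2
  have h3 : ∀ j, ((TM G).transpose * TM G) i j = (G.mult i j : ℚ) := by
    intro j
    rw [Matrix.mul_apply]
    unfold mult TM
    push_cast
    rfl
  simp only [h3] at h2
  rw [h2]
  split_ifs <;> simp

theorem det_sub_ne (I : Finset (Fin n)) :
    IsUnit (G.mat.submatrix (fun x : I => x.1) (fun x : I => x.1)).det := by
  rw [isUnit_iff_ne_zero]
  intro h0
  obtain ⟨v, hv, hv0⟩ := Matrix.exists_mulVec_eq_zero_iff.mpr h0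
  apply hv
  -- extension by zero
  let w : Fin n → ℚ := fun i => if h : i ∈ I then v ⟨i, h⟩ else 0
  have hw : ∀ (f : Fin n → ℚ), ∑ i, f i * w i = ∑ a : I, f a.1 * v a := by
    intro f
    rw [← Finset.sum_filter_add_sum_filter_not Finset.univ (fun p => p ∈ I)]
    rw [Finset.sum_eq_zero (s := Finset.univ.filter (fun p => ¬ p ∈ I)), add_zero]
    · have : Finset.univ.filter (fun p => p ∈ I) = I := by ext; simp
      rw [this, ← Finset.sum_coe_sort I (fun i => f i * w i)]
      apply Finset.sum_congr rfl
      intro a _
      simp [w]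
    · intro p hp
      have hp' : p ∉ I := (Finset.mem_filter.mp hp).2
      simp [w, hp']
  -- quadratic form
  have hq : w ⬝ᵥ (G.mat.mulVec w) = 0 := by
    have e1 : ∀ i ∈ I, G.mat.mulVec w i = 0 := by
      intro i hi
      show ∑ j, G.mat i j * w j = 0
      rw [hw (fun j => G.mat i j)]
      have := congrFun hv0 ⟨i, hi⟩
      simpa [Matrix.mulVec, dotProduct, Matrix.submatrix_apply] using this
    show ∑ i, w i * _ = 0
    apply Finset.sum_eq_zero
    intro i _
    by_cases hi : i ∈ I
    · rw [e1 i hi, mul_zero]
    · simp [w, hi]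
  have hq2 : (Matrix.mulVec (1 - PM G) w) ⬝ᵥ (Matrix.mulVec (1 - PM G) w) = 0 := by
    rw [mat_eq, Matrix.neg_mulVec, dotProduct_neg, neg_eq_zero, ← Matrix.mulVec_mulVec] at hq
    rw [← hq, Matrix.dotProduct_mulVec w]
    congr 1
    rw [← Matrix.mulVec_transpose, Matrix.transpose_sub, Matrix.transpose_transpose,
      Matrix.transpose_one]
  have hz : Matrix.mulVec (1 - PM G) w = 0 := dotProduct_self_eq_zero.mp hq2
  have hw0 : w = 0 := by
    have h1 : (TM G).transpose * (1 - PM G) = 1 := by
      have := congrArg Matrix.transpose (one_sub_PMt_mul G)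
      rw [Matrix.transpose_mul, Matrix.transpose_sub, Matrix.transpose_transpose, Matrix.transpose_one] at this
      exact this
    have : ((TM G).transpose * (1 - PM G)).mulVec w = 0 := by
      rw [← Matrix.mulVec_mulVec, hz, Matrix.mulVec_zero]
    rwa [h1, Matrix.one_mulVec] at this
  funext a
  have := congrFun hw0 a.1
  simpa [w] using this

theorem key (I : Finset (Fin n)) (i k : Fin n) (hi : i ∉ I) :
    ∑ j ∈ Finset.univ.filter (fun j => j ∉ I), (G.mult i j : ℚ) * G.pairing I k j =
      if i = k then -1 else 0 := by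
  set A := G.mat.submatrix (fun x : I => x.1) (fun x : I => x.1) with hA
  have hsplit : ∀ f : Fin n → ℚ, ∑ j ∈ Finset.univ.filter (fun j => j ∉ I), f j =
      ∑ j, f j - ∑ c : I, f c.1 := by
    intro f
    have h1 := Finset.sum_filter_add_sum_filter_not Finset.univ (fun p => p ∈ I) f
    have : Finset.univ.filter (fun p => p ∈ I) = I := by ext; simp
    rw [this, ← Finset.sum_coe_sort I f] at h1
    rw [← h1]; ring
  have hfirst : ∀ k : Fin n, ∑ j ∈ Finset.univ.filter (fun j => j ∉ I), (G.mult i j : ℚ) * G.mat k j =
      (if i = k then -1 else 0) - ∑ c : I, (G.mult i c.1 : ℚ) * G.mat k c.1 := by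
    intro k
    rw [hsplit (fun j => (G.mult i j : ℚ) * G.mat k j), ← mult_mul_mat G i k]
    congr 1
    apply Finset.sum_congr rfl
    intro j _
    rw [mat_symm]
  have hAA : A⁻¹ * A = 1 := Matrix.nonsing_inv_mul A (det_sub_ne G I)
  unfold pairing
  simp only [mul_sub, Finset.sum_sub_distrib]
  rw [hfirst k]
  have hsecond : ∑ j ∈ Finset.univ.filter (fun j => j ∉ I), (G.mult i j : ℚ) *
      (∑ a : I, ∑ b : I, G.mat k a.1 * A⁻¹ a b * G.mat b.1 j) =
      - ∑ c : I, (G.mult i c.1 : ℚ) * G.mat k c.1 := by
    calc ∑ j ∈ Finset.univ.filter (fun j => j ∉ I), (G.mult i j : ℚ) *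
        (∑ a : I, ∑ b : I, G.mat k a.1 * A⁻¹ a b * G.mat b.1 j)
        = ∑ a : I, ∑ b : I, G.mat k a.1 * A⁻¹ a b *
          ∑ j ∈ Finset.univ.filter (fun j => j ∉ I), (G.mult i j : ℚ) * G.mat b.1 j := by
          simp only [Finset.mul_sum]
          rw [Finset.sum_comm]
          apply Finset.sum_congr rfl
          intro a _
          rw [Finset.sum_comm]
          apply Finset.sum_congr rfl
          intro b _
          apply Finset.sum_congr rfl
          intro j _
          ring
      _ = ∑ a : I, ∑ b : I, G.mat k a.1 * A⁻¹ a b *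
          (- ∑ c : I, (G.mult i c.1 : ℚ) * A b c) := by
          apply Finset.sum_congr rfl
          intro a _
          apply Finset.sum_congr rfl
          intro b _
          have hne : ¬ (i = b.1) := fun e => hi (by rw [e]; exact b.2)
          rw [hfirst b.1, if_neg hne, zero_sub]
          rfl
      _ = - ∑ c : I, ∑ a : I, (G.mult i c.1 : ℚ) * G.mat k a.1 * (∑ b : I, A⁻¹ a b * A b c) := by
          simp only [mul_neg, Finset.sum_neg_distrib, Finset.mul_sum]
          congr 1
          rw [Finset.sum_comm (s := Finset.univ (α := I)) (t := Finset.univ (α := I)) (f := fun c a => ∑ b : I, (G.mult i c.1 : ℚ) * G.mat k a.1 * (A⁻¹ a b * A b c))]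
          apply Finset.sum_congr rfl
          intro a _
          rw [Finset.sum_comm]
          apply Finset.sum_congr rfl
          intro c _
          apply Finset.sum_congr rfl
          intro b _
          ring
      _ = - ∑ c : I, (G.mult i c.1 : ℚ) * G.mat k c.1 := by
          congr 1
          apply Finset.sum_congr rfl
          intro c _
          rw [Finset.sum_eq_single c]
          · have := congrFun (congrFun hAA c) c
            rw [Matrix.mul_apply, Matrix.one_apply_eq] at this
            rw [this, mul_one]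
          · intro a _ hac
            have := congrFun (congrFun hAA a) c
            rw [Matrix.mul_apply, Matrix.one_apply_ne hac] at this
            rw [this, mul_zero]
          · intro h; exact absurd (Finset.mem_univ _) h
  rw [hsecond]
  ring

end aux

/-- Let Φ be the labelled dual graph of the exceptional curves of n successive blow-ups of closed points
starting from a regular surface with algebraically closed residue fields (vertices = exceptional
curves in order of creation, labels = intersection numbers), I any set of vertices (the curves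
contracted to a normal surface) and σ a permutation of the vertices preserving all intersection
numbers and the set I. Let e_{ij} be the multiplicity of E_i × E_j in the fibre square of the
composite blow-down (the sum over k of c^k_i c^k_j, c^k the total transform of the k-th exceptional
curve) and (E_i · E_j)_I Mumford's rational intersection number of the images after contracting I.
Then the sum over i, j outside I of e_{ij} (σ E_i · E_j)_I equals minus the number of σ-fixed
vertices outside I. (Stated for the dual graphs realized with all residue fields equal to the base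
field, which is the case the published argument realizes geometrically.) -/
theorem result (n : ℕ) (G : ArLef.BlowupGraph n) (I : Finset (Fin n))
    (σ : Equiv.Perm (Fin n)) (hσ : ∀ i j : Fin n, G.mat (σ i) (σ j) = G.mat i j)
    (hσI : ∀ i : Fin n, σ i ∈ I ↔ i ∈ I) :
    G.lNum I σ = ArLef.BlowupGraph.rNum I σ := by
  unfold lNum rNum
  have h1 : ∀ i ∈ Finset.univ.filter (fun i => i ∉ I),
      ∑ j ∈ Finset.univ.filter (fun j => j ∉ I), (G.mult i j : ℚ) * G.pairing I (σ i) j =
        if i = σ i then -1 else 0 := by
    intro i hi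
    exact key G I i (σ i) (Finset.mem_filter.mp hi).2
  rw [Finset.sum_congr rfl h1, ← Finset.sum_filter, Finset.filter_filter, Finset.sum_const,
    nsmul_eq_mul, mul_neg, mul_one]
  congr 3
  ext x
  simp only [Finset.mem_filter, Finset.mem_univ, true_and]
  constructor
  · rintro ⟨a, b⟩; exact ⟨a, b.symm⟩
  · rintro ⟨a, b⟩; exact ⟨a, b.symm⟩

end Groth.Agent.S15327
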