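import Groth.Statements.S15449
import Mathlib.Tactic
import Groth.Agent.Lib.H23_Weil3

set_option autoImplicit false
universe u v
open CategoryTheory AlgebraicGeometry
open WeilCoh

namespace Groth.Agent.S15449

/-- For a Weil cohomology theory H^* (coefficients in K of characteristic zero, on nonsingular connected
projective varieties over an algebraically closed field k), such varieties X and Y with product X ×
Y and projections p, q, and α ∈ H^i(Y): p_*(q^*(α)) = Tr_Y(α) (as a multiple of 1 ∈ H^0(X)) if i = 2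
dim Y, and p_*(q^*(α)) = 0 otherwise. The product is any object Q with morphisms p : Q → X, q : Q →
Y forming a cartesian square over Spec k; both sides are read in the total cohomology ring of X. -/
theorem result (k : Type u) [Field k] [IsAlgClosed k] (K : Type v) [Field K] [CharZero K]
    (T : WeilCoh.Theory k K) (X Y Q : WeilCoh.Var k) (p : Q ⟶ X) (q : Q ⟶ Y)
    (hQ : WeilCoh.IsProd p q) (i : ℤ) (a : ↥(T.gr Y i)) :
    (i = 2 * (WeilCoh.dim Y.obj.left : ℤ) →
      (T.push p i ⟨T.pull q a, T.pull_mem q i a a.2⟩ : T.H X) = algebraMap K (T.H X) (T.tr Y a)) ∧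
    (i ≠ 2 * (WeilCoh.dim Y.obj.left : ℤ) →
      (T.push p i ⟨T.pull q a, T.pull_mem q i a a.2⟩ : T.H X) = 0) := by
  have hd := Groth.Agent.H23Weil.dim_prod T p q hQ
  have hev : Even (2 * (WeilCoh.dim Y.obj.left : ℤ)) := even_two_mul _
  constructor
  · intro hi
    refine Groth.Agent.H23Weil.eq_of_pairing T
      (i := i + 2 * (WeilCoh.dim X.obj.left : ℤ) - 2 * (WeilCoh.dim Q.obj.left : ℤ))
      (j := 2 * (WeilCoh.dim Q.obj.left : ℤ) - i) (by ring) (Subtype.property _) ?_ ?_
    · rw [Algebra.algebraMap_eq_smul_one]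
      apply Submodule.smul_mem
      have h0 : i + 2 * (WeilCoh.dim X.obj.left : ℤ) - 2 * (WeilCoh.dim Q.obj.left : ℤ) = 0 := by
        rw [hi, hd]; push_cast; ring
      rw [h0]
      exact Groth.Agent.H23Weil.one_mem T X
    · intro b hb
      rw [Groth.Agent.H23Weil.tr_push_mul T p i _ b hb]
      have hb' : b ∈ T.gr X (2 * (WeilCoh.dim X.obj.left : ℤ)) :=
        Groth.Agent.H23Weil.mem_cast T (by rw [hi, hd]; push_cast; ring) hb
      show T.tr Q (T.pull q a * T.pull p b) = _
      rw [Groth.Agent.H23Weil.comm_even T (T.pull_mem q i a a.2) (T.pull_mem p _ b hb) (hi ▸ hev),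
        Groth.Agent.H23Weil.tr_prod' T p q hQ b a]
      rw [Algebra.algebraMap_eq_smul_one, smul_mul_assoc, one_mul, map_smul, smul_eq_mul, mul_comm]
  · intro hi
    refine Groth.Agent.H23Weil.eq_of_pairing T
      (i := i + 2 * (WeilCoh.dim X.obj.left : ℤ) - 2 * (WeilCoh.dim Q.obj.left : ℤ))
      (j := 2 * (WeilCoh.dim Q.obj.left : ℤ) - i) (by ring) (Subtype.property _)
      (Submodule.zero_mem _) ?_
    intro b hb
    rw [Groth.Agent.H23Weil.tr_push_mul T p i _ b hb, zero_mul, map_zero]
    show T.tr Q (T.pull q a * T.pull p b) = _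
    rw [T.gradedComm Q _ _ _ _ (T.pull_mem q i a a.2) (T.pull_mem p _ b hb), map_smul,
      Groth.Agent.H23Weil.tr_prod' T p q hQ b a, T.tr_vanish Y i a a.2 hi, mul_zero, smul_zero]

end Groth.Agent.S15449
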