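import Groth.Statements.S15464
import Mathlib.Tactic
import Groth.Agent.Lib.H23_Weil3

set_option autoImplicit false
universe u v
open CategoryTheory AlgebraicGeometry
open WeilCoh

namespace Groth.Agent.S15464

/-- Let H be a Weil cohomology theory with coefficients in a field K of characteristic zero on
nonsingular connected projective varieties over an algebraically closed field k, f : X → Y a
morphism of such varieties, P = X × Y with its projections p to X and q to Y, and j : X → P the
graph of f (the section of p with q ∘ j = f). Then for every cohomology class β on Y, homogeneous of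
degree i, one has f^*(β) = p_*(cl(Γ_f) · q^*(β)) in H(X), where cl(Γ_f) is the class of the graph,
the closed irreducible subset of P with generic point j(η_X), and p_* is the push-forward (Gysin
map) along p. Push-forward is taken degree by degree, on the homogeneous component of degree 2
codim_P(Γ_f) + i containing cl(Γ_f) · q^*(β); the identity is stated in the total cohomology ring of
X, and the case of an inhomogeneous β follows by additivity. -/
theorem result (k : Type u) [Field k] [IsAlgClosed k]
    (K : Type v) [Field K] [CharZero K] (T : WeilCoh.Theory k K) (X Y P : WeilCoh.Var k)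
    [IrreducibleSpace ↥X.obj.left] (f : X ⟶ Y) (p : P ⟶ X) (q : P ⟶ Y)
    (hP : WeilCoh.IsProd p q) (j : X ⟶ P) (hjp : j ≫ p = 𝟙 X) (hjq : j ≫ q = f)
    (i : ℤ) (β : ↥(T.gr Y i)) :
    (T.push p (2 * (WeilCoh.codim P.obj.left (WeilCoh.sm j (genericPoint ↥X.obj.left)) : ℤ) + i)
        ⟨T.cl P (WeilCoh.sm j (genericPoint ↥X.obj.left)) * T.pull q (β : T.H Y),
          SetLike.mul_mem_graded (T.cl_mem P (WeilCoh.sm j (genericPoint ↥X.obj.left)))
            (T.pull_mem q i β β.2)⟩ : T.H X) = T.pull f (β : T.H Y) := by
  have hd := Groth.Agent.H23Weil.dim_prod T p q hP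
  have hcg := Groth.Agent.H23Weil.codim_graph T j p q hP hjp
  set c : ℤ := (WeilCoh.codim P.obj.left (WeilCoh.sm j (genericPoint ↥X.obj.left)) : ℤ) with hc
  have hmem := T.cl_mem P (WeilCoh.sm j (genericPoint ↥X.obj.left))
  obtain ⟨a, ha, ha1⟩ := Groth.Agent.H23Weil.exists_tr_one T X
  have h1 := Groth.Agent.H23Weil.tr_cl_section T j p hjp (T.pull p a) (T.pull_mem p _ _ ha)
  rw [Groth.Agent.H23Weil.pull_section T j p hjp, ha1] at h1
  have hcd : 2 * c = 2 * (WeilCoh.dim Y.obj.left : ℤ) := by
    by_contra hne
    have h5 := T.tr_vanish P _ _ (Groth.Agent.H23Weil.mul_mem T rfl hmem (T.pull_mem p _ _ ha))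
      (by rw [← hc]; omega)
    rw [h1] at h5
    exact one_ne_zero h5
  refine Groth.Agent.H23Weil.eq_of_pairing T
    (i := (2 * c + i) + 2 * (WeilCoh.dim X.obj.left : ℤ) - 2 * (WeilCoh.dim P.obj.left : ℤ))
    (j := 2 * (WeilCoh.dim P.obj.left : ℤ) - (2 * c + i)) (by ring) (Subtype.property _)
    (Groth.Agent.H23Weil.mem_cast T (by rw [hd]; push_cast; linarith) (T.pull_mem f i β β.2)) ?_
  intro b hb
  rw [Groth.Agent.H23Weil.tr_push_mul T p (2 * c + i) _ b hb]
  show T.tr P (T.cl P (WeilCoh.sm j (genericPoint ↥X.obj.left)) * T.pull q (β : T.H Y) * T.pull p b) = _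
  rw [mul_assoc, Groth.Agent.H23Weil.tr_cl_section T j p hjp _
    (Groth.Agent.H23Weil.mul_mem T (by rw [hd]; push_cast; linarith)
      (T.pull_mem q i β β.2) (T.pull_mem p _ b hb)), map_mul,
    Groth.Agent.H23Weil.pull_section T j p hjp, Groth.Agent.H23Weil.pull_pull T j q f hjq]

end Groth.Agent.S15464
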