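import Groth.Statements.S15505
import Mathlib.Tactic
import Mathlib.FieldTheory.Finite.Basic
import Mathlib.FieldTheory.Perfect
import Mathlib.LinearAlgebra.Basis.Basic

set_option autoImplicit false
universe u v w
open FrobAlg

namespace Groth.Agent.S15505

/-- Let k be an algebraically closed field of characteristic p, V a k-vector space, φ a p⁻¹-linear
endomorphism of V (additive, φ(a·v) = a^{1/p}·φ(v)) and b a finite basis of V consisting of vectors
fixed by φ. Then the vectors fixed by φ are exactly the combinations of the b_i with coefficients in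
the prime field: v is fixed if and only if v = Σ c_i·b_i with all c_i in the image of ℤ/p. -/
theorem result (p : ℕ) [Fact p.Prime]
    (k : Type u) [Field k] [CharP k p] [IsAlgClosed k]
    (V : Type v) [AddCommGroup V] [Module k V]
    (φ : V →ₛₗ[((frobeniusEquiv k p).symm : k →+* k)] V)
    {ι : Type w} [Fintype ι] (b : Module.Basis ι k V) (hb : ∀ i, φ (b i) = b i) (v : V) :
    φ v = v ↔ ∃ c : ι → ZMod p, v = ∑ i, (ZMod.castHom (dvd_refl p) k (c i)) • b i := by
  classical
  have hfix : ∀ a : k, a ^ p = a → ∃ c : ZMod p, a = ZMod.castHom (dvd_refl p) k c := by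
    intro a ha
    by_contra hcon
    push Not at hcon
    have hp1 : 1 < p := (Fact.out : p.Prime).one_lt
    let q : Polynomial k := Polynomial.X ^ p - Polynomial.X
    have hq : q ≠ 0 := FiniteField.X_pow_card_sub_X_ne_zero k hp1
    have hdeg : q.natDegree = p := FiniteField.X_pow_card_sub_X_natDegree_eq k hp1
    let S : Finset k := insert a (Finset.univ.image (ZMod.castHom (dvd_refl p) k))
    have hS : S.card = p + 1 := by
      rw [Finset.card_insert_of_notMem, Finset.card_image_of_injective _ (RingHom.injective _),
        Finset.card_univ, ZMod.card]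
      intro h
      rw [Finset.mem_image] at h
      obtain ⟨c, _, hc⟩ := h
      exact hcon c hc.symm
    have hsub : S ⊆ q.roots.toFinset := by
      intro b hb
      rw [Multiset.mem_toFinset, Polynomial.mem_roots hq, Polynomial.IsRoot.def]
      simp only [q, Polynomial.eval_sub, Polynomial.eval_pow, Polynomial.eval_X]
      rw [Finset.mem_insert, Finset.mem_image] at hb
      rcases hb with rfl | ⟨c, _, rfl⟩
      · rw [ha, sub_self]
      · rw [← map_pow, ZMod.pow_card, sub_self]
    have h1 := Finset.card_le_card hsub
    have h2 := (Multiset.toFinset_card_le q.roots).trans (Polynomial.card_roots' q)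
    omega
  constructor
  · intro hv
    have h1 : ∀ i, ((frobeniusEquiv k p).symm : k →+* k) (b.repr v i) = b.repr v i := by
      have h2 : φ v = ∑ i, ((frobeniusEquiv k p).symm : k →+* k) (b.repr v i) • b i := by
        conv_lhs => rw [← b.sum_repr v]
        rw [map_sum]
        refine Finset.sum_congr rfl (fun i _ => ?_)
        rw [LinearMap.map_smulₛₗ, hb]
      intro i
      have h3 : b.repr (φ v) i = ((frobeniusEquiv k p).symm : k →+* k) (b.repr v i) := by
        rw [h2, b.repr_sum_self]
      rw [← h3, hv]
    have h2 : ∀ i, (b.repr v i) ^ p = b.repr v i := by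
      intro i
      have h3 := congrArg (frobeniusEquiv k p) (h1 i)
      have h4 : frobeniusEquiv k p (((frobeniusEquiv k p).symm : k →+* k) (b.repr v i)) = b.repr v i :=
        (frobeniusEquiv k p).apply_symm_apply _
      rw [h4] at h3
      exact h3.symm
    choose c hc using fun i => hfix _ (h2 i)
    refine ⟨c, ?_⟩
    conv_lhs => rw [← b.sum_repr v]
    exact Finset.sum_congr rfl (fun i _ => by rw [hc i])
  · rintro ⟨c, rfl⟩
    rw [map_sum]
    refine Finset.sum_congr rfl (fun i _ => ?_)
    rw [LinearMap.map_smulₛₗ, hb]
    congr 1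
    apply (frobeniusEquiv k p).injective
    have h4 : frobeniusEquiv k p (((frobeniusEquiv k p).symm : k →+* k) ((ZMod.castHom (dvd_refl p) k) (c i))) = (ZMod.castHom (dvd_refl p) k) (c i) :=
        (frobeniusEquiv k p).apply_symm_apply _
    rw [h4]
    show _ = ((ZMod.castHom (dvd_refl p) k) (c i)) ^ p
    rw [← map_pow, ZMod.pow_card]

end Groth.Agent.S15505
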