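import Groth.Statements.S15724
import Mathlib

set_option autoImplicit false
universe u
open W4c2invhilbsl2

namespace Groth.Agent.S15724

section aux
open MvPolynomial

theorem weight5_fst (p q m : ℕ) (d : Fin 5 →₀ ℕ) :
    (Finsupp.weight (W4c2invhilbsl2.wt5 p q m) d).1 = (d 0 : ℤ) - p * (d 1 + d 2) + q * (d 3 + d 4) := by
  rw [Finsupp.weight_apply, Finsupp.sum_fintype _ _ (by intro i; simp), Fin.sum_univ_five]
  simp [W4c2invhilbsl2.wt5]
  ring

theorem weight5_snd (p q m : ℕ) (d : Fin 5 →₀ ℕ) :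
    (Finsupp.weight (W4c2invhilbsl2.wt5 p q m) d).2 = (((d 3 + d 4 : ℤ) - (d 1 + d 2) : ℤ) : ZMod m) := by
  rw [Finsupp.weight_apply, Finsupp.sum_fintype _ _ (by intro i; simp), Fin.sum_univ_five]
  simp [W4c2invhilbsl2.wt5]
  ring

theorem hom_mon (k : Type*) [Field k] (p q m : ℕ) (d : Fin 5 →₀ ℕ) (c : k)
    (h1 : (d 0 : ℤ) - p * (d 1 + d 2) + q * (d 3 + d 4) = 0)
    (h2 : (m : ℤ) ∣ (d 3 + d 4 : ℤ) - (d 1 + d 2)) :
    monomial d c ∈ weightedHomogeneousSubmodule k (W4c2invhilbsl2.wt5 p q m) 0 := by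
  rw [mem_weightedHomogeneousSubmodule]
  apply isWeightedHomogeneous_monomial
  rw [Prod.ext_iff, weight5_fst, weight5_snd]
  exact ⟨h1, (ZMod.intCast_zmod_eq_zero_iff_dvd _ _).mpr h2⟩

theorem split5 {k : Type*} [Field k] (d : Fin 5 →₀ ℕ) (c : k) (v0 v1 v2 v3 v4 : ℕ) (h0 : v0 ≤ d 0)
    (h1 : v1 ≤ d 1) (h2 : v2 ≤ d 2) (h3 : v3 ≤ d 3) (h4 : v4 ≤ d 4) :
    ∃ d' : Fin 5 →₀ ℕ, (d' 0 : ℤ) = d 0 - v0 ∧ (d' 1 : ℤ) = d 1 - v1 ∧ (d' 2 : ℤ) = d 2 - v2 ∧
      (d' 3 : ℤ) = d 3 - v3 ∧ (d' 4 : ℤ) = d 4 - v4 ∧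
      monomial d c = monomial d' c * (X 0 ^ v0 * X 1 ^ v1 * X 2 ^ v2 * X 3 ^ v3 * X 4 ^ v4) := by
  obtain ⟨d', hd'⟩ : ∃ d' : Fin 5 →₀ ℕ, d' = Finsupp.equivFunOnFinite.symm ![d 0 - v0, d 1 - v1, d 2 - v2, d 3 - v3, d 4 - v4] := ⟨_, rfl⟩
  have d'0 : d' 0 = d 0 - v0 := by rw [hd']; simp
  have d'1 : d' 1 = d 1 - v1 := by rw [hd']; simp
  have d'2 : d' 2 = d 2 - v2 := by rw [hd']; simp
  have d'3 : d' 3 = d 3 - v3 := by rw [hd']; simp
  have d'4 : d' 4 = d 4 - v4 := by rw [hd']; simp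
  refine ⟨d', by rw [d'0, Nat.cast_sub h0], by rw [d'1, Nat.cast_sub h1], by rw [d'2, Nat.cast_sub h2],
    by rw [d'3, Nat.cast_sub h3], by rw [d'4, Nat.cast_sub h4], ?_⟩
  rw [X_pow_eq_monomial, X_pow_eq_monomial, X_pow_eq_monomial, X_pow_eq_monomial, X_pow_eq_monomial,
    monomial_mul, monomial_mul, monomial_mul, monomial_mul, monomial_mul,
    mul_one, mul_one, mul_one, mul_one, mul_one]
  have hdd : d = d' + (Finsupp.single 0 v0 + Finsupp.single 1 v1 + Finsupp.single 2 v2 + Finsupp.single 3 v3 + Finsupp.single 4 v4) := by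
    ext j
    fin_cases j
    · simp [d'0, Nat.sub_add_cancel h0]
    · simp [d'1, Nat.sub_add_cancel h1]
    · simp [d'2, Nat.sub_add_cancel h2]
    · simp [d'3, Nat.sub_add_cancel h3]
    · simp [d'4, Nat.sub_add_cancel h4]
  rw [← hdd]

end aux

/-- Grade the polynomial ring k[X₀,…,X₄] over a field k by ℤ × ℤ/m, giving X₀ weight (1,0), X₁ and X₂
weight (−p,−1), and X₃ and X₄ weight (q,1), where 0 < p < q are coprime integers and m ≥ 1, and let
P be the principal ideal generated by the homogeneous element X₀^(q−p) − X₁X₄ + X₂X₃, of weight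
(q−p, 0) (the equation of an affine hypersurface). Then every polynomial homogeneous of the weight
of X₁ is congruent modulo P to some a·X₁ + b·X₂ with a and b homogeneous of weight zero, and every
polynomial homogeneous of the weight of X₃ is congruent modulo P to some a·X₃ + b·X₄ with a and b
homogeneous of weight zero. Equivalently, in the coordinate ring of the hypersurface the weight
pieces of the weights of X₁ and of X₃ are generated over the weight-zero subring (the ring of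
invariants of the diagonal action of a one-dimensional torus times the group of m-th roots of unity
with these weights) by X₁, X₂ and by X₃, X₄ respectively. (For the weight of X₁ the congruence is
already an equality in the polynomial ring; for the weight of X₃ the hypersurface equation is
needed, e.g. X₀^(q+p)X₁ has that weight when m divides 2.) -/
theorem result (k : Type u) [Field k] (p q m : ℕ) (hp : 0 < p) (hpq : p < q) (hcop : Nat.Coprime p q) (hm : 0 < m) (f : MvPolynomial (Fin 5) k) :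
    (f ∈ MvPolynomial.weightedHomogeneousSubmodule k (W4c2invhilbsl2.wt5 p q m) (W4c2invhilbsl2.wt5 p q m 1) →
      ∃ a b : MvPolynomial (Fin 5) k, a ∈ MvPolynomial.weightedHomogeneousSubmodule k (W4c2invhilbsl2.wt5 p q m) 0 ∧ b ∈ MvPolynomial.weightedHomogeneousSubmodule k (W4c2invhilbsl2.wt5 p q m) 0 ∧
        f - (a * MvPolynomial.X (1 : Fin 5) + b * MvPolynomial.X (2 : Fin 5)) ∈ Ideal.span {MvPolynomial.X (0 : Fin 5) ^ (q - p) - MvPolynomial.X 1 * MvPolynomial.X 4 + MvPolynomial.X 2 * MvPolynomial.X 3}) ∧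
    (f ∈ MvPolynomial.weightedHomogeneousSubmodule k (W4c2invhilbsl2.wt5 p q m) (W4c2invhilbsl2.wt5 p q m 3) →
      ∃ a b : MvPolynomial (Fin 5) k, a ∈ MvPolynomial.weightedHomogeneousSubmodule k (W4c2invhilbsl2.wt5 p q m) 0 ∧ b ∈ MvPolynomial.weightedHomogeneousSubmodule k (W4c2invhilbsl2.wt5 p q m) 0 ∧
        f - (a * MvPolynomial.X (3 : Fin 5) + b * MvPolynomial.X (4 : Fin 5)) ∈ Ideal.span {MvPolynomial.X (0 : Fin 5) ^ (q - p) - MvPolynomial.X 1 * MvPolynomial.X 4 + MvPolynomial.X 2 * MvPolynomial.X 3}) := by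
  classical
  have hpq' : (p : ℤ) < q := by exact_mod_cast hpq
  have hp' : (0 : ℤ) < p := by exact_mod_cast hp
  have hz := Submodule.zero_mem (MvPolynomial.weightedHomogeneousSubmodule k (W4c2invhilbsl2.wt5 p q m) 0)
  constructor
  · intro hf
    rw [MvPolynomial.mem_weightedHomogeneousSubmodule] at hf
    rw [f.as_sum]
    apply Finset.sum_induction (p := fun f : MvPolynomial (Fin 5) k => ∃ a b : MvPolynomial (Fin 5) k, a ∈ MvPolynomial.weightedHomogeneousSubmodule k (W4c2invhilbsl2.wt5 p q m) 0 ∧ b ∈ MvPolynomial.weightedHomogeneousSubmodule k (W4c2invhilbsl2.wt5 p q m) 0 ∧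
        f - (a * MvPolynomial.X (1 : Fin 5) + b * MvPolynomial.X (2 : Fin 5)) ∈ Ideal.span {MvPolynomial.X (0 : Fin 5) ^ (q - p) - MvPolynomial.X 1 * MvPolynomial.X 4 + MvPolynomial.X 2 * MvPolynomial.X 3})
    · rintro f g ⟨a, b, ha, hb, h⟩ ⟨a', b', ha', hb', h'⟩
      refine ⟨a + a', b + b', Submodule.add_mem _ ha ha', Submodule.add_mem _ hb hb', ?_⟩
      have := Ideal.add_mem _ h h'
      convert this using 1
      ring
    · exact ⟨0, 0, hz, hz, by simp⟩
    · intro d hd
      have hw := hf (MvPolynomial.mem_support_iff.mp hd)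
      have hw1 := congrArg Prod.fst hw
      have hw2 := congrArg Prod.snd hw
      rw [weight5_fst] at hw1
      rw [weight5_snd] at hw2
      have hw1' : (d 0 : ℤ) - p * (d 1 + d 2) + q * (d 3 + d 4) = - (p : ℤ) := hw1
      have hw2' : (((d 3 + d 4 : ℤ) - (d 1 + d 2) : ℤ) : ZMod m) = -1 := hw2
      obtain ⟨y, hy⟩ : (m : ℤ) ∣ (d 3 + d 4 : ℤ) - (d 1 + d 2) + 1 := by
        rw [← ZMod.intCast_zmod_eq_zero_iff_dvd, Int.cast_add, hw2', Int.cast_one, neg_add_cancel]
      have hd0 : (0 : ℤ) ≤ d 0 := Int.natCast_nonneg _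
      have hd3 : (0 : ℤ) ≤ d 3 := Int.natCast_nonneg _
      have hd4 : (0 : ℤ) ≤ d 4 := Int.natCast_nonneg _
      have h12 : 1 ≤ d 1 + d 2 := by
        by_contra hcon
        have h1 : d 1 = 0 := by omega
        have h2 : d 2 = 0 := by omega
        rw [h1, h2] at hw1'
        have : 0 ≤ (q : ℤ) * (d 3 + d 4) := mul_nonneg (by linarith) (by linarith)
        push_cast at hw1'
        linarith
      by_cases h1 : 1 ≤ d 1
      · obtain ⟨d', e0, e1, e2, e3, e4, he⟩ := split5 d (MvPolynomial.coeff d f) 0 1 0 0 0 (Nat.zero_le _) h1 (Nat.zero_le _) (Nat.zero_le _) (Nat.zero_le _)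
        refine ⟨MvPolynomial.monomial d' (MvPolynomial.coeff d f), 0, ?_, hz, ?_⟩
        · apply hom_mon
          · rw [e0, e1, e2, e3, e4]; push_cast; linarith
          · rw [e1, e2, e3, e4]; exact ⟨y, by push_cast; linarith⟩
        · rw [he]; convert Ideal.zero_mem _ using 1; ring
      · obtain ⟨d', e0, e1, e2, e3, e4, he⟩ := split5 d (MvPolynomial.coeff d f) 0 0 1 0 0 (Nat.zero_le _) (Nat.zero_le _) (by omega) (Nat.zero_le _) (Nat.zero_le _)
        refine ⟨0, MvPolynomial.monomial d' (MvPolynomial.coeff d f), hz, ?_, ?_⟩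
        · apply hom_mon
          · rw [e0, e1, e2, e3, e4]; push_cast; linarith
          · rw [e1, e2, e3, e4]; exact ⟨y, by push_cast; linarith⟩
        · rw [he]; convert Ideal.zero_mem _ using 1; ring
  · intro hf
    rw [MvPolynomial.mem_weightedHomogeneousSubmodule] at hf
    rw [f.as_sum]
    apply Finset.sum_induction (p := fun f : MvPolynomial (Fin 5) k => ∃ a b : MvPolynomial (Fin 5) k, a ∈ MvPolynomial.weightedHomogeneousSubmodule k (W4c2invhilbsl2.wt5 p q m) 0 ∧ b ∈ MvPolynomial.weightedHomogeneousSubmodule k (W4c2invhilbsl2.wt5 p q m) 0 ∧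
        f - (a * MvPolynomial.X (3 : Fin 5) + b * MvPolynomial.X (4 : Fin 5)) ∈ Ideal.span {MvPolynomial.X (0 : Fin 5) ^ (q - p) - MvPolynomial.X 1 * MvPolynomial.X 4 + MvPolynomial.X 2 * MvPolynomial.X 3})
    · rintro f g ⟨a, b, ha, hb, h⟩ ⟨a', b', ha', hb', h'⟩
      refine ⟨a + a', b + b', Submodule.add_mem _ ha ha', Submodule.add_mem _ hb hb', ?_⟩
      have := Ideal.add_mem _ h h'
      convert this using 1
      ring
    · exact ⟨0, 0, hz, hz, by simp⟩
    · intro d hd
      have hw := hf (MvPolynomial.mem_support_iff.mp hd)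
      have hw1 := congrArg Prod.fst hw
      have hw2 := congrArg Prod.snd hw
      rw [weight5_fst] at hw1
      rw [weight5_snd] at hw2
      have hw1' : (d 0 : ℤ) - p * (d 1 + d 2) + q * (d 3 + d 4) = (q : ℤ) := hw1
      have hw2' : (((d 3 + d 4 : ℤ) - (d 1 + d 2) : ℤ) : ZMod m) = 1 := hw2
      obtain ⟨y, hy⟩ : (m : ℤ) ∣ (d 3 + d 4 : ℤ) - (d 1 + d 2) - 1 := by
        rw [← ZMod.intCast_zmod_eq_zero_iff_dvd, Int.cast_sub, hw2', Int.cast_one, sub_self]
      have hd0 : (0 : ℤ) ≤ d 0 := Int.natCast_nonneg _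
      have hd1 : (0 : ℤ) ≤ d 1 := Int.natCast_nonneg _
      have hd2 : (0 : ℤ) ≤ d 2 := Int.natCast_nonneg _
      by_cases h3 : 1 ≤ d 3
      · obtain ⟨d', e0, e1, e2, e3, e4, he⟩ := split5 d (MvPolynomial.coeff d f) 0 0 0 1 0 (Nat.zero_le _) (Nat.zero_le _) (Nat.zero_le _) h3 (Nat.zero_le _)
        refine ⟨MvPolynomial.monomial d' (MvPolynomial.coeff d f), 0, ?_, hz, ?_⟩
        · apply hom_mon
          · rw [e0, e1, e2, e3, e4]; push_cast; linarith
          · rw [e1, e2, e3, e4]; exact ⟨y, by push_cast; linarith⟩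
        · rw [he]; convert Ideal.zero_mem _ using 1; ring
      by_cases h4 : 1 ≤ d 4
      · obtain ⟨d', e0, e1, e2, e3, e4, he⟩ := split5 d (MvPolynomial.coeff d f) 0 0 0 0 1 (Nat.zero_le _) (Nat.zero_le _) (Nat.zero_le _) (Nat.zero_le _) h4
        refine ⟨0, MvPolynomial.monomial d' (MvPolynomial.coeff d f), hz, ?_, ?_⟩
        · apply hom_mon
          · rw [e0, e1, e2, e3, e4]; push_cast; linarith
          · rw [e1, e2, e3, e4]; exact ⟨y, by push_cast; linarith⟩
        · rw [he]; convert Ideal.zero_mem _ using 1; ring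
      have h30 : d 3 = 0 := by omega
      have h40 : d 4 = 0 := by omega
      have h : q - p ≤ d 0 := by
        have h8 : ((q - p : ℕ) : ℤ) = (q : ℤ) - p := by push_cast [Nat.cast_sub hpq.le]; ring
        have : 0 ≤ (p : ℤ) * (d 1 + d 2) := mul_nonneg hp'.le (by linarith)
        rw [h30, h40] at hw1'
        push_cast at hw1'
        have h9 : ((q - p : ℕ) : ℤ) ≤ d 0 := by rw [h8]; linarith
        exact_mod_cast h9
      obtain ⟨d', e0, e1, e2, e3, e4, he⟩ := split5 d (MvPolynomial.coeff d f) (q - p) 0 0 0 0 h (Nat.zero_le _) (Nat.zero_le _) (Nat.zero_le _) (Nat.zero_le _)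
      rw [Nat.cast_sub hpq.le] at e0
      have hM : MvPolynomial.IsWeightedHomogeneous (W4c2invhilbsl2.wt5 p q m) (MvPolynomial.monomial d' (MvPolynomial.coeff d f)) ((p : ℤ), (1 : ZMod m)) := by
        apply MvPolynomial.isWeightedHomogeneous_monomial
        rw [Prod.ext_iff, weight5_fst, weight5_snd]
        constructor
        · rw [e0, e1, e2, e3, e4]; push_cast; show _ = (p : ℤ); linarith
        · show _ = (1 : ZMod m)
          rw [← hw2', e1, e2, e3, e4]
          push_cast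
          ring
      have hX1 := MvPolynomial.isWeightedHomogeneous_X k (W4c2invhilbsl2.wt5 p q m) 1
      have hX2 := MvPolynomial.isWeightedHomogeneous_X k (W4c2invhilbsl2.wt5 p q m) 2
      have hw0 : ((p : ℤ), (1 : ZMod m)) + W4c2invhilbsl2.wt5 p q m 1 = 0 := by
        rw [Prod.ext_iff]
        constructor
        · show (p : ℤ) + -(p : ℤ) = 0; ring
        · show (1 : ZMod m) + -1 = 0; ring
      have hw0' : ((p : ℤ), (1 : ZMod m)) + W4c2invhilbsl2.wt5 p q m 2 = 0 := by
        rw [Prod.ext_iff]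
        constructor
        · show (p : ℤ) + -(p : ℤ) = 0; ring
        · show (1 : ZMod m) + -1 = 0; ring
      have hM1 := hM.mul hX1
      have hM2 := hM.mul hX2
      rw [hw0] at hM1
      rw [hw0'] at hM2
      refine ⟨-(MvPolynomial.monomial d' (MvPolynomial.coeff d f) * MvPolynomial.X 2), MvPolynomial.monomial d' (MvPolynomial.coeff d f) * MvPolynomial.X 1,
        Submodule.neg_mem _ ((MvPolynomial.mem_weightedHomogeneousSubmodule _ _ _ _).mpr hM2), (MvPolynomial.mem_weightedHomogeneousSubmodule _ _ _ _).mpr hM1, ?_⟩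
      rw [he]
      have : MvPolynomial.monomial d' (MvPolynomial.coeff d f) * (MvPolynomial.X 0 ^ (q - p) * MvPolynomial.X 1 ^ 0 * MvPolynomial.X 2 ^ 0 * MvPolynomial.X 3 ^ 0 * MvPolynomial.X 4 ^ 0) -
        (-(MvPolynomial.monomial d' (MvPolynomial.coeff d f) * MvPolynomial.X 2) * MvPolynomial.X (3 : Fin 5) + MvPolynomial.monomial d' (MvPolynomial.coeff d f) * MvPolynomial.X 1 * MvPolynomial.X (4 : Fin 5)) =
        MvPolynomial.monomial d' (MvPolynomial.coeff d f) * (MvPolynomial.X (0 : Fin 5) ^ (q - p) - MvPolynomial.X 1 * MvPolynomial.X 4 + MvPolynomial.X 2 * MvPolynomial.X 3) := by ring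
      rw [this]
      exact Ideal.mul_mem_left _ _ (Ideal.subset_span rfl)

end Groth.Agent.S15724
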