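import Groth.Statements.S15725
import Mathlib
import Groth.Agent.Lib.H23_HJ2

set_option autoImplicit false
universe u
open W4c2invhilbsl2

namespace Groth.Agent.S15725

/-- Grade the polynomial ring k[X₀,X₁,X₂] over a field k by ℤ × ℤ/m, giving X₀ weight (1,0), X₁ weight
(−p,−1) and X₂ weight (q,1), where 0 < p < q are coprime integers and m ≥ 1 (this three-variable
ring stands for the subring k[X₀,X₁,Xⱼ], j = 3 or 4, of the five-variable ring with the same
weights). Then every polynomial homogeneous of weight (q−p, 0) can be written a·X₀^(q−p) + b·X₁X₂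
with a and b homogeneous of weight zero; in other words the weight-(q−p, 0) piece is generated by
X₀^(q−p) and X₁X₂ as a module over the weight-zero subring. -/
theorem result (k : Type u) [Field k] (p q m : ℕ) (hp : 0 < p) (hpq : p < q) (hcop : Nat.Coprime p q) (hm : 0 < m) (f : MvPolynomial (Fin 3) k)
    (hf : f ∈ MvPolynomial.weightedHomogeneousSubmodule k (W4c2invhilbsl2.wt3 p q m) ((q : ℤ) - (p : ℤ), (0 : ZMod m))) :
    ∃ a b : MvPolynomial (Fin 3) k, a ∈ MvPolynomial.weightedHomogeneousSubmodule k (W4c2invhilbsl2.wt3 p q m) 0 ∧ b ∈ MvPolynomial.weightedHomogeneousSubmodule k (W4c2invhilbsl2.wt3 p q m) 0 ∧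
      f = a * MvPolynomial.X (0 : Fin 3) ^ (q - p) + b * (MvPolynomial.X (1 : Fin 3) * MvPolynomial.X (2 : Fin 3)) := by
  classical
  have hpq' : (p : ℤ) < q := by exact_mod_cast hpq
  have hp' : (0 : ℤ) < p := by exact_mod_cast hp
  rw [MvPolynomial.mem_weightedHomogeneousSubmodule] at hf
  rw [f.as_sum]
  apply Finset.sum_induction (p := fun f : MvPolynomial (Fin 3) k => ∃ a b : MvPolynomial (Fin 3) k,
    a ∈ MvPolynomial.weightedHomogeneousSubmodule k (W4c2invhilbsl2.wt3 p q m) 0 ∧
    b ∈ MvPolynomial.weightedHomogeneousSubmodule k (W4c2invhilbsl2.wt3 p q m) 0 ∧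
      f = a * MvPolynomial.X (0 : Fin 3) ^ (q - p) +
        b * (MvPolynomial.X (1 : Fin 3) * MvPolynomial.X (2 : Fin 3)))
  · rintro f g ⟨a, b, ha, hb, rfl⟩ ⟨a', b', ha', hb', rfl⟩
    exact ⟨a + a', b + b', Submodule.add_mem _ ha ha', Submodule.add_mem _ hb hb', by ring⟩
  · exact ⟨0, 0, Submodule.zero_mem _, Submodule.zero_mem _, by simp⟩
  · intro d hd
    have hw := hf (MvPolynomial.mem_support_iff.mp hd)
    have hw1 := congrArg Prod.fst hw
    have hw2 := congrArg Prod.snd hw
    rw [H23HJ.weight3_fst] at hw1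
    rw [H23HJ.weight3_snd] at hw2
    have hw1' : (d 0 : ℤ) - p * d 1 + q * d 2 = (q : ℤ) - p := hw1
    have hw3 : (m : ℤ) ∣ (d 2 : ℤ) - d 1 := (ZMod.intCast_zmod_eq_zero_iff_dvd _ _).mp hw2
    have hd0 : (0 : ℤ) ≤ d 0 := Int.natCast_nonneg _
    have hd1 : (0 : ℤ) ≤ d 1 := Int.natCast_nonneg _
    have hd2 : (0 : ℤ) ≤ d 2 := Int.natCast_nonneg _
    by_cases h : q - p ≤ d 0
    · obtain ⟨d', hd'⟩ : ∃ d' : Fin 3 →₀ ℕ, d' = Finsupp.equivFunOnFinite.symm ![d 0 - (q - p), d 1, d 2] := ⟨_, rfl⟩
      have d'0 : d' 0 = d 0 - (q - p) := by rw [hd']; simp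
      have d'1 : d' 1 = d 1 := by rw [hd']; simp
      have d'2 : d' 2 = d 2 := by rw [hd']; simp
      refine ⟨MvPolynomial.monomial d' (MvPolynomial.coeff d f), 0, ?_, Submodule.zero_mem _, ?_⟩
      · rw [MvPolynomial.mem_weightedHomogeneousSubmodule]
        apply MvPolynomial.isWeightedHomogeneous_monomial
        rw [H23HJ.weight3_zero_iff, d'0, d'1, d'2]
        refine ⟨?_, hw3⟩
        push_cast [Nat.cast_sub h, Nat.cast_sub hpq.le]
        linarith
      · rw [zero_mul, add_zero, MvPolynomial.X_pow_eq_monomial, MvPolynomial.monomial_mul, mul_one]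
        have hdd : d = d' + Finsupp.single 0 (q - p) := by
          ext j
          fin_cases j
          · simp [d'0, Nat.sub_add_cancel h]
          · simp [d'1]
          · simp [d'2]
        rw [← hdd]
    · have hlt : (d 0 : ℤ) < (q : ℤ) - p := by
        have h8 : ((q - p : ℕ) : ℤ) = (q : ℤ) - p := by push_cast [Nat.cast_sub hpq.le]; ring
        rw [← h8]; exact_mod_cast not_le.mp h
      have h2 : 1 ≤ d 2 := by
        by_contra hcon
        have h0 : d 2 = 0 := by omega
        rw [h0] at hw1'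
        have : 0 ≤ (p : ℤ) * d 1 := mul_nonneg hp'.le hd1
        push_cast at hw1'
        linarith
      have h1 : 1 ≤ d 1 := by
        by_contra hcon
        have h0 : d 1 = 0 := by omega
        rw [h0] at hw1'
        have h2' : (1 : ℤ) ≤ d 2 := by exact_mod_cast h2
        have : (q : ℤ) * 1 ≤ (q : ℤ) * d 2 := mul_le_mul_of_nonneg_left h2' (by linarith)
        push_cast at hw1'
        linarith
      obtain ⟨d', hd'⟩ : ∃ d' : Fin 3 →₀ ℕ, d' = Finsupp.equivFunOnFinite.symm ![d 0, d 1 - 1, d 2 - 1] := ⟨_, rfl⟩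
      have d'0 : d' 0 = d 0 := by rw [hd']; simp
      have d'1 : d' 1 = d 1 - 1 := by rw [hd']; simp
      have d'2 : d' 2 = d 2 - 1 := by rw [hd']; simp
      refine ⟨0, MvPolynomial.monomial d' (MvPolynomial.coeff d f), Submodule.zero_mem _, ?_, ?_⟩
      · rw [MvPolynomial.mem_weightedHomogeneousSubmodule]
        apply MvPolynomial.isWeightedHomogeneous_monomial
        rw [H23HJ.weight3_zero_iff, d'0, d'1, d'2]
        push_cast [Nat.cast_sub h1, Nat.cast_sub h2]
        refine ⟨by linarith, ?_⟩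
        obtain ⟨y, hy⟩ := hw3
        exact ⟨y, by linarith⟩
      · rw [zero_mul, zero_add, MvPolynomial.X, MvPolynomial.X,
          MvPolynomial.monomial_mul, MvPolynomial.monomial_mul, mul_one, mul_one]
        have hdd : d = d' + (Finsupp.single 1 1 + Finsupp.single 2 1) := by
          ext j
          fin_cases j
          · simp [d'0]
          · simp [d'1, Nat.sub_add_cancel h1]
          · simp [d'2, Nat.sub_add_cancel h2]
        rw [← hdd]

end Groth.Agent.S15725
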