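import Groth.Statements.S15726
import Mathlib

set_option autoImplicit false
universe u
open W4c2invhilbsl2

namespace Groth.Agent.S15726

section aux
open MvPolynomial

theorem weight5_fst (p q m : ℕ) (d : Fin 5 →₀ ℕ) :
    (Finsupp.weight (W4c2invhilbsl2.wt5 p q m) d).1 = (d 0 : ℤ) - p * (d 1 + d 2) + q * (d 3 + d 4) := by
  rw [Finsupp.weight_apply, Finsupp.sum_fintype _ _ (by intro i; simp), Fin.sum_univ_five]
  simp [W4c2invhilbsl2.wt5]
  ring

theorem weight5_snd (p q m : ℕ) (d : Fin 5 →₀ ℕ) :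
    (Finsupp.weight (W4c2invhilbsl2.wt5 p q m) d).2 = (((d 3 + d 4 : ℤ) - (d 1 + d 2) : ℤ) : ZMod m) := by
  rw [Finsupp.weight_apply, Finsupp.sum_fintype _ _ (by intro i; simp), Fin.sum_univ_five]
  simp [W4c2invhilbsl2.wt5]
  ring

theorem hom_mon (k : Type*) [Field k] (p q m : ℕ) (d : Fin 5 →₀ ℕ) (c : k)
    (h1 : (d 0 : ℤ) - p * (d 1 + d 2) + q * (d 3 + d 4) = 0)
    (h2 : (m : ℤ) ∣ (d 3 + d 4 : ℤ) - (d 1 + d 2)) :
    monomial d c ∈ weightedHomogeneousSubmodule k (W4c2invhilbsl2.wt5 p q m) 0 := by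
  rw [mem_weightedHomogeneousSubmodule]
  apply isWeightedHomogeneous_monomial
  rw [Prod.ext_iff, weight5_fst, weight5_snd]
  exact ⟨h1, (ZMod.intCast_zmod_eq_zero_iff_dvd _ _).mpr h2⟩

theorem split5 {k : Type*} [Field k] (d : Fin 5 →₀ ℕ) (c : k) (v0 v1 v2 v3 v4 : ℕ) (h0 : v0 ≤ d 0)
    (h1 : v1 ≤ d 1) (h2 : v2 ≤ d 2) (h3 : v3 ≤ d 3) (h4 : v4 ≤ d 4) :
    ∃ d' : Fin 5 →₀ ℕ, (d' 0 : ℤ) = d 0 - v0 ∧ (d' 1 : ℤ) = d 1 - v1 ∧ (d' 2 : ℤ) = d 2 - v2 ∧
      (d' 3 : ℤ) = d 3 - v3 ∧ (d' 4 : ℤ) = d 4 - v4 ∧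
      monomial d c = monomial d' c * (X 0 ^ v0 * X 1 ^ v1 * X 2 ^ v2 * X 3 ^ v3 * X 4 ^ v4) := by
  obtain ⟨d', hd'⟩ : ∃ d' : Fin 5 →₀ ℕ, d' = Finsupp.equivFunOnFinite.symm ![d 0 - v0, d 1 - v1, d 2 - v2, d 3 - v3, d 4 - v4] := ⟨_, rfl⟩
  have d'0 : d' 0 = d 0 - v0 := by rw [hd']; simp
  have d'1 : d' 1 = d 1 - v1 := by rw [hd']; simp
  have d'2 : d' 2 = d 2 - v2 := by rw [hd']; simp
  have d'3 : d' 3 = d 3 - v3 := by rw [hd']; simp
  have d'4 : d' 4 = d 4 - v4 := by rw [hd']; simp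
  refine ⟨d', by rw [d'0, Nat.cast_sub h0], by rw [d'1, Nat.cast_sub h1], by rw [d'2, Nat.cast_sub h2],
    by rw [d'3, Nat.cast_sub h3], by rw [d'4, Nat.cast_sub h4], ?_⟩
  rw [X_pow_eq_monomial, X_pow_eq_monomial, X_pow_eq_monomial, X_pow_eq_monomial, X_pow_eq_monomial,
    monomial_mul, monomial_mul, monomial_mul, monomial_mul, monomial_mul,
    mul_one, mul_one, mul_one, mul_one, mul_one]
  have hdd : d = d' + (Finsupp.single 0 v0 + Finsupp.single 1 v1 + Finsupp.single 2 v2 + Finsupp.single 3 v3 + Finsupp.single 4 v4) := by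
    ext j
    fin_cases j
    · simp [d'0, Nat.sub_add_cancel h0]
    · simp [d'1, Nat.sub_add_cancel h1]
    · simp [d'2, Nat.sub_add_cancel h2]
    · simp [d'3, Nat.sub_add_cancel h3]
    · simp [d'4, Nat.sub_add_cancel h4]
  rw [← hdd]

end aux

/-- Grade the polynomial ring k[X₀,…,X₄] over a field k by ℤ × ℤ/m, giving X₀ weight (1,0), X₁ and X₂
weight (−p,−1), and X₃ and X₄ weight (q,1), where 0 < p < q are coprime integers and m ≥ 1. Then
modulo the principal ideal generated by X₀^(q−p) − X₁X₄ + X₂X₃, an element homogeneous of weight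
(q−p, 0) (the equation of an affine hypersurface), every polynomial homogeneous of weight (q−p, 0)
is congruent to a combination a₁₃X₁X₃ + a₁₄X₁X₄ + a₂₃X₂X₃ + a₂₄X₂X₄ whose four coefficients are
homogeneous of weight zero. Equivalently, in the coordinate ring of the hypersurface the
weight-(q−p, 0) piece is generated over the weight-zero subring (the invariant ring of the diagonal
action with these weights) by the span of the four products XₐX_b with a ∈ {1,2} and b ∈ {3,4}. (The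
published statement is over the complex numbers; this row takes any field.) -/
theorem result (k : Type u) [Field k] (p q m : ℕ) (hp : 0 < p) (hpq : p < q) (hcop : Nat.Coprime p q) (hm : 0 < m) (f : MvPolynomial (Fin 5) k)
    (hf : f ∈ MvPolynomial.weightedHomogeneousSubmodule k (W4c2invhilbsl2.wt5 p q m) ((q : ℤ) - (p : ℤ), (0 : ZMod m))) :
    ∃ a₁₃ a₁₄ a₂₃ a₂₄ : MvPolynomial (Fin 5) k,
      a₁₃ ∈ MvPolynomial.weightedHomogeneousSubmodule k (W4c2invhilbsl2.wt5 p q m) 0 ∧ a₁₄ ∈ MvPolynomial.weightedHomogeneousSubmodule k (W4c2invhilbsl2.wt5 p q m) 0 ∧ a₂₃ ∈ MvPolynomial.weightedHomogeneousSubmodule k (W4c2invhilbsl2.wt5 p q m) 0 ∧ a₂₄ ∈ MvPolynomial.weightedHomogeneousSubmodule k (W4c2invhilbsl2.wt5 p q m) 0 ∧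
      f - (a₁₃ * (MvPolynomial.X (1 : Fin 5) * MvPolynomial.X 3) + a₁₄ * (MvPolynomial.X (1 : Fin 5) * MvPolynomial.X 4) +
          a₂₃ * (MvPolynomial.X (2 : Fin 5) * MvPolynomial.X 3) + a₂₄ * (MvPolynomial.X (2 : Fin 5) * MvPolynomial.X 4)) ∈
        Ideal.span {MvPolynomial.X (0 : Fin 5) ^ (q - p) - MvPolynomial.X 1 * MvPolynomial.X 4 + MvPolynomial.X 2 * MvPolynomial.X 3} := by
  classical
  have hpq' : (p : ℤ) < q := by exact_mod_cast hpq
  have hp' : (0 : ℤ) < p := by exact_mod_cast hp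
  rw [MvPolynomial.mem_weightedHomogeneousSubmodule] at hf
  rw [f.as_sum]
  apply Finset.sum_induction (p := fun f : MvPolynomial (Fin 5) k => ∃ a₁₃ a₁₄ a₂₃ a₂₄ : MvPolynomial (Fin 5) k,
      a₁₃ ∈ MvPolynomial.weightedHomogeneousSubmodule k (W4c2invhilbsl2.wt5 p q m) 0 ∧ a₁₄ ∈ MvPolynomial.weightedHomogeneousSubmodule k (W4c2invhilbsl2.wt5 p q m) 0 ∧ a₂₃ ∈ MvPolynomial.weightedHomogeneousSubmodule k (W4c2invhilbsl2.wt5 p q m) 0 ∧ a₂₄ ∈ MvPolynomial.weightedHomogeneousSubmodule k (W4c2invhilbsl2.wt5 p q m) 0 ∧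
      f - (a₁₃ * (MvPolynomial.X (1 : Fin 5) * MvPolynomial.X 3) + a₁₄ * (MvPolynomial.X (1 : Fin 5) * MvPolynomial.X 4) +
          a₂₃ * (MvPolynomial.X (2 : Fin 5) * MvPolynomial.X 3) + a₂₄ * (MvPolynomial.X (2 : Fin 5) * MvPolynomial.X 4)) ∈
        Ideal.span {MvPolynomial.X (0 : Fin 5) ^ (q - p) - MvPolynomial.X 1 * MvPolynomial.X 4 + MvPolynomial.X 2 * MvPolynomial.X 3})
  · rintro f g ⟨a, b, c, d, ha, hb, hc, hd, h⟩ ⟨a', b', c', d', ha', hb', hc', hd', h'⟩
    refine ⟨a + a', b + b', c + c', d + d', Submodule.add_mem _ ha ha', Submodule.add_mem _ hb hb', Submodule.add_mem _ hc hc', Submodule.add_mem _ hd hd', ?_⟩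
    have := Ideal.add_mem _ h h'
    convert this using 1
    ring
  · exact ⟨0, 0, 0, 0, Submodule.zero_mem _, Submodule.zero_mem _, Submodule.zero_mem _, Submodule.zero_mem _, by simp⟩
  · intro d hd
    have hw := hf (MvPolynomial.mem_support_iff.mp hd)
    have hw1 := congrArg Prod.fst hw
    have hw2 := congrArg Prod.snd hw
    rw [weight5_fst] at hw1
    rw [weight5_snd] at hw2
    have hw1' : (d 0 : ℤ) - p * (d 1 + d 2) + q * (d 3 + d 4) = (q : ℤ) - p := hw1
    obtain ⟨y, hy⟩ : (m : ℤ) ∣ (d 3 + d 4 : ℤ) - (d 1 + d 2) := (ZMod.intCast_zmod_eq_zero_iff_dvd _ _).mp hw2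
    have hd0 : (0 : ℤ) ≤ d 0 := Int.natCast_nonneg _
    have hd1 : (0 : ℤ) ≤ d 1 := Int.natCast_nonneg _
    have hd2 : (0 : ℤ) ≤ d 2 := Int.natCast_nonneg _
    have hd3 : (0 : ℤ) ≤ d 3 := Int.natCast_nonneg _
    have hd4 : (0 : ℤ) ≤ d 4 := Int.natCast_nonneg _
    have hz := Submodule.zero_mem (MvPolynomial.weightedHomogeneousSubmodule k (W4c2invhilbsl2.wt5 p q m) 0)
    by_cases h : q - p ≤ d 0
    · obtain ⟨d', e0, e1, e2, e3, e4, he⟩ := split5 d (MvPolynomial.coeff d f) (q - p) 0 0 0 0 h (Nat.zero_le _) (Nat.zero_le _) (Nat.zero_le _) (Nat.zero_le _)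
      rw [Nat.cast_sub hpq.le] at e0
      have hM : MvPolynomial.monomial d' (MvPolynomial.coeff d f) ∈ MvPolynomial.weightedHomogeneousSubmodule k (W4c2invhilbsl2.wt5 p q m) 0 := by
        apply hom_mon
        · rw [e0, e1, e2, e3, e4]; push_cast; linarith
        · rw [e1, e2, e3, e4]; exact ⟨y, by push_cast; linarith⟩
      refine ⟨0, MvPolynomial.monomial d' (MvPolynomial.coeff d f), -MvPolynomial.monomial d' (MvPolynomial.coeff d f), 0, hz, hM, Submodule.neg_mem _ hM, hz, ?_⟩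
      rw [he]
      have : MvPolynomial.monomial d' (MvPolynomial.coeff d f) * (MvPolynomial.X 0 ^ (q - p) * MvPolynomial.X 1 ^ 0 * MvPolynomial.X 2 ^ 0 * MvPolynomial.X 3 ^ 0 * MvPolynomial.X 4 ^ 0) -
        (0 * (MvPolynomial.X (1 : Fin 5) * MvPolynomial.X 3) + MvPolynomial.monomial d' (MvPolynomial.coeff d f) * (MvPolynomial.X (1 : Fin 5) * MvPolynomial.X 4) +
          (-MvPolynomial.monomial d' (MvPolynomial.coeff d f)) * (MvPolynomial.X (2 : Fin 5) * MvPolynomial.X 3) + 0 * (MvPolynomial.X (2 : Fin 5) * MvPolynomial.X 4)) =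
        MvPolynomial.monomial d' (MvPolynomial.coeff d f) * (MvPolynomial.X (0 : Fin 5) ^ (q - p) - MvPolynomial.X 1 * MvPolynomial.X 4 + MvPolynomial.X 2 * MvPolynomial.X 3) := by ring
      rw [this]
      exact Ideal.mul_mem_left _ _ (Ideal.subset_span rfl)
    · have hlt : (d 0 : ℤ) < (q : ℤ) - p := by
        have h8 : ((q - p : ℕ) : ℤ) = (q : ℤ) - p := by push_cast [Nat.cast_sub hpq.le]; ring
        rw [← h8]; exact_mod_cast not_le.mp h
      have h34 : 1 ≤ d 3 + d 4 := by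
        by_contra hcon
        have h3 : d 3 = 0 := by omega
        have h4 : d 4 = 0 := by omega
        rw [h3, h4] at hw1'
        have : 0 ≤ (p : ℤ) * (d 1 + d 2) := mul_nonneg hp'.le (by linarith)
        push_cast at hw1'
        linarith
      have h12 : 1 ≤ d 1 + d 2 := by
        by_contra hcon
        have h1 : d 1 = 0 := by omega
        have h2 : d 2 = 0 := by omega
        rw [h1, h2] at hw1'
        have h2' : (1 : ℤ) ≤ d 3 + d 4 := by exact_mod_cast h34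
        have : (q : ℤ) * 1 ≤ (q : ℤ) * (d 3 + d 4) := mul_le_mul_of_nonneg_left h2' (by linarith)
        push_cast at hw1'
        linarith
      by_cases h1 : 1 ≤ d 1
      · by_cases h3 : 1 ≤ d 3
        · obtain ⟨d', e0, e1, e2, e3, e4, he⟩ := split5 d (MvPolynomial.coeff d f) 0 1 0 1 0 (Nat.zero_le _) h1 (Nat.zero_le _) h3 (Nat.zero_le _)
          refine ⟨MvPolynomial.monomial d' (MvPolynomial.coeff d f), 0, 0, 0, ?_, hz, hz, hz, ?_⟩
          · apply hom_mon
            · rw [e0, e1, e2, e3, e4]; push_cast; linarith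
            · rw [e1, e2, e3, e4]; exact ⟨y, by push_cast; linarith⟩
          · rw [he]; convert Ideal.zero_mem _ using 1; ring
        · obtain ⟨d', e0, e1, e2, e3, e4, he⟩ := split5 d (MvPolynomial.coeff d f) 0 1 0 0 1 (Nat.zero_le _) h1 (Nat.zero_le _) (Nat.zero_le _) (by omega)
          refine ⟨0, MvPolynomial.monomial d' (MvPolynomial.coeff d f), 0, 0, hz, ?_, hz, hz, ?_⟩
          · apply hom_mon
            · rw [e0, e1, e2, e3, e4]; push_cast; linarith
            · rw [e1, e2, e3, e4]; exact ⟨y, by push_cast; linarith⟩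
          · rw [he]; convert Ideal.zero_mem _ using 1; ring
      · by_cases h3 : 1 ≤ d 3
        · obtain ⟨d', e0, e1, e2, e3, e4, he⟩ := split5 d (MvPolynomial.coeff d f) 0 0 1 1 0 (Nat.zero_le _) (Nat.zero_le _) (by omega) h3 (Nat.zero_le _)
          refine ⟨0, 0, MvPolynomial.monomial d' (MvPolynomial.coeff d f), 0, hz, hz, ?_, hz, ?_⟩
          · apply hom_mon
            · rw [e0, e1, e2, e3, e4]; push_cast; linarith
            · rw [e1, e2, e3, e4]; exact ⟨y, by push_cast; linarith⟩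
          · rw [he]; convert Ideal.zero_mem _ using 1; ring
        · obtain ⟨d', e0, e1, e2, e3, e4, he⟩ := split5 d (MvPolynomial.coeff d f) 0 0 1 0 1 (Nat.zero_le _) (Nat.zero_le _) (by omega) (Nat.zero_le _) (by omega)
          refine ⟨0, 0, 0, MvPolynomial.monomial d' (MvPolynomial.coeff d f), hz, hz, hz, ?_, ?_⟩
          · apply hom_mon
            · rw [e0, e1, e2, e3, e4]; push_cast; linarith
            · rw [e1, e2, e3, e4]; exact ⟨y, by push_cast; linarith⟩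
          · rw [he]; convert Ideal.zero_mem _ using 1; ring

end Groth.Agent.S15726
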