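import Groth.Statements.S15727
import Mathlib

set_option autoImplicit false
universe u
open W4c2invhilbsl2

namespace Groth.Agent.S15727

section aux
open MvPolynomial

theorem rank_piece_le_one {σ : Type*} {k : Type*} [Field k] {M : Type*} [AddCommMonoid M]
    (w : σ → M) (I : Ideal (MvPolynomial σ k)) (ν : M) (v : MvPolynomial σ k ⧸ I)
    (h : ∀ d : σ →₀ ℕ, Finsupp.weight w d = ν →
      ∃ c : k, Ideal.Quotient.mk I (monomial d 1) = c • v) :
    Module.rank k (W4c2invhilbsl2.piece k w I ν) ≤ 1 := by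
  have hle : W4c2invhilbsl2.piece k w I ν ≤ Submodule.span k {v} := by
    unfold W4c2invhilbsl2.piece
    rw [Submodule.map_le_iff_le_comap]
    intro f hf
    rw [mem_weightedHomogeneousSubmodule] at hf
    show Ideal.Quotient.mk I f ∈ Submodule.span k {v}
    rw [f.as_sum, map_sum]
    apply Submodule.sum_mem
    intro d hd
    obtain ⟨c, hc⟩ := h d (hf (mem_support_iff.mp hd))
    have e1 : (monomial d (coeff d f) : MvPolynomial σ k) = (coeff d f) • monomial d 1 := by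
      rw [smul_monomial, smul_eq_mul, mul_one]
    have e2 : Ideal.Quotient.mk I ((coeff d f) • (monomial d 1 : MvPolynomial σ k)) =
        (coeff d f) • Ideal.Quotient.mk I (monomial d 1) := rfl
    rw [e1, e2, hc, ← mul_smul]
    exact Submodule.smul_mem _ _ (Submodule.mem_span_singleton_self v)
  refine (Submodule.rank_mono hle).trans ?_
  refine (rank_span_le _).trans ?_
  simp

theorem weight5_fst (p q m : ℕ) (d : Fin 5 →₀ ℕ) :
    (Finsupp.weight (W4c2invhilbsl2.wt5 p q m) d).1 = (d 0 : ℤ) - p * (d 1 + d 2) + q * (d 3 + d 4) := by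
  rw [Finsupp.weight_apply, Finsupp.sum_fintype _ _ (by intro i; simp), Fin.sum_univ_five]
  simp [W4c2invhilbsl2.wt5]
  ring

theorem weight5_snd (p q m : ℕ) (d : Fin 5 →₀ ℕ) :
    (Finsupp.weight (W4c2invhilbsl2.wt5 p q m) d).2 = (((d 3 + d 4 : ℤ) - (d 1 + d 2) : ℤ) : ZMod m) := by
  rw [Finsupp.weight_apply, Finsupp.sum_fintype _ _ (by intro i; simp), Fin.sum_univ_five]
  simp [W4c2invhilbsl2.wt5]
  ring

theorem mk_mon5 {k : Type*} [Field k] (I : Ideal (MvPolynomial (Fin 5) k)) (d : Fin 5 →₀ ℕ) :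
    Ideal.Quotient.mk I (monomial d 1) = Ideal.Quotient.mk I (X 0) ^ d 0 * Ideal.Quotient.mk I (X 1) ^ d 1 *
      Ideal.Quotient.mk I (X 2) ^ d 2 * Ideal.Quotient.mk I (X 3) ^ d 3 * Ideal.Quotient.mk I (X 4) ^ d 4 := by
  rw [monomial_eq, C_1, one_mul, Finsupp.prod_fintype _ _ (by intro i; simp), Fin.prod_univ_five]
  simp only [map_mul, map_pow]
end aux
theorem smul_mk {k : Type*} [Field k] (I : Ideal (MvPolynomial (Fin 5) k)) (s : k) (r : ℕ)
    (x : MvPolynomial (Fin 5) k) :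
    (s ^ r) • (Ideal.Quotient.mk I x) =
        Ideal.Quotient.mk I (MvPolynomial.C s) ^ r * Ideal.Quotient.mk I x := by
  rw [← map_pow, ← map_pow, ← map_mul, ← MvPolynomial.smul_eq_C_mul]
  rfl

theorem weight_dvd (p q m : ℕ) (d e : Fin 5 →₀ ℕ)
    (h : Finsupp.weight (W4c2invhilbsl2.wt5 p q m) d = Finsupp.weight (W4c2invhilbsl2.wt5 p q m) e) :
    ((d 0 : ℤ) - p * (d 1 + d 2) + q * (d 3 + d 4) = (e 0 : ℤ) - p * (e 1 + e 2) + q * (e 3 + e 4)) ∧
    (m : ℤ) ∣ ((d 3 + d 4 : ℤ) - (d 1 + d 2)) - ((e 3 + e 4 : ℤ) - (e 1 + e 2)) := by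
  have hw1 := congrArg Prod.fst h
  have hw2 := congrArg Prod.snd h
  rw [weight5_fst, weight5_fst] at hw1
  rw [weight5_snd, weight5_snd] at hw2
  refine ⟨hw1, ?_⟩
  rw [← ZMod.intCast_zmod_eq_zero_iff_dvd, Int.cast_sub, hw2, sub_self]

theorem ringI0 {Q : Type*} [CommRing Q] (x0 x1 x4 : Q) (p q : ℕ) (hpq : p < q)
    (h : x0 ^ (q - p) = x1 * x4) (d0 d1 d4 e0 e1 e4 : ℕ) (hle : d1 ≤ e1)
    (h1 : (d0 : ℤ) - p * d1 + q * d4 = e0 - p * e1 + q * e4)
    (h2 : (d4 : ℤ) - d1 = e4 - e1) :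
    x0 ^ d0 * x1 ^ d1 * x4 ^ d4 = x0 ^ e0 * x1 ^ e1 * x4 ^ e4 := by
  obtain ⟨j, hj⟩ := Nat.exists_eq_add_of_le hle
  have hj' : (e1 : ℤ) = d1 + j := by exact_mod_cast hj
  have hj4 : e4 = d4 + j := by
    have : (e4 : ℤ) = d4 + j := by linarith
    exact_mod_cast this
  have hqp : ((q - p : ℕ) : ℤ) = (q : ℤ) - p := by push_cast [Nat.cast_sub hpq.le]; ring
  have h0 : d0 = e0 + (q - p) * j := by
    have : (d0 : ℤ) = e0 + ((q - p : ℕ) : ℤ) * j := by
      rw [hqp]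
      have h4' : (e4 : ℤ) = d4 + j := by exact_mod_cast hj4
      rw [hj', h4'] at h1
      linarith
    exact_mod_cast this
  rw [h0, hj, hj4, pow_add, pow_mul, h, mul_pow, pow_add, pow_add]
  ring

theorem ringI {Q : Type*} [CommRing Q] (x0 x1 x4 S : Q) (p q m : ℕ) (hpq : p < q)
    (h : x0 ^ (q - p) = x1 * x4) (hS : x0 ^ (m * p) * x1 ^ m = S) (d0 d1 d4 e0 e1 e4 r : ℕ)
    (h1 : (d0 : ℤ) - p * d1 + q * d4 = e0 - p * e1 + q * e4)
    (h2 : ((e4 : ℤ) - e1) - (d4 - d1) = m * r) :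
    x0 ^ d0 * x1 ^ d1 * x4 ^ d4 = S ^ r * (x0 ^ e0 * x1 ^ e1 * x4 ^ e4) := by
  have e : S ^ r * (x0 ^ e0 * x1 ^ e1 * x4 ^ e4) = x0 ^ (e0 + m * p * r) * x1 ^ (e1 + m * r) * x4 ^ e4 := by
    rw [← hS, mul_pow, ← pow_mul, ← pow_mul, pow_add, pow_add]; ring
  rw [e]
  have h3 : (d0 : ℤ) - p * d1 + q * d4 = ((e0 + m * p * r : ℕ) : ℤ) - p * ((e1 + m * r : ℕ) : ℤ) + q * e4 := by
    rw [h1]; push_cast; ring
  have h4 : (d4 : ℤ) - d1 = e4 - ((e1 + m * r : ℕ) : ℤ) := by push_cast; linarith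
  rcases le_total d1 (e1 + m * r) with hle | hle
  · exact ringI0 x0 x1 x4 p q hpq h _ _ _ _ _ _ hle h3 h4
  · exact (ringI0 x0 x1 x4 p q hpq h _ _ _ _ _ _ hle h3.symm h4.symm).symm

/-- Let k be an algebraically closed field, 0 < p < q coprime integers and m ≥ 1, and grade k[X₀,…,X₄]
by ℤ × ℤ/m, giving X₀ weight (1,0), X₁ and X₂ weight (−p,−1), and X₃ and X₄ weight (q,1). For s ∈ k
let I_s be the ideal (X₀^(q−p) − X₁X₄, X₂, X₃, s − X₀^(mp)X₁^m), whose generators are homogeneous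
(the last one of weight zero). Then for every weight ν the image in k[X₀,…,X₄]/I_s of the
homogeneous polynomials of weight ν is a k-vector space of dimension at most 1. (The published
statement asserts that this dimension equals 1 for every ν and every s, namely that the quotient has
the Hilbert function of the regular representation of the grading group; this row states the upper
bound, the half obtained from the monomial analysis of the weight pieces, while the lower bound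
there is drawn from the moduli interpretation of these ideals. The published statement is over the
complex numbers; this row takes any algebraically closed field, which is what the reduction to s =
0, 1 by rescaling the variables uses.) -/
theorem result (k : Type u) [Field k] [IsAlgClosed k] (p q m : ℕ) (hp : 0 < p) (hpq : p < q) (hcop : Nat.Coprime p q) (hm : 0 < m) (s : k) (ν : ℤ × ZMod m) :
    Module.rank k (W4c2invhilbsl2.piece k (W4c2invhilbsl2.wt5 p q m) (W4c2invhilbsl2.idealI k p q m s) ν) ≤ 1 := by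
  classical
  obtain ⟨I, hI⟩ : ∃ I, I = W4c2invhilbsl2.idealI k p q m s := ⟨_, rfl⟩
  have hx0 : Ideal.Quotient.mk I (MvPolynomial.X 0) ^ (q - p) =
      Ideal.Quotient.mk I (MvPolynomial.X 1) * Ideal.Quotient.mk I (MvPolynomial.X 4) := by
    rw [← map_pow, ← map_mul, ← sub_eq_zero, ← map_sub, Ideal.Quotient.eq_zero_iff_mem, hI]
    exact Ideal.subset_span (by simp)
  have hx2 : Ideal.Quotient.mk I (MvPolynomial.X 2) = 0 := by
    rw [Ideal.Quotient.eq_zero_iff_mem, hI]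
    exact Ideal.subset_span (by simp)
  have hx3 : Ideal.Quotient.mk I (MvPolynomial.X 3) = 0 := by
    rw [Ideal.Quotient.eq_zero_iff_mem, hI]
    exact Ideal.subset_span (by simp)
  have hs : Ideal.Quotient.mk I (MvPolynomial.X 0) ^ (m * p) * Ideal.Quotient.mk I (MvPolynomial.X 1) ^ m =
      Ideal.Quotient.mk I (MvPolynomial.C s) := by
    rw [← map_pow, ← map_pow, ← map_mul, eq_comm, ← sub_eq_zero, ← map_sub, Ideal.Quotient.eq_zero_iff_mem, hI]
    exact Ideal.subset_span (by simp)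
  have hz : ∀ d : Fin 5 →₀ ℕ, ¬ (d 2 = 0 ∧ d 3 = 0) →
      Ideal.Quotient.mk I (MvPolynomial.monomial d 1) = 0 := by
    intro d hd
    by_cases h2 : d 2 = 0
    swap
    · rw [mk_mon5, hx2, zero_pow h2]; simp
    by_cases h4 : d 3 = 0
    swap
    · rw [mk_mon5, hx3, zero_pow h4]; simp
    exact absurd ⟨h2, h4⟩ hd
  rw [← hI]
  clear hI hx2 hx3
  have hm' : (0 : ℤ) < m := by exact_mod_cast hm
  by_cases hex : ∃ d : Fin 5 →₀ ℕ, Finsupp.weight (W4c2invhilbsl2.wt5 p q m) d = ν ∧ d 2 = 0 ∧ d 3 = 0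
  · have hex2 : ∃ t : ℤ, ∃ d : Fin 5 →₀ ℕ, (Finsupp.weight (W4c2invhilbsl2.wt5 p q m) d = ν ∧ d 2 = 0 ∧ d 3 = 0) ∧ (d 4 : ℤ) - d 1 = t := by
      obtain ⟨d, hd⟩ := hex
      exact ⟨(d 4 : ℤ) - d 1, d, hd, rfl⟩
    have hbdd : ∃ b : ℤ, ∀ t : ℤ, (∃ d : Fin 5 →₀ ℕ, (Finsupp.weight (W4c2invhilbsl2.wt5 p q m) d = ν ∧ d 2 = 0 ∧ d 3 = 0) ∧ (d 4 : ℤ) - d 1 = t) → t ≤ b := by
      refine ⟨|ν.1|, ?_⟩
      rintro t ⟨d, ⟨hd, h2, h3⟩, ht⟩
      have h1 := congrArg Prod.fst hd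
      rw [weight5_fst, h2, h3] at h1
      have hab := le_abs_self ν.1
      have hp' : (0 : ℤ) < p := by exact_mod_cast hp
      have hpq' : (p : ℤ) < q := by exact_mod_cast hpq
      have d0 : (0 : ℤ) ≤ d 0 := Int.natCast_nonneg _
      have d1 : (0 : ℤ) ≤ d 1 := Int.natCast_nonneg _
      by_contra hcon
      push Not at hcon
      have habs : (0 : ℤ) ≤ |ν.1| := abs_nonneg _
      have h5 : (d 4 : ℤ) = t + d 1 := by linarith
      push_cast at h1
      rw [h5] at h1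
      have h6 : ν.1 = d 0 + (q - p) * d 1 + q * t := by rw [← h1]; ring
      have h7 : (0 : ℤ) ≤ ((q : ℤ) - p) * d 1 := mul_nonneg (by linarith) d1
      have h8 : t ≤ q * t := by nlinarith
      linarith
    obtain ⟨t, ⟨e, ⟨he, he2, he3⟩, het⟩, hmax⟩ := Int.exists_greatest_of_bdd hbdd hex2
    apply rank_piece_le_one _ _ _ (Ideal.Quotient.mk I (MvPolynomial.monomial e 1))
    intro d hd
    by_cases hP : d 2 = 0 ∧ d 3 = 0
    swap
    · exact ⟨0, by rw [hz d hP, zero_smul]⟩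
    obtain ⟨h2, h3⟩ := hP
    have hle := hmax _ ⟨d, ⟨hd, h2, h3⟩, rfl⟩
    obtain ⟨hw1, hw3⟩ := weight_dvd p q m d e (hd.trans he.symm)
    rw [h2, h3, he2, he3] at hw1 hw3
    obtain ⟨u, hu⟩ := hw3
    have hu2 : ((e 4 : ℤ) - e 1) - (d 4 - d 1) = m * (-u) := by
      have : ((d 4 : ℤ) - d 1) - (e 4 - e 1) = m * u := by simpa using hu
      linarith
    have hr : 0 ≤ -u := by
      by_contra hcon
      push Not at hcon
      have : (0 : ℤ) ≤ ((e 4 : ℤ) - e 1) - (d 4 - d 1) := by linarith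
      rw [hu2] at this
      nlinarith
    obtain ⟨r, hr'⟩ := Int.eq_ofNat_of_zero_le hr
    rw [hr'] at hu2
    refine ⟨s ^ r, ?_⟩
    rw [smul_mk, mk_mon5, mk_mon5, h2, h3, he2, he3, pow_zero, pow_zero, mul_one, mul_one, mul_one, mul_one]
    exact ringI _ _ _ _ p q m hpq hx0 hs _ _ _ _ _ _ r (by simpa using hw1) hu2
  · apply rank_piece_le_one _ _ _ 0
    intro d hd
    refine ⟨0, ?_⟩
    rw [smul_zero]
    apply hz
    rintro ⟨h2, h3⟩
    exact absurd ⟨d, hd, h2, h3⟩ hex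

end Groth.Agent.S15727
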