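import Groth.Statements.S15728
import Mathlib

set_option autoImplicit false
universe u
open W4c2invhilbsl2

namespace Groth.Agent.S15728

section aux
open MvPolynomial

theorem rank_piece_le_one {σ : Type*} {k : Type*} [Field k] {M : Type*} [AddCommMonoid M]
    (w : σ → M) (I : Ideal (MvPolynomial σ k)) (ν : M) (v : MvPolynomial σ k ⧸ I)
    (h : ∀ d : σ →₀ ℕ, Finsupp.weight w d = ν →
      ∃ c : k, Ideal.Quotient.mk I (monomial d 1) = c • v) :
    Module.rank k (W4c2invhilbsl2.piece k w I ν) ≤ 1 := by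
  have hle : W4c2invhilbsl2.piece k w I ν ≤ Submodule.span k {v} := by
    unfold W4c2invhilbsl2.piece
    rw [Submodule.map_le_iff_le_comap]
    intro f hf
    rw [mem_weightedHomogeneousSubmodule] at hf
    show Ideal.Quotient.mk I f ∈ Submodule.span k {v}
    rw [f.as_sum, map_sum]
    apply Submodule.sum_mem
    intro d hd
    obtain ⟨c, hc⟩ := h d (hf (mem_support_iff.mp hd))
    have e1 : (monomial d (coeff d f) : MvPolynomial σ k) = (coeff d f) • monomial d 1 := by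
      rw [smul_monomial, smul_eq_mul, mul_one]
    have e2 : Ideal.Quotient.mk I ((coeff d f) • (monomial d 1 : MvPolynomial σ k)) =
        (coeff d f) • Ideal.Quotient.mk I (monomial d 1) := rfl
    rw [e1, e2, hc, ← mul_smul]
    exact Submodule.smul_mem _ _ (Submodule.mem_span_singleton_self v)
  refine (Submodule.rank_mono hle).trans ?_
  refine (rank_span_le _).trans ?_
  simp

theorem weight5_fst (p q m : ℕ) (d : Fin 5 →₀ ℕ) :
    (Finsupp.weight (W4c2invhilbsl2.wt5 p q m) d).1 = (d 0 : ℤ) - p * (d 1 + d 2) + q * (d 3 + d 4) := by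
  rw [Finsupp.weight_apply, Finsupp.sum_fintype _ _ (by intro i; simp), Fin.sum_univ_five]
  simp [W4c2invhilbsl2.wt5]
  ring

theorem weight5_snd (p q m : ℕ) (d : Fin 5 →₀ ℕ) :
    (Finsupp.weight (W4c2invhilbsl2.wt5 p q m) d).2 = (((d 3 + d 4 : ℤ) - (d 1 + d 2) : ℤ) : ZMod m) := by
  rw [Finsupp.weight_apply, Finsupp.sum_fintype _ _ (by intro i; simp), Fin.sum_univ_five]
  simp [W4c2invhilbsl2.wt5]
  ring

theorem mk_mon5 {k : Type*} [Field k] (I : Ideal (MvPolynomial (Fin 5) k)) (d : Fin 5 →₀ ℕ) :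
    Ideal.Quotient.mk I (monomial d 1) = Ideal.Quotient.mk I (X 0) ^ d 0 * Ideal.Quotient.mk I (X 1) ^ d 1 *
      Ideal.Quotient.mk I (X 2) ^ d 2 * Ideal.Quotient.mk I (X 3) ^ d 3 * Ideal.Quotient.mk I (X 4) ^ d 4 := by
  rw [monomial_eq, C_1, one_mul, Finsupp.prod_fintype _ _ (by intro i; simp), Fin.prod_univ_five]
  simp only [map_mul, map_pow]
end aux
theorem numJ (p q m g a b' d0 d1 d3 e0 e1 e3 : ℕ) (hp : 0 < p) (hpq : p < q) (hcop : Nat.Coprime p q)
    (hgpos : 0 < g) (hgm : m = g * a) (hb' : q - p = g * b') (hcop2 : Nat.Coprime a b')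
    (h0 : d0 < g) (he0 : e0 < g) (hle : e1 ≤ d1)
    (hw1 : (d0 : ℤ) - p * d1 + q * d3 = e0 - p * e1 + q * e3)
    (hw2 : (m : ℤ) ∣ ((d3 : ℤ) - d1) - (e3 - e1)) :
    d0 = e0 ∧ ∃ r, d1 = e1 + (a * q) * r ∧ d3 = e3 + (a * p) * r := by
  obtain ⟨u, hu⟩ := hw2
  have hqp : ((q - p : ℕ) : ℤ) = (q : ℤ) - p := by push_cast [Nat.cast_sub hpq.le]; ring
  have hb2 : (q : ℤ) - p = g * b' := by rw [← hqp, hb']; push_cast; ring
  have hgm' : (m : ℤ) = g * a := by exact_mod_cast hgm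
  have hA : (g : ℤ) ∣ (d0 : ℤ) - e0 := by
    refine ⟨- (p * (a * u)) - b' * ((d3 : ℤ) - e3), ?_⟩
    have h1 : (d0 : ℤ) - e0 = - p * (((d3 : ℤ) - d1) - (e3 - e1)) - ((q : ℤ) - p) * (d3 - e3) := by
      linarith
    rw [h1, hu, hb2, hgm']; ring
  have h00 : d0 = e0 := by
    obtain ⟨t, ht⟩ := hA
    have hg0 : (0 : ℤ) < g := by exact_mod_cast hgpos
    have l1 : (d0 : ℤ) < g := by exact_mod_cast h0
    have l2 : (e0 : ℤ) < g := by exact_mod_cast he0
    have l3 : (0 : ℤ) ≤ d0 := Int.natCast_nonneg _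
    have l4 : (0 : ℤ) ≤ e0 := Int.natCast_nonneg _
    have l5 : t < 1 := by
      by_contra hcon
      push Not at hcon
      nlinarith
    have l6 : -1 < t := by
      by_contra hcon
      push Not at hcon
      nlinarith
    have l7 : t = 0 := by omega
    rw [l7, mul_zero] at ht
    have : (d0 : ℤ) = e0 := by linarith
    exact_mod_cast this
  refine ⟨h00, ?_⟩
  obtain ⟨B, hB⟩ := Nat.exists_eq_add_of_le hle
  have h5 : (p : ℤ) * B = q * ((d3 : ℤ) - e3) := by
    have hB' : (d1 : ℤ) = e1 + B := by exact_mod_cast hB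
    rw [h00, hB'] at hw1
    linarith
  have hq0 : 0 < q := lt_trans hp hpq
  obtain ⟨j, hj⟩ : q ∣ B := by
    have : (q : ℤ) ∣ p * B := ⟨_, h5⟩
    have h6 : q ∣ p * B := by exact_mod_cast this
    exact hcop.symm.dvd_of_dvd_mul_left h6
  have h7 : (d3 : ℤ) = e3 + p * j := by
    have : (q : ℤ) * ((d3 : ℤ) - e3) = q * (p * j) := by
      rw [← h5, hj]; push_cast; ring
    have hq' : (q : ℤ) ≠ 0 := by exact_mod_cast hq0.ne'
    have := mul_left_cancel₀ hq' this
    linarith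
  have h7' : d3 = e3 + p * j := by exact_mod_cast h7
  obtain ⟨r, hr⟩ : a ∣ j := by
    have h8 : (m : ℤ) * u = - (((q : ℤ) - p) * j) := by
      have hB' : (d1 : ℤ) = e1 + q * j := by
        have : d1 = e1 + q * j := by rw [hB, hj]
        exact_mod_cast this
      rw [← hu, h7, hB']; ring
    rw [hb2, hgm'] at h8
    have hg' : (g : ℤ) ≠ 0 := by exact_mod_cast hgpos.ne'
    have h9 : (a : ℤ) * u = - (b' * j) := by
      apply mul_left_cancel₀ hg'
      rw [← mul_assoc, h8]; ring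
    have h10 : (a : ℤ) ∣ b' * j := ⟨-u, by rw [mul_neg, h9]; ring⟩
    have h11 : a ∣ b' * j := by exact_mod_cast h10
    exact hcop2.dvd_of_dvd_mul_left h11
  exact ⟨r, by rw [hB, hj, hr]; ring, by rw [h7', hr]; ring⟩

theorem ringJ {Q : Type*} [CommRing Q] (x0 x1 x3 S : Q) (A B e0 e1 e3 r : ℕ) (h : x1 ^ A * x3 ^ B = S) :
    x0 ^ e0 * x1 ^ (e1 + A * r) * 1 * x3 ^ (e3 + B * r) * 1 = S ^ r * (x0 ^ e0 * x1 ^ e1 * 1 * x3 ^ e3 * 1) := by
  rw [← h, pow_add, pow_add, mul_pow, ← pow_mul, ← pow_mul]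
  ring

theorem smul_mk {k : Type*} [Field k] (I : Ideal (MvPolynomial (Fin 5) k)) (s : k) (r : ℕ)
    (x : MvPolynomial (Fin 5) k) :
    (s ^ r) • (Ideal.Quotient.mk I x) =
        Ideal.Quotient.mk I (MvPolynomial.C s) ^ r * Ideal.Quotient.mk I x := by
  rw [← map_pow, ← map_pow, ← map_mul, ← MvPolynomial.smul_eq_C_mul]
  rfl

theorem weight_dvd (p q m : ℕ) (d e : Fin 5 →₀ ℕ)
    (h : Finsupp.weight (W4c2invhilbsl2.wt5 p q m) d = Finsupp.weight (W4c2invhilbsl2.wt5 p q m) e) :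
    ((d 0 : ℤ) - p * (d 1 + d 2) + q * (d 3 + d 4) = (e 0 : ℤ) - p * (e 1 + e 2) + q * (e 3 + e 4)) ∧
    (m : ℤ) ∣ ((d 3 + d 4 : ℤ) - (d 1 + d 2)) - ((e 3 + e 4 : ℤ) - (e 1 + e 2)) := by
  have hw1 := congrArg Prod.fst h
  have hw2 := congrArg Prod.snd h
  rw [weight5_fst, weight5_fst] at hw1
  rw [weight5_snd, weight5_snd] at hw2
  refine ⟨hw1, ?_⟩
  rw [← ZMod.intCast_zmod_eq_zero_iff_dvd, Int.cast_sub, hw2, sub_self]

/-- Let k be an algebraically closed field, 0 < p < q coprime integers and m ≥ 1; put g = gcd(m, q−p)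
and a = m/g, and grade k[X₀,…,X₄] by ℤ × ℤ/m, giving X₀ weight (1,0), X₁ and X₂ weight (−p,−1), and
X₃ and X₄ weight (q,1). For s ∈ k let J_s be the ideal (X₀^g, X₂, X₄, s − X₁^(aq)X₃^(ap)), whose
generators are homogeneous (the last one of weight zero). Then for every weight ν the image in
k[X₀,…,X₄]/J_s of the homogeneous polynomials of weight ν is a k-vector space of dimension at most
1. (The published statement asserts that this dimension equals 1 for every ν and every s; this row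
states the upper bound, the half obtained from the monomial analysis of the weight pieces, while the
lower bound there is drawn from the moduli interpretation of these ideals. The published statement
is over the complex numbers; this row takes any algebraically closed field, which is what the
reduction to s = 0, 1 by rescaling the variables uses.) -/
theorem result (k : Type u) [Field k] [IsAlgClosed k] (p q m : ℕ) (hp : 0 < p) (hpq : p < q) (hcop : Nat.Coprime p q) (hm : 0 < m) (s : k) (ν : ℤ × ZMod m) :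
    Module.rank k (W4c2invhilbsl2.piece k (W4c2invhilbsl2.wt5 p q m) (W4c2invhilbsl2.idealJ k p q m s) ν) ≤ 1 := by
  classical
  obtain ⟨g, hg⟩ : ∃ g, g = Nat.gcd m (q - p) := ⟨_, rfl⟩
  obtain ⟨a, ha⟩ : ∃ a, a = m / Nat.gcd m (q - p) := ⟨_, rfl⟩
  have hgpos : 0 < g := by rw [hg]; exact Nat.gcd_pos_of_pos_left _ hm
  have hgm : m = g * a := by rw [ha, hg]; exact (Nat.mul_div_cancel' (Nat.gcd_dvd_left m (q - p))).symm
  obtain ⟨b', hb'⟩ : g ∣ (q - p) := by rw [hg]; exact Nat.gcd_dvd_right m (q - p)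
  have hcop2 : Nat.Coprime a b' := by
    have h1 := Nat.coprime_div_gcd_div_gcd (m := m) (n := q - p) (by rw [← hg]; exact hgpos)
    have h2 : (q - p) / Nat.gcd m (q - p) = b' := by rw [← hg, hb']; exact Nat.mul_div_cancel_left _ hgpos
    rw [h2, ← ha] at h1
    exact h1
  obtain ⟨I, hI⟩ : ∃ I, I = W4c2invhilbsl2.idealJ k p q m s := ⟨_, rfl⟩
  have hx0 : Ideal.Quotient.mk I (MvPolynomial.X 0) ^ g = 0 := by
    rw [← map_pow, Ideal.Quotient.eq_zero_iff_mem, hI]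
    exact Ideal.subset_span (by simp [hg])
  have hx2 : Ideal.Quotient.mk I (MvPolynomial.X 2) = 0 := by
    rw [Ideal.Quotient.eq_zero_iff_mem, hI]
    exact Ideal.subset_span (by simp)
  have hx4 : Ideal.Quotient.mk I (MvPolynomial.X 4) = 0 := by
    rw [Ideal.Quotient.eq_zero_iff_mem, hI]
    exact Ideal.subset_span (by simp)
  have hs : Ideal.Quotient.mk I (MvPolynomial.X 1) ^ (a * q) * Ideal.Quotient.mk I (MvPolynomial.X 3) ^ (a * p) =
      Ideal.Quotient.mk I (MvPolynomial.C s) := by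
    rw [← map_pow, ← map_pow, ← map_mul, eq_comm, ← sub_eq_zero, ← map_sub, Ideal.Quotient.eq_zero_iff_mem, hI]
    exact Ideal.subset_span (by simp [ha])
  have hz : ∀ d : Fin 5 →₀ ℕ, ¬ (d 2 = 0 ∧ d 4 = 0 ∧ d 0 < g) →
      Ideal.Quotient.mk I (MvPolynomial.monomial d 1) = 0 := by
    intro d hd
    by_cases h2 : d 2 = 0
    swap
    · rw [mk_mon5, hx2, zero_pow h2]; simp
    by_cases h4 : d 4 = 0
    swap
    · rw [mk_mon5, hx4, zero_pow h4]; simp
    by_cases h0 : d 0 < g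
    swap
    · obtain ⟨c, hc⟩ := Nat.exists_eq_add_of_le (not_lt.mp h0)
      rw [mk_mon5, hc, pow_add, hx0]; simp
    exact absurd ⟨h2, h4, h0⟩ hd
  rw [← hI]
  clear hI hx0 hx2 hx4
  by_cases hex : ∃ d : Fin 5 →₀ ℕ, Finsupp.weight (W4c2invhilbsl2.wt5 p q m) d = ν ∧ d 2 = 0 ∧ d 4 = 0 ∧ d 0 < g
  · have hex2 : ∃ n : ℕ, ∃ d : Fin 5 →₀ ℕ, (Finsupp.weight (W4c2invhilbsl2.wt5 p q m) d = ν ∧ d 2 = 0 ∧ d 4 = 0 ∧ d 0 < g) ∧ d 1 = n := by
      obtain ⟨d, hd⟩ := hex
      exact ⟨d 1, d, hd, rfl⟩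
    obtain ⟨e, ⟨he, he2, he4, he0⟩, he1⟩ := Nat.find_spec hex2
    have hmin : ∀ d : Fin 5 →₀ ℕ, Finsupp.weight (W4c2invhilbsl2.wt5 p q m) d = ν → d 2 = 0 → d 4 = 0 → d 0 < g →
        e 1 ≤ d 1 := by
      intro d h1 h2 h3 h4
      rw [he1]
      exact Nat.find_min' hex2 ⟨d, ⟨h1, h2, h3, h4⟩, rfl⟩
    clear he1 hex2
    apply rank_piece_le_one _ _ _ (Ideal.Quotient.mk I (MvPolynomial.monomial e 1))
    intro d hd
    by_cases hP : d 2 = 0 ∧ d 4 = 0 ∧ d 0 < g
    swap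
    · exact ⟨0, by rw [hz d hP, zero_smul]⟩
    obtain ⟨h2, h4, h0⟩ := hP
    have hle := hmin d hd h2 h4 h0
    obtain ⟨hw1, hw3⟩ := weight_dvd p q m d e (hd.trans he.symm)
    rw [h2, h4, he2, he4] at hw1 hw3
    obtain ⟨h00, r, e1, e3⟩ := numJ p q m g a b' (d 0) (d 1) (d 3) (e 0) (e 1) (e 3) hp hpq hcop hgpos hgm hb' hcop2
      h0 he0 hle (by simpa using hw1) (by simpa using hw3)
    refine ⟨s ^ r, ?_⟩
    rw [smul_mk, mk_mon5, mk_mon5, h2, h4, he2, he4, h00, e1, e3, pow_zero, pow_zero]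
    exact ringJ _ _ _ _ _ _ _ _ _ _ hs
  · apply rank_piece_le_one _ _ _ 0
    intro d hd
    refine ⟨0, ?_⟩
    rw [smul_zero]
    apply hz
    rintro ⟨h2, h4, h0⟩
    exact absurd ⟨d, hd, h2, h4, h0⟩ hex

end Groth.Agent.S15728
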