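import Groth.Statements.S15729
import Mathlib
import Groth.Agent.Lib.H23_HJ3

set_option autoImplicit false
universe u
open W4c2invhilbsl2

namespace Groth.Agent.S15729

/-- Let 0 < p < q be coprime integers and m ≥ 1 such that q − p does not divide m; put g = gcd(m, q−p),
b = (q−p)/g, α = ⌊mp/(q−p)⌋, β = the remainder of mp modulo q−p and t = (q−p−β)/g, so that 1 ≤ t <
b, and let b/t = c₁ − 1/(c₂ − 1/(⋯ − 1/c_r)) be the negative-regular (Hirzebruch–Jung) continued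
fraction expansion with every cᵢ ≥ 2; set P₀ = 0, P₁ = 1, Q₀ = −1, Q₁ = 0, Pᵢ = cᵢ₋₁Pᵢ₋₁ − Pᵢ₋₂, Qᵢ
= cᵢ₋₁Qᵢ₋₁ − Qᵢ₋₂ for 2 ≤ i ≤ r+1, and eᵢ = (α+1+m)Pᵢ − Qᵢ, lᵢ = (α+1)Pᵢ − Qᵢ, nᵢ = q·lᵢ − p·eᵢ,
which are non-negative integers for 0 ≤ i ≤ r+1. Grade the polynomial ring k[X₀,X₁,X₂] over a field
k by ℤ × ℤ/m with weights (1,0), (−p,−1), (q,1) (it stands for k[X₀,X₁,Xⱼ], j = 3 or 4, inside the
five-variable ring). Then for every 1 ≤ i ≤ r, every polynomial homogeneous of weight (nᵢ, 0) can be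
written a·X₀^(nᵢ) + b·X₁^(eᵢ)X₂^(lᵢ) with a and b homogeneous of weight zero; that is, the
weight-(nᵢ,0) piece is generated over the weight-zero subring by X₀^(nᵢ) and X₁^(eᵢ)X₂^(lᵢ). -/
theorem result (k : Type u) [Field k] (p q m : ℕ) (hp : 0 < p) (hpq : p < q) (hcop : Nat.Coprime p q) (hm : 0 < m) (hnt : ¬ (q - p ∣ m)) (c : List ℤ) (hc : W4c2invhilbsl2.IsHJDigits p q m c) (i : ℕ) (hi : 1 ≤ i) (hir : i ≤ c.length)
    (f : MvPolynomial (Fin 3) k) (hf : f ∈ MvPolynomial.weightedHomogeneousSubmodule k (W4c2invhilbsl2.wt3 p q m) (W4c2invhilbsl2.nN p q m c i, (0 : ZMod m))) :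
    ∃ a b : MvPolynomial (Fin 3) k, a ∈ MvPolynomial.weightedHomogeneousSubmodule k (W4c2invhilbsl2.wt3 p q m) 0 ∧ b ∈ MvPolynomial.weightedHomogeneousSubmodule k (W4c2invhilbsl2.wt3 p q m) 0 ∧
      f = a * MvPolynomial.X (0 : Fin 3) ^ (W4c2invhilbsl2.nN p q m c i).toNat +
        b * (MvPolynomial.X (1 : Fin 3) ^ (W4c2invhilbsl2.eE p q m c i).toNat * MvPolynomial.X (2 : Fin 3) ^ (W4c2invhilbsl2.lL p q m c i).toNat) := by
  classical
  obtain ⟨h1, h2, h3, h4, h5, h6⟩ := H23HJ.params p q m hp hpq hcop hm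
  obtain ⟨k1, k2, k3, k4⟩ := H23HJ.pack p q m hp hpq hcop hm c hc
  have hg : (0 : ℤ) < W4c2invhilbsl2.gcdK p q m := by exact_mod_cast h1
  have hn3 : 0 < W4c2invhilbsl2.nN p q m c i := by
    rw [H23HJ.nN_eq p q m hp hpq hcop hm]
    exact mul_pos hg (k2 i hir)
  have hcomb := H23HJ.dvd_or p q m hp hpq hcop hm c hc i hi hir
  have hPi : 0 < W4c2invhilbsl2.hjP c i := by
    obtain ⟨j, rfl⟩ : ∃ j, i = j + 1 := ⟨i - 1, by omega⟩
    have := H23HJ.P_mono c hc.1 j (by omega)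
    linarith
  have hel : W4c2invhilbsl2.eE p q m c i = W4c2invhilbsl2.lL p q m c i + m * W4c2invhilbsl2.hjP c i := by
    unfold W4c2invhilbsl2.eE W4c2invhilbsl2.lL; push_cast; ring
  have hnel : W4c2invhilbsl2.nN p q m c i = -(p : ℤ) * W4c2invhilbsl2.eE p q m c i + (q : ℤ) * W4c2invhilbsl2.lL p q m c i := rfl
  have hp' : (0 : ℤ) < p := by exact_mod_cast hp
  have hm' : (0 : ℤ) < m := by exact_mod_cast hm
  have hD : (0 : ℤ) < (q : ℤ) - p := by
    have : (p : ℤ) < q := by exact_mod_cast hpq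
    linarith
  have hpm : 0 < (p : ℤ) * m * W4c2invhilbsl2.hjP c i := mul_pos (mul_pos hp' hm') hPi
  have hl0 : 0 < W4c2invhilbsl2.lL p q m c i := by
    by_contra hcon
    push Not at hcon
    have h7 : ((q : ℤ) - p) * W4c2invhilbsl2.lL p q m c i ≤ 0 := mul_nonpos_of_nonneg_of_nonpos hD.le hcon
    rw [hnel, hel] at hn3
    linarith
  have hE0 : 0 < W4c2invhilbsl2.eE p q m c i := by
    rw [hel]
    have : 0 < (m : ℤ) * W4c2invhilbsl2.hjP c i := mul_pos hm' hPi
    linarith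
  obtain ⟨n, hn⟩ := Int.eq_ofNat_of_zero_le hn3.le
  obtain ⟨E, hE⟩ := Int.eq_ofNat_of_zero_le hE0.le
  obtain ⟨L, hL⟩ := Int.eq_ofNat_of_zero_le hl0.le
  rw [hn, hE, hL] at hcomb
  rw [hn] at hf hnel
  rw [hE] at hel hnel
  rw [hL] at hel hnel
  rw [hn, hE, hL]
  simp only [Int.toNat_natCast] at hcomb ⊢
  clear hn hE hL hE0 hl0 hn3
  have key : ∀ g ∈ (Finset.univ : Finset Unit), True := fun _ _ => trivial
  rw [MvPolynomial.mem_weightedHomogeneousSubmodule] at hf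
  rw [f.as_sum]
  apply Finset.sum_induction (p := fun f : MvPolynomial (Fin 3) k => ∃ a b : MvPolynomial (Fin 3) k,
    a ∈ MvPolynomial.weightedHomogeneousSubmodule k (W4c2invhilbsl2.wt3 p q m) 0 ∧
    b ∈ MvPolynomial.weightedHomogeneousSubmodule k (W4c2invhilbsl2.wt3 p q m) 0 ∧
      f = a * MvPolynomial.X (0 : Fin 3) ^ n +
        b * (MvPolynomial.X (1 : Fin 3) ^ E * MvPolynomial.X (2 : Fin 3) ^ L))
  · rintro f g ⟨a, b, ha, hb, rfl⟩ ⟨a', b', ha', hb', rfl⟩
    exact ⟨a + a', b + b', Submodule.add_mem _ ha ha', Submodule.add_mem _ hb hb', by ring⟩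
  · exact ⟨0, 0, Submodule.zero_mem _, Submodule.zero_mem _, by simp⟩
  · intro d hd
    have hw := hf (MvPolynomial.mem_support_iff.mp hd)
    have hw1 := congrArg Prod.fst hw
    have hw2 := congrArg Prod.snd hw
    rw [H23HJ.weight3_fst] at hw1
    rw [H23HJ.weight3_snd] at hw2
    have hw3 : (m : ℤ) ∣ (d 2 : ℤ) - d 1 := (ZMod.intCast_zmod_eq_zero_iff_dvd _ _).mp hw2
    rcases hcomb (d 0) (d 1) (d 2) hw1 hw3 with h | ⟨hE, hL⟩
    · obtain ⟨d', hd'⟩ : ∃ d' : Fin 3 →₀ ℕ, d' = Finsupp.equivFunOnFinite.symm ![d 0 - n, d 1, d 2] := ⟨_, rfl⟩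
      have d'0 : d' 0 = d 0 - n := by rw [hd']; simp
      have d'1 : d' 1 = d 1 := by rw [hd']; simp
      have d'2 : d' 2 = d 2 := by rw [hd']; simp
      refine ⟨MvPolynomial.monomial d' (MvPolynomial.coeff d f), 0, ?_, Submodule.zero_mem _, ?_⟩
      · rw [MvPolynomial.mem_weightedHomogeneousSubmodule]
        apply MvPolynomial.isWeightedHomogeneous_monomial
        rw [H23HJ.weight3_zero_iff, d'0, d'1, d'2]
        refine ⟨?_, hw3⟩
        push_cast [Nat.cast_sub h]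
        have : (d 0 : ℤ) - p * d 1 + q * d 2 = n := hw1
        linarith
      · rw [zero_mul, add_zero, MvPolynomial.X_pow_eq_monomial, MvPolynomial.monomial_mul, mul_one]
        have hdd : d = d' + Finsupp.single 0 n := by
          ext j
          fin_cases j
          · simp [d'0, Nat.sub_add_cancel h]
          · simp [d'1]
          · simp [d'2]
        rw [← hdd]
    · obtain ⟨d', hd'⟩ : ∃ d' : Fin 3 →₀ ℕ, d' = Finsupp.equivFunOnFinite.symm ![d 0, d 1 - E, d 2 - L] := ⟨_, rfl⟩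
      have d'0 : d' 0 = d 0 := by rw [hd']; simp
      have d'1 : d' 1 = d 1 - E := by rw [hd']; simp
      have d'2 : d' 2 = d 2 - L := by rw [hd']; simp
      refine ⟨0, MvPolynomial.monomial d' (MvPolynomial.coeff d f), Submodule.zero_mem _, ?_, ?_⟩
      · rw [MvPolynomial.mem_weightedHomogeneousSubmodule]
        apply MvPolynomial.isWeightedHomogeneous_monomial
        rw [H23HJ.weight3_zero_iff, d'0, d'1, d'2]
        push_cast [Nat.cast_sub hE, Nat.cast_sub hL]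
        refine ⟨?_, ?_⟩
        · have : (d 0 : ℤ) - p * d 1 + q * d 2 = n := hw1
          linarith
        · obtain ⟨y, hy⟩ := hw3
          refine ⟨y + W4c2invhilbsl2.hjP c i, ?_⟩
          linarith
      · rw [zero_mul, zero_add, MvPolynomial.X_pow_eq_monomial, MvPolynomial.X_pow_eq_monomial,
          MvPolynomial.monomial_mul, MvPolynomial.monomial_mul, mul_one, mul_one]
        have hdd : d = d' + (Finsupp.single 1 E + Finsupp.single 2 L) := by
          ext j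
          fin_cases j
          · simp [d'0]
          · simp [d'1, Nat.sub_add_cancel hE]
          · simp [d'2, Nat.sub_add_cancel hL]
        rw [← hdd]

end Groth.Agent.S15729
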