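import Groth.Statements.S15732
import Mathlib
import Groth.Agent.Lib.H23_HJ3

set_option autoImplicit false
universe u
open W4c2invhilbsl2

namespace Groth.Agent.S15732

section aux
theorem weight5_fst (p q m : ℕ) (d : Fin 5 →₀ ℕ) :
    (Finsupp.weight (W4c2invhilbsl2.wt5 p q m) d).1 = (d 0 : ℤ) - p * (d 1 + d 2) + q * (d 3 + d 4) := by
  rw [Finsupp.weight_apply, Finsupp.sum_fintype _ _ (by intro i; simp), Fin.sum_univ_five]
  simp [W4c2invhilbsl2.wt5]
  ring

theorem weight5_snd (p q m : ℕ) (d : Fin 5 →₀ ℕ) :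
    (Finsupp.weight (W4c2invhilbsl2.wt5 p q m) d).2 = (((d 3 + d 4 : ℤ) - (d 1 + d 2) : ℤ) : ZMod m) := by
  rw [Finsupp.weight_apply, Finsupp.sum_fintype _ _ (by intro i; simp), Fin.sum_univ_five]
  simp [W4c2invhilbsl2.wt5]
  ring

theorem weight5_zero (p q m : ℕ) (d : Fin 5 →₀ ℕ)
    (h1 : (d 0 : ℤ) - p * (d 1 + d 2) + q * (d 3 + d 4) = 0)
    (h2 : (m : ℤ) ∣ (d 3 + d 4 : ℤ) - (d 1 + d 2)) :
    Finsupp.weight (W4c2invhilbsl2.wt5 p q m) d = 0 := by
  rw [Prod.ext_iff, weight5_fst, weight5_snd]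
  exact ⟨h1, (ZMod.intCast_zmod_eq_zero_iff_dvd _ _).mpr h2⟩
end aux

/-- Let 0 < p < q be coprime integers and m ≥ 1 such that q − p does not divide m; put g = gcd(m, q−p),
b = (q−p)/g, α = ⌊mp/(q−p)⌋, β = the remainder of mp modulo q−p and t = (q−p−β)/g, so that 1 ≤ t <
b, and let b/t = c₁ − 1/(c₂ − 1/(⋯ − 1/c_r)) be the negative-regular (Hirzebruch–Jung) continued
fraction expansion with every cᵢ ≥ 2; set P₀ = 0, P₁ = 1, Q₀ = −1, Q₁ = 0, Pᵢ = cᵢ₋₁Pᵢ₋₁ − Pᵢ₋₂, Qᵢ
= cᵢ₋₁Qᵢ₋₁ − Qᵢ₋₂ for 2 ≤ i ≤ r+1, and eᵢ = (α+1+m)Pᵢ − Qᵢ, lᵢ = (α+1)Pᵢ − Qᵢ, nᵢ = q·lᵢ − p·eᵢ,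
which are non-negative integers for 0 ≤ i ≤ r+1. Grade the polynomial ring k[X₀,…,X₄] over a field k
by ℤ × ℤ/m, giving X₀ weight (1,0), X₁ and X₂ weight (−p,−1), and X₃ and X₄ weight (q,1). Then for
every 1 ≤ i ≤ r, modulo the principal ideal generated by X₀^(q−p) − X₁X₄ + X₂X₃ (an element
homogeneous of weight (q−p, 0)), every polynomial homogeneous of weight (nᵢ, 0) is congruent to a
combination a₀·X₀^(nᵢ) + Σ a_{e,l}·X₁^(eᵢ−e)X₂^e X₃^(lᵢ−l)X₄^l (sum over 0 ≤ e ≤ eᵢ, 0 ≤ l ≤ lᵢ)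
whose coefficients a₀, a_{e,l} are homogeneous of weight zero. Equivalently, in the coordinate ring
of the hypersurface the weight-(nᵢ,0) piece is generated over the weight-zero subring (the invariant
ring) by X₀^(nᵢ) together with the products of a degree-eᵢ monomial in X₁, X₂ and a degree-lᵢ
monomial in X₃, X₄. (The published statement is over the complex numbers; this row takes any field.) -/
theorem result (k : Type u) [Field k] (p q m : ℕ) (hp : 0 < p) (hpq : p < q) (hcop : Nat.Coprime p q) (hm : 0 < m) (hnt : ¬ (q - p ∣ m)) (c : List ℤ) (hc : W4c2invhilbsl2.IsHJDigits p q m c) (i : ℕ) (hi : 1 ≤ i) (hir : i ≤ c.length)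
    (f : MvPolynomial (Fin 5) k) (hf : f ∈ MvPolynomial.weightedHomogeneousSubmodule k (W4c2invhilbsl2.wt5 p q m) (W4c2invhilbsl2.nN p q m c i, (0 : ZMod m))) :
    ∃ (a₀ : MvPolynomial (Fin 5) k) (a : ℕ → ℕ → MvPolynomial (Fin 5) k),
      a₀ ∈ MvPolynomial.weightedHomogeneousSubmodule k (W4c2invhilbsl2.wt5 p q m) 0 ∧ (∀ e l : ℕ, a e l ∈ MvPolynomial.weightedHomogeneousSubmodule k (W4c2invhilbsl2.wt5 p q m) 0) ∧
      f - (a₀ * MvPolynomial.X (0 : Fin 5) ^ (W4c2invhilbsl2.nN p q m c i).toNat +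
          ∑ e ∈ Finset.range ((W4c2invhilbsl2.eE p q m c i).toNat + 1), ∑ l ∈ Finset.range ((W4c2invhilbsl2.lL p q m c i).toNat + 1),
            a e l * (MvPolynomial.X (1 : Fin 5) ^ ((W4c2invhilbsl2.eE p q m c i).toNat - e) * MvPolynomial.X (2 : Fin 5) ^ e *
              MvPolynomial.X (3 : Fin 5) ^ ((W4c2invhilbsl2.lL p q m c i).toNat - l) * MvPolynomial.X (4 : Fin 5) ^ l)) ∈
        Ideal.span {MvPolynomial.X (0 : Fin 5) ^ (q - p) - MvPolynomial.X 1 * MvPolynomial.X 4 + MvPolynomial.X 2 * MvPolynomial.X 3} := by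
  classical
  obtain ⟨h1, h2, h3, h4, h5, h6⟩ := H23HJ.params p q m hp hpq hcop hm
  obtain ⟨k1, k2, k3, k4⟩ := H23HJ.pack p q m hp hpq hcop hm c hc
  have hg : (0 : ℤ) < W4c2invhilbsl2.gcdK p q m := by exact_mod_cast h1
  have hn3 : 0 < W4c2invhilbsl2.nN p q m c i := by
    rw [H23HJ.nN_eq p q m hp hpq hcop hm]
    exact mul_pos hg (k2 i hir)
  have hcomb := H23HJ.dvd_or p q m hp hpq hcop hm c hc i hi hir
  have hPi : 0 < W4c2invhilbsl2.hjP c i := by
    obtain ⟨j, rfl⟩ : ∃ j, i = j + 1 := ⟨i - 1, by omega⟩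
    have := H23HJ.P_mono c hc.1 j (by omega)
    linarith
  have hel : W4c2invhilbsl2.eE p q m c i = W4c2invhilbsl2.lL p q m c i + m * W4c2invhilbsl2.hjP c i := by
    unfold W4c2invhilbsl2.eE W4c2invhilbsl2.lL; push_cast; ring
  have hnel : W4c2invhilbsl2.nN p q m c i = -(p : ℤ) * W4c2invhilbsl2.eE p q m c i + (q : ℤ) * W4c2invhilbsl2.lL p q m c i := rfl
  have hp' : (0 : ℤ) < p := by exact_mod_cast hp
  have hm' : (0 : ℤ) < m := by exact_mod_cast hm
  have hD : (0 : ℤ) < (q : ℤ) - p := by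
    have : (p : ℤ) < q := by exact_mod_cast hpq
    linarith
  have hpm : 0 < (p : ℤ) * m * W4c2invhilbsl2.hjP c i := mul_pos (mul_pos hp' hm') hPi
  have hl0 : 0 < W4c2invhilbsl2.lL p q m c i := by
    by_contra hcon
    push Not at hcon
    have h7 : ((q : ℤ) - p) * W4c2invhilbsl2.lL p q m c i ≤ 0 := mul_nonpos_of_nonneg_of_nonpos hD.le hcon
    rw [hnel, hel] at hn3
    linarith
  have hE0 : 0 < W4c2invhilbsl2.eE p q m c i := by
    rw [hel]
    have : 0 < (m : ℤ) * W4c2invhilbsl2.hjP c i := mul_pos hm' hPi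
    linarith
  obtain ⟨n, hn⟩ := Int.eq_ofNat_of_zero_le hn3.le
  obtain ⟨E, hE⟩ := Int.eq_ofNat_of_zero_le hE0.le
  obtain ⟨L, hL⟩ := Int.eq_ofNat_of_zero_le hl0.le
  rw [hn, hE, hL] at hcomb
  rw [hn] at hf hnel
  rw [hE] at hel hnel
  rw [hL] at hel hnel
  rw [hn, hE, hL]
  simp only [Int.toNat_natCast] at hcomb ⊢
  clear hn hE hL hE0 hl0 hn3
  rw [MvPolynomial.mem_weightedHomogeneousSubmodule] at hf
  suffices hmain : ∃ (a₀ : MvPolynomial (Fin 5) k) (a : ℕ → ℕ → MvPolynomial (Fin 5) k),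
      a₀ ∈ MvPolynomial.weightedHomogeneousSubmodule k (W4c2invhilbsl2.wt5 p q m) 0 ∧ (∀ e l : ℕ, a e l ∈ MvPolynomial.weightedHomogeneousSubmodule k (W4c2invhilbsl2.wt5 p q m) 0) ∧
      f = (a₀ * MvPolynomial.X (0 : Fin 5) ^ n +
          ∑ e ∈ Finset.range (E + 1), ∑ l ∈ Finset.range (L + 1),
            a e l * (MvPolynomial.X (1 : Fin 5) ^ (E - e) * MvPolynomial.X (2 : Fin 5) ^ e *
              MvPolynomial.X (3 : Fin 5) ^ (L - l) * MvPolynomial.X (4 : Fin 5) ^ l)) by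
    obtain ⟨a₀, a, ha₀, ha, hfa⟩ := hmain
    refine ⟨a₀, a, ha₀, ha, ?_⟩
    rw [← hfa, sub_self]
    exact Ideal.zero_mem _
  rw [f.as_sum]
  apply Finset.sum_induction (p := fun f : MvPolynomial (Fin 5) k => ∃ (a₀ : MvPolynomial (Fin 5) k) (a : ℕ → ℕ → MvPolynomial (Fin 5) k),
      a₀ ∈ MvPolynomial.weightedHomogeneousSubmodule k (W4c2invhilbsl2.wt5 p q m) 0 ∧ (∀ e l : ℕ, a e l ∈ MvPolynomial.weightedHomogeneousSubmodule k (W4c2invhilbsl2.wt5 p q m) 0) ∧
      f = (a₀ * MvPolynomial.X (0 : Fin 5) ^ n +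
          ∑ e ∈ Finset.range (E + 1), ∑ l ∈ Finset.range (L + 1),
            a e l * (MvPolynomial.X (1 : Fin 5) ^ (E - e) * MvPolynomial.X (2 : Fin 5) ^ e *
              MvPolynomial.X (3 : Fin 5) ^ (L - l) * MvPolynomial.X (4 : Fin 5) ^ l)))
  · rintro f g ⟨a₀, a, ha₀, ha, rfl⟩ ⟨b₀, b, hb₀, hb, rfl⟩
    refine ⟨a₀ + b₀, fun e l => a e l + b e l, Submodule.add_mem _ ha₀ hb₀, fun e l => Submodule.add_mem _ (ha e l) (hb e l), ?_⟩
    simp only [add_mul, Finset.sum_add_distrib]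
    ring
  · refine ⟨0, fun _ _ => 0, Submodule.zero_mem _, fun _ _ => Submodule.zero_mem _, by simp⟩
  · intro d hd
    have hw := hf (MvPolynomial.mem_support_iff.mp hd)
    have hw1 := congrArg Prod.fst hw
    have hw2 := congrArg Prod.snd hw
    rw [weight5_fst] at hw1
    rw [weight5_snd] at hw2
    have hw1' : (d 0 : ℤ) - p * (d 1 + d 2) + q * (d 3 + d 4) = n := hw1
    have hw3 : (m : ℤ) ∣ (d 3 + d 4 : ℤ) - (d 1 + d 2) := (ZMod.intCast_zmod_eq_zero_iff_dvd _ _).mp hw2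
    rcases hcomb (d 0) (d 1 + d 2) (d 3 + d 4) (by push_cast; exact hw1) (by push_cast; exact hw3) with h | ⟨hE, hL⟩
    · obtain ⟨d', hd'⟩ : ∃ d' : Fin 5 →₀ ℕ, d' = Finsupp.equivFunOnFinite.symm ![d 0 - n, d 1, d 2, d 3, d 4] := ⟨_, rfl⟩
      have d'0 : d' 0 = d 0 - n := by rw [hd']; simp
      have d'1 : d' 1 = d 1 := by rw [hd']; simp
      have d'2 : d' 2 = d 2 := by rw [hd']; simp
      have d'3 : d' 3 = d 3 := by rw [hd']; simp
      have d'4 : d' 4 = d 4 := by rw [hd']; simp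
      refine ⟨MvPolynomial.monomial d' (MvPolynomial.coeff d f), fun _ _ => 0, ?_, fun _ _ => Submodule.zero_mem _, ?_⟩
      · rw [MvPolynomial.mem_weightedHomogeneousSubmodule]
        apply MvPolynomial.isWeightedHomogeneous_monomial
        apply weight5_zero
        · rw [d'0, d'1, d'2, d'3, d'4]
          push_cast [Nat.cast_sub h]
          linarith
        · rw [d'1, d'2, d'3, d'4]; exact hw3
      · simp only [zero_mul, Finset.sum_const_zero, add_zero]
        rw [MvPolynomial.X_pow_eq_monomial, MvPolynomial.monomial_mul, mul_one]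
        have hdd : d = d' + Finsupp.single 0 n := by
          ext j
          fin_cases j
          · simp [d'0, Nat.sub_add_cancel h]
          · simp [d'1]
          · simp [d'2]
          · simp [d'3]
          · simp [d'4]
        rw [← hdd]
    · obtain ⟨e1, he1⟩ : ∃ e1, e1 = min E (d 1) := ⟨_, rfl⟩
      obtain ⟨l1, hl1⟩ : ∃ l1, l1 = min L (d 3) := ⟨_, rfl⟩
      have he2 : e1 ≤ E := by omega
      have he3 : e1 ≤ d 1 := by omega
      have he4 : E - e1 ≤ d 2 := by omega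
      have hl2 : l1 ≤ L := by omega
      have hl3 : l1 ≤ d 3 := by omega
      have hl4 : L - l1 ≤ d 4 := by omega
      obtain ⟨d', hd'⟩ : ∃ d' : Fin 5 →₀ ℕ, d' = Finsupp.equivFunOnFinite.symm ![d 0, d 1 - e1, d 2 - (E - e1), d 3 - l1, d 4 - (L - l1)] := ⟨_, rfl⟩
      have d'0 : d' 0 = d 0 := by rw [hd']; simp
      have d'1 : d' 1 = d 1 - e1 := by rw [hd']; simp
      have d'2 : d' 2 = d 2 - (E - e1) := by rw [hd']; simp
      have d'3 : d' 3 = d 3 - l1 := by rw [hd']; simp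
      have d'4 : d' 4 = d 4 - (L - l1) := by rw [hd']; simp
      have hmem : MvPolynomial.monomial d' (MvPolynomial.coeff d f) ∈
          MvPolynomial.weightedHomogeneousSubmodule k (W4c2invhilbsl2.wt5 p q m) 0 := by
        rw [MvPolynomial.mem_weightedHomogeneousSubmodule]
        apply MvPolynomial.isWeightedHomogeneous_monomial
        apply weight5_zero
        · rw [d'0, d'1, d'2, d'3, d'4]
          push_cast [Nat.cast_sub he2, Nat.cast_sub he3, Nat.cast_sub he4, Nat.cast_sub hl2, Nat.cast_sub hl3, Nat.cast_sub hl4]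
          linarith
        · rw [d'1, d'2, d'3, d'4]
          push_cast [Nat.cast_sub he2, Nat.cast_sub he3, Nat.cast_sub he4, Nat.cast_sub hl2, Nat.cast_sub hl3, Nat.cast_sub hl4]
          obtain ⟨y, hy⟩ := hw3
          refine ⟨y + W4c2invhilbsl2.hjP c i, ?_⟩
          linarith
      refine ⟨0, fun e l => if e = E - e1 ∧ l = L - l1 then MvPolynomial.monomial d' (MvPolynomial.coeff d f) else 0,
        Submodule.zero_mem _, ?_, ?_⟩
      · intro e l
        show (if e = E - e1 ∧ l = L - l1 then MvPolynomial.monomial d' (MvPolynomial.coeff d f) else 0) ∈ _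
        split_ifs
        · exact hmem
        · exact Submodule.zero_mem _
      · rw [zero_mul, zero_add, Finset.sum_eq_single (E - e1), Finset.sum_eq_single (L - l1)]
        · beta_reduce
          rw [if_pos ⟨rfl, rfl⟩, MvPolynomial.X_pow_eq_monomial, MvPolynomial.X_pow_eq_monomial,
            MvPolynomial.X_pow_eq_monomial, MvPolynomial.X_pow_eq_monomial,
            MvPolynomial.monomial_mul, MvPolynomial.monomial_mul, MvPolynomial.monomial_mul, MvPolynomial.monomial_mul,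
            mul_one, mul_one, mul_one, mul_one]
          have hdd : d = d' + (Finsupp.single 1 (E - (E - e1)) + Finsupp.single 2 (E - e1) + Finsupp.single 3 (L - (L - l1)) + Finsupp.single 4 (L - l1)) := by
            ext j
            fin_cases j
            · simp [d'0]
            · simp [d'1]; omega
            · simp [d'2]; omega
            · simp [d'3]; omega
            · simp [d'4]; omega
          rw [← hdd]
        · intro l _ hl
          beta_reduce
          rw [if_neg (fun h => hl h.2), zero_mul]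
        · intro h
          exact absurd (Finset.mem_range.mpr (by omega)) h
        · intro e _ he
          apply Finset.sum_eq_zero
          intro l _
          beta_reduce
          rw [if_neg (fun h => he h.1), zero_mul]
        · intro h
          exact absurd (Finset.mem_range.mpr (by omega)) h

end Groth.Agent.S15732
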