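import Groth.Statements.S15733
import Mathlib
import Groth.Agent.Lib.H23_HJ

set_option autoImplicit false
open W4c2invhilbsl2

namespace Groth.Agent.S15733

/-- Let 0 < p < q be coprime integers and m ≥ 1 such that q − p does not divide m; put g = gcd(m, q−p),
b = (q−p)/g, α = ⌊mp/(q−p)⌋, β = the remainder of mp modulo q−p and t = (q−p−β)/g, so that 1 ≤ t <
b, and let b/t = c₁ − 1/(c₂ − 1/(⋯ − 1/c_r)) be the negative-regular (Hirzebruch–Jung) continued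
fraction expansion with every cᵢ ≥ 2; set P₀ = 0, P₁ = 1, Q₀ = −1, Q₁ = 0, Pᵢ = cᵢ₋₁Pᵢ₋₁ − Pᵢ₋₂, Qᵢ
= cᵢ₋₁Qᵢ₋₁ − Qᵢ₋₂ for 2 ≤ i ≤ r+1, and eᵢ = (α+1+m)Pᵢ − Qᵢ, lᵢ = (α+1)Pᵢ − Qᵢ, nᵢ = q·lᵢ − p·eᵢ,
which are non-negative integers for 0 ≤ i ≤ r+1. Then for every 1 < i ≤ r and every integer x with 0
< x < Pᵢ, the remainder of pmx + nᵢ on division by q − p equals nᵢ plus the remainder of pmx on
division by q − p (in particular nᵢ + (pmx mod (q−p)) < q − p). -/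
theorem result (p q m : ℕ) (hp : 0 < p) (hpq : p < q) (hcop : Nat.Coprime p q) (hm : 0 < m) (hnt : ¬ (q - p ∣ m)) (c : List ℤ) (hc : W4c2invhilbsl2.IsHJDigits p q m c) (i : ℕ) (hi : 1 < i) (hir : i ≤ c.length)
    (x : ℤ) (hx0 : 0 < x) (hx : x < W4c2invhilbsl2.hjP c i) :
    Int.emod ((p : ℤ) * m * x + W4c2invhilbsl2.nN p q m c i) ((q : ℤ) - p) = W4c2invhilbsl2.nN p q m c i + Int.emod ((p : ℤ) * m * x) ((q : ℤ) - p) := by
  obtain ⟨h1, h2, h3, h4, h5, h6⟩ := H23HJ.params p q m hp hpq hcop hm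
  obtain ⟨k1, k2, k3, k4⟩ := H23HJ.pack p q m hp hpq hcop hm c hc
  have hg : (0 : ℤ) < W4c2invhilbsl2.gcdK p q m := by exact_mod_cast h1
  have hb : (0 : ℤ) < W4c2invhilbsl2.bB p q m := by exact_mod_cast h2
  have hl1 := H23HJ.bounds p q m hp hpq hcop hm c hc i hi hir x hx0 hx
  have hT0 := k2 i hir
  have hTlt : H23HJ.TT (W4c2invhilbsl2.bB p q m) (W4c2invhilbsl2.tT p q m) c i <
      H23HJ.TT (W4c2invhilbsl2.bB p q m) (W4c2invhilbsl2.tT p q m) c (i - 1) := by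
    obtain ⟨j, rfl⟩ : ∃ j, i = j + 1 := ⟨i - 1, by omega⟩
    exact k1 j (by omega)
  show ((p : ℤ) * m * x + W4c2invhilbsl2.nN p q m c i) % ((q : ℤ) - p) =
    W4c2invhilbsl2.nN p q m c i + ((p : ℤ) * m * x) % ((q : ℤ) - p)
  rw [H23HJ.nN_eq p q m hp hpq hcop hm, h4]
  have hb1 := Int.emod_lt_of_pos ((W4c2invhilbsl2.tT p q m : ℤ) * x) hb
  have e1 := Int.emod_add_mul_ediv ((W4c2invhilbsl2.tT p q m : ℤ) * x) (W4c2invhilbsl2.bB p q m : ℤ)
  set g := (W4c2invhilbsl2.gcdK p q m : ℤ)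
  set b := (W4c2invhilbsl2.bB p q m : ℤ)
  set t := (W4c2invhilbsl2.tT p q m : ℤ)
  set ρ := (t * x) % b
  set z := (t * x) / b
  set A := ((W4c2invhilbsl2.alpha p q m + 1 : ℕ) : ℤ)
  have e2 : (p : ℤ) * m * x = g * (b - ρ) + (g * b) * (A * x - z - 1) := by
    have : (p : ℤ) * m = A * (g * b) - g * t := by rw [← h4]; linarith
    rw [this]
    have e3 : g * (t * x) = g * (ρ + b * z) := by rw [e1]
    linarith
  have hmod : ((p : ℤ) * m * x) % (g * b) = g * (b - ρ) := by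
    rw [e2, Int.add_mul_emod_self_left]
    apply Int.emod_eq_of_lt
    · exact mul_nonneg hg.le (by linarith)
    · exact mul_lt_mul_of_pos_left (by linarith) hg
  rw [hmod]
  have e5 : (p : ℤ) * m * x + g * H23HJ.TT b t c i = g * (H23HJ.TT b t c i + (b - ρ)) + (g * b) * (A * x - z - 1) := by
    rw [e2]; ring
  rw [e5, Int.add_mul_emod_self_left, Int.emod_eq_of_lt]
  · ring
  · exact mul_nonneg hg.le (by linarith)
  · exact mul_lt_mul_of_pos_left (by linarith) hg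

end Groth.Agent.S15733
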