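import Groth.Statements.S15734
import Mathlib
import Groth.Agent.Lib.H23_HJ

set_option autoImplicit false
open W4c2invhilbsl2

namespace Groth.Agent.S15734

/-- Let 0 < p < q be coprime integers and m ≥ 1 such that q − p does not divide m; put g = gcd(m, q−p),
b = (q−p)/g, α = ⌊mp/(q−p)⌋, β = the remainder of mp modulo q−p and t = (q−p−β)/g, so that 1 ≤ t <
b, and let b/t = c₁ − 1/(c₂ − 1/(⋯ − 1/c_r)) be the negative-regular (Hirzebruch–Jung) continued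
fraction expansion with every cᵢ ≥ 2; set P₀ = 0, P₁ = 1, Q₀ = −1, Q₁ = 0, Pᵢ = cᵢ₋₁Pᵢ₋₁ − Pᵢ₋₂, Qᵢ
= cᵢ₋₁Qᵢ₋₁ − Qᵢ₋₂ for 2 ≤ i ≤ r+1, and eᵢ = (α+1+m)Pᵢ − Qᵢ, lᵢ = (α+1)Pᵢ − Qᵢ, nᵢ = q·lᵢ − p·eᵢ, and
write tᵢ for the integer quotient of nᵢ by g (the eᵢ, lᵢ, nᵢ are non-negative and g divides every
nᵢ, so tᵢ = nᵢ/g and t₁ = t, but these facts are not part of this row). Then (a) for every 1 ≤ i ≤ r
the remainder of t·Pᵢ on division by b equals tᵢ, and (b) for every 1 < i ≤ r and every integer x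
with 0 < x < Pᵢ the remainder ρ of t·x on division by b satisfies tᵢ₋₁ ≤ ρ ≤ b + tᵢ − tᵢ₋₁. -/
theorem result (p q m : ℕ) (hp : 0 < p) (hpq : p < q) (hcop : Nat.Coprime p q) (hm : 0 < m) (hnt : ¬ (q - p ∣ m)) (c : List ℤ) (hc : W4c2invhilbsl2.IsHJDigits p q m c) :
    (∀ i : ℕ, 1 ≤ i → i ≤ c.length →
      Int.emod ((W4c2invhilbsl2.tT p q m : ℤ) * W4c2invhilbsl2.hjP c i) (W4c2invhilbsl2.bB p q m : ℤ) = W4c2invhilbsl2.nN p q m c i / (W4c2invhilbsl2.gcdK p q m : ℤ)) ∧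
    (∀ i : ℕ, 1 < i → i ≤ c.length → ∀ x : ℤ, 0 < x → x < W4c2invhilbsl2.hjP c i →
      W4c2invhilbsl2.nN p q m c (i - 1) / (W4c2invhilbsl2.gcdK p q m : ℤ) ≤ Int.emod ((W4c2invhilbsl2.tT p q m : ℤ) * x) (W4c2invhilbsl2.bB p q m : ℤ) ∧
      Int.emod ((W4c2invhilbsl2.tT p q m : ℤ) * x) (W4c2invhilbsl2.bB p q m : ℤ) ≤
        (W4c2invhilbsl2.bB p q m : ℤ) + W4c2invhilbsl2.nN p q m c i / (W4c2invhilbsl2.gcdK p q m : ℤ) - W4c2invhilbsl2.nN p q m c (i - 1) / (W4c2invhilbsl2.gcdK p q m : ℤ)) := by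
  obtain ⟨h1, h2, h3, h4, h5, h6⟩ := H23HJ.params p q m hp hpq hcop hm
  obtain ⟨k1, k2, k3, k4⟩ := H23HJ.pack p q m hp hpq hcop hm c hc
  have hg : (0 : ℤ) < W4c2invhilbsl2.gcdK p q m := by exact_mod_cast h1
  have hb : (0 : ℤ) < W4c2invhilbsl2.bB p q m := by exact_mod_cast h2
  have hn : ∀ i, W4c2invhilbsl2.nN p q m c i / (W4c2invhilbsl2.gcdK p q m : ℤ) =
      H23HJ.TT (W4c2invhilbsl2.bB p q m) (W4c2invhilbsl2.tT p q m) c i := by
    intro i
    rw [H23HJ.nN_eq p q m hp hpq hcop hm, Int.mul_ediv_cancel_left _ hg.ne']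
  constructor
  · intro i hi hir
    rw [hn]
    exact H23HJ.emod_P p q m hp hpq hcop hm c hc i hi hir
  · intro i hi hir x hx0 hx
    have hl1 := H23HJ.bounds p q m hp hpq hcop hm c hc i hi hir x hx0 hx
    have hl2 := H23HJ.bounds p q m hp hpq hcop hm c hc i hi hir (W4c2invhilbsl2.hjP c i - x) (by linarith) (by linarith)
    have hP := H23HJ.emod_P p q m hp hpq hcop hm c hc i (by omega) hir
    have hT0 := k2 i hir
    have hTlt : H23HJ.TT (W4c2invhilbsl2.bB p q m) (W4c2invhilbsl2.tT p q m) c i <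
        H23HJ.TT (W4c2invhilbsl2.bB p q m) (W4c2invhilbsl2.tT p q m) c (i - 1) := by
      obtain ⟨j, rfl⟩ : ∃ j, i = j + 1 := ⟨i - 1, by omega⟩
      exact k1 j (by omega)
    rw [hn, hn]
    refine ⟨hl1, ?_⟩
    show ((W4c2invhilbsl2.tT p q m : ℤ) * x) % (W4c2invhilbsl2.bB p q m : ℤ) ≤ _
    set b := (W4c2invhilbsl2.bB p q m : ℤ)
    set t := (W4c2invhilbsl2.tT p q m : ℤ)
    set P := W4c2invhilbsl2.hjP c i
    have e1 := Int.emod_add_mul_ediv (t * x) b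
    have e2 := Int.emod_add_mul_ediv (t * (P - x)) b
    have e3 := Int.emod_add_mul_ediv (t * P) b
    rw [hP] at e3
    have b1 := Int.emod_lt_of_pos (t * x) hb
    have b2 := Int.emod_lt_of_pos (t * (P - x)) hb
    set ρ := (t * x) % b
    set ρ' := (t * (P - x)) % b
    have e4 : ρ + ρ' = H23HJ.TT b t c i + b * ((t * P) / b - (t * x) / b - (t * (P - x)) / b) := by
      have : t * P = t * x + t * (P - x) := by ring
      linarith
    set k := (t * P) / b - (t * x) / b - (t * (P - x)) / b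
    have hk1 : 0 < k := by
      by_contra hcon
      push Not at hcon
      have : b * k ≤ 0 := mul_nonpos_of_nonneg_of_nonpos hb.le hcon
      linarith
    have hk2 : k < 2 := by
      by_contra hcon
      push Not at hcon
      have : b * 2 ≤ b * k := mul_le_mul_of_nonneg_left hcon hb.le
      linarith
    have hk : k = 1 := by omega
    rw [hk, mul_one] at e4
    linarith

end Groth.Agent.S15734
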