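import Groth.Statements.S15737
import Mathlib.Tactic

set_option autoImplicit false
open W4c2invhilbsl2

namespace Groth.Agent.S15737

/-- For a monomial X₀^d₀X₁^d₁X₂^d₂ of the polynomial ring in X₀, X₁, X₂ (X₂ standing for Xⱼ, j = 3 or 4,
of the five-variable ring) put n = d₀ − p·d₁ + q·d₂ (its weight for the torus diag(t, t^(−p), t^q)),
c = d₁ − d₂ and ω = p·d₁ − q·d₂, so that d₀ = n + ω; here 0 < p < q are coprime integers. Then n + ω
< q − p, that is d₀ < q − p, holds if and only if ω is the least value of ω among all monomials with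
the same pair (n, c). -/
theorem result (p q : ℕ) (hp : 0 < p) (hpq : p < q) (hcop : Nat.Coprime p q) (d0 d1 d2 : ℕ) :
    d0 < q - p ↔
      ∀ e0 e1 e2 : ℕ, (e0 : ℤ) - (p : ℤ) * e1 + (q : ℤ) * e2 = (d0 : ℤ) - (p : ℤ) * d1 + (q : ℤ) * d2 → (e1 : ℤ) - e2 = (d1 : ℤ) - d2 →
        (p : ℤ) * d1 - (q : ℤ) * d2 ≤ (p : ℤ) * e1 - (q : ℤ) * e2 := by
  have hp' : (0:ℤ) < p := by exact_mod_cast hp
  have hpq' : (p:ℤ) < q := by exact_mod_cast hpq
  constructor
  · intro hd e0 e1 e2 h1 h2
    have hd' : (d0:ℤ) < (q:ℤ) - p := by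
      have : (d0:ℤ) < ((q - p : ℕ) : ℤ) := by exact_mod_cast hd
      rwa [Nat.cast_sub hpq.le] at this
    have he0 : (0:ℤ) ≤ e0 := Int.natCast_nonneg _
    by_contra hcon
    push Not at hcon
    have ht : (e0:ℤ) < d0 := by linarith
    have h3 : (d0:ℤ) - e0 = ((q:ℤ) - p) * (e2 - d2) := by
      have : (e1:ℤ) = d1 - d2 + e2 := by linarith
      rw [this] at h1
      linarith
    have h4 : (0:ℤ) < e2 - d2 := by
      by_contra h5
      push Not at h5
      nlinarith
    have h6 : (1:ℤ) ≤ e2 - d2 := h4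
    nlinarith
  · intro h
    by_contra hcon
    push Not at hcon
    have h1 := h (d0 - (q - p)) (d1 + 1) (d2 + 1) (by
      push_cast [Nat.cast_sub hcon, Nat.cast_sub hpq.le]
      ring) (by push_cast; ring)
    push_cast at h1
    linarith

end Groth.Agent.S15737
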