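import Groth.Statements.S15738
import Mathlib

set_option autoImplicit false
universe u
open W4c2invhilbsl2

namespace Groth.Agent.S15738

theorem ringI0 {Q : Type*} [CommRing Q] (x0 x1 x4 : Q) (p q : ℕ) (hpq : p < q)
    (h : x0 ^ (q - p) = x1 * x4) (d0 d1 d4 e0 e1 e4 : ℕ) (hle : d1 ≤ e1)
    (h1 : (d0 : ℤ) - p * d1 + q * d4 = e0 - p * e1 + q * e4)
    (h2 : (d4 : ℤ) - d1 = e4 - e1) :
    x0 ^ d0 * x1 ^ d1 * x4 ^ d4 = x0 ^ e0 * x1 ^ e1 * x4 ^ e4 := by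
  obtain ⟨j, hj⟩ := Nat.exists_eq_add_of_le hle
  have hj' : (e1 : ℤ) = d1 + j := by exact_mod_cast hj
  have hj4 : e4 = d4 + j := by
    have : (e4 : ℤ) = d4 + j := by linarith
    exact_mod_cast this
  have hqp : ((q - p : ℕ) : ℤ) = (q : ℤ) - p := by push_cast [Nat.cast_sub hpq.le]; ring
  have h0 : d0 = e0 + (q - p) * j := by
    have : (d0 : ℤ) = e0 + ((q - p : ℕ) : ℤ) * j := by
      rw [hqp]
      have h4' : (e4 : ℤ) = d4 + j := by exact_mod_cast hj4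
      rw [hj', h4'] at h1
      linarith
    exact_mod_cast this
  rw [h0, hj, hj4, pow_add, pow_mul, h, mul_pow, pow_add, pow_add]
  ring

theorem ringI {Q : Type*} [CommRing Q] (x0 x1 x4 S : Q) (p q m : ℕ) (hpq : p < q)
    (h : x0 ^ (q - p) = x1 * x4) (hS : x0 ^ (m * p) * x1 ^ m = S) (d0 d1 d4 e0 e1 e4 r : ℕ)
    (h1 : (d0 : ℤ) - p * d1 + q * d4 = e0 - p * e1 + q * e4)
    (h2 : ((e4 : ℤ) - e1) - (d4 - d1) = m * r) :
    x0 ^ d0 * x1 ^ d1 * x4 ^ d4 = S ^ r * (x0 ^ e0 * x1 ^ e1 * x4 ^ e4) := by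
  have e : S ^ r * (x0 ^ e0 * x1 ^ e1 * x4 ^ e4) = x0 ^ (e0 + m * p * r) * x1 ^ (e1 + m * r) * x4 ^ e4 := by
    rw [← hS, mul_pow, ← pow_mul, ← pow_mul, pow_add, pow_add]; ring
  rw [e]
  have h3 : (d0 : ℤ) - p * d1 + q * d4 = ((e0 + m * p * r : ℕ) : ℤ) - p * ((e1 + m * r : ℕ) : ℤ) + q * e4 := by
    rw [h1]; push_cast; ring
  have h4 : (d4 : ℤ) - d1 = e4 - ((e1 + m * r : ℕ) : ℤ) := by push_cast; linarith
  rcases le_total d1 (e1 + m * r) with hle | hle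
  · exact ringI0 x0 x1 x4 p q hpq h _ _ _ _ _ _ hle h3 h4
  · exact (ringI0 x0 x1 x4 p q hpq h _ _ _ _ _ _ hle h3.symm h4.symm).symm

theorem mk_eq (k : Type*) [Field k] (I : Ideal (MvPolynomial (Fin 3) k)) (p q m : ℕ) (hpq : p < q) (s : k)
    (hx : (MvPolynomial.X (0 : Fin 3) ^ (q - p) - MvPolynomial.X (1 : Fin 3) * MvPolynomial.X (2 : Fin 3) : MvPolynomial (Fin 3) k) ∈ I)
    (hs : (MvPolynomial.C s - MvPolynomial.X (0 : Fin 3) ^ (m * p) * MvPolynomial.X (1 : Fin 3) ^ m : MvPolynomial (Fin 3) k) ∈ I)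
    (d0 d1 d2 e0 e1 e2 r : ℕ)
    (h1 : (d0 : ℤ) - p * d1 + q * d2 = e0 - p * e1 + q * e2)
    (h2 : ((e2 : ℤ) - e1) - (d2 - d1) = m * r) :
    Ideal.Quotient.mk I (MvPolynomial.X (0 : Fin 3) ^ d0 * MvPolynomial.X (1 : Fin 3) ^ d1 * MvPolynomial.X (2 : Fin 3) ^ d2) =
      Ideal.Quotient.mk I (MvPolynomial.C s) ^ r *
        Ideal.Quotient.mk I (MvPolynomial.X (0 : Fin 3) ^ e0 * MvPolynomial.X (1 : Fin 3) ^ e1 * MvPolynomial.X (2 : Fin 3) ^ e2) := by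
  have hx0 : Ideal.Quotient.mk I (MvPolynomial.X 0) ^ (q - p) =
      Ideal.Quotient.mk I (MvPolynomial.X 1) * Ideal.Quotient.mk I (MvPolynomial.X 2) := by
    rw [← map_pow, ← map_mul, ← sub_eq_zero, ← map_sub, Ideal.Quotient.eq_zero_iff_mem]
    exact hx
  have hs' : Ideal.Quotient.mk I (MvPolynomial.X 0) ^ (m * p) * Ideal.Quotient.mk I (MvPolynomial.X 1) ^ m =
      Ideal.Quotient.mk I (MvPolynomial.C s) := by
    rw [← map_pow, ← map_pow, ← map_mul, eq_comm, ← sub_eq_zero, ← map_sub, Ideal.Quotient.eq_zero_iff_mem]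
    exact hs
  simp only [map_mul, map_pow]
  exact ringI _ _ _ _ p q m hpq hx0 hs' _ _ _ _ _ _ r h1 h2

theorem mk_eq0 (k : Type*) [Field k] (I : Ideal (MvPolynomial (Fin 3) k)) (p q : ℕ) (hpq : p < q)
    (hx : (MvPolynomial.X (0 : Fin 3) ^ (q - p) - MvPolynomial.X (1 : Fin 3) * MvPolynomial.X (2 : Fin 3) : MvPolynomial (Fin 3) k) ∈ I)
    (d0 d1 d2 e0 e1 e2 : ℕ)
    (h1 : (d0 : ℤ) - p * d1 + q * d2 = e0 - p * e1 + q * e2)
    (h2 : (d2 : ℤ) - d1 = e2 - e1) :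
    Ideal.Quotient.mk I (MvPolynomial.X (0 : Fin 3) ^ d0 * MvPolynomial.X (1 : Fin 3) ^ d1 * MvPolynomial.X (2 : Fin 3) ^ d2) =
        Ideal.Quotient.mk I (MvPolynomial.X (0 : Fin 3) ^ e0 * MvPolynomial.X (1 : Fin 3) ^ e1 * MvPolynomial.X (2 : Fin 3) ^ e2) := by
  have hx0 : Ideal.Quotient.mk I (MvPolynomial.X 0) ^ (q - p) =
      Ideal.Quotient.mk I (MvPolynomial.X 1) * Ideal.Quotient.mk I (MvPolynomial.X 2) := by
    rw [← map_pow, ← map_mul, ← sub_eq_zero, ← map_sub, Ideal.Quotient.eq_zero_iff_mem]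
    exact hx
  simp only [map_mul, map_pow]
  rcases le_total d1 e1 with hle | hle
  · exact ringI0 _ _ _ p q hpq hx0 _ _ _ _ _ _ hle h1 h2
  · exact (ringI0 _ _ _ p q hpq hx0 _ _ _ _ _ _ hle h1.symm h2.symm).symm

/-- Let k be a field and m ≥ 1; for a monomial X₀^d₀X₁^d₁X₂^d₂ of the polynomial ring in X₀, X₁, X₂ (X₂
standing for Xⱼ, j = 3 or 4, of the five-variable ring) put n = d₀ − p·d₁ + q·d₂ (its weight for the
torus diag(t, t^(−p), t^q)), c = d₁ − d₂ and ω = p·d₁ − q·d₂, so that d₀ = n + ω; here 0 < p < q are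
coprime integers. Take two monomials X₀^d₀X₁^d₁X₂^d₂ and X₀^e₀X₁^e₁X₂^e₂ with the same n and with
values c, c' of c congruent modulo m (so both lie in the same ℤ × ℤ/m-weight piece for the weights
(1,0), (−p,−1), (q,1)). Then: (i) if c = c', the difference of the two monomials lies in the
principal ideal (X₀^(q−p) − X₁X₂); (ii) if c' < c, the monomial X₀^d₀X₁^d₁X₂^d₂ lies in the ideal
(X₀^(q−p) − X₁X₂, X₀^(mp)X₁^m); (iii) in all cases the difference lies in the ideal (X₀^(q−p) −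
X₁X₂, 1 − X₀^(mp)X₁^m). -/
theorem result (k : Type u) [Field k] (p q m : ℕ) (hp : 0 < p) (hpq : p < q) (hcop : Nat.Coprime p q) (hm : 0 < m)
    (d0 d1 d2 e0 e1 e2 : ℕ) (hn : (e0 : ℤ) - (p : ℤ) * e1 + (q : ℤ) * e2 = (d0 : ℤ) - (p : ℤ) * d1 + (q : ℤ) * d2)
    (hc : (m : ℤ) ∣ ((d1 : ℤ) - d2) - ((e1 : ℤ) - e2)) :
    ((d1 : ℤ) - d2 = (e1 : ℤ) - e2 →
      (MvPolynomial.X (0 : Fin 3) ^ d0 * MvPolynomial.X (1 : Fin 3) ^ d1 * MvPolynomial.X (2 : Fin 3) ^ d2 - MvPolynomial.X (0 : Fin 3) ^ e0 * MvPolynomial.X (1 : Fin 3) ^ e1 * MvPolynomial.X (2 : Fin 3) ^ e2 : MvPolynomial (Fin 3) k) ∈ Ideal.span {MvPolynomial.X (0 : Fin 3) ^ (q - p) - MvPolynomial.X (1 : Fin 3) * MvPolynomial.X (2 : Fin 3)}) ∧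
    ((e1 : ℤ) - e2 < (d1 : ℤ) - d2 →
      (MvPolynomial.X (0 : Fin 3) ^ d0 * MvPolynomial.X (1 : Fin 3) ^ d1 * MvPolynomial.X (2 : Fin 3) ^ d2 : MvPolynomial (Fin 3) k) ∈ Ideal.span {MvPolynomial.X (0 : Fin 3) ^ (q - p) - MvPolynomial.X (1 : Fin 3) * MvPolynomial.X (2 : Fin 3), MvPolynomial.X (0 : Fin 3) ^ (m * p) * MvPolynomial.X (1 : Fin 3) ^ m}) ∧
    ((MvPolynomial.X (0 : Fin 3) ^ d0 * MvPolynomial.X (1 : Fin 3) ^ d1 * MvPolynomial.X (2 : Fin 3) ^ d2 - MvPolynomial.X (0 : Fin 3) ^ e0 * MvPolynomial.X (1 : Fin 3) ^ e1 * MvPolynomial.X (2 : Fin 3) ^ e2 : MvPolynomial (Fin 3) k) ∈ Ideal.span {MvPolynomial.X (0 : Fin 3) ^ (q - p) - MvPolynomial.X (1 : Fin 3) * MvPolynomial.X (2 : Fin 3), 1 - MvPolynomial.X (0 : Fin 3) ^ (m * p) * MvPolynomial.X (1 : Fin 3) ^ m}) := by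
  obtain ⟨u, hu⟩ := hc
  have hm' : (0 : ℤ) < m := by exact_mod_cast hm
  refine ⟨?_, ?_, ?_⟩
  · intro h
    rw [← Ideal.Quotient.mk_eq_mk_iff_sub_mem]
    exact mk_eq0 k _ p q hpq (Ideal.mem_span_singleton_self _) _ _ _ _ _ _ hn.symm (by linarith)
  · intro h
    have hu0 : 0 < u := by
      by_contra hcon
      push Not at hcon
      have : (m : ℤ) * u ≤ 0 := mul_nonpos_of_nonneg_of_nonpos hm'.le hcon
      linarith
    obtain ⟨r, hr⟩ := Int.eq_ofNat_of_zero_le hu0.le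
    rw [hr] at hu hu0
    have hr0 : r ≠ 0 := by rintro rfl; exact lt_irrefl _ hu0
    rw [← Ideal.Quotient.eq_zero_iff_mem,
      mk_eq k _ p q m hpq 0 (Ideal.subset_span (by simp)) (by
        rw [MvPolynomial.C_0, zero_sub]
        exact Ideal.neg_mem_iff _ |>.mpr (Ideal.subset_span (by simp))) d0 d1 d2 e0 e1 e2 r hn.symm (by linarith)]
    rw [MvPolynomial.C_0, map_zero, zero_pow hr0, zero_mul]
  · rw [← Ideal.Quotient.mk_eq_mk_iff_sub_mem]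
    rcases le_total 0 u with h | h
    · obtain ⟨r, hr⟩ := Int.eq_ofNat_of_zero_le h
      rw [hr] at hu
      rw [mk_eq k _ p q m hpq 1 (Ideal.subset_span (by simp)) (Ideal.subset_span (by simp)) d0 d1 d2 e0 e1 e2 r hn.symm (by linarith)]
      rw [MvPolynomial.C_1, map_one, one_pow, one_mul]
    · obtain ⟨r, hr⟩ := Int.eq_ofNat_of_zero_le (neg_nonneg.mpr h)
      have hu' : u = -(r : ℤ) := by linarith
      rw [hu'] at hu
      rw [mk_eq k _ p q m hpq 1 (Ideal.subset_span (by simp)) (Ideal.subset_span (by simp)) e0 e1 e2 d0 d1 d2 r hn (by linarith)]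
      rw [MvPolynomial.C_1, map_one, one_pow, one_mul]

end Groth.Agent.S15738
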