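import Groth.Statements.S15739
import Mathlib

set_option autoImplicit false
universe u
open W4c2invhilbsl2

namespace Groth.Agent.S15739

theorem numJ (p q m g a b' d0 d1 d3 e0 e1 e3 : ℕ) (hp : 0 < p) (hpq : p < q) (hcop : Nat.Coprime p q)
    (hgpos : 0 < g) (hgm : m = g * a) (hb' : q - p = g * b') (hcop2 : Nat.Coprime a b')
    (h0 : d0 < g) (he0 : e0 < g) (hle : e1 ≤ d1)
    (hw1 : (d0 : ℤ) - p * d1 + q * d3 = e0 - p * e1 + q * e3)
    (hw2 : (m : ℤ) ∣ ((d3 : ℤ) - d1) - (e3 - e1)) :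
    d0 = e0 ∧ ∃ r, d1 = e1 + (a * q) * r ∧ d3 = e3 + (a * p) * r := by
  obtain ⟨u, hu⟩ := hw2
  have hqp : ((q - p : ℕ) : ℤ) = (q : ℤ) - p := by push_cast [Nat.cast_sub hpq.le]; ring
  have hb2 : (q : ℤ) - p = g * b' := by rw [← hqp, hb']; push_cast; ring
  have hgm' : (m : ℤ) = g * a := by exact_mod_cast hgm
  have hA : (g : ℤ) ∣ (d0 : ℤ) - e0 := by
    refine ⟨- (p * (a * u)) - b' * ((d3 : ℤ) - e3), ?_⟩
    have h1 : (d0 : ℤ) - e0 = - p * (((d3 : ℤ) - d1) - (e3 - e1)) - ((q : ℤ) - p) * (d3 - e3) := by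
      linarith
    rw [h1, hu, hb2, hgm']; ring
  have h00 : d0 = e0 := by
    obtain ⟨t, ht⟩ := hA
    have hg0 : (0 : ℤ) < g := by exact_mod_cast hgpos
    have l1 : (d0 : ℤ) < g := by exact_mod_cast h0
    have l2 : (e0 : ℤ) < g := by exact_mod_cast he0
    have l3 : (0 : ℤ) ≤ d0 := Int.natCast_nonneg _
    have l4 : (0 : ℤ) ≤ e0 := Int.natCast_nonneg _
    have l5 : t < 1 := by
      by_contra hcon
      push Not at hcon
      nlinarith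
    have l6 : -1 < t := by
      by_contra hcon
      push Not at hcon
      nlinarith
    have l7 : t = 0 := by omega
    rw [l7, mul_zero] at ht
    have : (d0 : ℤ) = e0 := by linarith
    exact_mod_cast this
  refine ⟨h00, ?_⟩
  obtain ⟨B, hB⟩ := Nat.exists_eq_add_of_le hle
  have h5 : (p : ℤ) * B = q * ((d3 : ℤ) - e3) := by
    have hB' : (d1 : ℤ) = e1 + B := by exact_mod_cast hB
    rw [h00, hB'] at hw1
    linarith
  have hq0 : 0 < q := lt_trans hp hpq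
  obtain ⟨j, hj⟩ : q ∣ B := by
    have : (q : ℤ) ∣ p * B := ⟨_, h5⟩
    have h6 : q ∣ p * B := by exact_mod_cast this
    exact hcop.symm.dvd_of_dvd_mul_left h6
  have h7 : (d3 : ℤ) = e3 + p * j := by
    have : (q : ℤ) * ((d3 : ℤ) - e3) = q * (p * j) := by
      rw [← h5, hj]; push_cast; ring
    have hq' : (q : ℤ) ≠ 0 := by exact_mod_cast hq0.ne'
    have := mul_left_cancel₀ hq' this
    linarith
  have h7' : d3 = e3 + p * j := by exact_mod_cast h7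
  obtain ⟨r, hr⟩ : a ∣ j := by
    have h8 : (m : ℤ) * u = - (((q : ℤ) - p) * j) := by
      have hB' : (d1 : ℤ) = e1 + q * j := by
        have : d1 = e1 + q * j := by rw [hB, hj]
        exact_mod_cast this
      rw [← hu, h7, hB']; ring
    rw [hb2, hgm'] at h8
    have hg' : (g : ℤ) ≠ 0 := by exact_mod_cast hgpos.ne'
    have h9 : (a : ℤ) * u = - (b' * j) := by
      apply mul_left_cancel₀ hg'
      rw [← mul_assoc, h8]; ring
    have h10 : (a : ℤ) ∣ b' * j := ⟨-u, by rw [mul_neg, h9]; ring⟩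
    have h11 : a ∣ b' * j := by exact_mod_cast h10
    exact hcop2.dvd_of_dvd_mul_left h11
  exact ⟨r, by rw [hB, hj, hr]; ring, by rw [h7', hr]; ring⟩


theorem ringJ' {Q : Type*} [CommRing Q] (x0 x1 x2 : Q) (A B e0 e1 e2 r : ℕ) :
    x0 ^ e0 * x1 ^ (e1 + A * r) * x2 ^ (e2 + B * r) = (x1 ^ A * x2 ^ B) ^ r * (x0 ^ e0 * x1 ^ e1 * x2 ^ e2) := by
  rw [pow_add, pow_add, mul_pow, ← pow_mul, ← pow_mul]
  ring

theorem sub_mem (k : Type*) [Field k] (M Y : MvPolynomial (Fin 3) k) (r : ℕ) :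
    Y ^ r * M - M ∈ Ideal.span {(1 : MvPolynomial (Fin 3) k) - Y} := by
  have h : (1 - Y) ∣ (1 ^ r - Y ^ r) := sub_dvd_pow_sub_pow 1 Y r
  obtain ⟨z, hz⟩ := h
  rw [Ideal.mem_span_singleton]
  refine ⟨-(z * M), ?_⟩
  have : Y ^ r = 1 - (1 - Y) * z := by rw [← hz, one_pow]; ring
  rw [this]; ring

/-- Let k be a field and m ≥ 1, put g = gcd(m, q−p), a = m/g and b = (q−p)/g; for a monomial
X₀^d₀X₁^d₁X₂^d₂ of the polynomial ring in X₀, X₁, X₂ (X₂ standing for Xⱼ, j = 3 or 4, of the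
five-variable ring) put n = d₀ − p·d₁ + q·d₂ (its weight for the torus diag(t, t^(−p), t^q)), c = d₁
− d₂ and ω = p·d₁ − q·d₂, so that d₀ = n + ω; here 0 < p < q are coprime integers. Take two
monomials X₀^d₀X₁^d₁X₂^d₂ and X₀^e₀X₁^e₁X₂^e₂ with the same n, where 0 ≤ n < q − p, whose values c
and c' of c are both divisible by m, and with d₀ < g and e₀ < g (so each has the least ω for its
pair (n, c), as g ≤ q − p). Then: (i) d₀ = e₀, i.e. the two values of ω agree, and m·b divides c −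
c'; (ii) if c < c', then X₀^e₀X₁^e₁X₂^e₂ is a multiple of X₀^d₀X₁^d₁X₂^d₂ · X₁^(aq)X₂^(ap); (iii)
the difference of the two monomials lies in the principal ideal (1 − X₁^(aq)X₂^(ap)). -/
theorem result (k : Type u) [Field k] (p q m : ℕ) (hp : 0 < p) (hpq : p < q) (hcop : Nat.Coprime p q) (hm : 0 < m)
    (d0 d1 d2 e0 e1 e2 : ℕ) (hn : (e0 : ℤ) - (p : ℤ) * e1 + (q : ℤ) * e2 = (d0 : ℤ) - (p : ℤ) * d1 + (q : ℤ) * d2)
    (hn0 : 0 ≤ (d0 : ℤ) - (p : ℤ) * d1 + (q : ℤ) * d2) (hnq : (d0 : ℤ) - (p : ℤ) * d1 + (q : ℤ) * d2 < (q : ℤ) - p)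
    (hcd : (m : ℤ) ∣ (d1 : ℤ) - d2) (hce : (m : ℤ) ∣ (e1 : ℤ) - e2)
    (hd0 : d0 < Nat.gcd m (q - p)) (he0 : e0 < Nat.gcd m (q - p)) :
    (d0 = e0 ∧ ((m : ℤ) * ((q - p) / Nat.gcd m (q - p) : ℕ)) ∣ ((d1 : ℤ) - d2) - ((e1 : ℤ) - e2)) ∧
    ((d1 : ℤ) - d2 < (e1 : ℤ) - e2 →
      (MvPolynomial.X (0 : Fin 3) ^ d0 * MvPolynomial.X (1 : Fin 3) ^ d1 * MvPolynomial.X (2 : Fin 3) ^ d2 * (MvPolynomial.X (1 : Fin 3) ^ (m / Nat.gcd m (q - p) * q) * MvPolynomial.X (2 : Fin 3) ^ (m / Nat.gcd m (q - p) * p)) : MvPolynomial (Fin 3) k) ∣ MvPolynomial.X (0 : Fin 3) ^ e0 * MvPolynomial.X (1 : Fin 3) ^ e1 * MvPolynomial.X (2 : Fin 3) ^ e2) ∧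
    ((MvPolynomial.X (0 : Fin 3) ^ e0 * MvPolynomial.X (1 : Fin 3) ^ e1 * MvPolynomial.X (2 : Fin 3) ^ e2 - MvPolynomial.X (0 : Fin 3) ^ d0 * MvPolynomial.X (1 : Fin 3) ^ d1 * MvPolynomial.X (2 : Fin 3) ^ d2 : MvPolynomial (Fin 3) k) ∈
      Ideal.span {(1 : MvPolynomial (Fin 3) k) - MvPolynomial.X (1 : Fin 3) ^ (m / Nat.gcd m (q - p) * q) * MvPolynomial.X (2 : Fin 3) ^ (m / Nat.gcd m (q - p) * p)}) := by
  obtain ⟨g, hg⟩ : ∃ g, g = Nat.gcd m (q - p) := ⟨_, rfl⟩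
  obtain ⟨a, ha⟩ : ∃ a, a = m / Nat.gcd m (q - p) := ⟨_, rfl⟩
  have hgpos : 0 < g := by rw [hg]; exact Nat.gcd_pos_of_pos_left _ hm
  have hgm : m = g * a := by rw [ha, hg]; exact (Nat.mul_div_cancel' (Nat.gcd_dvd_left m (q - p))).symm
  obtain ⟨b', hb'⟩ : g ∣ (q - p) := by rw [hg]; exact Nat.gcd_dvd_right m (q - p)
  have h2 : (q - p) / Nat.gcd m (q - p) = b' := by rw [← hg, hb']; exact Nat.mul_div_cancel_left _ hgpos
  have hcop2 : Nat.Coprime a b' := by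
    have h1 := Nat.coprime_div_gcd_div_gcd (m := m) (n := q - p) (by rw [← hg]; exact hgpos)
    rw [h2, ← ha] at h1
    exact h1
  rw [← hg] at hd0 he0
  rw [← ha, h2]
  have hapos : 0 < a := by
    rcases Nat.eq_zero_or_pos a with h | h
    · rw [h, mul_zero] at hgm; omega
    · exact h
  have hD : 0 < q - p := Nat.sub_pos_of_lt hpq
  have hqp : ((q - p : ℕ) : ℤ) = (q : ℤ) - p := by push_cast [Nat.cast_sub hpq.le]; ring
  have hqpb : (q : ℤ) - p = g * b' := by rw [← hqp, hb']; push_cast; ring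
  have hgm' : (m : ℤ) = g * a := by exact_mod_cast hgm
  have hDp : (0 : ℤ) < (q : ℤ) - p := by rw [← hqp]; exact_mod_cast hD
  have hap : (0 : ℤ) < a := by exact_mod_cast hapos
  have hdv : ∀ x0 x1 x2 y0 y1 y2 : ℕ, x0 < g → y0 < g → y1 ≤ x1 →
      ((x0 : ℤ) - p * x1 + q * x2 = y0 - p * y1 + q * y2) → (m : ℤ) ∣ (x1 : ℤ) - x2 → (m : ℤ) ∣ (y1 : ℤ) - y2 →
      x0 = y0 ∧ ∃ r, x1 = y1 + (a * q) * r ∧ x2 = y2 + (a * p) * r := by
    intro x0 x1 x2 y0 y1 y2 hx0 hy0 hle h1 hx hy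
    refine numJ p q m g a b' x0 x1 x2 y0 y1 y2 hp hpq hcop hgpos hgm hb' hcop2 hx0 hy0 hle h1 ?_
    obtain ⟨u, hu⟩ := hx
    obtain ⟨v, hv⟩ := hy
    exact ⟨v - u, by rw [mul_sub, ← hu, ← hv]; ring⟩
  rcases le_total e1 d1 with hle | hle
  · obtain ⟨h00, r, hr1, hr2⟩ := hdv d0 d1 d2 e0 e1 e2 hd0 he0 hle hn.symm hcd hce
    have hr1' : (d1 : ℤ) = e1 + (a * q) * r := by exact_mod_cast hr1
    have hr2' : (d2 : ℤ) = e2 + (a * p) * r := by exact_mod_cast hr2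
    have hdiff : ((d1 : ℤ) - d2) - ((e1 : ℤ) - e2) = a * ((q : ℤ) - p) * r := by
      rw [hr1', hr2']; ring
    refine ⟨⟨h00, ⟨r, ?_⟩⟩, ?_, ?_⟩
    · rw [hdiff, hqpb, hgm']; ring
    · intro hlt
      exfalso
      have : 0 ≤ (a : ℤ) * ((q : ℤ) - p) * r := mul_nonneg (mul_pos hap hDp).le (Int.natCast_nonneg _)
      linarith
    · rw [h00, hr1, hr2, ringJ', ← neg_mem_iff, neg_sub]
      exact sub_mem k _ _ r
  · obtain ⟨h00, r, hr1, hr2⟩ := hdv e0 e1 e2 d0 d1 d2 he0 hd0 hle hn hce hcd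
    have hr1' : (e1 : ℤ) = d1 + (a * q) * r := by exact_mod_cast hr1
    have hr2' : (e2 : ℤ) = d2 + (a * p) * r := by exact_mod_cast hr2
    have hdiff : ((d1 : ℤ) - d2) - ((e1 : ℤ) - e2) = - (a * ((q : ℤ) - p) * r) := by
      rw [hr1', hr2']; ring
    refine ⟨⟨h00.symm, ⟨-r, ?_⟩⟩, ?_, ?_⟩
    · rw [hdiff, hqpb, hgm']; ring
    · intro hlt
      have hr0 : r ≠ 0 := by
        rintro rfl
        rw [Nat.cast_zero, mul_zero, neg_zero] at hdiff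
        linarith
      obtain ⟨t, rfl⟩ : ∃ t, r = t + 1 := ⟨r - 1, by omega⟩
      rw [h00, hr1, hr2, ringJ', pow_succ]
      exact ⟨(MvPolynomial.X (1 : Fin 3) ^ (a * q) * MvPolynomial.X (2 : Fin 3) ^ (a * p)) ^ t, by ring⟩
    · rw [h00, hr1, hr2, ringJ']
      exact sub_mem k _ _ r

end Groth.Agent.S15739
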