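import Groth.Statements.S15740
import Mathlib.Tactic

set_option autoImplicit false
open W4c2invhilbsl2

namespace Groth.Agent.S15740

/-- For a monomial X₀^d₀X₁^d₁X₂^d₂ of the polynomial ring in X₀, X₁, X₂ (X₂ standing for Xⱼ, j = 3 or 4,
of the five-variable ring) put n = d₀ − p·d₁ + q·d₂ (its weight for the torus diag(t, t^(−p), t^q)),
c = d₁ − d₂ and ω = p·d₁ − q·d₂, so that d₀ = n + ω; here 0 < p < q are coprime integers. Suppose n
≥ 0, c > 0 and d₀ < q − p (the last condition says that ω is the least value of ω for the pair (n,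
c)). Then ω ≥ 0 if and only if the remainder of p·c on division by q − p, plus n, is less than q −
p. -/
theorem result (p q : ℕ) (hp : 0 < p) (hpq : p < q) (hcop : Nat.Coprime p q) (d0 d1 d2 : ℕ)
    (hn : 0 ≤ (d0 : ℤ) - (p : ℤ) * d1 + (q : ℤ) * d2) (hc : (d2 : ℤ) < d1) (hd0 : d0 < q - p) :
    0 ≤ (p : ℤ) * d1 - (q : ℤ) * d2 ↔
      Int.emod ((p : ℤ) * ((d1 : ℤ) - d2)) ((q : ℤ) - p) + ((d0 : ℤ) - (p : ℤ) * d1 + (q : ℤ) * d2) < (q : ℤ) - p := by
  have hp' : (0:ℤ) < p := by exact_mod_cast hp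
  have hpq' : (p:ℤ) < q := by exact_mod_cast hpq
  have hd' : (d0:ℤ) < (q:ℤ) - p := by
    have : (d0:ℤ) < ((q - p : ℕ) : ℤ) := by exact_mod_cast hd0
    rwa [Nat.cast_sub hpq.le] at this
  have hd0' : (0:ℤ) ≤ d0 := Int.natCast_nonneg _
  set N : ℤ := (d0 : ℤ) - (p : ℤ) * d1 + (q : ℤ) * d2 with hN
  have e1 : (p : ℤ) * d1 - (q : ℤ) * d2 = d0 - N := by rw [hN]; ring
  have e2 : (p : ℤ) * ((d1 : ℤ) - d2) = (d0 - N) + ((q:ℤ) - p) * d2 := by rw [hN]; ring
  have e3 : Int.emod ((p : ℤ) * ((d1 : ℤ) - d2)) ((q : ℤ) - p) = (d0 - N) % ((q:ℤ) - p) := by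
    show ((p : ℤ) * ((d1 : ℤ) - d2)) % ((q : ℤ) - p) = _
    rw [e2, Int.add_mul_emod_self_left]
  rw [e1, e3]
  have hm : (0:ℤ) < (q:ℤ) - p := by linarith
  constructor
  · intro h
    rw [Int.emod_eq_of_lt h (by linarith)]
    linarith
  · intro h
    by_contra hcon
    push Not at hcon
    have h1 := Int.emod_nonneg (d0 - N) hm.ne'
    have h2 := Int.emod_add_mul_ediv (d0 - N) ((q:ℤ) - p)
    set r := (d0 - N) % ((q:ℤ) - p)
    set t := (d0 - N) / ((q:ℤ) - p)
    have h3 : r + N - d0 = ((q:ℤ) - p) * (-t) := by linarith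
    have h4 : -t < 1 := by
      by_contra h5
      push Not at h5
      nlinarith
    have h5 : -1 < -t := by
      by_contra h6
      push Not at h6
      nlinarith
    have h6 : t = 0 := by omega
    rw [h6] at h3
    linarith

end Groth.Agent.S15740
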