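import Groth.Statements.S16099
import Groth.Agent.Lib.H16_FunFldI

set_option autoImplicit false
universe u
open FunFld

namespace Groth.Agent.S16099

/-- For a function field `K/k` of one variable of genus `g` and any place `P`, the `k`-space `K /
(O_{\{P\}} + O_P)` is finite-dimensional of dimension `g` (the number of Weierstrass gaps when `P`
is rational), where `O_{\{P\}}` is the ring of elements of `K` integral at every place other than
`P` and `O_P` is the valuation ring of `P` (written as the elements integral at every place outside
the complement of `\{P\}`). (The published example is for a curve over an algebraically closed field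
and is stated with completions at `P`; this is the equivalent form inside `K`, over any field `k`
algebraically closed in `K`.) -/
theorem result (k K : Type u) [Field k] [Field K]
    [Algebra k K] (hK : FunFld.IsFunctionField k K) (P : FunFld.Place k K) :
    FiniteDimensional k (K ⧸ (Subalgebra.toSubmodule (AdFn.SInt ({P} : Set (FunFld.Place k K))) ⊔
        Subalgebra.toSubmodule (AdFn.SInt (({P} : Set (FunFld.Place k K))ᶜ)))) ∧
    Module.finrank k (K ⧸ (Subalgebra.toSubmodule (AdFn.SInt ({P} : Set (FunFld.Place k K))) ⊔
        Subalgebra.toSubmodule (AdFn.SInt (({P} : Set (FunFld.Place k K))ᶜ)))) = FunFld.genus k K := by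
  classical
  have hRD := Groth.Agent.H16.RD_AK_adele hK (0 : FunFld.Divisor k K)
  rw [Groth.Agent.H16.ell_zero hK] at hRD
  have hn : ((FunFld.genus k K : ℤ) - ((0 : FunFld.Divisor k K).deg + 1 - ((1 : ℕ) : ℤ))).toNat = FunFld.genus k K := by
    have : (0 : FunFld.Divisor k K).deg = 0 := Groth.Agent.H16.deg_zero
    rw [this]; simp
  rw [hn] at hRD
  have hmem : ∀ x : K, (Pi.single P x : FunFld.Place k K → K) ∈ FunFld.adele k K := by
    intro x
    rw [Groth.Agent.H16.mem_adele]
    refine (Set.finite_singleton P).subset ?_
    intro Q hQ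
    by_contra hne
    apply hQ
    have hne' : Q ≠ P := hne
    rw [Pi.single_eq_of_ne hne', map_zero]; exact zero_le
  let f0 : K →ₗ[k] FunFld.adele k K :=
    { toFun := fun x => ⟨Pi.single P x, hmem x⟩
      map_add' := fun x y => by ext1; exact Pi.single_add (f := fun _ : FunFld.Place k K => K) P x y
      map_smul' := fun c x => by ext1; exact Pi.single_smul (f := fun _ : FunFld.Place k K => K) P c x }
  let f : K →ₗ[k] Groth.Agent.H16.Qt (Groth.Agent.H16.AK (0 : FunFld.Divisor k K)) (FunFld.adele k K) :=
    (Submodule.mkQ _).comp f0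
  have hker : LinearMap.ker f = Subalgebra.toSubmodule (AdFn.SInt ({P} : Set (FunFld.Place k K))) ⊔
        Subalgebra.toSubmodule (AdFn.SInt (({P} : Set (FunFld.Place k K))ᶜ)) := by
    ext x
    rw [LinearMap.mem_ker]
    change (Submodule.Quotient.mk (f0 x) : Groth.Agent.H16.Qt (Groth.Agent.H16.AK (0 : FunFld.Divisor k K)) (FunFld.adele k K)) = 0 ↔ _
    rw [Submodule.Quotient.mk_eq_zero]
    change (Pi.single P x : FunFld.Place k K → K) ∈ Groth.Agent.H16.AK (0 : FunFld.Divisor k K) ↔ _
    constructor
    · intro h
      obtain ⟨a, ha, _, ⟨y, rfl⟩, hxy⟩ := Submodule.mem_sup.mp h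
      have hay : ∀ Q, a Q + y = (Pi.single P x : FunFld.Place k K → K) Q := fun Q => congrFun hxy Q
      have e : x = y + (x - y) := by ring
      rw [e]
      apply Submodule.add_mem_sup
      · intro Q hQ
        have hQ' : Q ≠ P := fun h => hQ (by rw [h]; rfl)
        have := hay Q
        rw [Pi.single_eq_of_ne hQ'] at this
        have hy : y = - a Q := by rw [eq_neg_iff_add_eq_zero, add_comm]; exact this
        rw [hy, Valuation.map_neg]
        exact ha Q
      · intro Q hQ
        have hQ' : Q = P := by
          by_contra hne; exact hQ hne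
        subst hQ'
        have := hay Q
        rw [Pi.single_eq_same] at this
        have hy : x - y = a Q := by rw [← this]; ring
        rw [hy]
        exact ha Q
    · intro h
      obtain ⟨y, hy, z, hz, hyz⟩ := Submodule.mem_sup.mp h
      have e : (Pi.single P x : FunFld.Place k K → K) = (Pi.single P x - FunFld.diag k K y) + FunFld.diag k K y := by
        rw [sub_add_cancel]
      rw [e]
      apply Submodule.add_mem_sup
      · intro Q
        change Q.1 ((Pi.single P x : FunFld.Place k K → K) Q - y) ≤ WithZero.exp ((0 : FunFld.Divisor k K) Q)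
        rw [Finsupp.coe_zero, Pi.zero_apply, WithZero.exp_zero]
        by_cases hQ : Q = P
        · subst hQ
          rw [Pi.single_eq_same, ← hyz, add_sub_cancel_left]
          exact hz Q (fun h => h rfl)
        · rw [Pi.single_eq_of_ne hQ, zero_sub, Valuation.map_neg]
          exact hy Q (fun h => hQ h)
      · exact ⟨y, rfl⟩
  have hsurj : Function.Surjective f := by
    intro q
    obtain ⟨⟨a, ha⟩, rfl⟩ := Submodule.mkQ_surjective _ q
    have hfin := Groth.Agent.H16.mem_adele.mp ha
    obtain ⟨y, hy1, hy2⟩ := Groth.Agent.H16.strong_approx hK P (hfin.toFinset.erase P) (Finset.notMem_erase _ _) a 0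
    refine ⟨a P - y, ?_⟩
    change (Submodule.Quotient.mk (f0 (a P - y)) : Groth.Agent.H16.Qt (Groth.Agent.H16.AK (0 : FunFld.Divisor k K)) (FunFld.adele k K)) = Submodule.Quotient.mk _
    rw [Submodule.Quotient.eq]
    change (Pi.single P (a P - y) : FunFld.Place k K → K) - a ∈ Groth.Agent.H16.AK (0 : FunFld.Divisor k K)
    have e : (Pi.single P (a P - y) : FunFld.Place k K → K) - a =
      (Pi.single P (a P - y) - a + FunFld.diag k K y) + FunFld.diag k K (-y) := by
      ext Q
      change _ = _ + y + -y
      ring
    rw [e]
    apply Submodule.add_mem_sup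
    · intro Q
      change Q.1 ((Pi.single P (a P - y) : FunFld.Place k K → K) Q - a Q + y) ≤ WithZero.exp ((0 : FunFld.Divisor k K) Q)
      rw [Finsupp.coe_zero, Pi.zero_apply, WithZero.exp_zero]
      by_cases hQ : Q = P
      · subst hQ
        rw [Pi.single_eq_same]
        have : a Q - y - a Q + y = 0 := by ring
        rw [this, map_zero]; exact zero_le
      · rw [Pi.single_eq_of_ne hQ]
        have e2 : 0 - a Q + y = y - a Q := by ring
        rw [e2]
        by_cases hQS : Q ∈ hfin.toFinset.erase P
        · have := hy1 Q hQS
          simpa using this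
        · have h1 := hy2 Q hQ hQS
          have h2 : Q.1 (a Q) ≤ 1 := by
            by_contra hc
            exact hQS (Finset.mem_erase.mpr ⟨hQ, by rw [Set.Finite.mem_toFinset]; exact hc⟩)
          exact (Q.1.map_sub _ _).trans (max_le h1 h2)
    · exact ⟨-y, rfl⟩
  have e := (Submodule.quotEquivOfEq _ _ hker.symm).trans (f.quotKerEquivOfSurjective hsurj)
  haveI := hRD.2.1
  exact ⟨Module.Finite.equiv e.symm, by rw [e.finrank_eq]; exact hRD.2.2⟩

end Groth.Agent.S16099
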