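import Groth.Statements.S16104
import Mathlib
-- import your own Groth.Agent.* helpers here

set_option autoImplicit false
universe u v
open LunaSt

namespace Groth.Agent.S16104

/-- Case of local rings. Let φ : A → B be a local homomorphism of Noetherian local rings whose composite
A → B/m_B² is surjective (the first infinitesimal neighbourhoods give a closed immersion), and
assume that A/m_A^(n+1) and B/m_B^(n+1) have the same length for every n (the associated graded
modules of the two maximal ideals have pieces of the same dimension over the common residue field).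
Then for every n the composite A → B/m_B^(n+1) is surjective with kernel m_A^(n+1): φ identifies all
infinitesimal neighbourhoods. (The published statement is for a pointed morphism of Noetherian local
algebraic stacks; its proof reduces to this case of local rings.) -/
theorem result
    (A : Type u) (B : Type v) [CommRing A] [CommRing B] [IsLocalRing A] [IsLocalRing B]
    [IsNoetherianRing A] [IsNoetherianRing B] (φ : A →+* B) [IsLocalHom φ]
    (h1 : Function.Surjective ((Ideal.Quotient.mk (IsLocalRing.maximalIdeal B ^ 2)).comp φ))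
    (hlen : ∀ n : ℕ, Module.length A (A ⧸ IsLocalRing.maximalIdeal A ^ (n + 1)) =
      Module.length B (B ⧸ IsLocalRing.maximalIdeal B ^ (n + 1))) (n : ℕ) :
    Function.Surjective ((Ideal.Quotient.mk (IsLocalRing.maximalIdeal B ^ (n + 1))).comp φ) ∧
      RingHom.ker ((Ideal.Quotient.mk (IsLocalRing.maximalIdeal B ^ (n + 1))).comp φ) =
        IsLocalRing.maximalIdeal A ^ (n + 1) := by
  obtain ⟨mA, hmA⟩ : ∃ I, I = IsLocalRing.maximalIdeal A := ⟨_, rfl⟩
  obtain ⟨mB, hmB⟩ : ∃ I, I = IsLocalRing.maximalIdeal B := ⟨_, rfl⟩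
  have hcomap : mB.comap φ = mA := by
    rw [hmA, hmB]; exact ((IsLocalRing.local_hom_TFAE φ).out 0 4).1 ‹IsLocalHom φ›
  have hjac : mB ≤ Ideal.jacobson ⊥ := by rw [hmB]; exact IsLocalRing.maximalIdeal_le_jacobson _
  have hlen' := hlen n
  rw [← hmA, ← hmB] at hlen' ⊢
  rw [← hmB] at h1
  have hmap_le : mA.map φ ≤ mB := Ideal.map_le_iff_le_comap.2 hcomap.ge
  have happrox : ∀ b : B, ∃ a : A, b - φ a ∈ mB ^ 2 := fun b => by
    obtain ⟨a, ha⟩ := h1 (Ideal.Quotient.mk _ b)
    exact ⟨a, Ideal.Quotient.eq.1 ha.symm⟩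
  have hmB2 : mB ^ 2 ≤ mB := Ideal.pow_le_self two_ne_zero
  have hle : mB ≤ mA.map φ := by
    refine Submodule.le_of_le_smul_of_le_jacobson_bot (I := mB) (IsNoetherian.noetherian mB) hjac ?_
    intro b hb
    obtain ⟨a, ha⟩ := happrox b
    have h2 : φ a ∈ mB := by
      have : φ a = b - (b - φ a) := by ring
      rw [this]; exact Ideal.sub_mem _ hb (hmB2 ha)
    have h3 : a ∈ mA := by rw [← hcomap]; exact h2
    have h4 : b = φ a + (b - φ a) := by ring
    rw [h4]
    refine Submodule.add_mem_sup (Ideal.mem_map_of_mem _ h3) ?_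
    rw [smul_eq_mul, ← pow_two]; exact ha
  have hmap : mA.map φ = mB := le_antisymm hmap_le hle
  have hstep0 : ∀ b : B, ∃ a : A, b - φ a ∈ mB := fun b => (happrox b).imp fun a ha => hmB2 ha
  have hstep : ∀ m : ℕ, ∀ r ∈ mB ^ m, ∃ x : A, r - φ x ∈ mB ^ (m + 1) := by
    intro m r hr
    rw [← hmap, ← Ideal.map_pow] at hr
    have : ∃ x ∈ mA ^ m, r - φ x ∈ mB ^ (m + 1) := by
      refine Submodule.span_induction (p := fun r _ => ∃ x ∈ mA ^ m, r - φ x ∈ mB ^ (m + 1)) ?_ ?_ ?_ ?_ hr
      · rintro _ ⟨x, hx, rfl⟩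
        exact ⟨x, hx, by rw [sub_self]; exact Ideal.zero_mem _⟩
      · exact ⟨0, Ideal.zero_mem _, by rw [map_zero, sub_zero]; exact Ideal.zero_mem _⟩
      · rintro a b _ _ ⟨x, hx, hxr⟩ ⟨y, hy, hyr⟩
        exact ⟨x + y, Ideal.add_mem _ hx hy, by rw [map_add, add_sub_add_comm]; exact Ideal.add_mem _ hxr hyr⟩
      · rintro b s _ ⟨x, hx, hxr⟩
        obtain ⟨a, ha⟩ := hstep0 b
        refine ⟨a * x, Ideal.mul_mem_left _ _ hx, ?_⟩
        have e : b • s - φ (a * x) = b * (s - φ x) + (b - φ a) * φ x := by rw [smul_eq_mul, map_mul]; ring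
        rw [e]
        refine Ideal.add_mem _ (Ideal.mul_mem_left _ _ hxr) ?_
        rw [pow_succ']
        refine Ideal.mul_mem_mul ha ?_
        have : φ x ∈ (mA ^ m).map φ := Ideal.mem_map_of_mem _ hx
        rwa [Ideal.map_pow, hmap] at this
    obtain ⟨x, -, hx⟩ := this
    exact ⟨x, hx⟩
  have hsurj : ∀ m : ℕ, ∀ b : B, ∃ a : A, b - φ a ∈ mB ^ m := by
    intro m
    induction m with
    | zero => intro b; exact ⟨0, by rw [pow_zero, Ideal.one_eq_top]; exact Submodule.mem_top⟩
    | succ m ih =>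
      intro b
      obtain ⟨a, ha⟩ := ih b
      obtain ⟨x, hx⟩ := hstep m _ ha
      exact ⟨a + x, by rw [map_add, ← sub_sub]; exact hx⟩
  have hS : Function.Surjective ((Ideal.Quotient.mk (mB ^ (n + 1))).comp φ) := by
    intro b
    obtain ⟨b, rfl⟩ := Ideal.Quotient.mk_surjective b
    obtain ⟨a, ha⟩ := hsurj (n + 1) b
    exact ⟨a, (Ideal.Quotient.eq.2 ha).symm⟩
  refine ⟨hS, ?_⟩
  letI : Algebra A B := φ.toAlgebra
  let ψ : A →ₗ[A] (B ⧸ mB ^ (n + 1)) := Algebra.linearMap A _
  have hψ : ∀ a, ψ a = (Ideal.Quotient.mk (mB ^ (n + 1))).comp φ a := fun a => rfl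
  have hle2 : mA ^ (n + 1) ≤ LinearMap.ker ψ := by
    intro a ha
    rw [LinearMap.mem_ker, hψ, RingHom.comp_apply, Ideal.Quotient.eq_zero_iff_mem, ← hmap, ← Ideal.map_pow]
    exact Ideal.mem_map_of_mem _ ha
  let ψ' : (A ⧸ mA ^ (n + 1)) →ₗ[A] (B ⧸ mB ^ (n + 1)) := Submodule.liftQ _ ψ hle2
  have hψ's : Function.Surjective ψ' := by
    intro b
    obtain ⟨a, ha⟩ := hS b
    exact ⟨Submodule.Quotient.mk a, ha⟩
  have hl : Module.length A (A ⧸ mA ^ (n + 1)) = Module.length A (B ⧸ mB ^ (n + 1)) := by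
    rw [hlen', Module.length_eq_of_surjective (R := B ⧸ mB ^ (n + 1)) (S := B) (M := B ⧸ mB ^ (n + 1)) Ideal.Quotient.mk_surjective,
      Module.length_eq_of_surjective (R := B ⧸ mB ^ (n + 1)) (S := A) (M := B ⧸ mB ^ (n + 1)) hS]
  have hfin : Module.length A (A ⧸ mA ^ (n + 1)) ≠ ⊤ := by
    have hart : IsArtinianRing (A ⧸ mA ^ (n + 1)) := by
      rw [isArtinianRing_iff_krullDimLE_zero, Ring.krullDimLE_zero_iff]
      intro Q hQ
      have hQ1 : (Q.comap (Ideal.Quotient.mk (mA ^ (n + 1)))).IsPrime := hQ.comap _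
      have h5 : mA ^ (n + 1) ≤ Q.comap (Ideal.Quotient.mk (mA ^ (n + 1))) := by
        intro x hx
        rw [Ideal.mem_comap, Ideal.Quotient.eq_zero_iff_mem.2 hx]
        exact Q.zero_mem
      have h6 : mA ≤ Q.comap (Ideal.Quotient.mk (mA ^ (n + 1))) := hQ1.le_of_pow_le h5
      have h7 : mA.IsMaximal := by rw [hmA]; infer_instance
      have h8 : mA = Q.comap (Ideal.Quotient.mk (mA ^ (n + 1))) := h7.eq_of_le hQ1.ne_top h6
      have h7' : (Q.comap (Ideal.Quotient.mk (mA ^ (n + 1)))).IsMaximal := by rw [← h8]; exact h7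
      have h9 := Ideal.map_eq_top_or_isMaximal_of_surjective (Ideal.Quotient.mk (mA ^ (n + 1))) Ideal.Quotient.mk_surjective h7'
      rw [Ideal.map_comap_of_surjective (Ideal.Quotient.mk (mA ^ (n + 1))) Ideal.Quotient.mk_surjective] at h9
      exact h9.resolve_left hQ.ne_top
    rw [Module.length_eq_of_surjective (R := A ⧸ mA ^ (n + 1)) (S := A) (M := A ⧸ mA ^ (n + 1)) Ideal.Quotient.mk_surjective]
    exact Module.length_ne_top
  have hadd := Module.length_eq_add_of_exact (LinearMap.ker ψ').subtype ψ' (Submodule.subtype_injective _) hψ's (LinearMap.exact_subtype_ker_map ψ')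
  rw [← hl] at hadd
  have hk0 : Module.length A (LinearMap.ker ψ') = 0 := by
    generalize Module.length A (LinearMap.ker ψ') = a at hadd
    generalize Module.length A (A ⧸ mA ^ (n + 1)) = b at hadd hfin
    lift b to ℕ using hfin
    cases a using ENat.recTopCoe with
    | top => simp at hadd
    | coe a =>
      have : b = a + b := by exact_mod_cast hadd
      have : a = 0 := by omega
      rw [this]; rfl
  rw [Module.length_eq_zero_iff] at hk0
  apply le_antisymm
  · intro a ha
    have h11 : (Submodule.Quotient.mk a : A ⧸ mA ^ (n + 1)) ∈ LinearMap.ker ψ' := ha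
    have h12 : (⟨Submodule.Quotient.mk a, h11⟩ : LinearMap.ker ψ') = 0 := Subsingleton.elim _ _
    exact (Submodule.Quotient.mk_eq_zero _).1 (congrArg Subtype.val h12)
  · exact hle2

end Groth.Agent.S16104
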