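import Groth.Statements.S16174
import Mathlib
import Groth.Agent.Lib.H1_HenselD
-- import your own Groth.Agent.* helpers here

set_option autoImplicit false
universe u
open Hensel

namespace Groth.Agent.S16174

/-- Let V be a Henselian valuation ring and p a prime ideal of V. Then the local rings V_p (localisation
at p) and V/p are Henselian. (Both are again valuation rings, which is elementary and not restated.) -/
theorem result (V : Type u) [CommRing V]
    [IsDomain V] [ValuationRing V] [HenselianLocalRing V] (p : Ideal V) [p.IsPrime] :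
    HenselianLocalRing (Localization.AtPrime p) ∧ HenselianLocalRing (V ⧸ p) := by
  refine ⟨?_, Groth.Agent.H1.Hensel.henselianLocal_of_surjective (Ideal.Quotient.mk p) Ideal.Quotient.mk_surjective⟩
  have hp : p.IsPrime := inferInstance
  have hδ : ∀ y : Localization.AtPrime p, ∃ c : V, y ∈ IsLocalRing.maximalIdeal (Localization.AtPrime p) →
      algebraMap V (Localization.AtPrime p) c = y ∧ c ∈ IsLocalRing.maximalIdeal V := by
    intro y
    by_cases hy : y ∈ IsLocalRing.maximalIdeal (Localization.AtPrime p)
    swap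
    · exact ⟨0, fun h => absurd h hy⟩
    obtain ⟨x, s, rfl⟩ := IsLocalization.exists_mk'_eq p.primeCompl y
    have hx : x ∈ p := (IsLocalization.AtPrime.mk'_mem_maximal_iff (Localization.AtPrime p) p x s).1 hy
    obtain ⟨c, hc | hc⟩ := ValuationRing.cond x (s : V)
    · exact absurd (hc ▸ Ideal.mul_mem_right c p hx) s.2
    · refine ⟨c, fun _ => ⟨?_, ?_⟩⟩
      · rw [IsLocalization.eq_mk'_iff_mul_eq, ← map_mul, mul_comm, hc]
      · have h1 : (s : V) * c ∈ p := by rw [hc]; exact hx
        have : c ∈ p := (hp.mem_or_mem h1).resolve_left s.2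
        exact IsLocalRing.le_maximalIdeal hp.ne_top this
  choose δ hδ using hδ
  refine { is_henselian := ?_ }
  intro f _ a₀ h₀ h₁
  obtain ⟨v, hv⟩ := h₁.exists_right_inv
  set c := f.eval a₀ with hc
  set u := f.derivative.eval a₀ with hu
  let g := Polynomial.taylor a₀ f
  have hg0 : g.coeff 0 = c := Polynomial.taylor_coeff_zero a₀ f
  have hg1 : g.coeff 1 = u := Polynomial.taylor_coeff_one a₀ f
  let k := g.natDegree
  let e : ℕ → (Localization.AtPrime p) := fun i => g.coeff (i + 2) * c ^ (i + 1) * v ^ (i + 2)
  have he : ∀ i, e i ∈ IsLocalRing.maximalIdeal (Localization.AtPrime p) := fun i => by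
    simp only [e]
    exact Ideal.mul_mem_right _ _ (Ideal.mul_mem_left _ _ (Ideal.pow_mem_of_mem _ h₀ _ (Nat.succ_pos _)))
  let H : Polynomial V := 1 + Polynomial.X + ∑ i ∈ Finset.range k, Polynomial.C (δ (e i)) * Polynomial.X ^ (i + 2)
  have hres : ∀ i, IsLocalRing.residue V (δ (e i)) = 0 := fun i =>
    (IsLocalRing.residue_eq_zero_iff _).2 (hδ _ (he i)).2
  obtain ⟨a, ha, -⟩ := Groth.Agent.H1.Hensel.S0498 V H (-1) (by
      simp only [H, Polynomial.eval₂_add, Polynomial.eval₂_one, Polynomial.eval₂_X, Polynomial.eval₂_finsetSum,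
        Polynomial.eval₂_mul, Polynomial.eval₂_C, hres, zero_mul, Finset.sum_const_zero, add_zero]
      ring) (by
      simp only [H, Polynomial.derivative_add, Polynomial.derivative_one, Polynomial.derivative_X, Polynomial.derivative_sum,
        Polynomial.derivative_C_mul, Polynomial.eval₂_add, Polynomial.eval₂_one, Polynomial.eval₂_zero, Polynomial.eval₂_finsetSum,
        Polynomial.eval₂_mul, Polynomial.eval₂_C, hres, zero_mul, Finset.sum_const_zero, add_zero, zero_add]
      exact one_ne_zero)
  let y : (Localization.AtPrime p) := algebraMap V (Localization.AtPrime p) a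
  have hy : 1 + y + ∑ i ∈ Finset.range k, e i * y ^ (i + 2) = 0 := by
    have h1 := congrArg (algebraMap V (Localization.AtPrime p)) (show H.eval a = 0 from ha)
    simp only [H, Polynomial.eval_add, Polynomial.eval_one, Polynomial.eval_X, Polynomial.eval_finsetSum,
      Polynomial.eval_mul, Polynomial.eval_C, Polynomial.eval_pow, map_add, map_one, map_sum, map_mul, map_pow, map_zero] at h1
    rw [← h1]
    congr 1
    exact Finset.sum_congr rfl fun i _ => by rw [(hδ _ (he i)).1]
  have hgz : g.eval (c * v * y) = 0 := by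
    rw [Polynomial.eval_eq_sum_range' (show g.natDegree < k + 2 by omega), Finset.sum_range_succ', Finset.sum_range_succ']
    simp only [zero_add, pow_zero, pow_one, mul_one, hg0, hg1]
    have h2 : ∑ i ∈ Finset.range k, g.coeff (i + 1 + 1) * (c * v * y) ^ (i + 1 + 1) = c * ∑ i ∈ Finset.range k, e i * y ^ (i + 2) := by
      rw [Finset.mul_sum]
      refine Finset.sum_congr rfl fun i _ => ?_
      simp only [e]
      ring
    rw [h2]
    have h3 : u * (c * v * y) = c * y := by
      calc u * (c * v * y) = (u * v) * (c * y) := by ring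
        _ = c * y := by rw [hv, one_mul]
    rw [h3]
    calc _ = c * (1 + y + ∑ i ∈ Finset.range k, e i * y ^ (i + 2)) := by ring
      _ = 0 := by rw [hy, mul_zero]
  refine ⟨c * v * y + a₀, ?_, ?_⟩
  · rw [Polynomial.IsRoot, ← Polynomial.taylor_eval]
    exact hgz
  · rw [add_sub_cancel_right]
    exact Ideal.mul_mem_right _ _ (Ideal.mul_mem_right _ _ h₀)

end Groth.Agent.S16174
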