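import Groth.Statements.S16409
import Mathlib
-- import your own Groth.Agent.* helpers here

set_option autoImplicit false
universe v u
open CategoryTheory CategoryTheory.Limits CategoryTheory.Pretriangulated
open W4c3perfectstacks W4c3perfectstacks.MVSq

namespace Groth.Agent.S16409

open CategoryTheory CategoryTheory.Limits CategoryTheory.Pretriangulated in
theorem bij_aux {D : Type u} [Category.{v} D] [Preadditive D] [HasZeroObject D] [HasShift D ℤ]
    [∀ n : ℤ, (shiftFunctor D n).Additive] [Pretriangulated D]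
    (T : Triangle D) (hT : T ∈ distTriang D) (X : D) (h0 : ∀ u : X ⟶ T.obj₃, u = 0)
    (h1 : ∀ u : X⟦(1 : ℤ)⟧ ⟶ T.obj₃, u = 0) :
    Function.Bijective (fun g : X ⟶ T.obj₁ => g ≫ T.mor₁) := by
  constructor
  · intro g g' hgg
    simp only at hgg
    rw [← sub_eq_zero, ← Preadditive.sub_comp] at hgg
    rw [← sub_eq_zero]
    have h2 : (shiftFunctor D (1 : ℤ)).map (g - g') ≫ T.mor₁⟦(1 : ℤ)⟧' = 0 := by
      rw [← Functor.map_comp, hgg, Functor.map_zero]
    obtain ⟨u, hu⟩ := Triangle.coyoneda_exact₁ T hT _ h2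
    rw [h1 u, zero_comp] at hu
    exact (shiftFunctor D (1 : ℤ)).map_injective (by rw [hu, Functor.map_zero])
  · intro f
    obtain ⟨g, hg⟩ := Triangle.coyoneda_exact₂ T hT f (h0 _)
    exact ⟨g, hg.symm⟩

/-- In a Mayer–Vietoris square of triangulated categories (single-square form), let M be an object over
X' whose restriction to U' is zero and let N be any object over X. Then the pullback functor along
X' → X is bijective on morphisms f_* M ⟶ N; since the counit f^* f_* M ⟶ M is invertible for such M,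
composing with its inverse gives a bijection Hom(f_* M, N) ≃ Hom(M, f^* N). (The four categories are
taken in common universes.) -/
theorem result
    (S S' R R' : Type u) [Category.{v} S] [Category.{v} S'] [Category.{v} R] [Category.{v} R']
    [Preadditive S] [Preadditive S'] [Preadditive R] [Preadditive R']
    [HasZeroObject S] [HasZeroObject S'] [HasZeroObject R] [HasZeroObject R']
    [HasShift S ℤ] [HasShift S' ℤ] [HasShift R ℤ] [HasShift R' ℤ]
    [∀ n : ℤ, (shiftFunctor S n).Additive] [∀ n : ℤ, (shiftFunctor S' n).Additive]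
    [∀ n : ℤ, (shiftFunctor R n).Additive] [∀ n : ℤ, (shiftFunctor R' n).Additive]
    [Pretriangulated S] [Pretriangulated S'] [Pretriangulated R] [Pretriangulated R']
    [IsTriangulated S] [IsTriangulated S'] [IsTriangulated R] [IsTriangulated R']
    (q : W4c3perfectstacks.MVSq S S' R R')
    [q.jst.CommShift ℤ] [q.fst.CommShift ℤ] [q.jpst.CommShift ℤ] [q.gst.CommShift ℤ]
    [q.jst.IsTriangulated] [q.fst.IsTriangulated] [q.jpst.IsTriangulated] [q.gst.IsTriangulated]
    (hq : q.IsMV) (M : S') (hM : IsZero (q.jpst.obj M)) (N : S) :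
    Function.Bijective (fun g : q.fls.obj M ⟶ N => q.fst.map g) := by
  set X := q.fls.obj M with hX
  have := hq.isIso_counitJ
  have hglsadd : q.gls.Additive := q.adjG.right_adjoint_additive
  -- j^* X = 0
  have hjX : IsZero (q.jst.obj X) := by
    have h1 := hq.isIso_bcApp M
    have h2 : IsZero (q.gls.obj (q.jpst.obj M)) := q.gls.map_isZero hM
    exact h2.of_iso (asIso (q.bcApp M))
  have hjpX : IsZero (q.jpst.obj (q.fst.obj X)) :=
    (q.gst.map_isZero hjX).of_iso (q.e.app X).symm
  obtain ⟨K, a, h, hT⟩ := distinguished_cocone_triangle₁ (q.adjJ.unit.app N)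
  -- j^* K = 0
  have hjK : IsZero (q.jst.obj K) := by
    have hT' := q.jst.map_distinguished _ hT
    refine ((q.jst.mapTriangle.obj _).isZero₁_iff_isIso₂ hT').2 ?_
    show IsIso (q.jst.map (q.adjJ.unit.app N))
    have h1 := q.adjJ.left_triangle_components N
    rw [IsIso.eq_inv_of_inv_hom_id h1]; infer_instance
  have hu := hq.isIso_unitF K hjK
  -- Hom(X, j_* Y) = 0
  have hz0 : ∀ (Y : R) (X : S) (_ : IsZero (q.jst.obj X)) (u : X ⟶ q.jls.obj Y), u = 0 := by
    intro Y X hX u
    apply (q.adjJ.homEquiv X Y).symm.injective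
    exact hX.eq_of_src _ _
  have hzp : ∀ (Y : R') (X : S') (_ : IsZero (q.jpst.obj X)) (u : X ⟶ q.jpls.obj Y), u = 0 := by
    intro Y X hX u
    apply (q.adjJp.homEquiv X Y).symm.injective
    exact hX.eq_of_src _ _
  have hjX1 : IsZero (q.jst.obj (X⟦(1 : ℤ)⟧)) :=
    ((shiftFunctor R (1 : ℤ)).map_isZero hjX).of_iso ((q.jst.commShiftIso (1 : ℤ)).app X)
  have hjpX1 : IsZero (q.jpst.obj ((q.fst.obj X)⟦(1 : ℤ)⟧)) :=
    ((shiftFunctor R' (1 : ℤ)).map_isZero hjpX).of_iso ((q.jpst.commShiftIso (1 : ℤ)).app (q.fst.obj X))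
  have b1 : Function.Bijective (fun g : X ⟶ K => g ≫ a) :=
    bij_aux _ hT X (hz0 _ X hjX) (hz0 _ _ hjX1)
  have hT2 := q.fst.map_distinguished _ hT
  have hi := hq.isIso_bc2App (q.jst.obj N)
  have hz3 : ∀ (Z : S') (_ : IsZero (q.jpst.obj Z)) (u : Z ⟶ q.fst.obj (q.jls.obj (q.jst.obj N))), u = 0 := by
    intro Z hZ u
    have h1 := hzp _ Z hZ (u ≫ q.bc2App (q.jst.obj N))
    rw [← cancel_mono (q.bc2App (q.jst.obj N)), h1, zero_comp]
  have b2 : Function.Bijective (fun g : q.fst.obj X ⟶ q.fst.obj K => g ≫ q.fst.map a) :=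
    bij_aux _ hT2 (q.fst.obj X) (hz3 _ hjpX) (hz3 _ hjpX1)
  have b3 : Function.Bijective (fun g : X ⟶ K => q.fst.map g) := by
    have e1 : (fun g : X ⟶ K => q.fst.map g) =
        (q.adjF.homEquiv X (q.fst.obj K)).symm ∘ (fun g : X ⟶ K => g ≫ q.adjF.unit.app K) := by
      funext g
      simp only [Function.comp_apply]
      rw [Equiv.eq_symm_apply]
      rw [Adjunction.homEquiv_unit, Adjunction.unit_naturality]
    rw [e1]
    refine (Equiv.bijective _).comp ⟨fun x y hxy => ?_, fun y => ⟨y ≫ inv (q.adjF.unit.app K), ?_⟩⟩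
    · exact (cancel_mono _).1 hxy
    · simp
  have hcomp : (fun g : X ⟶ N => q.fst.map g) ∘ (fun g : X ⟶ K => g ≫ a) =
      (fun g : q.fst.obj X ⟶ q.fst.obj K => g ≫ q.fst.map a) ∘ (fun g : X ⟶ K => q.fst.map g) := by
    funext g
    simp only [Function.comp_apply, Functor.map_comp]
  have b4 : Function.Bijective ((fun g : X ⟶ N => q.fst.map g) ∘ (fun g : X ⟶ K => g ≫ a)) := by
    rw [hcomp]; exact b2.comp b3
  exact (Function.Bijective.of_comp_iff _ b1).1 b4

end Groth.Agent.S16409
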