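import Groth.Statements.S16460
import Mathlib
-- import your own Groth.Agent.* helpers here

set_option autoImplicit false
universe u
open AdicGr

namespace Groth.Agent.S16460

/-- Let A be a commutative ring with a decreasing filtration by ideals A = F₀ ⊇ F₁ ⊇ F₂ ⊇ … satisfying
F_m·F_n ⊆ F_{m+n}, and assume the filtration is separated, ⋂ₙ Fₙ = 0. If the associated graded ring
⊕ₙ Fₙ/Fₙ₊₁ is an integral domain, then A is an integral domain. -/
theorem result (A : Type u) [CommRing A]
    (𝓕 : FiltBl.IdealFiltration A) (hsep : ⨅ n, 𝓕.F n = ⊥) [IsDomain (AssocGr.GrRing 𝓕)] :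
    IsDomain A := by
  have hnt : Nontrivial A := (algebraMap A (AssocGr.GrRing 𝓕)).domain_nontrivial
  have hord : ∀ a : A, a ≠ 0 → ∃ n, a ∈ 𝓕.F n ∧ a ∉ 𝓕.F (n + 1) := by
    intro a ha
    have h1 : ∃ n, a ∉ 𝓕.F n := by
      by_contra hcon
      push Not at hcon
      apply ha
      have : a ∈ ⨅ n, 𝓕.F n := (Submodule.mem_iInf _).2 hcon
      rwa [hsep, Ideal.mem_bot] at this
    classical
    have h2 := Nat.find_spec h1
    rcases Nat.eq_zero_or_pos (Nat.find h1) with h0 | hpos
    · rw [h0, 𝓕.zero_eq] at h2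
      exact absurd Submodule.mem_top h2
    · obtain ⟨k, hk⟩ : ∃ k, Nat.find h1 = k + 1 := ⟨Nat.find h1 - 1, by omega⟩
      refine ⟨k, ?_, hk ▸ h2⟩
      by_contra hcon
      exact Nat.find_min h1 (by omega) hcon
  let t : ∀ (a : A) (n : ℕ), a ∈ 𝓕.F n → 𝓕.rees := fun a n ha =>
    ⟨Polynomial.monomial n a, fun m => by
      rw [Polynomial.coeff_monomial]
      split_ifs with h
      · subst h; exact ha
      · exact Ideal.zero_mem _⟩
  have ht : ∀ a n ha, a ∉ 𝓕.F (n + 1) → AssocGr.mkG 𝓕 (t a n ha) ≠ 0 := by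
    intro a n ha hna h
    rw [AssocGr.mkG_eq_zero_iff, AssocGr.mem_succIdeal_iff] at h
    have h1 := h n
    simp only [t, Polynomial.coeff_monomial, if_true] at h1
    exact hna h1
  have hnzd : ∀ a b : A, a ≠ 0 → b ≠ 0 → a * b ≠ 0 := by
    intro a b ha hb hab
    obtain ⟨n, hn, hn'⟩ := hord a ha
    obtain ⟨m, hm, hm'⟩ := hord b hb
    have h1 := mul_ne_zero (ht a n hn hn') (ht b m hm hm')
    rw [← map_mul] at h1
    apply h1
    have h2 : t a n hn * t b m hm = 0 := by
      apply Subtype.ext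
      show Polynomial.monomial n a * Polynomial.monomial m b = 0
      rw [Polynomial.monomial_mul_monomial, hab, Polynomial.monomial_zero_right]
    rw [h2, map_zero]
  haveI : NoZeroDivisors A := ⟨fun {a b} hab => by
    by_contra hcon
    push Not at hcon
    exact hnzd a b hcon.1 hcon.2 hab⟩
  exact NoZeroDivisors.to_isDomain A

end Groth.Agent.S16460
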