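import Groth.Statements.S16737
import Mathlib.Tactic
import Mathlib.RingTheory.Kaehler.Polynomial
import Mathlib.Algebra.MvPolynomial.Expand
import Mathlib.Algebra.MvPolynomial.PDeriv

set_option autoImplicit false
universe u v
open DeRham

namespace Groth.Agent.S16737

/-- The case of affine space over an affine base of characteristic p, in degree zero. Let p be a prime
and R a commutative ring with p = 0 in R. For a polynomial f over R in any set of variables t_i, the
Kähler differential df in Ω_{R[t]/R} vanishes if and only if f is a polynomial in the p-th powers of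
the variables, f = g(t_i^p). Equivalently, the functions on affine space over R killed by the
differential of the de Rham complex are exactly the functions on its Frobenius twist. (The published
computation is for finitely many variables over a noetherian base of characteristic p; the statement
here allows any commutative ring with p = 0 and any set of variables.) -/
theorem result (p : ℕ) [Fact p.Prime]
    (R : Type u) [CommRing R] [CharP R p] (σ : Type v) (f : MvPolynomial σ R) :
    KaehlerDifferential.D R (MvPolynomial σ R) f = 0 ↔
      ∃ g : MvPolynomial σ R, f = MvPolynomial.expand p g := by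
  classical
  have hp0 : (p : R) = 0 := CharP.cast_eq_zero R p
  constructor
  · intro hf
    have hd : ∀ i, MvPolynomial.pderiv i f = 0 := by
      intro i
      rw [← KaehlerDifferential.mvPolynomialBasis_repr_apply, hf, map_zero, Finsupp.zero_apply]
    have hcoef : ∀ (s : σ →₀ ℕ) (i : σ), MvPolynomial.coeff s f ≠ 0 → p ∣ s i := by
      intro s i hs
      by_contra hdiv
      have hsi : s i ≠ 0 := fun h0 => hdiv (h0 ▸ dvd_zero p)
      have h1 := MvPolynomial.coeff_pderiv (i := i) f (s - Finsupp.single i 1)
      rw [hd i, MvPolynomial.coeff_zero] at h1
      have h2 : s - Finsupp.single i 1 + Finsupp.single i 1 = s := by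
        apply tsub_add_cancel_of_le
        intro j
        by_cases hj : i = j
        · subst hj; rw [Finsupp.single_eq_same]; omega
        · rw [Finsupp.single_eq_of_ne (Ne.symm hj)]; exact Nat.zero_le _
      have h3 : (((s - Finsupp.single i 1 : σ →₀ ℕ) i : ℕ) : R) + 1 = ((s i : ℕ) : R) := by
        rw [Finsupp.tsub_apply, Finsupp.single_eq_same]
        have : s i = (s i - 1) + 1 := by omega
        conv_rhs => rw [this]
        push_cast
        rfl
      rw [h2, h3] at h1
      have hcop : Nat.Coprime (s i) p := ((Fact.out : p.Prime).coprime_iff_not_dvd.2 hdiv).symm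
      have hu : IsUnit ((s i : ℕ) : R) := by
        have h4 : IsCoprime ((s i : ℕ) : ℤ) (p : ℤ) := Nat.isCoprime_iff_coprime.2 hcop
        obtain ⟨a, b, hab⟩ := h4
        have h5 : (a : R) * ((s i : ℕ) : R) + (b : R) * (p : R) = 1 := by
          exact_mod_cast congrArg (Int.cast : ℤ → R) hab
        rw [hp0, mul_zero, add_zero] at h5
        exact IsUnit.of_mul_eq_one_right _ h5
      exact hs (hu.mul_left_eq_zero.1 h1.symm)
    refine ⟨∑ s ∈ f.support, MvPolynomial.monomial (s.mapRange (fun n => n / p) (Nat.zero_div p)) (MvPolynomial.coeff s f), ?_⟩
    rw [map_sum]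
    conv_lhs => rw [f.as_sum]
    refine Finset.sum_congr rfl (fun s hs => ?_)
    rw [MvPolynomial.expand_monomial]
    have hs2 : s = p • (s.mapRange (fun n => n / p) (Nat.zero_div p)) := by
      ext i
      rw [Finsupp.smul_apply, Finsupp.mapRange_apply, smul_eq_mul]
      exact (Nat.mul_div_cancel' (hcoef s i (MvPolynomial.mem_support_iff.1 hs))).symm
    rw [← hs2]
  · rintro ⟨g, rfl⟩
    induction g using MvPolynomial.induction_on with
    | C a => rw [MvPolynomial.expand_C]; exact Derivation.map_algebraMap _ a
    | add a b ha hb => rw [map_add, map_add, ha, hb, add_zero]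
    | mul_X a i ha =>
      rw [map_mul, MvPolynomial.expand_X, Derivation.leibniz, ha, smul_zero, add_zero, Derivation.leibniz_pow,
        ← Nat.cast_smul_eq_nsmul R p, hp0, zero_smul, smul_zero]

end Groth.Agent.S16737
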