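import Groth.Statements.S16979
import Mathlib.Tactic
import Mathlib.FieldTheory.IsAlgClosed.AlgebraicClosure
import Mathlib.LinearAlgebra.Matrix.Charpoly.Eigs
import Mathlib.FieldTheory.IsAlgClosed.Spectrum
import Mathlib.FieldTheory.Separable

set_option autoImplicit false
universe u v
open CAlg

namespace Groth.Agent.S16979

/-- Let R be an integral domain with fraction field K and φ a square matrix over R whose characteristic
polynomial becomes separable in K[T] (equivalently, K[T] modulo the characteristic polynomial is
geometrically reduced over K). Then a polynomial f over R satisfies f(φ) = 0 exactly when the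
characteristic polynomial of φ divides f in R[T]: the kernel of evaluation at φ (the minimal ideal
of φ) is the principal ideal generated by the characteristic polynomial. -/
theorem result
    {R : Type u} [CommRing R] [IsDomain R] {n : Type v} [Fintype n] [DecidableEq n]
    (φ : Matrix n n R)
    (hsep : (φ.charpoly.map (algebraMap R (FractionRing R))).Separable) :
    RingHom.ker (Polynomial.aeval (R := R) φ) = Ideal.span {φ.charpoly} := by
  classical
  let K := FractionRing R
  let L := AlgebraicClosure K
  let i : R →+* L := (algebraMap K L).comp (algebraMap R K)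
  have hi : Function.Injective i := (algebraMap K L).injective.comp (IsFractionRing.injective R K)
  ext f
  rw [RingHom.mem_ker, Ideal.mem_span_singleton]
  constructor
  · intro hf
    have hf' : Polynomial.aeval φ f = 0 := hf
    rw [← Polynomial.map_dvd_map i hi (Matrix.charpoly_monic φ)]
    by_cases hf0 : f.map i = 0
    · rw [hf0]; exact dvd_zero _
    have hcp : (φ.map i).charpoly = φ.charpoly.map i := Matrix.charpoly_map φ i
    have hsepL : (φ.charpoly.map i).Separable := by
      have := hsep.map (f := algebraMap K L)
      rwa [Polynomial.map_map] at this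
    have hmonL : (φ.charpoly.map i).Monic := (Matrix.charpoly_monic φ).map i
    have haev : Polynomial.aeval (φ.map i) (f.map i) = 0 := by
      have h1 : (i.mapMatrix (m := n)) (Polynomial.aeval φ f) = Polynomial.aeval (φ.map i) (f.map i) := by
        rw [Polynomial.aeval_def, Polynomial.aeval_def, Polynomial.hom_eval₂, Polynomial.eval₂_map]
        congr 1
        ext r a b
        simp only [RingHom.comp_apply, RingHom.mapMatrix_apply, Matrix.map_apply, Matrix.algebraMap_matrix_apply]
        split_ifs <;> simp
      rw [← h1, hf', map_zero]
    refine (IsAlgClosed.dvd_iff_roots_le_roots hmonL.ne_zero hf0).2 ?_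
    rw [Multiset.le_iff_subset (Polynomial.nodup_roots hsepL)]
    intro μ hμ
    have hμ1 : (φ.charpoly.map i).IsRoot μ := (Polynomial.mem_roots'.1 hμ).2
    rw [← hcp] at hμ1
    have hμ2 : μ ∈ spectrum L (φ.map i) := Matrix.mem_spectrum_of_isRoot_charpoly hμ1
    have hμ3 := spectrum.subset_polynomial_aeval (φ.map i) (f.map i) ⟨μ, hμ2, rfl⟩
    rw [haev] at hμ3
    rw [Polynomial.mem_roots hf0]
    by_contra hne
    apply hμ3
    have hne' : (f.map i).eval μ ≠ 0 := hne
    rw [spectrum.mem_resolventSet_iff, sub_zero]
    exact (IsUnit.mk0 _ hne').map (algebraMap L (Matrix n n L))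
  · rintro ⟨g, rfl⟩
    change Polynomial.aeval φ (φ.charpoly * g) = 0
    rw [map_mul, Matrix.aeval_self_charpoly, zero_mul]

end Groth.Agent.S16979
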