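import Groth.Statements.S17157
import Groth.Agent.Lib.H25_Isoc8

set_option autoImplicit false
universe u
open Isoc

namespace Groth.Agent.S17157

/-- Let k be a finite field of characteristic p, W = W(k), L its fraction field with Frobenius σ, and
let U be the σ-semilinear endomorphism of L² = (Fin 2 → L) determined by U(e₀) = e₀ and U(e₁) = e₀ +
e₁ on the standard basis. Then in (L², U) (an F-isocrystal, though bijectivity of U is not asserted)
the U-stable line L · e₀ admits no U-stable complementary L-subspace; in particular the category of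
F-isocrystals over a finite field is not semisimple. (Over an algebraically closed field a
complement exists.) -/
theorem result
    (p : ℕ) [Fact p.Prime] (k : Type u) [Field k] [CharP k p] [PerfectRing k p] [Finite k]
    (U : (Fin 2 → (FractionRing (WittVector p k))) →ₛₗ[Isoc.frob p k 1] (Fin 2 → (FractionRing (WittVector p k))))
    (hU0 : U (Pi.single 0 1) = Pi.single 0 1)
    (hU1 : U (Pi.single 1 1) = Pi.single 0 1 + Pi.single 1 1)
    (Q : Submodule (FractionRing (WittVector p k)) (Fin 2 → (FractionRing (WittVector p k)))) (hQ : ∀ x ∈ Q, U x ∈ Q) :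
    ¬ IsCompl (Submodule.span (FractionRing (WittVector p k)) {(Pi.single 0 1 : Fin 2 → (FractionRing (WittVector p k)))}) Q := by
  intro hc
  have h1 : (Pi.single 1 1 : Fin 2 → FractionRing (WittVector p k)) ∈
      Submodule.span (FractionRing (WittVector p k)) {(Pi.single 0 1 : Fin 2 → (FractionRing (WittVector p k)))} ⊔ Q := by
    rw [hc.sup_eq_top]; trivial
  obtain ⟨y, hy, q, hq, hyq⟩ := Submodule.mem_sup.1 h1
  obtain ⟨a, rfl⟩ := Submodule.mem_span_singleton.1 hy
  have hUq := hQ q hq
  have hq' : q = Pi.single 1 1 - a • (Pi.single 0 1 : Fin 2 → FractionRing (WittVector p k)) :=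
    eq_sub_of_add_eq' hyq
  have h2 : U q - q = (1 - Isoc.frob p k 1 a + a) • (Pi.single 0 1 : Fin 2 → FractionRing (WittVector p k)) := by
    rw [hq', map_sub, map_smulₛₗ, hU0, hU1, add_smul, sub_smul, one_smul]
    abel
  have h3 : (1 - Isoc.frob p k 1 a + a) • (Pi.single 0 1 : Fin 2 → FractionRing (WittVector p k)) ∈
      Submodule.span (FractionRing (WittVector p k)) {(Pi.single 0 1 : Fin 2 → (FractionRing (WittVector p k)))} ⊓ Q :=
    ⟨Submodule.smul_mem _ _ (Submodule.mem_span_singleton_self _), h2 ▸ Q.sub_mem hUq hq⟩
  rw [hc.inf_eq_bot, Submodule.mem_bot] at h3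
  have h4 : 1 - Isoc.frob p k 1 a + a = 0 := by
    have := congrFun h3 0
    simpa using this
  have h5 : Isoc.frob p k 1 a = a + 1 := by linear_combination -h4
  have h6 : ∀ n : ℕ, (Isoc.frob p k 1)^[n] a = a + n := by
    intro n
    induction n with
    | zero => simp
    | succ n ih => rw [Function.iterate_succ_apply', ih, map_add, h5, map_natCast]; push_cast; ring
  have : Fintype k := Fintype.ofFinite k
  obtain ⟨m, hm, hcard⟩ := FiniteField.card k p
  have h7 : ∀ (n : ℕ) (w : WittVector p k), (Isoc.frob p k 1)^[n] (algebraMap (WittVector p k) _ w) =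
      algebraMap (WittVector p k) _ (WittVector.frobenius^[n] w) := by
    intro n w
    induction n with
    | zero => rfl
    | succ n ih =>
      rw [Function.iterate_succ_apply', ih, Function.iterate_succ_apply', Isoc.frob_algebraMap, zpow_one]
      rfl
  have h8 : ∀ w : WittVector p k, WittVector.frobenius^[(m : ℕ)] w = w := by
    intro w
    ext i
    rw [WittVector.iterate_frobenius_coeff, ← hcard, FiniteField.pow_card]
  have h9 : ∀ (n : ℕ) (x y : FractionRing (WittVector p k)), (Isoc.frob p k 1)^[n] (x / y) =
      (Isoc.frob p k 1)^[n] x / (Isoc.frob p k 1)^[n] y := by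
    intro n x y
    induction n with
    | zero => rfl
    | succ n ih => rw [Function.iterate_succ_apply', ih, map_div₀, Function.iterate_succ_apply',
        Function.iterate_succ_apply']
  have h10 : (Isoc.frob p k 1)^[(m : ℕ)] a = a := by
    obtain ⟨x, y, hy, rfl⟩ := IsFractionRing.div_surjective (A := WittVector p k) a
    rw [h9, h7, h7, h8, h8]
  rw [h6 m] at h10
  have h11 : ((m : ℕ) : FractionRing (WittVector p k)) = 0 := by linear_combination h10
  have h12 : ((m : ℕ) : WittVector p k) = 0 := by
    apply Groth.Agent.H25Isoc.algMap_inj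
    rw [map_natCast, h11, map_zero]
  have := Groth.Agent.H25Isoc.wcharZero (p := p) (k := k)
  have h13 : (m : ℕ) = 0 := by exact_mod_cast h12
  exact m.ne_zero h13

end Groth.Agent.S17157
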