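import Mathlib
import Groth.Statements.S17321
import Groth.Agent.Lib.Helper26_FinAlg

set_option autoImplicit false
universe u v
open CAlg

namespace Groth.Agent.S17321


/-- Let k be an algebraically closed field and A a commutative k-algebra which is finite-dimensional as
a k-vector space (the coordinate ring of a finite k-scheme). Then the space Der(A) of k-derivations
A → A is zero if and only if A is reduced. -/
theorem result (k : Type u) [Field k] [IsAlgClosed k]
    (A : Type v) [CommRing A] [Algebra k A] [Module.Finite k A] :
    Subsingleton (Derivation k A A) ↔ IsReduced A := by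
  have hart : IsArtinianRing A := IsArtinianRing.of_finite k A
  have hnoe : IsNoetherianRing A := inferInstance
  constructor
  · intro hsub
    by_contra hred
    have hex : ∃ P : Ideal A, P.IsPrime ∧ ∃ x ∈ P, x ∉ P * P := by
      by_contra hcon
      push Not at hcon
      apply hred
      refine ⟨fun a ha => ?_⟩
      by_contra ha0
      let I : Ideal A := LinearMap.ker (LinearMap.toSpanSingleton A A a)
      have hmI : ∀ t : A, t ∈ I ↔ t * a = 0 := fun t => by
        rw [LinearMap.mem_ker, LinearMap.toSpanSingleton_apply, smul_eq_mul]
      have hI : I ≠ ⊤ := fun h => ha0 (by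
        have h1 : (1 : A) ∈ I := by rw [h]; trivial
        rw [hmI, one_mul] at h1; exact h1)
      obtain ⟨P, hP, hIP⟩ := Ideal.exists_le_maximal I hI
      have hPP : IsIdempotentElem P := le_antisymm Ideal.mul_le_left (fun x hx => hcon P hP.isPrime x hx)
      obtain ⟨e, he, hPe⟩ := (Ideal.isIdempotentElem_iff_of_fg P (IsNoetherian.noetherian P)).mp hPP
      have haP : a ∈ P := by
        obtain ⟨n, hn⟩ := ha
        exact hP.isPrime.mem_of_pow_mem n (by rw [hn]; exact P.zero_mem)
      have heP : e ∈ P := by rw [hPe]; exact Submodule.mem_span_singleton_self e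
      rw [hPe, Submodule.mem_span_singleton] at haP
      obtain ⟨c, hc⟩ := haP
      rw [smul_eq_mul] at hc
      have h1 : (1 - e) ∈ I := by
        rw [hmI, ← hc]
        have he' : e * e = e := he
        linear_combination (-c) * he'
      have h2 := add_mem (hIP h1) heP
      rw [sub_add_cancel] at h2
      exact hP.ne_top ((Ideal.eq_top_iff_one _).mpr h2)
    obtain ⟨P, hP, x, hxP, hxPP⟩ := hex
    obtain ⟨χ, hχ⟩ := Groth.Agent.H26FinAlg.exists_algHom_ker k A P
    have hmin : P ∈ (Module.annihilator A A).minimalPrimes := by
      refine ⟨⟨hP, ?_⟩, fun Q hQ hle => ?_⟩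
      · intro t ht
        rw [Module.mem_annihilator] at ht
        have := ht 1
        rw [smul_eq_mul, mul_one] at this
        rw [this]; exact P.zero_mem
      · have hQp : Q.IsPrime := hQ.1
        have hQm : Q.IsMaximal := IsArtinianRing.isMaximal_of_isPrime Q
        exact (hQm.eq_of_le hP.ne_top hle).ge
    have hass := Module.associatedPrimes.minimalPrimes_annihilator_subset_associatedPrimes A A hmin
    obtain ⟨-, s, hs⟩ := (Submodule.isAssociatedPrime_iff).mp hass
    have hPs : ∀ a ∈ P, a * s = 0 := fun a ha => by
      rw [hs, Submodule.mem_colon_singleton] at ha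
      simpa using ha
    have hs0 : s ≠ 0 := by
      rintro rfl
      apply hP.ne_top
      rw [hs, eq_top_iff]
      intro a _
      rw [Submodule.mem_colon_singleton]
      simp
    let W : Submodule k A := (P * P).restrictScalars k ⊔ Submodule.span k {1}
    have hχP : ∀ y ∈ P, χ y = 0 := fun y hy => by
      rw [← hχ] at hy; exact hy
    have hxW : x ∉ W := by
      intro h
      obtain ⟨y, hy, z, hz, hyz⟩ := Submodule.mem_sup.mp h
      obtain ⟨c, rfl⟩ := Submodule.mem_span_singleton.mp hz
      have hyP : y ∈ P := Ideal.mul_le_left hy
      have h1 := congrArg χ hyz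
      rw [map_add, hχP y hyP, hχP x hxP, zero_add, map_smul, map_one, smul_eq_mul, mul_one] at h1
      rw [h1, zero_smul, add_zero] at hyz
      rw [← hyz] at hxPP
      exact hxPP hy
    obtain ⟨φ, hφx, hφW⟩ := Submodule.exists_le_ker_of_notMem hxW
    have hφ1 : φ 1 = 0 := hφW (Submodule.mem_sup_right (Submodule.mem_span_singleton_self 1))
    have hφPP : ∀ y ∈ P * P, φ y = 0 := fun y hy => hφW (Submodule.mem_sup_left hy)
    have hP1 : ∀ a : A, a - algebraMap k A (χ a) ∈ P := by
      intro a
      rw [← hχ, RingHom.mem_ker]
      change χ _ = 0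
      rw [map_sub, AlgHom.commutes]; simp
    have hχs : ∀ a : A, a * s = χ a • s := by
      intro a
      have h1 := hPs _ (hP1 a)
      rw [sub_mul, sub_eq_zero] at h1
      rw [h1, Algebra.smul_def]
    let D : Derivation k A A := Derivation.mk' ((LinearMap.toSpanSingleton k A s).comp φ) (by
      intro a b
      simp only [LinearMap.comp_apply, LinearMap.toSpanSingleton_apply, smul_eq_mul]
      rw [mul_smul_comm, mul_smul_comm, hχs a, hχs b, smul_smul, smul_smul, ← add_smul]
      congr 1
      have e : a * b = (a - algebraMap k A (χ a)) * (b - algebraMap k A (χ b)) + χ a • b + χ b • a - (χ a * χ b) • (1 : A) := by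
        simp only [Algebra.smul_def, map_mul]; ring
      have hmem : (a - algebraMap k A (χ a)) * (b - algebraMap k A (χ b)) ∈ P * P := Ideal.mul_mem_mul (hP1 a) (hP1 b)
      rw [e, map_sub, map_add, map_add, hφPP _ hmem, map_smul, map_smul, map_smul, hφ1]
      simp only [smul_eq_mul]; ring)
    have hD : D = 0 := Subsingleton.elim _ _
    have h0 : φ x • s = 0 := congrArg (fun D : Derivation k A A => D x) hD
    rcases smul_eq_zero.mp h0 with h | h
    · exact hφx h
    · exact hs0 h
  · intro hred
    have := Groth.Agent.H26FinAlg.etale_of_reduced k A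
    have hΩ : Subsingleton (KaehlerDifferential k A) := inferInstance
    refine ⟨fun D D' => ?_⟩
    apply (KaehlerDifferential.linearMapEquivDerivation k A (M := A)).symm.injective
    apply LinearMap.ext
    intro w
    rw [Subsingleton.elim w 0, map_zero, map_zero]

end Groth.Agent.S17321
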