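import Mathlib
import Groth.Statements.S17324
import Groth.Agent.Lib.Helper26_FinAlg

set_option autoImplicit false
universe u v
open CAlg

namespace Groth.Agent.S17324


/-- (i) ⟺ (ii): let k be an algebraically closed field, A a commutative k-algebra which is
finite-dimensional as a k-vector space and is a local ring with maximal ideal 𝔪, and a_1, …, a_m ∈
𝔪. Then A is generated as a k-algebra by a_1, …, a_m if and only if 𝔪 is generated as an ideal by
a_1, …, a_m. (The printed lemma has a third equivalent condition, that the images of the a_i span
𝔪/𝔪²; its equivalence with (ii) is Nakayama's lemma.) -/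
theorem result (k : Type u) [Field k] [IsAlgClosed k]
    (A : Type v) [CommRing A] [Algebra k A] [Module.Finite k A] [IsLocalRing A]
    (m : ℕ) (a : Fin m → A) (ha : ∀ i, a i ∈ IsLocalRing.maximalIdeal A) :
    Algebra.adjoin k (Set.range a) = ⊤ ↔ Ideal.span (Set.range a) = IsLocalRing.maximalIdeal A := by
  classical
  have hker : ∃ χ : A →ₐ[k] k, RingHom.ker χ = IsLocalRing.maximalIdeal A :=
    Groth.Agent.H26FinAlg.exists_algHom_ker k A (IsLocalRing.maximalIdeal A)
  obtain ⟨χ, hχ⟩ := hker
  have hχa : ∀ i, χ (a i) = 0 := fun i => by
    have := ha i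
    rw [← hχ] at this
    exact this
  constructor
  · intro h
    apply le_antisymm
    · rw [Ideal.span_le]
      rintro _ ⟨i, rfl⟩
      exact ha i
    · intro x hx
      have hx' : x ∈ Algebra.adjoin k (Set.range a) := by rw [h]; trivial
      have key : ∀ y ∈ Algebra.adjoin k (Set.range a), y - algebraMap k A (χ y) ∈ Ideal.span (Set.range a) := by
        intro y hy
        induction hy using Algebra.adjoin_induction with
        | mem y hy =>
          obtain ⟨i, rfl⟩ := hy
          rw [hχa, map_zero, sub_zero]
          exact Ideal.subset_span ⟨i, rfl⟩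
        | algebraMap r => simp
        | add y z _ _ hy hz =>
          have e : y + z - algebraMap k A (χ (y + z)) = (y - algebraMap k A (χ y)) + (z - algebraMap k A (χ z)) := by
            rw [map_add, map_add]; ring
          rw [e]; exact add_mem hy hz
        | mul y z _ _ hy hz =>
          have e : y * z - algebraMap k A (χ (y * z)) = (y - algebraMap k A (χ y)) * z + algebraMap k A (χ y) * (z - algebraMap k A (χ z)) := by
            rw [map_mul, map_mul]; ring
          rw [e]; exact add_mem (Ideal.mul_mem_right _ _ hy) (Ideal.mul_mem_left _ _ hz)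
      have h1 := key x hx'
      rw [← hχ, RingHom.mem_ker] at hx
      have hx0 : χ x = 0 := hx
      rw [hx0, map_zero, sub_zero] at h1
      exact h1
  · intro h
    have hart : IsArtinianRing A := IsArtinianRing.of_finite k A
    obtain ⟨N, hN⟩ : ∃ N, IsLocalRing.maximalIdeal A ^ N = ⊥ := by
      have := IsArtinianRing.isNilpotent_jacobson_bot (R := A)
      rw [IsLocalRing.jacobson_eq_maximalIdeal ⊥ bot_ne_top] at this
      exact this
    set B := Algebra.adjoin k (Set.range a) with hB
    have haB : ∀ i, a i ∈ B := fun i => Algebra.subset_adjoin ⟨i, rfl⟩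
    -- every element of m^n is in B + m^(n+1)
    have step0 : ∀ x : A, ∃ c : k, x - algebraMap k A c ∈ IsLocalRing.maximalIdeal A := by
      intro x
      refine ⟨χ x, ?_⟩
      rw [← hχ, RingHom.mem_ker]
      change χ _ = 0
      rw [map_sub, AlgHom.commutes]; simp
    have step : ∀ n : ℕ, ∀ x ∈ IsLocalRing.maximalIdeal A ^ n, ∃ b ∈ B, x - b ∈ IsLocalRing.maximalIdeal A ^ (n + 1) := by
      intro n
      induction n with
      | zero =>
        intro x _
        obtain ⟨c, hc⟩ := step0 x
        exact ⟨algebraMap k A c, B.algebraMap_mem c, by rw [zero_add, pow_one]; exact hc⟩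
      | succ n ih =>
        intro x hx
        rw [pow_succ] at hx
        induction hx using Submodule.mul_induction_on' with
        | mem_mul_mem y hy z hz =>
          rw [← h] at hz
          induction hz using Submodule.span_induction with
          | mem z hz =>
            obtain ⟨i, rfl⟩ := hz
            obtain ⟨b, hb, hyb⟩ := ih y hy
            refine ⟨b * a i, mul_mem hb (haB i), ?_⟩
            rw [← sub_mul, pow_succ]
            exact Ideal.mul_mem_mul hyb (ha i)
          | zero => exact ⟨0, zero_mem _, by simp⟩
          | add z w _ _ hz hw =>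
            obtain ⟨b, hb, h1⟩ := hz
            obtain ⟨c, hc, h2⟩ := hw
            refine ⟨b + c, add_mem hb hc, ?_⟩
            have e : y * (z + w) - (b + c) = (y * z - b) + (y * w - c) := by ring
            rw [e]; exact add_mem h1 h2
          | smul r z hz' hz =>
            obtain ⟨b, hb, h1⟩ := hz
            obtain ⟨c, hc⟩ := step0 r
            refine ⟨algebraMap k A c * b, mul_mem (B.algebraMap_mem c) hb, ?_⟩
            have hzm : z ∈ IsLocalRing.maximalIdeal A := by rw [← h]; exact hz'
            have hyz : y * z ∈ IsLocalRing.maximalIdeal A ^ (n + 1) := by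
              rw [pow_succ]; exact Ideal.mul_mem_mul hy hzm
            have hbm : b ∈ IsLocalRing.maximalIdeal A ^ (n + 1) := by
              have e : b = y * z - (y * z - b) := by ring
              rw [e]
              exact sub_mem hyz (Ideal.pow_le_pow_right (Nat.le_succ _) h1)
            have e : y * (r • z) - algebraMap k A c * b = r * (y * z - b) + b * (r - algebraMap k A c) := by
              rw [smul_eq_mul]; ring
            rw [e]
            refine add_mem (Ideal.mul_mem_left _ _ h1) ?_
            rw [pow_succ _ (n + 1)]
            exact Ideal.mul_mem_mul hbm hc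
        | add y _ z _ hy hz =>
          obtain ⟨b, hb, h1⟩ := hy
          obtain ⟨c, hc, h2⟩ := hz
          refine ⟨b + c, add_mem hb hc, ?_⟩
          have e : y + z - (b + c) = (y - b) + (z - c) := by ring
          rw [e]; exact add_mem h1 h2
    have final : ∀ n : ℕ, ∀ x : A, ∃ b ∈ B, x - b ∈ IsLocalRing.maximalIdeal A ^ n := by
      intro n
      induction n with
      | zero => intro x; exact ⟨0, zero_mem _, by simp⟩
      | succ n ih =>
        intro x
        obtain ⟨b, hb, h1⟩ := ih x
        obtain ⟨c, hc, h2⟩ := step n _ h1
        refine ⟨b + c, add_mem hb hc, ?_⟩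
        have e : x - (b + c) = x - b - c := by ring
        rw [e]; exact h2
    rw [eq_top_iff]
    intro x _
    obtain ⟨b, hb, h1⟩ := final N x
    rw [hN, Ideal.mem_bot, sub_eq_zero] at h1
    rw [h1]; exact hb

end Groth.Agent.S17324
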