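import Mathlib
import Groth.Statements.S17326
import Groth.Agent.Lib.Helper26_FinAlg

set_option autoImplicit false
universe u v
open CAlg

namespace Groth.Agent.S17326


/-- Let k be an algebraically closed field of characteristic p > 0, A a commutative k-algebra which is
finite-dimensional as a k-vector space (a finite k-scheme X), and n ≥ 1. The n-th iterated relative
Frobenius morphism X → X^(p^n) is an isomorphism if and only if X is reduced; on rings: the map a ↦
a^(p^n) of A to itself (which is the ring homomorphism underlying the relative Frobenius, the twist
A^(p^n) having the same underlying ring as A) is bijective if and only if A is reduced. -/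
theorem result (k : Type u) [Field k] [IsAlgClosed k]
    (p : ℕ) [Fact p.Prime] [CharP k p] (A : Type v) [CommRing A] [Algebra k A] [Module.Finite k A]
    (n : ℕ) (hn : 1 ≤ n) :
    Function.Bijective (fun a : A => a ^ p ^ n) ↔ IsReduced A := by
  have hp : p.Prime := Fact.out
  constructor
  · intro h
    have h1 : 1 < p ^ n := Nat.one_lt_pow (by omega) hp.one_lt
    rw [isReduced_iff_pow_one_lt (p ^ n) h1]
    intro x hx
    apply h.1
    simp only [hx]
    rw [zero_pow (by omega)]
  · intro h
    refine ⟨?_, Groth.Agent.H26FinAlg.frob_surj k A p n⟩
    rcases subsingleton_or_nontrivial A with hs | hn'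
    · intro x y _; exact Subsingleton.elim _ _
    · have : CharP A p := charP_of_injective_algebraMap (algebraMap k A).injective p
      have : ExpChar A p := ExpChar.prime hp
      intro x y hxy
      exact iterateFrobenius_inj A p n (by simpa [iterateFrobenius_def] using hxy)

end Groth.Agent.S17326
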