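import Mathlib
import Groth.Statements.S17332

set_option autoImplicit false
universe u v w
open CAlg

namespace Groth.Agent.S17332


/-- Let k be a field, E and F finite sets, and O(E), O(F) the k-algebras of k-valued functions with
pointwise operations. Then every k-algebra homomorphism u : O(F) → O(E) is pull-back along a unique
map φ : E → F, i.e. u(g) = g ∘ φ for all g. (In the source k is algebraically closed; the printed
argument only uses that k is a field.) -/
theorem result (k : Type u) [Field k] (E : Type v) [Finite E]
    (F : Type w) [Finite F] (u : (F → k) →ₐ[k] (E → k)) :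
    ∃! φ : E → F, ∀ g : F → k, u g = g ∘ φ := by
  classical
  have := Fintype.ofFinite F
  have h1 : ∀ e : E, ∃ f : F, u (Pi.single f 1) e ≠ 0 := by
    intro e
    by_contra hcon
    push Not at hcon
    have h2 : (∑ f : F, (Pi.single f 1 : F → k)) = 1 := Finset.univ_sum_single (1 : F → k)
    have h3 : u (∑ f : F, (Pi.single f 1 : F → k)) e = 0 := by
      rw [map_sum, Finset.sum_apply]
      exact Finset.sum_eq_zero (fun f _ => hcon f)
    rw [h2, map_one] at h3
    exact one_ne_zero h3
  choose φ hφ using h1
  refine ⟨φ, fun g => ?_, fun ψ hψ => ?_⟩
  · funext e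
    have h4 : g * Pi.single (φ e) 1 = (g (φ e)) • (Pi.single (φ e) 1 : F → k) := by
      ext f
      by_cases hf : f = φ e
      · subst hf; simp
      · simp [hf]
    have h5 := congrArg (fun w => u w e) h4
    simp only [map_mul, map_smul, Pi.mul_apply, Pi.smul_apply, smul_eq_mul] at h5
    exact mul_right_cancel₀ (hφ e) h5
  · funext e
    by_contra hne
    have h6 := congrFun (hψ (Pi.single (φ e) 1)) e
    apply hφ e
    rw [h6]
    simp [hne]

end Groth.Agent.S17332
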