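import Mathlib
import Groth.Statements.S17333

set_option autoImplicit false
universe u v w
open CAlg

namespace Groth.Agent.S17333


/-- Let k be a field and A = B × C a decomposable commutative k-algebra. Then the natural map Der(B) ×
Der(C) → Der(A) is bijective: every k-derivation D : A → A is (b, c) ↦ (D₁ b, D₂ c) for a unique
pair of k-derivations D₁ : B → B, D₂ : C → C. Compatibility with brackets is not stated. (The
published statement takes k algebraically closed; this row takes any field.) -/
theorem result (k : Type u) [Field k] (B : Type v) [CommRing B] [Algebra k B]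
    (C : Type w) [CommRing C] [Algebra k C] (D : Derivation k (B × C) (B × C)) :
    ∃! P : Derivation k B B × Derivation k C C, ∀ (b : B) (c : C), D (b, c) = (P.1 b, P.2 c) := by
  have hidem : ∀ e : B × C, e * e = e → D e = 0 := by
    intro e he
    have h1 : D e = e * D e + e * D e := by
      conv_lhs => rw [← he]
      rw [Derivation.leibniz]
      rfl
    have h2 : e * D e = 0 := by
      have := congrArg (fun w => e * w) h1
      simp only [mul_add, ← mul_assoc, he] at this
      simpa using this
    rw [h1, h2, add_zero]
  have he1 : D ((1 : B), (0 : C)) = 0 := hidem _ (by ext <;> simp)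
  have he2 : D ((0 : B), (1 : C)) = 0 := hidem _ (by ext <;> simp)
  have hb : ∀ b : B, (D (b, 0)).2 = 0 := by
    intro b
    have h1 : ((b, 0) : B × C) = (1, 0) * (b, 0) := by ext <;> simp
    rw [h1, Derivation.leibniz, he1]
    simp
  have hc : ∀ c : C, (D (0, c)).1 = 0 := by
    intro b
    have h1 : ((0, b) : B × C) = (0, 1) * (0, b) := by ext <;> simp
    rw [h1, Derivation.leibniz, he2]
    simp
  let D1 : Derivation k B B := Derivation.mk'
    { toFun := fun b => (D (b, 0)).1
      map_add' := fun x y => by
        have : ((x + y, 0) : B × C) = (x, 0) + (y, 0) := by ext <;> simp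
        rw [this, map_add]; rfl
      map_smul' := fun r x => by
        have : ((r • x, 0) : B × C) = r • ((x, 0) : B × C) := by ext <;> simp
        rw [this, Derivation.map_smul]; rfl }
    (fun x y => by
      have : ((x * y, 0) : B × C) = (x, 0) * (y, 0) := by ext <;> simp
      simp only [LinearMap.coe_mk, AddHom.coe_mk]
      rw [this, Derivation.leibniz]
      simp)
  let D2 : Derivation k C C := Derivation.mk'
    { toFun := fun b => (D (0, b)).2
      map_add' := fun x y => by
        have : ((0, x + y) : B × C) = (0, x) + (0, y) := by ext <;> simp
        rw [this, map_add]; rfl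
      map_smul' := fun r x => by
        have : ((0, r • x) : B × C) = r • ((0, x) : B × C) := by ext <;> simp
        rw [this, Derivation.map_smul]; rfl }
    (fun x y => by
      have : ((0, x * y) : B × C) = (0, x) * (0, y) := by ext <;> simp
      simp only [LinearMap.coe_mk, AddHom.coe_mk]
      rw [this, Derivation.leibniz]
      simp)
  refine ⟨(D1, D2), ?_, ?_⟩
  · intro b c
    have h1 : ((b, c) : B × C) = (b, 0) + (0, c) := by ext <;> simp
    rw [h1, map_add]
    ext
    · change (D (b, 0)).1 + (D (0, c)).1 = (D (b, 0)).1
      rw [hc, add_zero]
    · change (D (b, 0)).2 + (D (0, c)).2 = (D (0, c)).2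
      rw [hb, zero_add]
  · rintro ⟨P1, P2⟩ hP
    ext x
    · change P1 x = (D (x, 0)).1
      rw [hP x 0]
    · change P2 x = (D (0, x)).2
      rw [hP 0 x]

end Groth.Agent.S17333
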