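import Mathlib
import Groth.Statements.S17334

set_option autoImplicit false
universe u v
open CAlg

namespace Groth.Agent.S17334


/-- Let k be a field and A a nonzero commutative k-algebra which is finite-dimensional as a k-vector
space. Then A is indecomposable (no decomposition as a product of two nonzero rings, i.e. no
idempotent other than 0 and 1) if and only if A is a local ring. (In the source k is algebraically
closed and the lemma adds that the maximal ideal is then the nilradical, is nilpotent, and has
residue field k; the equivalence itself uses only that k is a field, and the zero algebra is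
excluded here explicitly.) -/
theorem result (k : Type u) [Field k]
    (A : Type v) [CommRing A] [Algebra k A] [Module.Finite k A] [Nontrivial A] :
    (∀ e : A, IsIdempotentElem e → e = 0 ∨ e = 1) ↔ IsLocalRing A := by
  constructor
  · intro h
    have : IsArtinianRing A := IsArtinianRing.of_finite k A
    refine IsLocalRing.of_isUnit_or_isUnit_one_sub_self (fun a => ?_)
    obtain ⟨n, y, hy⟩ := IsArtinian.exists_pow_succ_smul_dvd a (1 : A)
    simp only [smul_eq_mul, mul_one] at hy
    have hk : ∀ k : ℕ, a ^ (n + k) * y ^ k = a ^ n := by
      intro k
      induction k with
      | zero => simp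
      | succ k ih =>
        calc a ^ (n + (k + 1)) * y ^ (k + 1) = a ^ k * (a ^ n.succ * y) * y ^ k := by
              rw [Nat.succ_eq_add_one]; ring
          _ = a ^ (n + k) * y ^ k := by rw [hy]; ring
          _ = a ^ n := ih
    have h1 := hk n
    have he : IsIdempotentElem (a ^ n * y ^ n) := by
      change a ^ n * y ^ n * (a ^ n * y ^ n) = a ^ n * y ^ n
      calc a ^ n * y ^ n * (a ^ n * y ^ n) = (a ^ (n + n) * y ^ n) * y ^ n := by ring
        _ = _ := by rw [h1]
    rcases h _ he with h0 | h0
    · right
      have h2 : a ^ n = 0 := by
        calc a ^ n = a ^ (n + n) * y ^ n := h1.symm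
          _ = a ^ n * (a ^ n * y ^ n) := by ring
          _ = 0 := by rw [h0, mul_zero]
      exact IsNilpotent.isUnit_one_sub ⟨n, h2⟩
    · rcases Nat.eq_zero_or_pos n with hn | hn
      · subst hn
        left
        simp only [pow_zero, zero_add, Nat.succ_eq_add_one, pow_one] at hy
        exact IsUnit.of_mul_eq_one _ hy
      · left
        have : a ∣ 1 := by
          rw [← h0]
          exact Dvd.dvd.mul_right (dvd_pow_self a hn.ne') _
        exact isUnit_of_dvd_one this
  · intro h e he
    rcases IsLocalRing.isUnit_or_isUnit_one_sub_self e with h1 | h1
    · right
      exact h1.mul_left_cancel (by rw [mul_one]; exact he)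
    · left
      have h2 : (1 - e) * e = (1 - e) * 0 := by
        have : e * e = e := he
        rw [sub_mul, one_mul, this]; simp
      exact h1.mul_left_cancel h2

end Groth.Agent.S17334
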