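import Mathlib
import Groth.Statements.S17720
import Mathlib

set_option autoImplicit false
universe u
open CAlg

namespace Groth.Agent.S17720

section
open MvPowerSeries
variable (A : Type*) [CommRing A]

noncomputable def del : MvPowerSeries (Fin 2) A →ₗ[A] MvPowerSeries (Fin 2) A where
  toFun p := fun n => ((n 0 : ℕ) - (n 1 : ℕ) : A) * MvPowerSeries.coeff n p
  map_add' p q := by
    ext n
    change ((n 0 : ℕ) - (n 1 : ℕ) : A) * MvPowerSeries.coeff n (p + q) = ((n 0 : ℕ) - (n 1 : ℕ) : A) * MvPowerSeries.coeff n p + ((n 0 : ℕ) - (n 1 : ℕ) : A) * MvPowerSeries.coeff n q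
    rw [map_add, mul_add]
  map_smul' c p := by
    ext n
    change ((n 0 : ℕ) - (n 1 : ℕ) : A) * MvPowerSeries.coeff n (c • p) = c * (((n 0 : ℕ) - (n 1 : ℕ) : A) * MvPowerSeries.coeff n p)
    rw [map_smul, smul_eq_mul]; ring

lemma coeff_del (p : MvPowerSeries (Fin 2) A) (n : Fin 2 →₀ ℕ) :
    MvPowerSeries.coeff n (del A p) = ((n 0 : ℕ) - (n 1 : ℕ) : A) * MvPowerSeries.coeff n p := rfl

lemma del_mul (p q : MvPowerSeries (Fin 2) A) : del A (p * q) = p * del A q + q * del A p := by
  classical
  ext n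
  rw [coeff_del, map_add, mul_comm q, MvPowerSeries.coeff_mul, MvPowerSeries.coeff_mul, MvPowerSeries.coeff_mul,
    ← Finset.sum_add_distrib, Finset.mul_sum]
  apply Finset.sum_congr rfl
  intro x hx
  rw [Finset.HasAntidiagonal.mem_antidiagonal] at hx
  rw [coeff_del, coeff_del, ← hx]
  simp only [Finsupp.add_apply, Nat.cast_add]
  ring

lemma del_C (c : A) : del A (MvPowerSeries.C c) = 0 := by
  classical
  ext n
  rw [coeff_del, MvPowerSeries.coeff_C]
  split_ifs with h
  · subst h; simp
  · simp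

lemma del_X0 : del A (MvPowerSeries.X 0) = MvPowerSeries.X 0 := by
  classical
  ext n
  rw [coeff_del, MvPowerSeries.coeff_X]
  split_ifs with h
  · subst h; simp
  · simp

lemma del_X1 : del A (MvPowerSeries.X 1) = - MvPowerSeries.X 1 := by
  classical
  ext n
  rw [coeff_del, map_neg, MvPowerSeries.coeff_X]
  split_ifs with h
  · subst h; simp
  · simp

def J (B : Type*) [CommRing B] [Algebra A B] : Ideal B :=
  Ideal.span {b | ∃ (D : Derivation A B B) (c : B), D c = b}

lemma J_equiv {B B' : Type*} [CommRing B] [Algebra A B] [CommRing B'] [Algebra A B'] (φ : B ≃ₐ[A] B') (a : A)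
    (h : algebraMap A B a ∈ J A B) : algebraMap A B' a ∈ J A B' := by
  have h1 : (J A B).map (φ : B →+* B') ≤ J A B' := by
    rw [J, Ideal.map_span, Ideal.span_le]
    rintro _ ⟨_, ⟨D, c, rfl⟩, rfl⟩
    apply Ideal.subset_span
    refine ⟨Derivation.mk' (φ.toLinearMap ∘ₗ D.toLinearMap ∘ₗ φ.symm.toLinearMap) ?_, φ c, ?_⟩
    · intro x y
      simp
    · simp
  have h2 := h1 (Ideal.mem_map_of_mem (φ : B →+* B') h)
  have h3 : (φ : B →+* B') (algebraMap A B a) = algebraMap A B' a := φ.commutes a
  rwa [h3] at h2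

lemma exists_decomp (p : MvPowerSeries (Fin 2) A) : ∃ (c : A) (p1 p2 : MvPowerSeries (Fin 2) A),
    p = MvPowerSeries.C c + MvPowerSeries.X 0 * p1 + MvPowerSeries.X 1 * p2 := by
  classical
  refine ⟨MvPowerSeries.constantCoeff p, fun n => MvPowerSeries.coeff (n + Finsupp.single 0 1) p,
    fun n => if n 0 = 0 then MvPowerSeries.coeff (n + Finsupp.single 1 1) p else 0, ?_⟩
  ext n
  rw [map_add, map_add, MvPowerSeries.X_def, MvPowerSeries.X_def, MvPowerSeries.coeff_monomial_mul,
    MvPowerSeries.coeff_monomial_mul, MvPowerSeries.coeff_C]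
  have hle0 : (Finsupp.single (0 : Fin 2) 1 ≤ n) ↔ 1 ≤ n 0 := by
    rw [Finsupp.single_le_iff]
  have hle1 : (Finsupp.single (1 : Fin 2) 1 ≤ n) ↔ 1 ≤ n 1 := by
    rw [Finsupp.single_le_iff]
  by_cases h0 : 1 ≤ n 0
  · have hn : n ≠ 0 := by rintro rfl; simp at h0
    have hs : (Finsupp.single (0 : Fin 2) 1 ≤ n) := hle0.mpr h0
    rw [if_neg hn, if_pos hs, zero_add, one_mul]
    have e1 : MvPowerSeries.coeff (n - Finsupp.single 0 1) (fun n => MvPowerSeries.coeff (n + Finsupp.single 0 1) p : MvPowerSeries (Fin 2) A)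
      = MvPowerSeries.coeff (n - Finsupp.single 0 1 + Finsupp.single 0 1) p := rfl
    rw [e1, tsub_add_cancel_of_le hs]
    split_ifs with h1
    · have e2 : MvPowerSeries.coeff (n - Finsupp.single 1 1) (fun n => if n 0 = 0 then MvPowerSeries.coeff (n + Finsupp.single 1 1) p else 0 : MvPowerSeries (Fin 2) A)
        = if (n - Finsupp.single 1 1 : Fin 2 →₀ ℕ) 0 = 0 then MvPowerSeries.coeff (n - Finsupp.single 1 1 + Finsupp.single 1 1) p else 0 := rfl
      rw [e2, if_neg]
      · simp
      · simp; omega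
    · simp
  · have hs : ¬ (Finsupp.single (0 : Fin 2) 1 ≤ n) := fun h => h0 (hle0.mp h)
    rw [if_neg hs]
    by_cases h1 : 1 ≤ n 1
    · have hs1 : (Finsupp.single (1 : Fin 2) 1 ≤ n) := hle1.mpr h1
      have hn : n ≠ 0 := by rintro rfl; simp at h1
      rw [if_neg hn, if_pos hs1]
      have e2 : MvPowerSeries.coeff (n - Finsupp.single 1 1) (fun n => if n 0 = 0 then MvPowerSeries.coeff (n + Finsupp.single 1 1) p else 0 : MvPowerSeries (Fin 2) A)
        = if (n - Finsupp.single 1 1 : Fin 2 →₀ ℕ) 0 = 0 then MvPowerSeries.coeff (n - Finsupp.single 1 1 + Finsupp.single 1 1) p else 0 := rfl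
      rw [e2, if_pos, tsub_add_cancel_of_le hs1]
      · simp
      · simp; omega
    · have hs1 : ¬ (Finsupp.single (1 : Fin 2) 1 ≤ n) := fun h => h1 (hle1.mp h)
      have hn : n = 0 := by
        ext i
        fin_cases i
        · simp; omega
        · simp; omega
      rw [if_neg hs1, if_pos hn, hn]
      simp

lemma mem_J_iff (α a : A) :
    algebraMap A (MvPowerSeries (Fin 2) A ⧸ Ideal.span {(X 0 * X 1 - C α : MvPowerSeries (Fin 2) A)}) a ∈
      J A (MvPowerSeries (Fin 2) A ⧸ Ideal.span {(X 0 * X 1 - C α : MvPowerSeries (Fin 2) A)}) ↔ a ∈ Ideal.span {α} := by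
  classical
  set I : Ideal (MvPowerSeries (Fin 2) A) := Ideal.span {(X 0 * X 1 - C α : MvPowerSeries (Fin 2) A)} with hI
  have hα : Ideal.Quotient.mk I (X 0) * Ideal.Quotient.mk I (X 1) = algebraMap A (MvPowerSeries (Fin 2) A ⧸ I) α := by
    rw [← map_mul]
    change _ = Ideal.Quotient.mk I (C α)
    rw [Ideal.Quotient.eq]
    exact Ideal.subset_span rfl
  constructor
  · intro h
    let ε : (MvPowerSeries (Fin 2) A ⧸ I) →+* A ⧸ Ideal.span {α} :=
      Ideal.Quotient.lift I ((Ideal.Quotient.mk (Ideal.span {α})).comp (MvPowerSeries.constantCoeff)) (by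
        intro p hp
        rw [hI, Ideal.mem_span_singleton] at hp
        obtain ⟨q, rfl⟩ := hp
        rw [RingHom.comp_apply, Ideal.Quotient.eq_zero_iff_mem, map_mul, map_sub, map_mul]
        simp only [MvPowerSeries.constantCoeff_X, MvPowerSeries.constantCoeff_C, zero_mul, zero_sub]
        exact Ideal.mul_mem_right _ _ (neg_mem (Ideal.mem_span_singleton_self α)))
    have hε : ∀ p, ε (Ideal.Quotient.mk I p) = Ideal.Quotient.mk (Ideal.span {α}) (MvPowerSeries.constantCoeff p) := fun p => rfl
    have hJ : J A (MvPowerSeries (Fin 2) A ⧸ I) ≤ RingHom.ker ε := by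
      rw [J, Ideal.span_le]
      rintro _ ⟨D, c, rfl⟩
      rw [SetLike.mem_coe, RingHom.mem_ker]
      have hD : Ideal.Quotient.mk I (X 0) * D (Ideal.Quotient.mk I (X 1)) + Ideal.Quotient.mk I (X 1) * D (Ideal.Quotient.mk I (X 0)) = 0 := by
        have := D.leibniz (Ideal.Quotient.mk I (X 0)) (Ideal.Quotient.mk I (X 1))
        rw [hα, Derivation.map_algebraMap] at this
        exact this.symm
      obtain ⟨u, hu⟩ := Ideal.Quotient.mk_surjective (D (Ideal.Quotient.mk I (X 0)))
      obtain ⟨v, hv⟩ := Ideal.Quotient.mk_surjective (D (Ideal.Quotient.mk I (X 1)))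
      rw [← hu, ← hv, ← map_mul, ← map_mul, ← map_add, Ideal.Quotient.eq_zero_iff_mem, hI, Ideal.mem_span_singleton] at hD
      obtain ⟨w, hw⟩ := hD
      have hu0 : ε (D (Ideal.Quotient.mk I (X 0))) = 0 := by
        rw [← hu, hε, Ideal.Quotient.eq_zero_iff_mem]
        have := congrArg (MvPowerSeries.coeff (Finsupp.single 1 1)) hw
        rw [map_add, sub_mul, map_sub, mul_assoc, MvPowerSeries.X_def, MvPowerSeries.X_def, MvPowerSeries.coeff_monomial_mul,
          MvPowerSeries.coeff_monomial_mul, MvPowerSeries.coeff_monomial_mul, if_neg (by rw [Finsupp.single_le_iff]; simp), if_pos le_rfl, if_neg (by rw [Finsupp.single_le_iff]; simp),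
          MvPowerSeries.coeff_C_mul, tsub_self] at this
        rw [← MvPowerSeries.coeff_zero_eq_constantCoeff_apply]
        rw [Ideal.mem_span_singleton]
        refine ⟨- MvPowerSeries.coeff (Finsupp.single 1 1) w, ?_⟩
        linear_combination this
      have hv0 : ε (D (Ideal.Quotient.mk I (X 1))) = 0 := by
        rw [← hv, hε, Ideal.Quotient.eq_zero_iff_mem]
        have := congrArg (MvPowerSeries.coeff (Finsupp.single 0 1)) hw
        rw [map_add, sub_mul, map_sub, mul_comm (X 0) (X 1), mul_assoc, MvPowerSeries.X_def, MvPowerSeries.X_def, MvPowerSeries.coeff_monomial_mul,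
          MvPowerSeries.coeff_monomial_mul, MvPowerSeries.coeff_monomial_mul, if_pos le_rfl, if_neg (by rw [Finsupp.single_le_iff]; simp), if_neg (by rw [Finsupp.single_le_iff]; simp),
          MvPowerSeries.coeff_C_mul, tsub_self] at this
        rw [← MvPowerSeries.coeff_zero_eq_constantCoeff_apply]
        rw [Ideal.mem_span_singleton]
        refine ⟨- MvPowerSeries.coeff (Finsupp.single 0 1) w, ?_⟩
        linear_combination this
      obtain ⟨p, rfl⟩ := Ideal.Quotient.mk_surjective c
      obtain ⟨c0, p1, p2, rfl⟩ := exists_decomp A p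
      have hx0 : ε (Ideal.Quotient.mk I (X 0)) = 0 := by rw [hε]; simp
      have hx1 : ε (Ideal.Quotient.mk I (X 1)) = 0 := by rw [hε]; simp
      have hC : D (Ideal.Quotient.mk I (C c0)) = 0 := D.map_algebraMap c0
      have e1 : Ideal.Quotient.mk I (C c0 + X 0 * p1 + X 1 * p2) = Ideal.Quotient.mk I (C c0) + Ideal.Quotient.mk I (X 0) * Ideal.Quotient.mk I p1 + Ideal.Quotient.mk I (X 1) * Ideal.Quotient.mk I p2 := by
        rw [map_add, map_add, map_mul, map_mul]
      rw [e1, Derivation.map_add, Derivation.map_add, Derivation.leibniz, Derivation.leibniz, hC]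
      simp only [smul_eq_mul, map_add, map_mul, map_zero, hx0, hx1, hu0, hv0, mul_zero, zero_mul, add_zero]
    have := hJ h
    rw [RingHom.mem_ker] at this
    change ε (Ideal.Quotient.mk I (C a)) = 0 at this
    rw [hε, MvPowerSeries.constantCoeff_C, Ideal.Quotient.eq_zero_iff_mem] at this
    exact this
  · intro h
    rw [Ideal.mem_span_singleton] at h
    obtain ⟨b, rfl⟩ := h
    rw [map_mul, ← hα, mul_assoc]
    apply Ideal.mul_mem_right
    apply Ideal.subset_span
    have hdel : ∀ p ∈ I, del A p ∈ I := by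
      intro p hp
      rw [hI, Ideal.mem_span_singleton] at hp ⊢
      obtain ⟨q, rfl⟩ := hp
      refine ⟨del A q, ?_⟩
      have e : del A (X 0 * X 1 - C α) = 0 := by
        rw [map_sub, del_mul, del_C, del_X0, del_X1]; ring
      rw [del_mul, e]; ring
    have hwd : ∀ p q, Ideal.Quotient.mk I p = Ideal.Quotient.mk I q → Ideal.Quotient.mk I (del A p) = Ideal.Quotient.mk I (del A q) := by
      intro p q hpq
      rw [Ideal.Quotient.eq] at hpq ⊢
      rw [← map_sub]
      exact hdel _ hpq
    let σ : (MvPowerSeries (Fin 2) A ⧸ I) → MvPowerSeries (Fin 2) A := Function.surjInv Ideal.Quotient.mk_surjective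
    have hσ : ∀ b, Ideal.Quotient.mk I (σ b) = b := Function.surjInv_eq Ideal.Quotient.mk_surjective
    let D₀ : (MvPowerSeries (Fin 2) A ⧸ I) →ₗ[A] (MvPowerSeries (Fin 2) A ⧸ I) :=
      { toFun := fun b => Ideal.Quotient.mk I (del A (σ b))
        map_add' := fun x y => by
          rw [← map_add, ← map_add]
          apply hwd
          rw [hσ, map_add, hσ, hσ]
        map_smul' := fun c x => by
          have e : ∀ p : MvPowerSeries (Fin 2) A, c • Ideal.Quotient.mk I p = Ideal.Quotient.mk I (c • p) := fun p => rfl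
          rw [RingHom.id_apply, e, ← map_smul]
          apply hwd
          rw [hσ, ← e, hσ] }
    have hD₀ : ∀ p, D₀ (Ideal.Quotient.mk I p) = Ideal.Quotient.mk I (del A p) := fun p => hwd _ _ (hσ _)
    refine ⟨Derivation.mk' D₀ ?_, Ideal.Quotient.mk I (X 0), ?_⟩
    · intro x y
      obtain ⟨p, rfl⟩ := Ideal.Quotient.mk_surjective x
      obtain ⟨q, rfl⟩ := Ideal.Quotient.mk_surjective y
      rw [← map_mul, hD₀, hD₀, hD₀, del_mul, map_add, map_mul, map_mul]
      rfl
    · change D₀ (Ideal.Quotient.mk I (X 0)) = _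
      rw [hD₀, del_X0]
end

open MvPowerSeries IsLocalRing in
/-- Let A be a Noetherian local ring and α, β two elements of its maximal ideal. If the quotient of the
power series ring in two variables over A by xy − α is isomorphic, as an A-algebra, to the quotient
by xy − β, then αA = βA. (The published statement allows any local ring A; it is taken Noetherian
here, the case in which an algebra isomorphism between these complete local rings is continuous for
their adic topologies.) -/
theorem result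
    (A : Type u) [CommRing A] [IsLocalRing A] [IsNoetherianRing A]
    (α β : A) (hα : α ∈ maximalIdeal A) (hβ : β ∈ maximalIdeal A)
    (φ : (MvPowerSeries (Fin 2) A ⧸ Ideal.span {(X 0 * X 1 - C α : MvPowerSeries (Fin 2) A)}) ≃ₐ[A] (MvPowerSeries (Fin 2) A ⧸ Ideal.span {(X 0 * X 1 - C β : MvPowerSeries (Fin 2) A)})) :
    Ideal.span {α} = Ideal.span {β} := by
  ext a
  rw [← mem_J_iff A α a, ← mem_J_iff A β a]
  exact ⟨fun h => J_equiv A φ a h, fun h => J_equiv A φ.symm a h⟩

end Groth.Agent.S17720
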