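import Mathlib
import Groth.Statements.S17721
import Mathlib

set_option autoImplicit false
universe u
open CAlg

namespace Groth.Agent.S17721

theorem key {R : Type*} [CommRing R] [IsDomain R] (ϖ : R) (hp : Prime ϖ) (N : ℕ) :
    ∀ (f B : PowerSeries R) (u : R), IsUnit u → B * f = PowerSeries.C (ϖ ^ N * u) →
      (∃ i, ¬ PowerSeries.coeff 0 f ∣ PowerSeries.coeff i f) → False := by
  have hdiv : ∀ g : PowerSeries R, PowerSeries.map (Ideal.Quotient.mk (Ideal.span {ϖ})) g = 0 →
      ∃ g', g = PowerSeries.C ϖ * g' := by
    intro g hg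
    have h : ∀ j, ∃ c, PowerSeries.coeff j g = ϖ * c := by
      intro j
      have := congrArg (PowerSeries.coeff j) hg
      rw [PowerSeries.coeff_map, map_zero, Ideal.Quotient.eq_zero_iff_mem, Ideal.mem_span_singleton] at this
      exact this
    choose c hc using h
    refine ⟨PowerSeries.mk c, ?_⟩
    ext j
    rw [PowerSeries.coeff_C_mul, PowerSeries.coeff_mk, hc j]
  have hC0 : (PowerSeries.C ϖ : PowerSeries R) ≠ 0 := by
    intro h
    apply hp.ne_zero
    have := congrArg (PowerSeries.coeff 0) h
    simpa using this
  induction N with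
  | zero =>
    intro f B u hu h ⟨i, hi⟩
    apply hi
    have h0 := congrArg PowerSeries.constantCoeff h
    rw [map_mul, PowerSeries.constantCoeff_C, pow_zero, one_mul] at h0
    have : IsUnit (PowerSeries.constantCoeff B * PowerSeries.constantCoeff f) := h0 ▸ hu
    have h1 : IsUnit (PowerSeries.constantCoeff f) := isUnit_of_mul_isUnit_right this
    rw [PowerSeries.coeff_zero_eq_constantCoeff_apply]
    exact h1.dvd
  | succ N ih =>
    intro f B u hu h hi
    haveI : (Ideal.span {ϖ}).IsPrime := (Ideal.span_singleton_prime hp.ne_zero).mpr hp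
    have hm := congrArg (PowerSeries.map (Ideal.Quotient.mk (Ideal.span {ϖ}))) h
    have hz : (Ideal.Quotient.mk (Ideal.span {ϖ})) (ϖ ^ (N + 1) * u) = 0 := by
      rw [Ideal.Quotient.eq_zero_iff_mem, Ideal.mem_span_singleton, pow_succ]
      exact ⟨ϖ ^ N * u, by ring⟩
    rw [map_mul, PowerSeries.map_C, hz, map_zero] at hm
    rcases mul_eq_zero.mp hm with hB | hf
    · obtain ⟨B', rfl⟩ := hdiv B hB
      refine ih f B' u hu ?_ hi
      apply mul_left_cancel₀ hC0
      rw [← mul_assoc, h, ← map_mul, pow_succ]
      congr 1
      ring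
    · obtain ⟨f', rfl⟩ := hdiv f hf
      refine ih f' B u hu ?_ ?_
      · apply mul_left_cancel₀ hC0
        rw [mul_left_comm, h, ← map_mul, pow_succ]
        congr 1
        ring
      · obtain ⟨i, hi⟩ := hi
        refine ⟨i, fun hd => hi ?_⟩
        rw [PowerSeries.coeff_C_mul, PowerSeries.coeff_C_mul]
        exact mul_dvd_mul_left _ hd

open Polynomial IsLocalRing in
/-- Let R be a complete discrete valuation ring with fraction field K, and f a polynomial over R with
non-zero constant term a₀ such that a₀ does not divide some coefficient of f of positive degree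
(equivalently, the Newton polygon of f has a side of negative slope). Let b be the power series over
K with b · f = a₀, the expansion of the geometric series in 1 − f/a₀. Then the valuations of the
coefficients b_j are not bounded below: for every non-zero c in R there is an index j with c · b_j
outside R. -/
theorem result
    (R : Type u) [CommRing R] [IsDomain R] [IsDiscreteValuationRing R]
    [IsAdicComplete (maximalIdeal R) R]
    (K : Type u) [Field K] [Algebra R K] [IsFractionRing R K]
    (f : R[X]) (h0 : f.coeff 0 ≠ 0) (hslope : ∃ i : ℕ, 0 < i ∧ ¬ (f.coeff 0 ∣ f.coeff i))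
    (b : PowerSeries K)
    (hb : b * ((f.map (algebraMap R K) : K[X]) : PowerSeries K) = PowerSeries.C (algebraMap R K (f.coeff 0))) :
    ∀ c : R, c ≠ 0 → ∃ j : ℕ, algebraMap R K c * PowerSeries.coeff j b ∉ (algebraMap R K).range := by
  intro c hc
  by_contra hcon
  push Not at hcon
  have hinj : Function.Injective (algebraMap R K) := IsFractionRing.injective R K
  choose B hB using hcon
  obtain ⟨ϖ, hϖ⟩ := IsDiscreteValuationRing.exists_irreducible R
  have hca : c * f.coeff 0 ≠ 0 := mul_ne_zero hc h0
  obtain ⟨N, u, hNu⟩ := IsDiscreteValuationRing.eq_unit_mul_pow_irreducible hca hϖ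
  refine key ϖ hϖ.prime N (f : PowerSeries R) (PowerSeries.mk B) u u.isUnit ?_ ?_
  · rw [mul_comm (ϖ ^ N), ← hNu]
    have hmapinj : Function.Injective (PowerSeries.map (algebraMap R K)) := by
      intro x y hxy
      ext j
      apply hinj
      rw [← PowerSeries.coeff_map, ← PowerSeries.coeff_map, hxy]
    apply hmapinj
    have h1 : PowerSeries.map (algebraMap R K) (PowerSeries.mk B) = PowerSeries.C (algebraMap R K c) * b := by
      ext j
      rw [PowerSeries.coeff_map, PowerSeries.coeff_mk, PowerSeries.coeff_C_mul, hB j]
    have h2 : PowerSeries.map (algebraMap R K) (f : PowerSeries R) = ((f.map (algebraMap R K) : K[X]) : PowerSeries K) := by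
      ext j
      rw [PowerSeries.coeff_map, Polynomial.coeff_coe, Polynomial.coeff_coe, Polynomial.coeff_map]
    rw [map_mul, h1, h2, mul_assoc, hb, PowerSeries.map_C, map_mul, map_mul]
  · obtain ⟨i, _, hi⟩ := hslope
    exact ⟨i, by rw [Polynomial.coeff_coe, Polynomial.coeff_coe]; exact hi⟩

end Groth.Agent.S17721
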