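import Mathlib
import Groth.Statements.S17723
import Mathlib

set_option autoImplicit false
universe u
open LabGraph

namespace Groth.Agent.S17723

theorem key {V E : Type*} (ends : E → V × V) (l : E → ℕ) (f : V → ℤ)
    (hf : ∀ e : E, (l e : ℤ) ∣ f (ends e).1 - f (ends e).2) (n q : ℕ) (h : ∀ e, ¬ l e ∣ n → q ∣ l e) :
    ∃ g : V → ℤ, (∀ v, (q : ℤ) ∣ g v - f v) ∧ ∀ e, ¬ l e ∣ n → g (ends e).1 = g (ends e).2 := by
  let r : V → V → Prop := fun u v => ∃ e, ¬ l e ∣ n ∧ ends e = (u, v)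
  refine ⟨fun v => f (Quot.mk r v).out, fun v => ?_, fun e he => ?_⟩
  · let F : Quot r → ZMod q := Quot.lift (fun v => ((f v : ℤ) : ZMod q)) (by
      rintro u v ⟨e, he, hev⟩
      have h1 := hf e
      rw [hev] at h1
      have h2 : (q : ℤ) ∣ f u - f v := (Int.natCast_dvd_natCast.mpr (h e he)).trans h1
      exact ((ZMod.intCast_eq_intCast_iff_dvd_sub _ _ _).mpr h2).symm)
    have h3 : F (Quot.mk r (Quot.mk r v).out) = F (Quot.mk r v) := by rw [Quot.out_eq]
    exact (ZMod.intCast_eq_intCast_iff_dvd_sub _ _ _).mp h3.symm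
  · have h4 : Quot.mk r (ends e).1 = Quot.mk r (ends e).2 := Quot.sound ⟨e, he, rfl⟩
    change f (Quot.mk r (ends e).1).out = f (Quot.mk r (ends e).2).out
    rw [h4]

theorem prime_step {V E : Type*} [Fintype E] (ends : E → V × V) (l : E → ℕ) (hl : ∀ e, 0 < l e) (f : V → ℤ)
    (hf : ∀ e : E, (l e : ℤ) ∣ f (ends e).1 - f (ends e).2) (p : ℕ) (hp : p.Prime) :
    ∃ m : ℕ, ¬ p ∣ m ∧ (m : ℤ) • f ∈ Submodule.span ℤ {g : V → ℤ | ∃ n : ℕ, 0 < n ∧ (∀ v, (n : ℤ) ∣ g v) ∧
      ∀ e, ¬ (l e ∣ n) → g (ends e).1 = g (ends e).2} := by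
  have hN0 : (∏ e, l e) ≠ 0 := Finset.prod_ne_zero_iff.mpr fun e _ => (hl e).ne'
  obtain ⟨a, m, hm, hN⟩ := Nat.exists_eq_pow_mul_and_not_dvd hN0 p hp.ne_one
  have hm0 : 0 < m := by
    rcases Nat.eq_zero_or_pos m with h | h
    · subst h; simp at hm
    · exact h
  refine ⟨m, hm, ?_⟩
  have hpa : ∀ e, l e ∣ p ^ a * m := fun e => hN ▸ Finset.dvd_prod_of_mem _ (Finset.mem_univ e)
  have hk : ∀ k e, ¬ l e ∣ m * p ^ k → p ^ (k + 1) ∣ l e := by
    intro k e he
    obtain ⟨b, c, hc, hle⟩ := Nat.exists_eq_pow_mul_and_not_dvd (hl e).ne' p hp.ne_one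
    have hcm : c ∣ m := by
      have h1 : c ∣ p ^ a * m := (Dvd.intro_left _ hle.symm).trans (hpa e)
      exact (Nat.Coprime.pow_right a ((Nat.Prime.coprime_iff_not_dvd hp).mpr hc).symm).dvd_of_dvd_mul_left h1
    have hb : k + 1 ≤ b := by
      by_contra hb
      apply he
      rw [hle, mul_comm]
      exact mul_dvd_mul hcm (pow_dvd_pow _ (by omega))
    rw [hle]
    exact (pow_dvd_pow p hb).trans (dvd_mul_right _ _)
  choose g hg1 hg2 using fun k => key ends l f hf (m * p ^ k) (p ^ (k + 1)) (hk k)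
  have hpp : ∀ k, 0 < m * p ^ k := fun k => Nat.mul_pos hm0 (pow_pos hp.pos k)
  have hmem : ∀ k, (m : ℤ) • g k ∈ Submodule.span ℤ {g : V → ℤ | ∃ n : ℕ, 0 < n ∧ (∀ v, (n : ℤ) ∣ g v) ∧
      ∀ e, ¬ (l e ∣ n) → g (ends e).1 = g (ends e).2} := by
    intro k
    induction k with
    | zero =>
      apply Submodule.subset_span
      refine ⟨m * p ^ 0, hpp 0, fun v => ?_, fun e he => ?_⟩
      · rw [pow_zero, mul_one, Pi.smul_apply, smul_eq_mul]; exact dvd_mul_right _ _
      · rw [Pi.smul_apply, Pi.smul_apply, hg2 0 e he]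
    | succ k ih =>
      have h1 : (m : ℤ) • g (k + 1) = (m : ℤ) • g k + (m : ℤ) • (g (k + 1) - g k) := by rw [smul_sub]; abel
      rw [h1]
      refine add_mem ih (Submodule.subset_span ⟨m * p ^ (k + 1), hpp _, fun v => ?_, fun e he => ?_⟩)
      · rw [Pi.smul_apply, smul_eq_mul, Nat.cast_mul]
        apply mul_dvd_mul_left
        have h2 := hg1 k v
        have h3 : ((p ^ (k + 1) : ℕ) : ℤ) ∣ g (k + 1) v - f v := by
          refine dvd_trans ?_ (hg1 (k + 1) v)
          exact Int.natCast_dvd_natCast.mpr (pow_dvd_pow p (by omega))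
        have h4 := dvd_sub h3 h2
        have h5 : g (k + 1) v - f v - (g k v - f v) = (g (k + 1) - g k) v := by
          rw [Pi.sub_apply]; ring
        rwa [h5] at h4
      · have he' : ¬ l e ∣ m * p ^ k := fun h => he (h.trans (mul_dvd_mul_left _ (pow_dvd_pow p (by omega))))
        rw [Pi.smul_apply, Pi.smul_apply, Pi.sub_apply, Pi.sub_apply, hg2 (k + 1) e he, hg2 k e he']
  have h1 : (m : ℤ) • f = (m : ℤ) • g a - (m : ℤ) • (g a - f) := by rw [smul_sub]; abel
  rw [h1]
  refine sub_mem (hmem a) (Submodule.subset_span ⟨m * p ^ a, hpp _, fun v => ?_, fun e he => ?_⟩)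
  · rw [Pi.smul_apply, smul_eq_mul, Nat.cast_mul]
    apply mul_dvd_mul_left
    refine dvd_trans ?_ (hg1 a v)
    exact Int.natCast_dvd_natCast.mpr (pow_dvd_pow p (by omega))
  · exact absurd (mul_comm (p ^ a) m ▸ hpa e) he

/-- Let G be a finite connected multigraph with endpoint map ends and edge labels l taking positive
integer values. We say g : V → ℤ is elementary-Cartier if, for some integer n ≥ 1, all values of g
are multiples of n and, for each edge whose label fails to divide n, g agrees at its two endpoints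
(equivalently, once the edges with label dividing n are removed, g takes a single value on each
connected piece of what remains). Then every Cartier function f (for each edge, the label divides
the difference of the values of f at its endpoints) lies in the ℤ-span of the elementary-Cartier
functions. -/
theorem result
    {V E : Type u} [Fintype V] [Fintype E] [DecidableEq V] [DecidableEq E]
    (ends : E → V × V) (l : E → ℕ) (hl : ∀ e, 0 < l e) (hconn : LabGraph.Connected ends)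
    (f : V → ℤ) (hf : LabGraph.IsCartier ends l f) :
    f ∈ Submodule.span ℤ {g : V → ℤ | ∃ n : ℕ, 0 < n ∧ (∀ v, (n : ℤ) ∣ g v) ∧
      ∀ e, ¬ (l e ∣ n) → g (ends e).1 = g (ends e).2} := by
  set S : Submodule ℤ (V → ℤ) := Submodule.span ℤ {g : V → ℤ | ∃ n : ℕ, 0 < n ∧ (∀ v, (n : ℤ) ∣ g v) ∧
      ∀ e, ¬ (l e ∣ n) → g (ends e).1 = g (ends e).2} with hS
  let I : Submodule ℤ ℤ := S.comap (LinearMap.toSpanSingleton ℤ (V → ℤ) f)
  have hI : ∀ c : ℤ, c ∈ I ↔ c • f ∈ S := fun c => Iff.rfl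
  obtain ⟨d, hd⟩ := (IsPrincipalIdealRing.principal I).principal
  have hd1 : d.natAbs = 1 := by
    by_contra hne
    obtain ⟨p, hp, hpd⟩ := Nat.exists_prime_and_dvd hne
    obtain ⟨m, hm, hmf⟩ := prime_step ends l hl f hf p hp
    rw [← hS, ← hI, hd, Submodule.mem_span_singleton] at hmf
    obtain ⟨c, hc⟩ := hmf
    apply hm
    rw [← Int.natCast_dvd_natCast, ← hc]
    exact Dvd.dvd.mul_left (Int.natCast_dvd.mpr hpd) _
  have h1 : (1 : ℤ) ∈ I := by
    rw [hd, Submodule.mem_span_singleton]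
    rcases Int.natAbs_eq d with h | h
    · exact ⟨1, by rw [h, hd1]; simp⟩
    · exact ⟨-1, by rw [h, hd1]; simp⟩
  rw [hI, one_smul] at h1
  exact h1

end Groth.Agent.S17723
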