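import Mathlib
import Groth.Statements.S17726

set_option autoImplicit false
universe u
open CAlg

namespace Groth.Agent.S17726

lemma aux (A : Type u) [CommRing A] (f : A) (hf : f ∈ nonZeroDivisors A) (hu : ¬ IsUnit f)
    (a b : ℕ) (h : Ideal.span {f ^ a} = Ideal.span {f ^ b}) : a ≤ b := by
  by_contra hlt
  push Not at hlt
  obtain ⟨c, rfl⟩ := Nat.exists_eq_add_of_lt hlt
  have h1 : f ^ b ∈ Ideal.span {f ^ (b + c + 1)} := by rw [h]; exact Ideal.mem_span_singleton_self _
  rw [Ideal.mem_span_singleton] at h1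
  obtain ⟨d, hd⟩ := h1
  have h2 : f ^ b * 1 = f ^ b * (f * (f ^ c * d)) := by
    rw [mul_one]; nth_rw 1 [hd]; ring
  have h3 := (mem_nonZeroDivisors_iff_right.mp (pow_mem hf b))
  have h4 : 1 = f * (f ^ c * d) := by
    have := h3 (1 - f * (f ^ c * d)) (by rw [sub_mul, mul_comm (1 : A), h2]; ring)
    exact sub_eq_zero.mp this
  exact hu (IsUnit.of_mul_eq_one _ h4.symm)

lemma aux2 (A : Type u) [CommRing A] (f g : A) (hf : f ∈ nonZeroDivisors A) (hu : ¬ IsUnit f)
    (m₁ n₁ m₂ n₂ : ℕ)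
    (h₁ : Ideal.span {g ^ m₁} = Ideal.span {f ^ n₁})
    (h₂ : Ideal.span {g ^ m₂} = Ideal.span {f ^ n₂}) :
    m₁ * n₂ = m₂ * n₁ := by
  have h3 : Ideal.span {f ^ (m₁ * n₂)} = Ideal.span {f ^ (m₂ * n₁)} := by
    calc Ideal.span {f ^ (m₁ * n₂)} = (Ideal.span {f ^ n₂}) ^ m₁ := by
          rw [Ideal.span_singleton_pow, ← pow_mul, mul_comm]
      _ = (Ideal.span {g ^ m₂}) ^ m₁ := by rw [h₂]
      _ = (Ideal.span {g ^ m₁}) ^ m₂ := by
          rw [Ideal.span_singleton_pow, ← pow_mul, Ideal.span_singleton_pow, ← pow_mul, mul_comm]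
      _ = (Ideal.span {f ^ n₁}) ^ m₂ := by rw [h₁]
      _ = _ := by rw [Ideal.span_singleton_pow, ← pow_mul, mul_comm]
  exact le_antisymm (aux A f hf hu _ _ h3) (aux A f hf hu _ _ h3.symm)

/-- Let f and g be non-zero-divisors of a commutative ring A, not both units; think of them as local
equations, at a point of the union of the supports, of two effective Cartier divisors E and D. If
the ideals generated by g^{m₁} and f^{n₁} coincide, and likewise for g^{m₂} and f^{n₂}, then m₁ n₂ =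
m₂ n₁: all pairs (m, n) with m D = n E locally at the point are proportional (that the saturation of
the monoid they form is generated by one element is a consequence not stated here). -/
theorem result
    (A : Type u) [CommRing A] (f g : A)
    (hf : f ∈ nonZeroDivisors A) (hg : g ∈ nonZeroDivisors A) (hfg : ¬ (IsUnit f ∧ IsUnit g))
    (m₁ n₁ m₂ n₂ : ℕ)
    (h₁ : Ideal.span {g ^ m₁} = Ideal.span {f ^ n₁})
    (h₂ : Ideal.span {g ^ m₂} = Ideal.span {f ^ n₂}) :
    m₁ * n₂ = m₂ * n₁ := by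
  by_cases hu : IsUnit f
  · have hug : ¬ IsUnit g := fun h => hfg ⟨hu, h⟩
    have := aux2 A g f hg hug n₁ m₁ n₂ m₂ h₁.symm h₂.symm
    linarith
  · exact aux2 A f g hf hu m₁ n₁ m₂ n₂ h₁ h₂

end Groth.Agent.S17726
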