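import Mathlib
import Groth.Statements.S17856

set_option autoImplicit false
universe u
open CategoryTheory CategoryTheory.Limits AlgebraicGeometry TopologicalSpace Opposite

namespace Groth.Agent.S17856

section gen

noncomputable def θ {R : Type u} [CommRing R] {Z : Scheme.{u}} (w : Z ⟶ Spec (CommRingCat.of R)) : CommRingCat.of R ⟶ Γ(Z, ⊤) :=
  (Scheme.ΓSpecIso _).inv ≫ w.appTop

lemma eq_θ {R : Type u} [CommRing R] {Z : Scheme.{u}} (w : Z ⟶ Spec (CommRingCat.of R)) :
    w = Z.toSpecΓ ≫ Spec.map (θ w) := by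
  have h := Scheme.toSpecΓ_naturality w
  rw [θ, Spec.map_comp, ← Category.assoc, ← h, Category.assoc]
  simp

lemma lift_of_isUnit {R S : Type u} [CommRing R] [CommRing S] [Algebra R S] (M : Submonoid R)
    [IsLocalization M S] {Z : Scheme.{u}} (w : Z ⟶ Spec (CommRingCat.of R))
    (hw : ∀ s : M, IsUnit ((θ w).hom (s : R))) :
    ∃ q : Z ⟶ Spec (CommRingCat.of S), q ≫ Spec.map (CommRingCat.ofHom (algebraMap R S)) = w := by
  let ψ : S →+* Γ(Z, ⊤) := IsLocalization.lift (M := M) (g := (θ w).hom) hw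
  have hψ : CommRingCat.ofHom (algebraMap R S) ≫ CommRingCat.ofHom ψ = θ w := by
    exact CommRingCat.hom_ext (IsLocalization.lift_comp hw)
  refine ⟨Z.toSpecΓ ≫ Spec.map (CommRingCat.ofHom ψ), ?_⟩
  rw [Category.assoc, ← Spec.map_comp, hψ, ← eq_θ]

lemma isUnit_θ {R S : Type u} [CommRing R] [CommRing S] [Algebra R S] {Z : Scheme.{u}}
    (g : Z ⟶ Spec (CommRingCat.of S)) (r : R) (hr : IsUnit (algebraMap R S r)) :
    IsUnit ((θ (g ≫ Spec.map (CommRingCat.ofHom (algebraMap R S)))).hom r) := by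
  have : θ (g ≫ Spec.map (CommRingCat.ofHom (algebraMap R S))) =
      CommRingCat.ofHom (algebraMap R S) ≫ θ g := by
    rw [θ, θ, Scheme.Hom.comp_appTop, ← Category.assoc, ← Category.assoc,
      Scheme.ΓSpecIso_inv_naturality]
  rw [this]
  exact hr.map (θ g).hom

lemma mono_loc {R S : Type u} [CommRing R] [CommRing S] [Algebra R S] (M : Submonoid R)
    [IsLocalization M S] : Mono (Spec.map (CommRingCat.ofHom (algebraMap R S))) := by
  have : Epi (CommRingCat.ofHom (algebraMap R S)) := IsLocalization.epi M _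
  exact inferInstanceAs (Mono (Scheme.Spec.map (CommRingCat.ofHom (algebraMap R S)).op))

end gen

section
variable {ι : Type u} (A : ι → CommRingCat.{u})

/-- restriction to the i-th factor -/
noncomputable abbrev ev (R : ι → CommRingCat.{u}) (i : ι) :
    Spec (R i) ⟶ Spec (CommRingCat.of (∀ i, R i)) :=
  Spec.map (CommRingCat.ofHom (Pi.evalRingHom (R ·) i))

/-- The product of the localizations. -/
noncomputable abbrev B (a : ∀ i, A i) : ι → CommRingCat.{u} := fun i => .of (Localization.Away (a i))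

noncomputable abbrev φ (a : ∀ i, A i) : CommRingCat.of (∀ i, A i) ⟶ CommRingCat.of (∀ i, B A a i) :=
  CommRingCat.ofHom (algebraMap (∀ i, A i) (∀ i, Localization.Away (a i)))

lemma isLoc (a : ∀ i, A i) : IsLocalization
    (Submonoid.pi Set.univ (fun i => Submonoid.powers (a i))) (∀ i, Localization.Away (a i)) :=
  inferInstance

lemma φ_ev (a : ∀ i, A i) (i : ι) : ev (B A a) i ≫ Spec.map (φ A a) =
    Spec.map (CommRingCat.ofHom (algebraMap (A i) (Localization.Away (a i)))) ≫ ev A i := by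
  rw [← Spec.map_comp, ← Spec.map_comp]
  congr 1

instance (a : ∀ i, A i) : Flat (Spec.map (φ A a)) := by
  have : (φ A a).hom.Flat := by
    have := isLoc A a
    exact RingHom.flat_algebraMap_iff.mpr
      (IsLocalization.flat (∀ i, Localization.Away (a i)) (Submonoid.pi Set.univ (fun i => Submonoid.powers (a i))))
  rw [HasRingHomProperty.Spec_iff (P := @Flat)]
  exact this

instance (a : ∀ i, A i) : Mono (Spec.map (φ A a)) := by
  have := isLoc A a
  exact mono_loc (Submonoid.pi Set.univ (fun i => Submonoid.powers (a i)))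

/-- a morphism which inverts `a i * b i` componentwise factors through `B (a * b)`. -/
lemma factor (a b : ∀ i, A i) (Z : Scheme.{u})
    (g : Z ⟶ Spec (CommRingCat.of (∀ i, B A a i))) (h : Z ⟶ Spec (CommRingCat.of (∀ i, B A b i)))
    (hgh : g ≫ Spec.map (φ A a) = h ≫ Spec.map (φ A b)) :
    ∃ q : Z ⟶ Spec (CommRingCat.of (∀ i, B A (fun i => a i * b i) i)),
      q ≫ Spec.map (φ A (fun i => a i * b i)) = g ≫ Spec.map (φ A a) := by
  have := isLoc A (fun i => a i * b i)
  have h1 := fun (r : ∀ i, A i) hr => isUnit_θ (R := ∀ i, A i) (S := ∀ i, Localization.Away (a i)) g r hr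
  have h2 := fun (r : ∀ i, A i) hr => isUnit_θ (R := ∀ i, A i) (S := ∀ i, Localization.Away (b i)) h r hr
  refine lift_of_isUnit (R := ∀ i, A i) (S := ∀ i, Localization.Away (a i * b i)) (Submonoid.pi Set.univ (fun i => Submonoid.powers (a i * b i))) (g ≫ Spec.map (φ A a)) ?_
  rintro ⟨s, hs⟩
  rw [Submonoid.mem_pi] at hs
  choose n hn using fun i => hs i trivial
  have hs' : s = (fun i => a i ^ n i) * (fun i => b i ^ n i) := by
    funext i
    rw [← hn i]
    simp [mul_pow]
  subst hs'
  rw [map_mul]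
  refine IsUnit.mul (h1 _ ?_) ?_
  · rw [Pi.isUnit_iff]
    intro i
    change IsUnit (algebraMap (A i) (Localization.Away (a i)) (a i ^ n i))
    rw [map_pow]
    exact (IsLocalization.Away.algebraMap_isUnit (a i)).pow _
  · rw [hgh]
    refine h2 _ ?_
    rw [Pi.isUnit_iff]
    intro i
    change IsUnit (algebraMap (A i) (Localization.Away (b i)) (b i ^ n i))
    rw [map_pow]
    exact (IsLocalization.Away.algebraMap_isUnit (b i)).pow _

lemma restr (a c : ∀ i, A i) (hac : ∀ i, a i ∣ c i) :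
    ∃ r : Spec (CommRingCat.of (∀ i, B A c i)) ⟶ Spec (CommRingCat.of (∀ i, B A a i)),
      r ≫ Spec.map (φ A a) = Spec.map (φ A c) ∧
      ∀ i, ∃ ρ : Spec (B A c i) ⟶ Spec (B A a i),
        ρ ≫ Spec.map (CommRingCat.ofHom (algebraMap (A i) (Localization.Away (a i)))) =
          Spec.map (CommRingCat.ofHom (algebraMap (A i) (Localization.Away (c i)))) ∧
        ev (B A c) i ≫ r = ρ ≫ ev (B A a) i := by
  have := isLoc A a
  have hu : ∀ i (n : ℕ), IsUnit (algebraMap (A i) (Localization.Away (c i)) (a i ^ n)) := by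
    intro i n
    rw [map_pow]
    refine IsUnit.pow _ ?_
    obtain ⟨d, hd⟩ := hac i
    have h1 := IsLocalization.Away.algebraMap_isUnit (S := Localization.Away (c i)) (c i)
    have h2 : algebraMap (A i) (Localization.Away (c i)) (c i) =
      algebraMap (A i) (Localization.Away (c i)) (a i) * algebraMap (A i) (Localization.Away (c i)) d := by
      rw [← map_mul]
      exact congrArg _ hd
    rw [h2] at h1
    exact isUnit_of_mul_isUnit_left h1
  obtain ⟨r, hr⟩ := lift_of_isUnit (R := ∀ i, A i) (S := ∀ i, Localization.Away (a i)) (Submonoid.pi Set.univ (fun i => Submonoid.powers (a i)))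
    (Spec.map (φ A c)) (by
      rintro ⟨s, hs⟩
      rw [Submonoid.mem_pi] at hs
      choose n hn using fun i => hs i trivial
      have h1 := isUnit_θ (R := ∀ i, A i) (S := ∀ i, Localization.Away (c i)) (𝟙 _) s (by
        rw [Pi.isUnit_iff]
        intro i
        change IsUnit (algebraMap (A i) (Localization.Away (c i)) (s i))
        rw [← hn i]
        exact hu i _)
      rwa [Category.id_comp] at h1)
  refine ⟨r, hr, fun i => ?_⟩
  obtain ⟨ρ, hρ⟩ := lift_of_isUnit (R := A i) (S := Localization.Away (a i)) (Submonoid.powers (a i))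
    (Spec.map (CommRingCat.ofHom (algebraMap (A i) (Localization.Away (c i))))) (by
      rintro ⟨s, n, hn⟩
      have h1 := isUnit_θ (R := A i) (S := Localization.Away (c i)) (𝟙 _) s (by
        rw [← hn]
        exact hu i _)
      rwa [Category.id_comp] at h1)
  refine ⟨ρ, hρ, ?_⟩
  rw [← cancel_mono (Spec.map (φ A a)), Category.assoc, Category.assoc, hr, φ_ev, φ_ev, ← Category.assoc]
  congr 1
  exact hρ.symm

lemma exists_elems (X : Scheme.{u}) (𝒰 : X.OpenCover) [Fintype 𝒰.I₀] (R : CommRingCat.{u}) (f : Spec R ⟶ X) :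
    ∃ a : 𝒰.I₀ → R, (∀ j, (PrimeSpectrum.basicOpen (a j) : Set (PrimeSpectrum R)) ⊆ f ⁻¹' (Set.range (𝒰.f j))) ∧ ∑ j, a j = 1 := by
  classical
  let I : 𝒰.I₀ → Ideal R := fun j => PrimeSpectrum.vanishingIdeal ((f ⁻¹' (Set.range (𝒰.f j)))ᶜ)
  have hI : ⨆ j ∈ (Finset.univ : Finset 𝒰.I₀), I j = ⊤ := by
    rw [← PrimeSpectrum.zeroLocus_empty_iff_eq_top]
    by_contra hne
    obtain ⟨x, hx⟩ := Set.nonempty_iff_ne_empty.mpr hne
    have h1 := 𝒰.covers (f x)
    have h2 : x ∈ PrimeSpectrum.zeroLocus (I (𝒰.idx (f x)) : Set R) :=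
      PrimeSpectrum.zeroLocus_anti_mono (le_iSup₂_of_le (f := fun j (_ : j ∈ (Finset.univ : Finset 𝒰.I₀)) => I j) (𝒰.idx (f x)) (Finset.mem_univ _) le_rfl) hx
    rw [PrimeSpectrum.zeroLocus_vanishingIdeal_eq_closure, IsClosed.closure_eq] at h2
    · exact h2 h1
    · rw [isClosed_compl_iff]
      exact (𝒰.f _).isOpenEmbedding.isOpen_range.preimage f.continuous
  have h1 : (1 : R) ∈ ⨆ j ∈ (Finset.univ : Finset 𝒰.I₀), I j := by rw [hI]; trivial
  rw [Submodule.mem_iSup_finset_iff_exists_sum] at h1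
  obtain ⟨μ, hμ⟩ := h1
  refine ⟨fun j => (μ j : R), fun j x hx => ?_, hμ⟩
  by_contra hxj
  have := (μ j).2
  rw [PrimeSpectrum.mem_vanishingIdeal] at this
  exact hx (this x hxj)

lemma cov {J : Type*} [Fintype J] (a : ∀ i, J → A i) (hsum : ∀ i, ∑ j, a i j = 1) (y : PrimeSpectrum (∀ i, A i)) :
    ∃ j, ∀ n : ι → ℕ, (fun i => a i j ^ n i) ∉ y.asIdeal := by
  classical
  by_contra hcon
  push Not at hcon
  choose n hn using hcon
  let N : ι → ℕ := fun i => Finset.univ.sup (fun j => n j i)
  have h1 : ∀ j, (fun i => a i j ^ N i) ∈ y.asIdeal := by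
    intro j
    have : (fun i => a i j ^ N i) = (fun i => a i j ^ (N i - n j i)) * (fun i => a i j ^ n j i) := by
      funext i
      change _ = a i j ^ (N i - n j i) * a i j ^ n j i
      rw [← pow_add, Nat.sub_add_cancel]
      exact Finset.le_sup (f := fun j => n j i) (Finset.mem_univ j)
    rw [this]
    exact Ideal.mul_mem_left _ _ (hn j)
  have h2 : ∀ i, ∃ c : J → A i, ∑ j, c j * a i j ^ N i = 1 := by
    intro i
    have h3 : Ideal.span (Set.range (a i)) = ⊤ := by
      rw [Ideal.eq_top_iff_one, ← hsum i]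
      exact Ideal.sum_mem _ (fun j _ => Ideal.subset_span ⟨j, rfl⟩)
    have h4 := Ideal.span_pow_eq_top _ h3 (N i)
    rw [← Set.range_comp, Ideal.eq_top_iff_one, Ideal.mem_span_range_iff_exists_fun] at h4
    exact h4
  choose c hc using h2
  apply y.2.ne_top
  rw [Ideal.eq_top_iff_one]
  have h5 : (1 : ∀ i, A i) = ∑ j, (fun i => c i j) * (fun i => a i j ^ N i) := by
    funext i
    rw [Finset.sum_apply]
    exact (hc i).symm
  rw [h5]
  exact Ideal.sum_mem _ (fun j _ => Ideal.mul_mem_left _ _ (h1 j))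

set_option backward.isDefEq.respectTransparency.types false in
lemma glue (S : Scheme.{u}) [IsAffine S] (J : Type u) [Finite J] (R : J → CommRingCat.{u}) (p : ∀ j, Spec (R j) ⟶ S)
    [∀ j, Flat (p j)] (idx : S → J) (hidx : ∀ y, y ∈ Set.range (p (idx y))) (X : Scheme.{u})
    (x : ∀ j, Spec (R j) ⟶ X) (hx : ∀ (j k : J) (Z : Scheme.{u}) (gj : Z ⟶ Spec (R j)) (gk : Z ⟶ Spec (R k)),
      gj ≫ p j = gk ≫ p k → gj ≫ x j = gk ≫ x k) : ∃ t : S ⟶ X, ∀ j, p j ≫ t = x j := by
  let P : MorphismProperty Scheme.{u} := @Flat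
  let 𝒱 : S.AffineCover P :=
    { I₀ := J
      X := R
      f := p
      idx := idx
      covers := hidx
      map_prop := fun j => inferInstanceAs (Flat (p j)) }
  have hfin : Finite 𝒱.I₀ := inferInstanceAs (Finite J)
  have hsh := (GrothendieckTopology.Subcanonical.isSheaf_of_isRepresentable
    (J := Scheme.fpqcTopology) (yoneda.obj X)).isSheafFor _ (Scheme.Cover.mem_propQCTopology 𝒱.cover)
  rw [Presieve.isSheafFor_arrows_iff] at hsh
  obtain ⟨t, ht, -⟩ := hsh x hx
  exact ⟨t, ht⟩

theorem surj (X : Scheme.{u}) [CompactSpace X] [QuasiSeparatedSpace X]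
    (f : ∀ i, Spec (A i) ⟶ X) :
    ∃ g : Spec (CommRingCat.of (∀ i, A i)) ⟶ X, ∀ i, ev A i ≫ g = f i := by
  classical
  let 𝒰 : X.OpenCover := X.affineCover.finiteSubcover
  have : Finite 𝒰.I₀ := inferInstance
  have := Fintype.ofFinite 𝒰.I₀
  choose a ha hsum using fun i => exists_elems X 𝒰 (A i) (f i)
  have key : ∀ j, ∃ x : Spec (CommRingCat.of (∀ i, B A (fun i => a i j) i)) ⟶ X, ∀ i,
      ev (B A (fun i => a i j)) i ≫ x =
        Spec.map (CommRingCat.ofHom (algebraMap (A i) (Localization.Away (a i j)))) ≫ f i := by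
    intro j
    have hr : ∀ i, Set.range (Spec.map (CommRingCat.ofHom (algebraMap (A i) (Localization.Away (a i j)))) ≫ f i) ⊆ Set.range (𝒰.f j) := by
      intro i
      rintro _ ⟨y, rfl⟩
      have : (Spec.map (CommRingCat.ofHom (algebraMap (A i) (Localization.Away (a i j))))) y ∈ (PrimeSpectrum.basicOpen (a i j) : Set (PrimeSpectrum (A i))) := by
        rw [← PrimeSpectrum.localization_away_comap_range (Localization.Away (a i j)) (a i j)]
        exact ⟨y, rfl⟩
      exact ha i j this
    obtain ⟨x, hx⟩ := pointsPi_surjective_of_isAffine (B A (fun i => a i j)) (𝒰.X j)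
      (fun i => IsOpenImmersion.lift (𝒰.f j) _ (hr i))
    refine ⟨x ≫ 𝒰.f j, fun i => ?_⟩
    have h1 := congr_fun hx i
    rw [← Category.assoc]
    have h2 : ev (B A (fun i => a i j)) i ≫ x = IsOpenImmersion.lift (𝒰.f j) _ (hr i) := h1
    rw [h2, IsOpenImmersion.lift_fac]
  choose x hx using key
  -- cover
  have hcov : ∀ y : Spec (CommRingCat.of (∀ i, A i)), ∃ j, y ∈ Set.range (Spec.map (φ A (fun i => a i j))) := by
    intro y
    obtain ⟨j, hj⟩ := cov A a hsum y
    refine ⟨j, ?_⟩
    have := isLoc A (fun i => a i j)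
    have h1 := PrimeSpectrum.localization_comap_range (∀ i, Localization.Away (a i j)) (Submonoid.pi Set.univ (fun i => Submonoid.powers (a i j)))
    have h2 : y ∈ Set.range (PrimeSpectrum.comap (algebraMap (∀ i, A i) (∀ i, Localization.Away (a i j)))) := by
      rw [h1]
      change Disjoint _ _
      rw [Set.disjoint_left]
      intro s hs hsy
      have hs' : s ∈ Submonoid.pi Set.univ (fun i => Submonoid.powers (a i j)) := hs
      rw [Submonoid.mem_pi] at hs'
      choose n hn using fun i => hs' i trivial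
      apply hj n
      have : (fun i => a i j ^ n i) = s := funext hn
      rw [this]
      exact hsy
    exact h2
  choose idx hidx using hcov
  have compat : ∀ (j k : 𝒰.I₀) (Z : Scheme.{u})
      (gj : Z ⟶ Spec (CommRingCat.of (∀ i, B A (fun i => a i j) i)))
      (gk : Z ⟶ Spec (CommRingCat.of (∀ i, B A (fun i => a i k) i)))
      (hjk : gj ≫ Spec.map (φ A (fun i => a i j)) = gk ≫ Spec.map (φ A (fun i => a i k))),
      gj ≫ x j = gk ≫ x k := by
    intro j k Z gj gk hjk
    obtain ⟨q, hq⟩ := factor A (fun i => a i j) (fun i => a i k) Z gj gk hjk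
    obtain ⟨rj, hrj, hj⟩ := restr A (fun i => a i j) (fun i => a i j * a i k) (fun i => Dvd.intro _ rfl)
    obtain ⟨rk, hrk, hk⟩ := restr A (fun i => a i k) (fun i => a i j * a i k) (fun i => Dvd.intro_left _ rfl)
    have h1 : q ≫ rj = gj := by
      rw [← cancel_mono (Spec.map (φ A (fun i => a i j))), Category.assoc, hrj, hq]
    have h2 : q ≫ rk = gk := by
      rw [← cancel_mono (Spec.map (φ A (fun i => a i k))), Category.assoc, hrk, hq]
      exact hjk
    rw [← h1, ← h2, Category.assoc, Category.assoc]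
    congr 1
    apply pointsPi_injective (B A (fun i => a i j * a i k)) X
    funext i
    change ev (B A (fun i => a i j * a i k)) i ≫ rj ≫ x j = ev (B A (fun i => a i j * a i k)) i ≫ rk ≫ x k
    obtain ⟨ρj, h3, h4⟩ := hj i
    obtain ⟨ρk, h5, h6⟩ := hk i
    rw [← Category.assoc, h4, Category.assoc, hx j i, ← Category.assoc, h3,
      ← Category.assoc, h6, Category.assoc, hx k i, ← Category.assoc, h5]
  obtain ⟨t, ht⟩ := glue _ 𝒰.I₀ (fun j => CommRingCat.of (∀ i, B A (fun i => a i j) i))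
    (fun j => Spec.map (φ A (fun i => a i j))) idx hidx X x compat
  refine ⟨t, fun i => ?_⟩
  have hspan : Ideal.span (Set.range (a i)) = ⊤ := by
    rw [Ideal.eq_top_iff_one, ← hsum i]
    exact Ideal.sum_mem _ (fun j _ => Ideal.subset_span ⟨j, rfl⟩)
  have hfin : ∀ j : 𝒰.I₀, Spec.map (CommRingCat.ofHom (algebraMap (A i) (Localization.Away (a i j)))) ≫ ev A i ≫ t =
    Spec.map (CommRingCat.ofHom (algebraMap (A i) (Localization.Away (a i j)))) ≫ f i := by
    intro j
    rw [← Category.assoc, ← φ_ev A (fun i => a i j) i, Category.assoc, ht, hx]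
  exact (Scheme.affineOpenCoverOfSpanRangeEqTop (a i) hspan).openCover.hom_ext _ _ (fun j => hfin j)

end

theorem result (X : Scheme.{u}) [CompactSpace X] [QuasiSeparatedSpace X]
    {ι : Type u} (A : ι → CommRingCat.{u}) :
    Function.Bijective (fun f : Spec (CommRingCat.of (∀ i, A i)) ⟶ X =>
      fun i : ι => Spec.map (CommRingCat.ofHom (Pi.evalRingHom (fun j => (A j : Type u)) i)) ≫ f) := by
  refine ⟨pointsPi_injective A X, fun f => ?_⟩
  obtain ⟨g, hg⟩ := surj A X f
  exact ⟨g, funext hg⟩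

end Groth.Agent.S17856
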