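import Mathlib
import Groth.Statements.S17881

set_option autoImplicit false
universe u
open CAlg

namespace Groth.Agent.S17881


/-- Let O be a subring of a nontrivial commutative ring A. The following are equivalent: (i) A is a
local ring, every non-unit of A belongs to O, and for every unit u of A one of u, u⁻¹ belongs to O —
equivalently O is the preimage in the local ring A of a valuation ring of the residue field of A,
which makes O a semi-valuation ring with semi-fraction ring A; (ii) for all f, g in A generating the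
unit ideal, either f ∈ gO or g ∈ fO. (A is taken nontrivial: over the zero ring (ii) holds and (i)
fails.) -/
theorem result (A : Type u) [CommRing A] [Nontrivial A]
    (O : Subring A) :
    (IsLocalRing A ∧ (∀ a : A, ¬ IsUnit a → a ∈ O) ∧ (∀ u : Aˣ, (u : A) ∈ O ∨ ((u⁻¹ : Aˣ) : A) ∈ O)) ↔
      ∀ f g : A, IsCoprime f g → (∃ o ∈ O, f = g * o) ∨ (∃ o ∈ O, g = f * o) := by
  constructor
  · rintro ⟨hloc, hnon, hun⟩ f g ⟨a, b, hab⟩
    have key : ∀ f g : A, IsUnit g → (∃ o ∈ O, f = g * o) ∨ (∃ o ∈ O, g = f * o) := by
      rintro f _ ⟨g, rfl⟩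
      by_cases hf : IsUnit f
      · obtain ⟨f, rfl⟩ := hf
        rcases hun (g⁻¹ * f) with h | h
        · left
          exact ⟨_, h, by simp⟩
        · right
          exact ⟨_, h, by simp⟩
      · left
        refine ⟨(g⁻¹ : Aˣ) * f, hnon _ ?_, by simp⟩
        intro h
        exact hf (by simpa using h)
    rcases IsLocalRing.isUnit_or_isUnit_of_add_one hab with h | h
    · exact (key g f (isUnit_of_mul_isUnit_right h)).symm
    · exact key f g (isUnit_of_mul_isUnit_right h)
  · intro h
    refine ⟨?_, ?_, ?_⟩
    · refine IsLocalRing.of_isUnit_or_isUnit_one_sub_self (fun a => ?_)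
      rcases h a (1 - a) ⟨1, 1, by ring⟩ with ⟨o, -, ho⟩ | ⟨o, -, ho⟩
      · right
        refine IsUnit.of_mul_eq_one (1 + o) ?_
        rw [mul_add, mul_one, ← ho]; ring
      · left
        refine IsUnit.of_mul_eq_one (1 + o) ?_
        rw [mul_add, mul_one, ← ho]; ring
    · intro a ha
      rcases h a 1 ⟨0, 1, by ring⟩ with ⟨o, ho, ho'⟩ | ⟨o, -, ho⟩
      · rw [ho', one_mul]; exact ho
      · exact absurd (IsUnit.of_mul_eq_one _ ho.symm) ha
    · intro u
      rcases h u 1 ⟨0, 1, by ring⟩ with ⟨o, ho, ho'⟩ | ⟨o, ho, ho'⟩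
      · left
        rw [ho', one_mul]; exact ho
      · right
        have : ((u⁻¹ : Aˣ) : A) = o := by
          rw [Units.inv_eq_of_mul_eq_one_right ho'.symm]
        rw [this]; exact ho

end Groth.Agent.S17881
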