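import Mathlib
import Groth.Statements.S17882

set_option autoImplicit false
universe u
open CAlg

namespace Groth.Agent.S17882


/-- Let B be a commutative ring, r ≥ 1, N a finitely generated submodule of B^r, and n_1, …, n_r ∈ N.
Suppose the determinant of the matrix with rows n_1, …, n_r is a nonzerodivisor of B and that the
determinant of every matrix whose rows lie in N is a multiple of it (the image of the top exterior
power of N in that of B^r ≅ B is the principal ideal generated by n_1 ∧ ⋯ ∧ n_r, a nonzerodivisor).
Then n_1, …, n_r are linearly independent over B and span N: N is free of rank r with this basis. -/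
theorem result (B : Type u) [CommRing B] (r : ℕ) (hr : 0 < r)
    (N : Submodule B (Fin r → B)) (hN : N.FG) (n : Fin r → (Fin r → B)) (hn : ∀ i, n i ∈ N)
    (hgen : ∀ m : Fin r → (Fin r → B), (∀ i, m i ∈ N) →
      Matrix.det (Matrix.of m) ∈ Ideal.span {Matrix.det (Matrix.of n)})
    (hnzd : Matrix.det (Matrix.of n) ∈ nonZeroDivisors B) :
    LinearIndependent B n ∧ Submodule.span B (Set.range n) = N := by
  classical
  have hli : ∀ c : Fin r → B, ∑ i, c i • n i = 0 → c = 0 := by
    intro c hc
    have h1 : Matrix.vecMul c (Matrix.of n) = 0 := by
      rw [Matrix.vecMul_eq_sum]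
      exact hc
    have h2 : Matrix.vecMul (Matrix.vecMul c (Matrix.of n)) (Matrix.of n).adjugate = 0 := by
      rw [h1, Matrix.zero_vecMul]
    rw [Matrix.vecMul_vecMul, Matrix.mul_adjugate, Matrix.vecMul_smul, Matrix.vecMul_one] at h2
    funext i
    have h3 := congrFun h2 i
    simp only [Pi.smul_apply, smul_eq_mul, Pi.zero_apply] at h3
    exact (mem_nonZeroDivisors_iff_right.mp hnzd) _ (by rw [mul_comm]; exact h3)
  refine ⟨?_, ?_⟩
  · rw [Fintype.linearIndependent_iff]
    intro c hc i
    rw [hli c hc]; rfl
  · apply le_antisymm
    · rw [Submodule.span_le]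
      rintro _ ⟨i, rfl⟩
      exact hn i
    · intro x hx
      have h1 : ∀ i, ∃ c, Matrix.det (Matrix.of (Function.update n i x)) = c * Matrix.det (Matrix.of n) := by
        intro i
        have := hgen (Function.update n i x) (by
          intro j
          by_cases hj : j = i
          · subst hj; simpa using hx
          · simpa [hj] using hn j)
        rw [Ideal.mem_span_singleton] at this
        obtain ⟨c, hc⟩ := this
        exact ⟨c, by rw [hc, mul_comm]⟩
      choose c hc using h1
      have h2 : Matrix.det (Matrix.of n) • (x - ∑ i, c i • n i) = 0 := by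
        have h3 : Matrix.vecMul (fun i => Matrix.det (Matrix.of (Function.update n i x))) (Matrix.of n) =
            Matrix.det (Matrix.of n) • x := by
          have h4 : (fun i => Matrix.det (Matrix.of (Function.update n i x))) =
              Matrix.cramer (Matrix.of n).transpose x := by
            funext i
            rw [Matrix.cramer_transpose_apply]
            rfl
          rw [h4, ← Matrix.mulVec_transpose, Matrix.mulVec_cramer, Matrix.det_transpose]
        rw [smul_sub, ← h3, Matrix.vecMul_eq_sum, Finset.smul_sum, ← Finset.sum_sub_distrib]
        refine Finset.sum_eq_zero (fun i _ => ?_)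
        rw [hc i]
        change (c i * _) • n i - _ = 0
        rw [smul_smul, mul_comm, sub_self]
      have h5 : x - ∑ i, c i • n i = 0 := by
        funext j
        have := congrFun h2 j
        simp only [Pi.smul_apply, smul_eq_mul, Pi.zero_apply] at this
        exact (mem_nonZeroDivisors_iff_right.mp hnzd) _ (by rw [mul_comm]; exact this)
      rw [sub_eq_zero.mp h5]
      exact Submodule.sum_mem _ (fun i _ => Submodule.smul_mem _ _ (Submodule.subset_span ⟨i, rfl⟩))

end Groth.Agent.S17882
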