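import Mathlib
import Groth.Statements.S17935
import Groth.Agent.Lib.Helper26_MultCrv2

set_option autoImplicit false
universe u
open MultCrv

namespace Groth.Agent.S17935


/-- Let R be a discrete valuation ring, n ≥ 1, A = R[X]/(X^n), and M a finitely generated A-module. Then
M is reflexive over A (the evaluation map into the double A-dual is bijective) if and only if M is
torsion-free as an R-module. (Statement at a closed point of the sheaf statement on a primitive
multiple curve of multiplicity n, whose local rings are of the form R[X]/(X^n) with R the local ring
of the reduced smooth curve, torsion-freeness of a coherent sheaf there meaning no nonzero subsheaf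
with finite support; stated for every discrete valuation ring R.) -/
theorem result (R : Type u) [CommRing R] [IsDomain R] [IsDiscreteValuationRing R] (n : ℕ) (hn : 1 ≤ n) (M : Type u) [AddCommGroup M] [Module (MultCrv.Rn R n) M] [Module R M] [IsScalarTower R (MultCrv.Rn R n) M] [Module.Finite (MultCrv.Rn R n) M] : Module.IsReflexive (MultCrv.Rn R n) M ↔ Module.IsTorsionFree R M := by
  have hfin : Module.Finite R M := Groth.Agent.H26MultCrv.finite_R (n := n)
  constructor
  · intro h
    rw [Module.isTorsionFree_iff_smul_eq_zero]
    intro r m hrm
    by_cases hr : r = 0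
    · left; exact hr
    right
    apply (Module.bijective_dual_eval (MultCrv.Rn R n) M).1
    rw [map_zero]
    ext f
    change f m = 0
    have h1 : r • f m = 0 := by
      have : f (r • m) = r • f m := (f.restrictScalars R).map_smul r m
      rw [← this, hrm, map_zero]
    have h2 : Module.IsTorsionFree R (MultCrv.Rn R n) := Groth.Agent.H26MultCrv.torsionFree_Rn
    rcases smul_eq_zero.mp h1 with h3 | h3
    · exact absurd h3 hr
    · exact h3
  · intro h
    have hfree : Module.Free R M := inferInstance
    refine ⟨⟨?_, ?_⟩⟩
    · rw [injective_iff_map_eq_zero]
      intro m hm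
      rw [← Module.forall_dual_apply_eq_zero_iff R]
      intro g
      have h1 : Groth.Agent.H26MultCrv.form hn g m = 0 := LinearMap.congr_fun hm (Groth.Agent.H26MultCrv.form hn g)
      rw [← Groth.Agent.H26MultCrv.lam_form hn g m, h1, map_zero]
    · intro Φ
      let Ψ : (M →ₗ[R] R) →ₗ[R] R :=
        { toFun := fun g => Groth.Agent.H26MultCrv.lam R n hn (Φ (Groth.Agent.H26MultCrv.form hn g))
          map_add' := fun g g' => by
            have : Groth.Agent.H26MultCrv.form hn (g + g') = Groth.Agent.H26MultCrv.form hn g + Groth.Agent.H26MultCrv.form hn g' := by
              apply Groth.Agent.H26MultCrv.form_ext (M := M) hn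
              intro m
              rw [Groth.Agent.H26MultCrv.lam_form, LinearMap.add_apply, LinearMap.add_apply, map_add,
                Groth.Agent.H26MultCrv.lam_form, Groth.Agent.H26MultCrv.lam_form]
            rw [this, map_add, map_add]
          map_smul' := fun r g => by
            have : Groth.Agent.H26MultCrv.form hn (r • g) =
                (Ideal.Quotient.mk (Ideal.span {(Polynomial.X : Polynomial R) ^ n}) (Polynomial.C r)) • Groth.Agent.H26MultCrv.form hn g := by
              apply Groth.Agent.H26MultCrv.form_ext (M := M) hn
              intro m
              have h1 : ((Ideal.Quotient.mk (Ideal.span {(Polynomial.X : Polynomial R) ^ n}) (Polynomial.C r)) •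
                  Groth.Agent.H26MultCrv.form hn g) m = r • (Groth.Agent.H26MultCrv.form hn g m) := by
                rw [Groth.Agent.H26MultCrv.smul_def']
                rfl
              rw [h1, Groth.Agent.H26MultCrv.lam_form, LinearMap.smul_apply, map_smul, Groth.Agent.H26MultCrv.lam_form]
            rw [this, map_smul, smul_eq_mul, ← Groth.Agent.H26MultCrv.smul_def', map_smul]
            rfl }
      obtain ⟨m, hm⟩ := (Module.bijective_dual_eval R M).2 Ψ
      refine ⟨m, ?_⟩
      ext f
      change f m = Φ f
      have key : ∀ f : Module.Dual (MultCrv.Rn R n) M, Groth.Agent.H26MultCrv.lam R n hn (f m) = Groth.Agent.H26MultCrv.lam R n hn (Φ f) := by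
        intro f
        have h1 : Ψ (Groth.Agent.H26MultCrv.lam R n hn ∘ₗ (f.restrictScalars R)) = Groth.Agent.H26MultCrv.lam R n hn (f m) := by
          rw [← hm]
          rfl
        have h2 : Groth.Agent.H26MultCrv.form hn (Groth.Agent.H26MultCrv.lam R n hn ∘ₗ (f.restrictScalars R)) = f := by
          apply Groth.Agent.H26MultCrv.form_ext (M := M) hn
          intro m
          rw [Groth.Agent.H26MultCrv.lam_form]
          rfl
        rw [← h1]
        change Groth.Agent.H26MultCrv.lam R n hn (Φ (Groth.Agent.H26MultCrv.form hn (Groth.Agent.H26MultCrv.lam R n hn ∘ₗ (f.restrictScalars R)))) = _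
        rw [h2]
      apply Groth.Agent.H26MultCrv.eq_of_lam hn
      intro i
      have := key ((MultCrv.z R n ^ i) • f)
      rw [map_smul] at this
      exact this

end Groth.Agent.S17935
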