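import Mathlib
import Groth.Statements.S17943
import Groth.Agent.Lib.Helper26_MultCrv2

set_option autoImplicit false
universe u
open MultCrv

namespace Groth.Agent.S17943


/-- Let R be a discrete valuation ring, n ≥ 1, A = R[X]/(X^n) with z the class of X, and M a finitely
generated A-module. For 0 ≤ i < n the R-modules G^(i+1)(M) = M^(i+1)/M^(i) (M^(j) the elements
killed by z^j) and G_i(M) = z^i M/z^(i+1) M have the same rank over R. (Statement at a closed point
of the sheaf statement on a primitive multiple curve of multiplicity n with local rings R[X]/(X^n),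
where the rank of a coherent sheaf on the reduced smooth curve is its generic rank, here the rank
over R of the stalk; the equality of degrees that the published statement gives together with this
rank equality is a statement on the global curve and is not part of this row; stated for every
discrete valuation ring R.) -/
theorem result (R : Type u) [CommRing R] [IsDomain R] [IsDiscreteValuationRing R] (n : ℕ) (hn : 1 ≤ n) (M : Type u) [AddCommGroup M] [Module (MultCrv.Rn R n) M] [Module R M] [IsScalarTower R (MultCrv.Rn R n) M] [Module.Finite (MultCrv.Rn R n) M] (i : ℕ) (hi : i < n) : Module.finrank R (MultCrv.G2 R n M (i + 1)) = Module.finrank R (MultCrv.G1 R n M i) := by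
  have hfin : Module.Finite R M := Groth.Agent.H26MultCrv.finite_R (n := n)
  have h1 : ∀ j, Module.finrank R (MultCrv.filt R n M j) + Module.finrank R (MultCrv.filt2 R n M j) =
      Module.finrank R M := by
    intro j
    let L : M →ₗ[R] M := ((MultCrv.z R n ^ j) • (LinearMap.id : M →ₗ[MultCrv.Rn R n] M)).restrictScalars R
    have h2 := Submodule.finrank_quotient_add_finrank (LinearMap.ker L)
    rw [L.quotKerEquivRange.finrank_eq] at h2
    exact h2
  have hle1 : MultCrv.filt2 R n M i ≤ MultCrv.filt2 R n M (i + 1) := by
    intro u hu
    rw [Groth.Agent.H26MultCrv.smul_mem_torsionBy] at hu ⊢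
    rw [pow_succ', mul_smul, hu, smul_zero]
  have hle2 : MultCrv.filt R n M (i + 1) ≤ MultCrv.filt R n M i := by
    rintro _ ⟨u, rfl⟩
    refine ⟨MultCrv.z R n • u, ?_⟩
    change MultCrv.z R n ^ i • (MultCrv.z R n • u) = MultCrv.z R n ^ (i + 1) • u
    rw [← mul_smul, pow_succ]
  have h2 : Module.finrank R (MultCrv.G2 R n M (i + 1)) =
      Module.finrank R (MultCrv.filt2 R n M (i + 1)) - Module.finrank R (MultCrv.filt2 R n M i) := by
    have hf : Module.Finite R (MultCrv.filt2 R n M (i + 1)) :=
      Module.Finite.of_injective ((MultCrv.filt2 R n M (i + 1)).subtype.restrictScalars R) Subtype.val_injective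
    have h3 := Submodule.finrank_quotient (R := R) (Submodule.comap (MultCrv.filt2 R n M (i + 1)).subtype (MultCrv.filt2 R n M i))
    have h4 : Module.finrank R (Submodule.comap (MultCrv.filt2 R n M (i + 1)).subtype (MultCrv.filt2 R n M i)) =
        Module.finrank R (MultCrv.filt2 R n M i) :=
      LinearEquiv.finrank_eq ((Submodule.comapSubtypeEquivOfLe hle1).restrictScalars R)
    rw [h4] at h3
    exact h3
  have h5 : Module.finrank R (MultCrv.G1 R n M i) =
      Module.finrank R (MultCrv.filt R n M i) - Module.finrank R (MultCrv.filt R n M (i + 1)) := by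
    have hf : Module.Finite R (MultCrv.filt R n M i) :=
      Module.Finite.of_injective ((MultCrv.filt R n M i).subtype.restrictScalars R) Subtype.val_injective
    have h3 := Submodule.finrank_quotient (R := R) (Submodule.comap (MultCrv.filt R n M i).subtype (MultCrv.filt R n M (i + 1)))
    have h4 : Module.finrank R (Submodule.comap (MultCrv.filt R n M i).subtype (MultCrv.filt R n M (i + 1))) =
        Module.finrank R (MultCrv.filt R n M (i + 1)) :=
      LinearEquiv.finrank_eq ((Submodule.comapSubtypeEquivOfLe hle2).restrictScalars R)
    rw [h4] at h3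
    exact h3
  have h6 := h1 i
  have h7 := h1 (i + 1)
  omega

end Groth.Agent.S17943
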