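import Mathlib
import Groth.Statements.S17944
import Groth.Agent.Lib.Helper26_MultCrv2

set_option autoImplicit false
universe u
open MultCrv

namespace Groth.Agent.S17944

lemma finite_quot {R : Type u} [CommRing R] {n : ℕ} {P : Type u} [AddCommGroup P] [Module (MultCrv.Rn R n) P]
    [Module R P] [IsScalarTower R (MultCrv.Rn R n) P] [Module.Finite R P] (N : Submodule (MultCrv.Rn R n) P) :
    Module.Finite R (P ⧸ N) :=
  Module.Finite.of_surjective (N.mkQ.restrictScalars R) N.mkQ_surjective

set_option maxHeartbeats 1000000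

/-- Let R be a discrete valuation ring, n ≥ 1, A = R[X]/(X^n) with z the class of X, and M a finitely
generated A-module. Then the graded pieces G_i(M) = z^i M/z^(i+1) M are free R-modules for all 0 ≤ i
< n if and only if the modules Γ^(i)(M) are free R-modules for all 0 ≤ i < n, where Γ^(i)(M) is the
cokernel of the map M^(i+2)/M^(i+1) → M^(i+1)/M^(i) induced by multiplication by z (M^(j) the
elements killed by z^j). (Statement at a closed point P of the sheaf statement on a primitive
multiple curve of multiplicity n, whose local rings are R[X]/(X^n) with R the local ring of the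
reduced smooth curve: the published conditions are local freeness on the reduced curve of the
corresponding sheaves, read here at P; the published statement also asserts that these conditions
are equivalent to the stalk being quasi-free, i.e. isomorphic to a direct sum of modules A/(z^j),
which is not part of this row; stated for every discrete valuation ring R.) -/
theorem result (R : Type u) [CommRing R] [IsDomain R] [IsDiscreteValuationRing R] (n : ℕ) (hn : 1 ≤ n) (M : Type u) [AddCommGroup M] [Module (MultCrv.Rn R n) M] [Module R M] [IsScalarTower R (MultCrv.Rn R n) M] [Module.Finite (MultCrv.Rn R n) M] : (∀ i : ℕ, i < n → Module.Free R (MultCrv.G1 R n M i)) ↔ (∀ i : ℕ, i < n → Module.Free R (MultCrv.Gam2 R n M i)) := by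
  have hfin : Module.Finite R M := Groth.Agent.H26MultCrv.finite_R (n := n)
  -- the map Gam2 i → G1 i
  have key : ∀ i : ℕ, ∃ μ : MultCrv.Gam2 R n M i →ₗ[MultCrv.Rn R n] MultCrv.G1 R n M i,
      Function.Injective μ ∧ ∃ ν : MultCrv.G1 R n M i →ₗ[MultCrv.Rn R n] MultCrv.G1 R n M (i + 1),
        ∀ x, ν x = 0 → ∃ y, μ y = x := by
    intro i
    have hmem : ∀ (j : ℕ) (u : M), MultCrv.z R n ^ j • u ∈ MultCrv.filt R n M j := fun j u => ⟨u, rfl⟩
    let L0 : ↥(MultCrv.filt2 R n M (i + 1)) →ₗ[MultCrv.Rn R n] ↥(MultCrv.filt R n M i) :=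
      LinearMap.codRestrict _ ((MultCrv.z R n ^ i) • (MultCrv.filt2 R n M (i + 1)).subtype) (fun u => hmem i u)
    let L1 : ↥(MultCrv.filt2 R n M (i + 1)) →ₗ[MultCrv.Rn R n] MultCrv.G1 R n M i :=
      (Submodule.mkQ _) ∘ₗ L0
    have hL1 : ∀ u, L1 u = 0 ↔ MultCrv.z R n ^ i • (u : M) ∈ MultCrv.filt R n M (i + 1) := by
      intro u
      change Submodule.Quotient.mk _ = 0 ↔ _
      rw [Submodule.Quotient.mk_eq_zero]
      rfl
    have hk1 : Submodule.comap (MultCrv.filt2 R n M (i + 1)).subtype (MultCrv.filt2 R n M (i + 1 - 1)) ≤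
        LinearMap.ker L1 := by
      intro u hu
      rw [LinearMap.mem_ker, hL1]
      have h1 : MultCrv.z R n ^ i • (u : M) = 0 := hu
      rw [h1]
      exact Submodule.zero_mem _
    let L2 : MultCrv.G2 R n M (i + 1) →ₗ[MultCrv.Rn R n] MultCrv.G1 R n M i := Submodule.liftQ _ L1 hk1
    have hL2 : ∀ u, L2 (Submodule.Quotient.mk u) = L1 u := fun u => rfl
    have hk2 : LinearMap.range (MultCrv.lamG2 R n M i) ≤ LinearMap.ker L2 := by
      rintro _ ⟨y, rfl⟩
      obtain ⟨v, rfl⟩ := Submodule.Quotient.mk_surjective _ y
      rw [LinearMap.mem_ker]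
      change L1 (MultCrv.zDown R n M (i + 1) v) = 0
      rw [hL1]
      change MultCrv.z R n ^ i • (MultCrv.z R n • (v : M)) ∈ _
      rw [← mul_smul, ← pow_succ]
      exact hmem _ _
    let μ : MultCrv.Gam2 R n M i →ₗ[MultCrv.Rn R n] MultCrv.G1 R n M i := Submodule.liftQ _ L2 hk2
    refine ⟨μ, ?_, ?_⟩
    · rw [← LinearMap.ker_eq_bot]
      refine Submodule.ker_liftQ_eq_bot _ _ _ ?_
      intro y hy
      obtain ⟨u, rfl⟩ := Submodule.Quotient.mk_surjective _ y
      rw [LinearMap.mem_ker, hL2, hL1] at hy
      obtain ⟨v, hv⟩ := hy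
      change MultCrv.z R n ^ (i + 1) • v = MultCrv.z R n ^ i • (u : M) at hv
      have hu : MultCrv.z R n ^ (i + 1) • (u : M) = 0 := u.2
      have hv2 : v ∈ MultCrv.filt2 R n M (i + 2) := by
        rw [Groth.Agent.H26MultCrv.smul_mem_torsionBy]
        have : MultCrv.z R n ^ (i + 2) • v = MultCrv.z R n • (MultCrv.z R n ^ (i + 1) • v) := by
          rw [← mul_smul, ← pow_succ']
        rw [this, hv, ← mul_smul, ← pow_succ', hu]
      refine ⟨Submodule.Quotient.mk ⟨v, hv2⟩, ?_⟩
      change Submodule.Quotient.mk (MultCrv.zDown R n M (i + 1) ⟨v, hv2⟩) = Submodule.Quotient.mk u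
      rw [Submodule.Quotient.eq]
      change MultCrv.z R n ^ i • ((MultCrv.z R n • v) - (u : M)) = 0
      rw [smul_sub, ← mul_smul, ← pow_succ, hv, sub_self]
    · -- ν
      let N0 : ↥(MultCrv.filt R n M i) →ₗ[MultCrv.Rn R n] ↥(MultCrv.filt R n M (i + 1)) :=
        LinearMap.codRestrict _ ((MultCrv.z R n) • (MultCrv.filt R n M i).subtype) (fun u => by
          obtain ⟨w, hw⟩ := u.2
          refine ⟨w, ?_⟩
          change MultCrv.z R n ^ (i + 1) • w = MultCrv.z R n • (u : M)
          rw [← hw]
          change _ = MultCrv.z R n • (MultCrv.z R n ^ i • w)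
          rw [← mul_smul, ← pow_succ'])
      let ν : MultCrv.G1 R n M i →ₗ[MultCrv.Rn R n] MultCrv.G1 R n M (i + 1) :=
        Submodule.mapQ _ _ N0 (by
          intro u hu
          obtain ⟨w, hw⟩ := hu
          refine ⟨w, ?_⟩
          change MultCrv.z R n ^ (i + 1 + 1) • w = MultCrv.z R n • (u : M)
          have hw' : MultCrv.z R n ^ (i + 1) • w = (u : M) := hw
          rw [← hw', ← mul_smul, ← pow_succ'])
      refine ⟨ν, fun x hx => ?_⟩
      obtain ⟨w, rfl⟩ := Submodule.Quotient.mk_surjective _ x
      have hx' : (Submodule.Quotient.mk (N0 w) : MultCrv.G1 R n M (i + 1)) = 0 := hx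
      rw [Submodule.Quotient.mk_eq_zero] at hx'
      obtain ⟨v, hv⟩ := hx'
      change MultCrv.z R n ^ (i + 1 + 1) • v = MultCrv.z R n • (w : M) at hv
      obtain ⟨m, hm⟩ := w.2
      change MultCrv.z R n ^ i • m = (w : M) at hm
      have hu : m - MultCrv.z R n • v ∈ MultCrv.filt2 R n M (i + 1) := by
        rw [Groth.Agent.H26MultCrv.smul_mem_torsionBy, smul_sub, ← mul_smul, ← pow_succ, hv, ← hm, ← mul_smul, ← pow_succ', sub_self]
      refine ⟨Submodule.Quotient.mk (Submodule.Quotient.mk ⟨_, hu⟩), ?_⟩
      change Submodule.Quotient.mk (L0 ⟨_, hu⟩) = Submodule.Quotient.mk w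
      rw [Submodule.Quotient.eq]
      refine ⟨-v, ?_⟩
      change MultCrv.z R n ^ (i + 1) • (-v) = MultCrv.z R n ^ i • (m - MultCrv.z R n • v) - (w : M)
      rw [smul_sub, ← mul_smul, ← pow_succ, ← hm, smul_neg]
      abel
  have hfinG1 : ∀ i, Module.Finite R (MultCrv.G1 R n M i) := by
    intro i
    have : Module.Finite R (MultCrv.filt R n M i) :=
      Module.Finite.of_injective ((MultCrv.filt R n M i).subtype.restrictScalars R) Subtype.val_injective
    exact finite_quot _
  choose μ hμ ν hν using key
  constructor
  · intro h i hi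
    have := h i hi
    exact Groth.Agent.H26MultCrv.free_of_injective ((μ i).restrictScalars R) (hμ i)
  · intro h
    have hzero : Subsingleton (MultCrv.G1 R n M n) := by
      have : ∀ x : MultCrv.G1 R n M n, x = 0 := by
        intro x
        obtain ⟨w, rfl⟩ := Submodule.Quotient.mk_surjective _ x
        obtain ⟨m, hm⟩ := w.2
        have hw : w = 0 := by
          apply Subtype.ext
          change (w : M) = 0
          rw [← hm]
          change MultCrv.z R n ^ n • m = 0
          rw [Groth.Agent.H26MultCrv.z_pow_n]
          exact zero_smul (MultCrv.Rn R n) m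
        rw [hw]
        rfl
      exact subsingleton_of_forall_eq 0 this
    have htf : ∀ k i : ℕ, i + k = n → Module.IsTorsionFree R (MultCrv.G1 R n M i) := by
      intro k
      induction k with
      | zero =>
        intro i hi
        rw [add_zero] at hi
        subst hi
        rw [Module.isTorsionFree_iff_smul_eq_zero]
        intro r x _
        right
        exact Subsingleton.elim _ _
      | succ k ih =>
        intro i hi
        have h1 := ih (i + 1) (by omega)
        have h2 := h i (by omega)
        rw [Module.isTorsionFree_iff_smul_eq_zero]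
        intro r x hx
        by_cases hr : r = 0
        · left; exact hr
        right
        have h3 : r • ν i x = 0 := by
          have : ν i (r • x) = r • ν i x := ((ν i).restrictScalars R).map_smul r x
          rw [← this, hx, map_zero]
        have h4 : ν i x = 0 := by
          rcases (Module.isTorsionFree_iff_smul_eq_zero.mp h1) r _ h3 with h5 | h5
          · exact absurd h5 hr
          · exact h5
        obtain ⟨y, rfl⟩ := hν i x h4
        have h6 : μ i (r • y) = 0 := by
          have : μ i (r • y) = r • μ i y := ((μ i).restrictScalars R).map_smul r y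
          rw [this, hx]
        have h7 : r • y = 0 := hμ i (by rw [h6, map_zero])
        have h8 : Module.IsTorsionFree R (MultCrv.Gam2 R n M i) := inferInstance
        have h9 : y = 0 := by
          rcases (Module.isTorsionFree_iff_smul_eq_zero.mp h8) r _ h7 with h5 | h5
          · exact absurd h5 hr
          · exact h5
        rw [h9, map_zero]
    intro i hi
    have h1 := htf (n - i) i (by omega)
    have h2 := hfinG1 i
    infer_instance

end Groth.Agent.S17944
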