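import Groth.Statements.S17969
import Mathlib

set_option autoImplicit false
universe u
open scoped TensorProduct
open CAlg

namespace Groth.Agent.S17969

/-- Let A be an integrally closed domain with fraction field K and B a commutative A-algebra which is
finite and torsion-free as an A-module and generated as an A-algebra by a single element x. Let P be
the characteristic polynomial of multiplication by 1 ⊗ x on the finite free K-module K ⊗_A B. Then P
has coefficients in A, namely P is the image of a monic polynomial over A, and the kernel of the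
A-algebra map A[T] → B sending T to x is generated by that polynomial, so that B is A[T]/(P). -/
theorem result
    (A : Type u) [CommRing A] [IsDomain A] [IsIntegrallyClosed A]
    (B : Type u) [CommRing B] [Algebra A B] [Module.Finite A B] [NoZeroSMulDivisors A B]
    (x : B) (hx : Algebra.adjoin A {x} = ⊤) :
    ∃ P : Polynomial A, P.Monic ∧
      Polynomial.map (algebraMap A (FractionRing A)) P =
        (LinearMap.mulLeft (FractionRing A) ((1 : FractionRing A) ⊗ₜ[A] x)).charpoly ∧
      RingHom.ker (Polynomial.aeval x).toRingHom = Ideal.span {P} := by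
  classical
  let K := FractionRing A
  let L := TensorProduct A K B
  let y : L := (1 : K) ⊗ₜ[A] x
  have hinj : ∀ b : B, ((1 : K) ⊗ₜ[A] b : L) = 0 → b = 0 := by
    intro b hb
    have hloc : IsLocalizedModule (nonZeroDivisors A) (TensorProduct.mk A K B 1) := by
      rw [isLocalizedModule_iff_isBaseChange (nonZeroDivisors A) K]
      exact TensorProduct.isBaseChange A B K
    have := (IsLocalizedModule.eq_zero_iff (nonZeroDivisors A) (TensorProduct.mk A K B 1) (m := b)).1 hb
    obtain ⟨c, hc⟩ := this
    have hc' : (c : A) • b = 0 := hc
    rcases smul_eq_zero.1 hc' with h | h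
    · exact absurd h (nonZeroDivisors.coe_ne_zero c)
    · exact h
  have hincl : ∀ b : B, (Algebra.TensorProduct.includeRight (R := A) (A := K) (B := B)) b = (1 : K) ⊗ₜ[A] b := fun b => rfl
  have hev : ∀ f : Polynomial A, Polynomial.aeval y (f.map (algebraMap A K)) = (1 : K) ⊗ₜ[A] (Polynomial.aeval x f) := by
    intro f
    rw [Polynomial.aeval_map_algebraMap]
    rw [← hincl, ← Polynomial.aeval_algHom_apply]
    rfl
  have hxint : IsIntegral A x := Algebra.IsIntegral.isIntegral x
  obtain ⟨q, hq, hq0⟩ := hxint
  have hyint : IsIntegral K y := Algebra.IsIntegral.isIntegral y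
  have htop : Algebra.adjoin K ({y} : Set L) = ⊤ := by
    rw [eq_top_iff]
    intro z _
    induction z using TensorProduct.induction_on with
    | zero => exact zero_mem _
    | add a b ha hb => exact add_mem (ha trivial) (hb trivial)
    | tmul k b =>
      have hb : b ∈ Algebra.adjoin A ({x} : Set B) := by rw [hx]; trivial
      rw [Algebra.adjoin_singleton_eq_range_aeval] at hb
      obtain ⟨f, rfl⟩ := hb
      have : (k ⊗ₜ[A] (Polynomial.aeval x f) : L) = k • Polynomial.aeval y (f.map (algebraMap A K)) := by
        rw [hev, TensorProduct.smul_tmul', smul_eq_mul, mul_one]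
      change k ⊗ₜ[A] (Polynomial.aeval x f) ∈ _
      rw [this]
      apply Subalgebra.smul_mem
      exact Algebra.adjoin_singleton_eq_range_aeval K y ▸ ⟨_, rfl⟩
  have hchar : (LinearMap.mulLeft K y).charpoly = minpoly K y := by
    let pb := PowerBasis.ofAdjoinEqTop hyint htop
    have h1 := charpoly_leftMulMatrix pb
    have h2 : pb.gen = y := PowerBasis.ofAdjoinEqTop_gen hyint htop
    rw [h2, Algebra.leftMulMatrix_apply, LinearMap.charpoly_toMatrix] at h1
    exact h1
  have hdvdq : minpoly K y ∣ q.map (algebraMap A K) := by
    apply minpoly.dvd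
    rw [hev]
    have : Polynomial.aeval x q = 0 := hq0
    rw [this, TensorProduct.tmul_zero]
  obtain ⟨P, hP⟩ := IsIntegrallyClosed.eq_map_mul_C_of_dvd K hq hdvdq
  rw [(minpoly.monic hyint).leadingCoeff, Polynomial.C_1, mul_one] at hP
  have hPm : P.Monic := Polynomial.monic_of_injective (IsFractionRing.injective A K) (by rw [hP]; exact minpoly.monic hyint)
  refine ⟨P, hPm, ?_, ?_⟩
  · rw [hP]; exact hchar.symm
  · ext f
    rw [RingHom.mem_ker, Ideal.mem_span_singleton]
    change Polynomial.aeval x f = 0 ↔ _
    rw [← Polynomial.map_dvd_map (algebraMap A K) (IsFractionRing.injective A K) hPm, hP]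
    constructor
    · intro h
      apply minpoly.dvd
      rw [hev, h, TensorProduct.tmul_zero]
    · rintro ⟨g, hg⟩
      apply hinj
      rw [← hev, hg, map_mul, minpoly.aeval, zero_mul]

end Groth.Agent.S17969
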