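import Groth.Statements.S17974
import Mathlib

set_option autoImplicit false
universe u
open Unram

namespace Groth.Agent.S17974

/-- Let A be a commutative ring, B an unramified A-algebra (formally unramified and of finite type), C
an A-algebra, p a prime ideal of C, and u, v : B → C two A-algebra homomorphisms which agree after
composition with C → C/p. Then there is an element f of C not in p such that u and v agree after
composition with the localization map C → C[1/f]. -/
theorem result
    (A : Type u) [CommRing A] (B : Type u) [CommRing B] [Algebra A B]
    [Algebra.FormallyUnramified A B] [Algebra.FiniteType A B]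
    (C : Type u) [CommRing C] [Algebra A C] (p : Ideal C) [p.IsPrime]
    (u v : B →ₐ[A] C)
    (huv : (Ideal.Quotient.mk p).comp u.toRingHom = (Ideal.Quotient.mk p).comp v.toRingHom) :
    ∃ f : C, f ∉ p ∧
      (algebraMap C (Localization.Away f)).comp u.toRingHom =
        (algebraMap C (Localization.Away f)).comp v.toRingHom := by
  obtain ⟨t, ht, ht1⟩ := Algebra.FormallyUnramified.iff_exists_tensorProduct (R := A) (S := B) |>.1 inferInstance
  let w : TensorProduct A B B →ₐ[A] C := Algebra.TensorProduct.lift u v (fun _ _ => Commute.all _ _)
  have hw : (Ideal.Quotient.mk p).comp w.toRingHom = ((Ideal.Quotient.mk p).comp u.toRingHom).comp (Algebra.TensorProduct.lmul' A (S := B)).toRingHom := by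
    apply Algebra.TensorProduct.ringHom_ext
    · ext b
      simp [w]
    · ext b
      simp [w]
      exact (RingHom.congr_fun huv b).symm
  have hwt : Ideal.Quotient.mk p (w t) = 1 := by
    have := RingHom.congr_fun hw t
    simp only [RingHom.comp_apply] at this
    erw [this]
    erw [ht1]
    simp
  refine ⟨w t, ?_, ?_⟩
  · intro hmem
    rw [← Ideal.Quotient.eq_zero_iff_mem, hwt] at hmem
    exact one_ne_zero hmem
  · ext b
    have h1 := congrArg w (ht b)
    simp only [map_mul, map_sub, map_zero] at h1
    have h2 : (v b - u b) * w t = 0 := by
      simpa [w] using h1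
    have h3 : IsUnit (algebraMap C (Localization.Away (w t)) (w t)) := IsLocalization.Away.algebraMap_isUnit _
    have h4 := congrArg (algebraMap C (Localization.Away (w t))) h2
    rw [map_mul, map_zero, map_sub] at h4
    have h5 := h3.mul_left_eq_zero.mp h4
    exact (sub_eq_zero.mp h5).symm

end Groth.Agent.S17974
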