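import Groth.Statements.S17975
import Mathlib

set_option autoImplicit false
universe u
open Hensel

namespace Groth.Agent.S17975

/-- Let A be a local ring with maximal ideal m and residue field k, C a commutative A-algebra which is
finitely generated as an A-module, Q₀ a monic polynomial of degree n over k, e an A-algebra
isomorphism from C/mC to k[T]/(Q₀), and x an element of C whose class is sent by e to the class of
T. Then x generates C as an A-algebra, and x is a root of a monic polynomial Q over A of degree n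
whose reduction modulo m equals Q₀. -/
theorem result
    (A : Type u) [CommRing A] [IsLocalRing A] (C : Type u) [CommRing C] [Algebra A C] [Module.Finite A C]
    (Q₀ : Polynomial (IsLocalRing.ResidueField A)) (hQ₀ : Q₀.Monic)
    (e : (C ⧸ Ideal.map (algebraMap A C) (IsLocalRing.maximalIdeal A)) ≃ₐ[A] AdjoinRoot Q₀)
    (x : C) (hx : e (Ideal.Quotient.mk (Ideal.map (algebraMap A C) (IsLocalRing.maximalIdeal A)) x) = AdjoinRoot.root Q₀) :
    Algebra.adjoin A {x} = ⊤ ∧
      ∃ Q : Polynomial A, Q.Monic ∧ Q.natDegree = Q₀.natDegree ∧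
        Polynomial.map (IsLocalRing.residue A) Q = Q₀ ∧ Polynomial.aeval x Q = 0 := by
  classical
  set π : C →ₐ[A] (C ⧸ Ideal.map (algebraMap A C) (IsLocalRing.maximalIdeal A)) := Ideal.Quotient.mkₐ A _ with hπ
  set N : Submodule A C := Submodule.span A (Set.range fun i : Fin Q₀.natDegree => x ^ (i : ℕ)) with hN
  have haev : ∀ P : Polynomial A, e (π (Polynomial.aeval x P)) = AdjoinRoot.mk Q₀ (P.map (IsLocalRing.residue A)) := by
    intro P
    induction P using Polynomial.induction_on' with
    | add P Q hP hQ => simp only [map_add, Polynomial.map_add, hP, hQ]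
    | monomial i a =>
      have h1 : e (π x) = AdjoinRoot.root Q₀ := hx
      rw [Polynomial.aeval_monomial, map_mul, map_mul, map_pow, map_pow, h1, AlgHom.commutes, AlgEquiv.commutes,
        Polynomial.map_monomial, ← Polynomial.C_mul_X_pow_eq_monomial, map_mul, map_pow, AdjoinRoot.mk_X]
      congr 1
  have hker : ∀ c : C, π c = 0 → c ∈ (IsLocalRing.maximalIdeal A • (⊤ : Submodule A C)) := by
    intro c hc
    have : c ∈ Ideal.map (algebraMap A C) (IsLocalRing.maximalIdeal A) := Ideal.Quotient.eq_zero_iff_mem.1 hc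
    rw [Ideal.smul_top_eq_map]
    exact this
  have hdecomp : ∀ c : C, ∃ P : Polynomial A, P.degree < Q₀.natDegree ∧ c - Polynomial.aeval x P ∈ (IsLocalRing.maximalIdeal A • (⊤ : Submodule A C)) := by
    intro c
    obtain ⟨q, hq⟩ := AdjoinRoot.mk_surjective (e (π c))
    have hq' : AdjoinRoot.mk Q₀ (q %ₘ Q₀) = e (π c) := by
      rw [← hq, AdjoinRoot.mk_eq_mk, Polynomial.modByMonic_eq_sub_mul_div]
      exact ⟨-(q /ₘ Q₀), by ring⟩
    have hqd : (q %ₘ Q₀).degree < Q₀.natDegree := by
      rw [← Polynomial.degree_eq_natDegree hQ₀.ne_zero]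
      exact Polynomial.degree_modByMonic_lt _ hQ₀
    obtain ⟨P, hP, hPd⟩ : ∃ P : Polynomial A, P.map (IsLocalRing.residue A) = q %ₘ Q₀ ∧ P.degree = (q %ₘ Q₀).degree := by
      have := Polynomial.mem_lifts_and_degree_eq (f := IsLocalRing.residue A) (p := q %ₘ Q₀) (by
        rw [Polynomial.lifts_iff_coeff_lifts]
        intro i
        exact IsLocalRing.residue_surjective _)
      obtain ⟨P, h1, h2⟩ := this
      exact ⟨P, h1, h2⟩
    refine ⟨P, by rw [hPd]; exact hqd, hker _ ?_⟩
    apply e.injective
    rw [map_sub, map_sub, haev, hP, hq', sub_self, map_zero]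
  have hmemN : ∀ P : Polynomial A, P.degree < Q₀.natDegree → Polynomial.aeval x P ∈ N := by
    intro P hP
    by_cases h0 : P = 0
    · subst h0; rw [map_zero]; exact N.zero_mem
    rw [Polynomial.degree_eq_natDegree h0] at hP
    rw [Polynomial.aeval_eq_sum_range' (n := Q₀.natDegree) (by exact_mod_cast hP)]
    exact Submodule.sum_mem _ fun i hi => Submodule.smul_mem _ _ (Submodule.subset_span ⟨⟨i, Finset.mem_range.1 hi⟩, rfl⟩)
  have hNtop : N = ⊤ := by
    have h1 : (⊤ : Submodule A C) ≤ N ⊔ IsLocalRing.maximalIdeal A • ⊤ := by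
      intro c _
      obtain ⟨P, hP, hc⟩ := hdecomp c
      exact Submodule.mem_sup.2 ⟨_, hmemN P hP, _, hc, by ring⟩
    exact top_le_iff.1 (Submodule.le_of_le_smul_of_le_jacobson_bot (Module.Finite.fg_top) (IsLocalRing.maximalIdeal_le_jacobson _) h1)
  have hNpoly : ∀ c : C, ∃ P : Polynomial A, P.degree < Q₀.natDegree ∧ Polynomial.aeval x P = c := by
    intro c
    have hc : c ∈ N := hNtop ▸ Submodule.mem_top
    rw [hN, Submodule.mem_span_range_iff_exists_fun] at hc
    obtain ⟨a, ha⟩ := hc
    refine ⟨∑ i, Polynomial.C (a i) * Polynomial.X ^ (i : ℕ), ?_, ?_⟩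
    · exact Polynomial.degree_sum_fin_lt a
    · rw [map_sum, ← ha]
      refine Finset.sum_congr rfl fun i _ => ?_
      rw [map_mul, map_pow, Polynomial.aeval_C, Polynomial.aeval_X, Algebra.smul_def]
  refine ⟨?_, ?_⟩
  · rw [eq_top_iff]
    intro c _
    obtain ⟨P, -, hP⟩ := hNpoly c
    rw [← hP]
    exact Polynomial.aeval_mem_adjoin_singleton A x
  · obtain ⟨P, hPd, hP⟩ := hNpoly (x ^ Q₀.natDegree)
    have hlt : P.degree < (Polynomial.X ^ Q₀.natDegree : Polynomial A).degree := by rw [Polynomial.degree_X_pow]; exact hPd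
    have hmon : (Polynomial.X ^ Q₀.natDegree - P).Monic := (Polynomial.monic_X_pow _).sub_of_left hlt
    have hdeg : (Polynomial.X ^ Q₀.natDegree - P).natDegree = Q₀.natDegree := by
      rw [Polynomial.natDegree_eq_of_degree_eq (Polynomial.degree_sub_eq_left_of_degree_lt hlt), Polynomial.natDegree_X_pow]
    have hroot : Polynomial.aeval x (Polynomial.X ^ Q₀.natDegree - P) = 0 := by
      rw [map_sub, hP, map_pow, Polynomial.aeval_X, sub_self]
    refine ⟨Polynomial.X ^ Q₀.natDegree - P, hmon, hdeg, ?_, hroot⟩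
    have h1 := haev (Polynomial.X ^ Q₀.natDegree - P)
    rw [hroot, map_zero, map_zero] at h1
    have h2 := AdjoinRoot.mk_eq_zero.1 h1.symm
    refine Polynomial.eq_of_monic_of_dvd_of_natDegree_le hQ₀ (hmon.map _) h2 ?_
    exact Polynomial.natDegree_map_le.trans hdeg.le

end Groth.Agent.S17975
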