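import Groth.Statements.S17977
import Mathlib

set_option autoImplicit false
universe u
open EGA4loc

namespace Groth.Agent.S17977

/-- Let A be a local ring, B a local ring which is a local-etale A-algebra, and C a local ring with a
local structure map A → C. Then every A-algebra homomorphism B → C is local. (The source states this
for local ind-etale B, i.e. filtered colimits of local-etale algebras along local maps, and reduces
at once to the local-etale case stated here.) -/
theorem result (A : Type u) [CommRing A] [IsLocalRing A]
    (B : Type u) [CommRing B] [IsLocalRing B] [Algebra A B] (hB : EGA4loc.IsEssentiallyEtale A B)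
    (C : Type u) [CommRing C] [IsLocalRing C] [Algebra A C] [IsLocalHom (algebraMap A C)]
    (φ : B →ₐ[A] C) : IsLocalHom φ.toRingHom := by
  obtain ⟨E, _, _, q, _, hEt, hq, ⟨e⟩⟩ := hB
  have hloc : IsLocalization.AtPrime (Localization.AtPrime q) q := inferInstance
  let _ : Algebra E B := (e.symm.toRingHom.comp (algebraMap E (Localization.AtPrime q))).toAlgebra
  have hst : IsScalarTower A E B := IsScalarTower.of_algebraMap_eq (fun a => by
    change algebraMap A B a = e.symm (algebraMap E (Localization.AtPrime q) (algebraMap A E a))
    rw [← IsScalarTower.algebraMap_apply A E (Localization.AtPrime q)]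
    simp)
  have hl : IsLocalization.AtPrime B q := by
    let e' : Localization.AtPrime q ≃ₐ[E] B := { e.symm.toRingEquiv with commutes' := fun x => rfl }
    exact IsLocalization.isLocalization_of_algEquiv q.primeCompl e'
  have hu : Algebra.FormallyUnramified E B := Algebra.FormallyUnramified.of_isLocalization q.primeCompl
  have hu2 : Algebra.FormallyUnramified A B := Algebra.FormallyUnramified.comp A E B
  have hf1 : Algebra.EssFiniteType E B := Algebra.EssFiniteType.of_isLocalization B q.primeCompl
  have hf2 : Algebra.EssFiniteType A B := Algebra.EssFiniteType.comp A E B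
  have hlocAB : IsLocalHom (algebraMap A B) := by
    constructor
    intro a ha
    by_contra hna
    have ha' : a ∈ IsLocalRing.maximalIdeal A := hna
    rw [← hq, Ideal.mem_comap] at ha'
    have h1 : algebraMap E B (algebraMap A E a) ∈ IsLocalRing.maximalIdeal B := (IsLocalization.AtPrime.to_map_mem_maximal_iff B q _).2 ha'
    rw [← IsScalarTower.algebraMap_apply A E B] at h1
    exact h1 ha
  have hm := Algebra.FormallyUnramified.map_maximalIdeal (R := A) (S := B)
  constructor
  intro b hb
  by_contra hbu
  have hb' : b ∈ IsLocalRing.maximalIdeal B := hbu
  rw [← hm] at hb'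
  have h1 : Ideal.map (algebraMap A B) (IsLocalRing.maximalIdeal A) ≤ (IsLocalRing.maximalIdeal C).comap φ.toRingHom := by
    rw [Ideal.map_le_iff_le_comap]
    intro a ha
    rw [Ideal.mem_comap, Ideal.mem_comap]
    have : φ.toRingHom (algebraMap A B a) = algebraMap A C a := φ.commutes a
    rw [this]
    exact fun hu => ha (isUnit_of_map_unit (algebraMap A C) a hu)
  exact (h1 hb') hb

end Groth.Agent.S17977
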