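import Groth.Statements.S17978
import Mathlib

set_option autoImplicit false
universe u
open EGA4loc

namespace Groth.Agent.S17978

/-- Let A be a local ring, B a local ring which is a local-etale A-algebra, and C a local ring with a
local structure map A → C. Then two A-algebra homomorphisms B → C which agree after composition with
the residue map of C are equal; in other words an A-algebra map B → C is determined by the map it
induces on residue fields. (The source states this for local ind-etale B and reduces to the
local-etale case stated here; C is an arbitrary local A-algebra with local structure map.) -/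
theorem result (A : Type u) [CommRing A] [IsLocalRing A]
    (B : Type u) [CommRing B] [IsLocalRing B] [Algebra A B] (hB : EGA4loc.IsEssentiallyEtale A B)
    (C : Type u) [CommRing C] [IsLocalRing C] [Algebra A C] [IsLocalHom (algebraMap A C)]
    (u v : B →ₐ[A] C)
    (h : (IsLocalRing.residue C).comp u.toRingHom = (IsLocalRing.residue C).comp v.toRingHom) :
    u = v := by
  obtain ⟨E, _, _, q, _, hEt, hq, ⟨e⟩⟩ := hB
  have hloc : IsLocalization.AtPrime (Localization.AtPrime q) q := inferInstance
  let _ : Algebra E B := (e.symm.toRingHom.comp (algebraMap E (Localization.AtPrime q))).toAlgebra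
  have hst : IsScalarTower A E B := IsScalarTower.of_algebraMap_eq (fun a => by
    change algebraMap A B a = e.symm (algebraMap E (Localization.AtPrime q) (algebraMap A E a))
    rw [← IsScalarTower.algebraMap_apply A E (Localization.AtPrime q)]
    simp)
  have hl : IsLocalization.AtPrime B q := by
    let e' : Localization.AtPrime q ≃ₐ[E] B := { e.symm.toRingEquiv with commutes' := fun x => rfl }
    exact IsLocalization.isLocalization_of_algEquiv q.primeCompl e'
  have hu : Algebra.FormallyUnramified E B := Algebra.FormallyUnramified.of_isLocalization q.primeCompl
  have hu2 : Algebra.FormallyUnramified A B := Algebra.FormallyUnramified.comp A E B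
  have hf1 : Algebra.EssFiniteType E B := Algebra.EssFiniteType.of_isLocalization B q.primeCompl
  have hf2 : Algebra.EssFiniteType A B := Algebra.EssFiniteType.comp A E B
  obtain ⟨t, ht, ht1⟩ := Algebra.FormallyUnramified.iff_exists_tensorProduct (R := A) (S := B) |>.1 inferInstance
  let w : TensorProduct A B B →ₐ[A] C := Algebra.TensorProduct.lift u v (fun _ _ => Commute.all _ _)
  have hw : (IsLocalRing.residue C).comp w.toRingHom = ((IsLocalRing.residue C).comp u.toRingHom).comp (Algebra.TensorProduct.lmul' A (S := B)).toRingHom := by
    apply Algebra.TensorProduct.ringHom_ext
    · ext b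
      simp [w]
    · ext b
      simp [w]
      exact (RingHom.congr_fun h b).symm
  have hwt : IsLocalRing.residue C (w t) = 1 := by
    have := RingHom.congr_fun hw t
    simp only [RingHom.comp_apply] at this
    erw [this]
    erw [ht1]
    simp
  have hwu : IsUnit (w t) := by
    by_contra hcon
    have : w t ∈ IsLocalRing.maximalIdeal C := hcon
    rw [← IsLocalRing.residue_eq_zero_iff, hwt] at this
    exact one_ne_zero this
  ext b
  have h1 := congrArg w (ht b)
  simp only [map_mul, map_sub, map_zero] at h1
  have h2 : (v b - u b) * w t = 0 := by
    simpa [w] using h1
  have h5 := hwu.mul_left_eq_zero.mp h2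
  exact (sub_eq_zero.mp h5).symm

end Groth.Agent.S17978
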