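import Groth.Statements.S17979
import Mathlib

set_option autoImplicit false
universe u
open Hensel

namespace Groth.Agent.S17979

theorem map_le_jac {A B : Type*} [CommRing A] [CommRing B] [Algebra A B] [Algebra.IsIntegral A B]
    (I : Ideal A) (hI : I ≤ Ideal.jacobson ⊥) :
    Ideal.map (algebraMap A B) I ≤ Ideal.jacobson ⊥ := by
  rw [Ideal.jacobson]
  refine le_sInf ?_
  rintro M ⟨-, hM⟩
  have := Ideal.isMaximal_comap_of_isIntegral_of_isMaximal (R := A) M
  rw [Ideal.map_le_iff_le_comap]
  exact hI.trans (sInf_le ⟨bot_le, this⟩)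


/-- Let A be a local ring with residue field k and Q, R polynomials over A with Q monic. If the images
of Q and R in k[T] generate the unit ideal, then Q and R already generate the unit ideal of A[T]. -/
theorem result (A : Type u) [CommRing A] [IsLocalRing A]
    (Q R : Polynomial A) (hQ : Q.Monic)
    (h : IsCoprime (Polynomial.map (IsLocalRing.residue A) Q) (Polynomial.map (IsLocalRing.residue A) R)) :
    IsCoprime Q R := by
  obtain ⟨u, v, huv⟩ := h
  have hsurj : Function.Surjective (Polynomial.map (IsLocalRing.residue A)) :=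
    Polynomial.map_surjective _ IsLocalRing.residue_surjective
  obtain ⟨u', hu'⟩ := hsurj u
  obtain ⟨v', hv'⟩ := hsurj v
  have hker : u' * Q + v' * R - 1 ∈ RingHom.ker (Polynomial.mapRingHom (IsLocalRing.residue A)) := by
    rw [RingHom.mem_ker]
    simp [hu', hv', huv]
  rw [Polynomial.ker_mapRingHom, IsLocalRing.ker_residue] at hker
  haveI : Module.Finite A (AdjoinRoot Q) := hQ.finite_adjoinRoot
  have hmem : AdjoinRoot.mk Q (v' * R - 1) ∈ Ideal.map (algebraMap A (AdjoinRoot Q)) (IsLocalRing.maximalIdeal A) := by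
    have h1 : AdjoinRoot.mk Q (v' * R - 1) = AdjoinRoot.mk Q (u' * Q + v' * R - 1) := by
      rw [AdjoinRoot.mk_eq_mk]
      exact ⟨-u', by ring⟩
    rw [h1]
    have h2 := Ideal.mem_map_of_mem (AdjoinRoot.mk Q) hker
    rw [Ideal.map_map] at h2
    exact h2
  have hj := map_le_jac (B := AdjoinRoot Q) (IsLocalRing.maximalIdeal A) (by rw [IsLocalRing.jacobson_eq_maximalIdeal _ bot_ne_top]) hmem
  rw [Ideal.mem_jacobson_bot] at hj
  have hu := hj 1
  rw [mul_one, ← map_one (AdjoinRoot.mk Q), ← map_add, sub_add_cancel] at hu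
  obtain ⟨w, hw⟩ := hu.exists_right_inv
  obtain ⟨w, rfl⟩ := AdjoinRoot.mk_surjective w
  rw [← map_mul, ← map_one (AdjoinRoot.mk Q), AdjoinRoot.mk_eq_mk] at hw
  obtain ⟨c, hc⟩ := hw
  exact ⟨-c, v' * w, by linear_combination hc⟩

end Groth.Agent.S17979
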