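import Groth.Statements.S17980
import Mathlib

set_option autoImplicit false
universe u
open Hensel

namespace Groth.Agent.S17980

theorem map_le_jac {A B : Type*} [CommRing A] [CommRing B] [Algebra A B] [Algebra.IsIntegral A B]
    (I : Ideal A) (hI : I ≤ Ideal.jacobson ⊥) :
    Ideal.map (algebraMap A B) I ≤ Ideal.jacobson ⊥ := by
  rw [Ideal.jacobson]
  refine le_sInf ?_
  rintro M ⟨-, hM⟩
  have := Ideal.isMaximal_comap_of_isIntegral_of_isMaximal (R := A) M
  rw [Ideal.map_le_iff_le_comap]
  exact hI.trans (sInf_le ⟨bot_le, this⟩)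

theorem aux (A : Type u) [CommRing A] [IsLocalRing A]
    (Q R : Polynomial A) (hQ : Q.Monic)
    (h : IsCoprime (Polynomial.map (IsLocalRing.residue A) Q) (Polynomial.map (IsLocalRing.residue A) R)) :
    IsCoprime Q R := by
  obtain ⟨u, v, huv⟩ := h
  have hsurj : Function.Surjective (Polynomial.map (IsLocalRing.residue A)) :=
    Polynomial.map_surjective _ IsLocalRing.residue_surjective
  obtain ⟨u', hu'⟩ := hsurj u
  obtain ⟨v', hv'⟩ := hsurj v
  have hker : u' * Q + v' * R - 1 ∈ RingHom.ker (Polynomial.mapRingHom (IsLocalRing.residue A)) := by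
    rw [RingHom.mem_ker]
    simp [hu', hv', huv]
  rw [Polynomial.ker_mapRingHom, IsLocalRing.ker_residue] at hker
  have : Module.Finite A (AdjoinRoot Q) := hQ.finite_adjoinRoot
  have hmem : AdjoinRoot.mk Q (v' * R - 1) ∈ Ideal.map (algebraMap A (AdjoinRoot Q)) (IsLocalRing.maximalIdeal A) := by
    have h1 : AdjoinRoot.mk Q (v' * R - 1) = AdjoinRoot.mk Q (u' * Q + v' * R - 1) := by
      rw [AdjoinRoot.mk_eq_mk]
      exact ⟨-u', by ring⟩
    rw [h1]
    have h2 := Ideal.mem_map_of_mem (AdjoinRoot.mk Q) hker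
    rw [Ideal.map_map] at h2
    exact h2
  have hj := map_le_jac (B := AdjoinRoot Q) (IsLocalRing.maximalIdeal A) (by rw [IsLocalRing.jacobson_eq_maximalIdeal _ bot_ne_top]) hmem
  rw [Ideal.mem_jacobson_bot] at hj
  have hu := hj 1
  rw [mul_one, ← map_one (AdjoinRoot.mk Q), ← map_add, sub_add_cancel] at hu
  obtain ⟨w, hw⟩ := hu.exists_right_inv
  obtain ⟨w, rfl⟩ := AdjoinRoot.mk_surjective w
  rw [← map_mul, ← map_one (AdjoinRoot.mk Q), AdjoinRoot.mk_eq_mk] at hw
  obtain ⟨c, hc⟩ := hw
  exact ⟨-c, v' * w, by linear_combination hc⟩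


/-- Let A be a local ring with residue field k, and let Q R = U V be two factorizations of one
polynomial over A with Q and U monic, such that Q and U have the same image in k[T], R and V have
the same image in k[T], and the images of Q and R in k[T] generate the unit ideal. Then Q = U and R
= V. -/
theorem result (A : Type u) [CommRing A] [IsLocalRing A]
    (Q R U V : Polynomial A) (hQ : Q.Monic) (hU : U.Monic)
    (hQU : Polynomial.map (IsLocalRing.residue A) Q = Polynomial.map (IsLocalRing.residue A) U)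
    (hRV : Polynomial.map (IsLocalRing.residue A) R = Polynomial.map (IsLocalRing.residue A) V)
    (hcop : IsCoprime (Polynomial.map (IsLocalRing.residue A) Q) (Polynomial.map (IsLocalRing.residue A) R))
    (h : Q * R = U * V) : Q = U ∧ R = V := by
  have c1 : IsCoprime Q V := aux A Q V hQ (by rw [← hRV]; exact hcop)
  have c2 : IsCoprime U R := aux A U R hU (by rw [← hQU]; exact hcop)
  have d1 : Q ∣ U := c1.dvd_of_dvd_mul_right (Dvd.intro _ h)
  have d2 : U ∣ Q := c2.dvd_of_dvd_mul_right (Dvd.intro _ h.symm)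
  have e1 : Q = U := by
    nontriviality A
    obtain ⟨c, hc⟩ := d1
    obtain ⟨d, hd⟩ := d2
    have hcm : c.Monic := hQ.of_mul_monic_left (hc ▸ hU)
    have hdm : d.Monic := hU.of_mul_monic_left (hd ▸ hQ)
    have h1 : U.natDegree = Q.natDegree + c.natDegree := by rw [hc, hQ.natDegree_mul hcm]
    have h2 : Q.natDegree = U.natDegree + d.natDegree := by conv_lhs => rw [hd, hU.natDegree_mul hdm]
    have h3 : c.natDegree = 0 := by omega
    rw [hcm.natDegree_eq_zero] at h3
    rw [hc, h3, mul_one]
  subst e1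
  exact ⟨rfl, hQ.isRegular.left h⟩

end Groth.Agent.S17980
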