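import Groth.Statements.S17981
import Mathlib

set_option autoImplicit false
universe u
open Hensel

namespace Groth.Agent.S17981

theorem map_le_jac {A B : Type*} [CommRing A] [CommRing B] [Algebra A B] [Algebra.IsIntegral A B]
    (I : Ideal A) (hI : I ≤ Ideal.jacobson ⊥) :
    Ideal.map (algebraMap A B) I ≤ Ideal.jacobson ⊥ := by
  rw [Ideal.jacobson]
  refine le_sInf ?_
  rintro M ⟨-, hM⟩
  have := Ideal.isMaximal_comap_of_isIntegral_of_isMaximal (R := A) M
  rw [Ideal.map_le_iff_le_comap]
  exact hI.trans (sInf_le ⟨bot_le, this⟩)


/-- Let A be a commutative ring, I an ideal contained in the Jacobson radical of A, and B a commutative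
A-algebra which is finitely generated as an A-module. Then two idempotents of B with the same image
in B/IB are equal. -/
theorem result (A : Type u) [CommRing A] (I : Ideal A)
    (hI : I ≤ Ideal.jacobson ⊥) (B : Type u) [CommRing B] [Algebra A B] [Module.Finite A B] :
    Set.InjOn (Ideal.Quotient.mk (Ideal.map (algebraMap A B) I)) {e : B | IsIdempotentElem e} := by
  intro e he f hf hef
  have he' : e * e = e := he
  have hf' : f * f = f := hf
  have h1 : e - f ∈ Ideal.map (algebraMap A B) I := by
    rw [← Ideal.Quotient.mk_eq_mk_iff_sub_mem]; exact hef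
  have h2 : Ideal.map (algebraMap A B) I ≤ Ideal.jacobson ⊥ := map_le_jac I hI
  have h3 : IsUnit (1 - (e-f)^2) := by
    have := h2 h1
    rw [Ideal.mem_jacobson_bot] at this
    have := this (-(e-f))
    convert this using 1
    ring
  have h4 : (e - f) * (1 - (e-f)^2) = 0 := by
    linear_combination (-e - 1 + 3 * f) * he' + (1 - 3 * e + f) * hf'
  have := h3.mul_left_eq_zero.mp h4
  exact sub_eq_zero.mp this

end Groth.Agent.S17981
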