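import Groth.Statements.S18019
import Mathlib

set_option autoImplicit false
universe u
open ClassStk

namespace Groth.Agent.S18019

open Polynomial in
/-- Let R be an integral domain of characteristic 2 and let a be a nonzero element of R, so that x ↦ x +
a defines an R-algebra involution of the polynomial ring R[x] (an action of the group of order two).
A polynomial f is invariant, f(x + a) = f(x), if and only if f belongs to the R-subalgebra generated
by u = x (x + a); in other words the ring of invariants is the polynomial ring R[u]. -/
theorem result (R : Type u) [CommRing R] [IsDomain R]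
    [CharP R 2] (a : R) (ha : a ≠ 0) (f : Polynomial R) :
    f.comp (X + C a) = f ↔ f ∈ Algebra.adjoin R ({X * (X + C a)} : Set (Polynomial R)) := by
  constructor
  · suffices H : ∀ (n : ℕ) (f : Polynomial R), f.natDegree < n → f.comp (X + C a) = f → f ∈ Algebra.adjoin R ({X * (X + C a)} : Set (Polynomial R)) from
      H (f.natDegree + 1) f (Nat.lt_succ_self _)
    intro n
    induction n with
    | zero => intro f hf; omega
    | succ n ih =>
      intro f hf hcomp
      set u : Polynomial R := X * (X + C a) with hu
      have hum : u.Monic := monic_X.mul (monic_X_add_C a)
      have hucomp : u.comp (X + C a) = u := by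
        have h2 : (2 : Polynomial R) = 0 := by
          have : (2 : R) = 0 := CharTwo.two_eq_zero
          rw [← C_ofNat]; simp [this]
        rw [hu]
        simp only [mul_comp, X_comp, add_comp, C_comp]
        linear_combination (X * C a + C a ^ 2) * h2
      have hdeg : u.natDegree = 2 := by
        rw [hu, monic_X.natDegree_mul (monic_X_add_C a), natDegree_X, natDegree_X_add_C]
      have hdiv := modByMonic_add_div f u
      set q := f /ₘ u with hq
      set r := f %ₘ u with hr
      have hrdeg : r.degree < u.degree := degree_modByMonic_lt f hum
      have hrd : r.natDegree < 2 := by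
        rw [← hdeg]
        by_cases hr0 : r = 0
        · rw [hr0, natDegree_zero, hdeg]; norm_num
        · exact natDegree_lt_natDegree hr0 hrdeg
      have hrform : r = C (r.coeff 1) * X + C (r.coeff 0) := by
        exact eq_X_add_C_of_natDegree_le_one (by omega)
      have hcomp2 : u * q.comp (X + C a) + r.comp (X + C a) = f := by
        rw [← hcomp]
        conv_rhs => rw [← hdiv]
        rw [add_comp, mul_comp, hucomp]; ring
      have hrc : r.comp (X + C a) = r + C (r.coeff 1 * a) := by
        rw [hrform]
        simp only [add_comp, mul_comp, C_comp, X_comp, coeff_add, coeff_mul_X_zero, mul_coeff_zero, coeff_C_zero, coeff_X_zero, mul_zero, coeff_mul_X, coeff_C_succ, coeff_C_mul, coeff_X_one, C_mul]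
        simp
        ring
      have hud : u.degree = 2 := by
        rw [degree_eq_natDegree hum.ne_zero, hdeg]; rfl
      have huniq := div_modByMonic_unique (f := f) (g := u) (q.comp (X + C a)) (r.comp (X + C a)) hum ⟨by rw [← hcomp2]; ring, by
        rw [hrc]
        refine lt_of_le_of_lt (degree_add_le _ _) (max_lt hrdeg ?_)
        refine lt_of_le_of_lt degree_C_le ?_
        rw [hud]; norm_num⟩
      obtain ⟨h1, h2⟩ := huniq
      have h3 : C (r.coeff 1 * a) = 0 := by
        have : r = r + C (r.coeff 1 * a) := by rw [← hrc]; exact h2
        exact left_eq_add.mp this
      have h4 : r.coeff 1 = 0 := by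
        have := C_eq_zero.mp h3
        exact (mul_eq_zero.mp this).resolve_right ha
      have h5 : r = C (r.coeff 0) := by
        rw [h4] at hrform
        rw [C_0, zero_mul, zero_add] at hrform
        exact hrform
      have hq2 : q ∈ Algebra.adjoin R ({u} : Set (Polynomial R)) := by
        by_cases hq0 : q = 0
        · rw [hq0]; exact zero_mem _
        · apply ih q _ h1.symm
          have : q.natDegree = f.natDegree - u.natDegree := natDegree_divByMonic f hum
          have h6 : u.degree ≤ f.degree := by
            by_contra hcon
            push Not at hcon
            exact hq0 ((divByMonic_eq_zero_iff hum).2 hcon)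
          have h7 := natDegree_le_natDegree h6
          omega
      rw [← hdiv, h5]
      refine add_mem ?_ (mul_mem (Algebra.subset_adjoin rfl) hq2)
      exact Subalgebra.algebraMap_mem _ _
  · intro h
    induction h using Algebra.adjoin_induction with
    | mem x hx =>
      rw [Set.mem_singleton_iff] at hx
      subst hx
      have h2 : (2 : Polynomial R) = 0 := by
        have : (2 : R) = 0 := CharTwo.two_eq_zero
        rw [← C_ofNat]; simp [this]
      simp only [mul_comp, X_comp, add_comp, C_comp]
      linear_combination (X * C a + C a ^ 2) * h2
    | algebraMap r => simp [← C_eq_algebraMap]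
    | add x y _ _ hx hy => rw [add_comp, hx, hy]
    | mul x y _ _ hx hy => rw [mul_comp, hx, hy]

end Groth.Agent.S18019
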