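import Groth.Statements.S18121
import Mathlib

set_option autoImplicit false
universe u
open Pinch

namespace Groth.Agent.S18121

open Polynomial in
theorem expr2 {B : Type u} [CommRing B] (b : B) (p : Polynomial B) : ∃ c0 c1 : B,
    AdjoinRoot.mk (X ^ 2 - C b) p = AdjoinRoot.of (X ^ 2 - C b) c0 + AdjoinRoot.of (X ^ 2 - C b) c1 * AdjoinRoot.root (X ^ 2 - C b) := by
  have hroot : AdjoinRoot.root (X ^ 2 - C b) ^ 2 = AdjoinRoot.of (X ^ 2 - C b) b := by
    have h := AdjoinRoot.mk_self (f := (X ^ 2 - C b : Polynomial B))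
    rw [map_sub, map_pow, AdjoinRoot.mk_X, AdjoinRoot.mk_C, sub_eq_zero] at h
    exact h
  induction p using Polynomial.induction_on with
  | C a => exact ⟨a, 0, by simp⟩
  | add p q hp hq =>
    obtain ⟨a0, a1, ha⟩ := hp
    obtain ⟨c0, c1, hc⟩ := hq
    exact ⟨a0 + c0, a1 + c1, by rw [map_add, ha, hc, map_add, map_add]; ring⟩
  | monomial n a h =>
    obtain ⟨c0, c1, hc⟩ := h
    refine ⟨c1 * b, c0, ?_⟩
    rw [show (C a * X ^ (n + 1) : Polynomial B) = C a * X ^ n * X by rw [pow_succ, mul_assoc], map_mul, hc, AdjoinRoot.mk_X, map_mul, ← hroot]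
    ring

open Polynomial in
theorem indep2 {B : Type u} [CommRing B] (b c0 c1 : B)
    (h : AdjoinRoot.of (X ^ 2 - C b) c0 + AdjoinRoot.of (X ^ 2 - C b) c1 * AdjoinRoot.root (X ^ 2 - C b) = 0) : c0 = 0 ∧ c1 = 0 := by
  rcases subsingleton_or_nontrivial B with hB | hB
  · exact ⟨Subsingleton.elim _ _, Subsingleton.elim _ _⟩
  have hmon : (X ^ 2 - C b : Polynomial B).Monic := monic_X_pow_sub_C b two_ne_zero
  have h1 : AdjoinRoot.mk (X ^ 2 - C b) (C c1 * X + C c0) = 0 := by
    rw [map_add, map_mul, AdjoinRoot.mk_C, AdjoinRoot.mk_C, AdjoinRoot.mk_X, add_comm]; exact h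
  have h2 := AdjoinRoot.mk_eq_zero.1 h1
  have h3 := (Polynomial.modByMonic_eq_zero_iff_dvd hmon).2 h2
  have hdeg : (C c1 * X + C c0 : Polynomial B).degree < (X ^ 2 - C b : Polynomial B).degree := by
    rw [degree_X_pow_sub_C (by norm_num) b]
    exact lt_of_le_of_lt degree_linear_le (by norm_num)
  rw [(Polynomial.modByMonic_eq_self_iff hmon).2 hdeg] at h3
  have e0 := congrArg (fun p => Polynomial.coeff p 0) h3
  have e1 := congrArg (fun p => Polynomial.coeff p 1) h3
  simp at e0 e1
  exact ⟨e0, e1⟩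


/-- Let B be a commutative ring, b an element of B, B' := B[z]/(z^2 - b) the rank-two B-algebra with z^2
= b, and Ψ : B[u, v] → B'[t] the B-algebra homomorphism with u ↦ z t and v ↦ t. Then the kernel of Ψ
is the principal ideal generated by u^2 - b v^2, and a polynomial of B'[t] lies in the image of Ψ as
soon as its constant coefficient lies in B. Equivalently, B[u, v]/(u^2 - b v^2) is the fibre product
of B'[t] and B over B' (for t ↦ 0 and the inclusion of B): the pinching of Spec B' × 𝔸¹ along Spec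
B' × {0} by the double cover Spec B' → Spec B is the hypersurface u^2 = b v^2 over B; for B = K[w]
and b = w this is the pinch point u^2 = v^2 w. -/
theorem result (B : Type u) [CommRing B] (b : B) :
    letI Ψ : MvPolynomial (Fin 2) B →ₐ[B] Polynomial (AdjoinRoot (Polynomial.X ^ 2 - Polynomial.C b)) :=
      MvPolynomial.aeval
        ![Polynomial.C (AdjoinRoot.root (Polynomial.X ^ 2 - Polynomial.C b)) * Polynomial.X, Polynomial.X]
    RingHom.ker Ψ.toRingHom =
        Ideal.span {MvPolynomial.X 0 ^ 2 - MvPolynomial.C b * MvPolynomial.X 1 ^ 2} ∧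
      ∀ G : Polynomial (AdjoinRoot (Polynomial.X ^ 2 - Polynomial.C b)),
        (∃ c : B, G.coeff 0 = algebraMap B (AdjoinRoot (Polynomial.X ^ 2 - Polynomial.C b)) c) →
          G ∈ Ψ.range := by
  set Ψ : MvPolynomial (Fin 2) B →ₐ[B] Polynomial (AdjoinRoot (Polynomial.X ^ 2 - Polynomial.C b)) :=
    MvPolynomial.aeval (R := B) ![Polynomial.C (AdjoinRoot.root (Polynomial.X ^ 2 - Polynomial.C b)) * Polynomial.X, Polynomial.X] with hΨ
  clear_value Ψ
  have hΨ0 : Ψ (MvPolynomial.X 0) = Polynomial.C (AdjoinRoot.root (Polynomial.X ^ 2 - Polynomial.C b)) * Polynomial.X := by rw [hΨ, MvPolynomial.aeval_X]; rfl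
  have hΨ1 : Ψ (MvPolynomial.X 1) = Polynomial.X := by rw [hΨ, MvPolynomial.aeval_X]; rfl
  have hroot : AdjoinRoot.root (Polynomial.X ^ 2 - Polynomial.C b) ^ 2 = AdjoinRoot.of (Polynomial.X ^ 2 - Polynomial.C b) b := by
    have h := AdjoinRoot.mk_self (f := (Polynomial.X ^ 2 - Polynomial.C b : Polynomial B))
    rw [map_sub, map_pow, AdjoinRoot.mk_X, AdjoinRoot.mk_C, sub_eq_zero] at h
    exact h
  have hΨC : ∀ a : B, Ψ (MvPolynomial.C a) = Polynomial.C (AdjoinRoot.of (Polynomial.X ^ 2 - Polynomial.C b) a) := by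
    intro a
    rw [← MvPolynomial.algebraMap_eq, AlgHom.commutes]; rfl
  set I : Ideal (MvPolynomial (Fin 2) B) := Ideal.span {MvPolynomial.X 0 ^ 2 - MvPolynomial.C b * MvPolynomial.X 1 ^ 2} with hI
  have hgen : Ψ (MvPolynomial.X 0 ^ 2 - MvPolynomial.C b * MvPolynomial.X 1 ^ 2) = 0 := by
    rw [map_sub, map_mul, map_pow, map_pow, hΨ0, hΨ1, hΨC, mul_pow, ← Polynomial.C_pow, hroot, sub_self]
  have hIle : ∀ F ∈ I, Ψ F = 0 := by
    intro F hF
    obtain ⟨q, rfl⟩ := Ideal.mem_span_singleton'.1 hF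
    rw [map_mul, hgen, mul_zero]
  have hred : ∀ F : MvPolynomial (Fin 2) B, ∃ F0 F1 : Polynomial B,
      F - (Polynomial.aeval (MvPolynomial.X 1) F0 + MvPolynomial.X 0 * Polynomial.aeval (MvPolynomial.X 1) F1) ∈ I := by
    intro F
    induction F using MvPolynomial.induction_on with
    | C a => exact ⟨Polynomial.C a, 0, by simp [MvPolynomial.algebraMap_eq]⟩
    | add p q hp hq =>
      obtain ⟨a0, a1, ha⟩ := hp
      obtain ⟨c0, c1, hc⟩ := hq
      refine ⟨a0 + c0, a1 + c1, ?_⟩
      have := I.add_mem ha hc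
      convert this using 1
      rw [map_add, map_add]; ring
    | mul_X p i hp =>
      obtain ⟨a0, a1, ha⟩ := hp
      fin_cases i
      · refine ⟨Polynomial.C b * Polynomial.X ^ 2 * a1, a0, ?_⟩
        have h1 := I.mul_mem_left (MvPolynomial.X 0) ha
        have h2 := I.mul_mem_left (Polynomial.aeval (MvPolynomial.X 1) a1) (Ideal.mem_span_singleton_self (MvPolynomial.X 0 ^ 2 - MvPolynomial.C b * MvPolynomial.X 1 ^ 2 : MvPolynomial (Fin 2) B))
        have := I.add_mem h1 h2
        convert this using 1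
        simp only [map_mul, map_pow, Polynomial.aeval_C, Polynomial.aeval_X, MvPolynomial.algebraMap_eq]
        simp only [Fin.zero_eta, Fin.isValue]
        ring
      · refine ⟨Polynomial.X * a0, Polynomial.X * a1, ?_⟩
        have h1 := I.mul_mem_left (MvPolynomial.X 1) ha
        convert h1 using 1
        simp only [map_mul, Polynomial.aeval_X, Fin.mk_one, Fin.isValue]
        ring
  have hΨa : ∀ F0 : Polynomial B, Ψ (Polynomial.aeval (MvPolynomial.X 1) F0) = F0.map (AdjoinRoot.of (Polynomial.X ^ 2 - Polynomial.C b)) := by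
    intro F0
    rw [← Polynomial.aeval_algHom_apply, hΨ1]
    induction F0 using Polynomial.induction_on' with
    | add p q hp hq => rw [map_add, hp, hq, Polynomial.map_add]
    | monomial n a =>
      rw [Polynomial.aeval_monomial, Polynomial.map_monomial, ← Polynomial.C_mul_X_pow_eq_monomial]; rfl
  refine ⟨le_antisymm ?_ ?_, ?_⟩
  · intro F hF
    have hF0 : Ψ F = 0 := hF
    obtain ⟨F0, F1, h1⟩ := hred F
    have h2 := hIle _ h1
    rw [map_sub, hF0, zero_sub, neg_eq_zero, map_add, map_mul, hΨa, hΨa, hΨ0] at h2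
    have hc : ∀ n, F0.coeff n = 0 ∧ F1.coeff (n - 1) * (if n = 0 then 0 else 1) = 0 := by
      intro n
      have h3 := congrArg (fun p => Polynomial.coeff p n) h2
      cases n with
      | zero =>
        simp only [Polynomial.coeff_add, Polynomial.coeff_map, Polynomial.coeff_zero, mul_assoc, Polynomial.coeff_C_mul, Polynomial.coeff_X_mul_zero, mul_zero, add_zero] at h3
        refine ⟨(indep2 b (F0.coeff 0) 0 (by rw [map_zero, zero_mul, add_zero]; exact h3)).1, by simp⟩
      | succ n =>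
        simp only [Polynomial.coeff_add, Polynomial.coeff_map, Polynomial.coeff_zero, mul_assoc, Polynomial.coeff_C_mul, Polynomial.coeff_X_mul] at h3
        obtain ⟨h4, h5⟩ := indep2 b (F0.coeff (n + 1)) (F1.coeff n) (by rw [mul_comm (AdjoinRoot.of (Polynomial.X ^ 2 - Polynomial.C b) (F1.coeff n))]; exact h3)
        exact ⟨h4, by simp [h5]⟩
    have hF0z : F0 = 0 := Polynomial.ext fun n => by rw [(hc n).1, Polynomial.coeff_zero]
    have hF1z : F1 = 0 := Polynomial.ext fun n => by
      have := (hc (n + 1)).2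
      simpa using this
    rw [hF0z, hF1z, map_zero, mul_zero, add_zero, sub_zero] at h1
    exact h1
  · intro F hF
    exact hIle F hF
  · rintro G ⟨c, hc⟩
    have hmono : ∀ (n : ℕ) (a : AdjoinRoot (Polynomial.X ^ 2 - Polynomial.C b)), Polynomial.C a * Polynomial.X ^ (n + 1) ∈ Ψ.range := by
      intro n a
      obtain ⟨p, rfl⟩ := AdjoinRoot.mk_surjective a
      obtain ⟨c0, c1, h⟩ := expr2 b p
      refine ⟨MvPolynomial.C c0 * MvPolynomial.X 1 ^ (n + 1) + MvPolynomial.C c1 * (MvPolynomial.X 0 * MvPolynomial.X 1 ^ n), ?_⟩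
      change Ψ _ = _
      rw [map_add, map_mul, map_mul, map_mul, map_pow, map_pow, hΨ0, hΨ1, hΨC, hΨC]
      rw [show AdjoinRoot.mk (Polynomial.X ^ 2 - Polynomial.C b) p = _ from h, Polynomial.C_add, Polynomial.C_mul]
      ring
    rw [G.as_sum_range_C_mul_X_pow]
    refine Subalgebra.sum_mem _ fun n _ => ?_
    cases n with
    | zero =>
      rw [pow_zero, mul_one, hc]
      exact ⟨MvPolynomial.C c, hΨC c⟩
    | succ n => exact hmono n _

end Groth.Agent.S18121
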