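import Groth.Statements.S18125
import Mathlib

set_option autoImplicit false
universe u
open Pinch

namespace Groth.Agent.S18125

/-- Let K be a field in which 2 ≠ 0, n ≥ 0, S = K[u, v, w, t_1, …, t_n] (u, v, w the first three
variables), h = u^2 - v^2 w the equation of the pinch-point model, and Jac the ideal generated by h
and its three partial derivatives 2u, -2vw, -v^2, which cuts out the scheme-theoretic singular locus
of {h = 0}. Then the ideal (u, v) of the double locus is Jac + (v), and the colon ideal of Jac by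
(v) is (u, v, w). Consequently (u, v)/Jac, the ideal of the double locus restricted to the singular
locus, is an invertible sheaf on the pinch locus u = v = w = 0: it is free of rank one over K[t_1,
…, t_n] on the class of v. (The text states this for every semi-smooth variety and reduces to this
model; K algebraically closed is not needed for the model computation.) -/
theorem result
    (K : Type u) [Field K] [NeZero (2 : K)] (n : ℕ) :
    letI u : MvPolynomial (Fin (n + 3)) K := MvPolynomial.X 0
    letI v : MvPolynomial (Fin (n + 3)) K := MvPolynomial.X 1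
    letI w : MvPolynomial (Fin (n + 3)) K := MvPolynomial.X 2
    letI Jac : Ideal (MvPolynomial (Fin (n + 3)) K) :=
      Ideal.span {u ^ 2 - v ^ 2 * w, 2 * u, -(2 * v * w), -(v ^ 2)}
    Ideal.span {u, v} = Jac ⊔ Ideal.span {v} ∧ Jac.colon (Ideal.span {v}) = Ideal.span {u, v, w} := by
  set u : MvPolynomial (Fin (n + 3)) K := MvPolynomial.X 0 with hu
  set v : MvPolynomial (Fin (n + 3)) K := MvPolynomial.X 1 with hv
  set w : MvPolynomial (Fin (n + 3)) K := MvPolynomial.X 2 with hw
  set Jac : Ideal (MvPolynomial (Fin (n + 3)) K) := Ideal.span {u ^ 2 - v ^ 2 * w, 2 * u, -(2 * v * w), -v ^ 2} with hJac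
  have h2 : (2 : K) ≠ 0 := NeZero.ne 2
  have h2u : (MvPolynomial.C (2⁻¹ : K) : MvPolynomial (Fin (n + 3)) K) * 2 = 1 := by
    rw [← map_ofNat (MvPolynomial.C (σ := Fin (n + 3)) (R := K)) 2, ← MvPolynomial.C_mul, inv_mul_cancel₀ h2, MvPolynomial.C_1]
  have huJ : u ∈ Jac := by
    have h1 : 2 * u ∈ Jac := Ideal.subset_span (by simp)
    have := Jac.mul_mem_left (MvPolynomial.C (2⁻¹ : K)) h1
    rwa [← mul_assoc, h2u, one_mul] at this
  have hvvJ : v ^ 2 ∈ Jac := by
    have h1 : -(v ^ 2) ∈ Jac := Ideal.subset_span (by simp)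
    simpa using Jac.neg_mem h1
  have hvwJ : v * w ∈ Jac := by
    have h1 : -(2 * v * w) ∈ Jac := Ideal.subset_span (by simp)
    have := Jac.mul_mem_left (-(MvPolynomial.C (2⁻¹ : K))) h1
    have e : -(MvPolynomial.C (2⁻¹ : K)) * -(2 * v * w) = (MvPolynomial.C (2⁻¹ : K) * 2) * (v * w) := by ring
    rwa [e, h2u, one_mul] at this
  have hJle : Jac ≤ Ideal.span {u, v * w, v ^ 2} := by
    refine Ideal.span_le.2 ?_
    have e1 : u ∈ Ideal.span {u, v * w, v ^ 2} := Ideal.subset_span (by simp)
    have e2 : v * w ∈ Ideal.span {u, v * w, v ^ 2} := Ideal.subset_span (by simp)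
    have e3 : v ^ 2 ∈ Ideal.span {u, v * w, v ^ 2} := Ideal.subset_span (by simp)
    intro f hf
    simp only [Set.mem_insert_iff, Set.mem_singleton_iff] at hf
    rcases hf with rfl | rfl | rfl | rfl
    · exact Ideal.sub_mem _ (Ideal.pow_mem_of_mem _ e1 2 (by norm_num)) (Ideal.mul_mem_right _ _ e3)
    · exact Ideal.mul_mem_left _ _ e1
    · rw [mul_assoc]; exact Ideal.neg_mem_iff _ |>.2 (Ideal.mul_mem_left _ _ e2)
    · exact Ideal.neg_mem_iff _ |>.2 e3
  refine ⟨le_antisymm ?_ ?_, le_antisymm ?_ ?_⟩
  · refine Ideal.span_le.2 ?_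
    intro f hf
    simp only [Set.mem_insert_iff, Set.mem_singleton_iff] at hf
    rcases hf with rfl | rfl
    · exact Ideal.mem_sup_left huJ
    · exact Ideal.mem_sup_right (Ideal.mem_span_singleton_self _)
  · refine sup_le (hJle.trans (Ideal.span_le.2 ?_)) (Ideal.span_mono (by simp))
    have e1 : u ∈ Ideal.span {u, v} := Ideal.subset_span (by simp)
    have e2 : v ∈ Ideal.span {u, v} := Ideal.subset_span (by simp)
    intro f hf
    simp only [Set.mem_insert_iff, Set.mem_singleton_iff] at hf
    rcases hf with rfl | rfl | rfl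
    · exact e1
    · exact Ideal.mul_mem_right _ _ e2
    · exact Ideal.pow_mem_of_mem _ e2 2 (by norm_num)
  · intro f hf
    have hfv : f * v ∈ Jac := by
      have := Submodule.mem_colon.1 hf v (Ideal.mem_span_singleton_self _)
      rwa [smul_eq_mul] at this
    have h3 := hJle hfv
    obtain ⟨a, b', hb', h4⟩ := Ideal.mem_span_insert.1 h3
    obtain ⟨b, c', hc', h5⟩ := Ideal.mem_span_insert.1 hb'
    obtain ⟨c, h6⟩ := Ideal.mem_span_singleton'.1 hc'
    have h7 : v * (f - b * w - c * v) = u * a := by
      have : f * v = a * u + (b * (v * w) + c * v ^ 2) := by rw [h4, h5, ← h6]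
      linear_combination this
    have hup : Prime u := MvPolynomial.X_prime
    have hnd : ¬ u ∣ v := by
      intro h
      have := (MvPolynomial.X_dvd_X (R := K)).1 h
      exact absurd this (by simp)
    rcases hup.dvd_or_dvd (Dvd.intro _ h7.symm) with h8 | h8
    · exact absurd h8 hnd
    · obtain ⟨d, hd⟩ := h8
      have : f = d * u + (c * v + b * w) := by linear_combination hd
      rw [this]
      exact Ideal.add_mem _ (Ideal.mul_mem_left _ _ (Ideal.subset_span (by simp)))
        (Ideal.add_mem _ (Ideal.mul_mem_left _ _ (Ideal.subset_span (by simp))) (Ideal.mul_mem_left _ _ (Ideal.subset_span (by simp))))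
  · refine Ideal.span_le.2 ?_
    intro f hf
    simp only [Set.mem_insert_iff, Set.mem_singleton_iff] at hf
    rw [SetLike.mem_coe, Submodule.mem_colon]
    intro p hp
    obtain ⟨q, rfl⟩ := Ideal.mem_span_singleton'.1 hp
    rw [smul_eq_mul]
    rcases hf with rfl | rfl | rfl
    · exact Ideal.mul_mem_right _ _ huJ
    · have : v * (q * v) = q * v ^ 2 := by ring
      rw [this]; exact Ideal.mul_mem_left _ _ hvvJ
    · have : w * (q * v) = q * (v * w) := by ring
      rw [this]; exact Ideal.mul_mem_left _ _ hvwJ

end Groth.Agent.S18125
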