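import Groth.Statements.S18387
import Mathlib

set_option autoImplicit false
universe u
open LVCorr

namespace Groth.Agent.S18387

/-- In the affine form which its proof establishes. Let A be a commutative algebra over a field F which
is finite-dimensional of dimension d over F. Then the d-th power of the nilradical of A vanishes.
(Applied to the fibre algebra A = B/mB of a quasi-finite morphism over a closed point with maximal
ideal m, this says that the d-th power of the radical of mB lies in mB, i.e. the ramification of the
morphism at that point is at most the degree d of the fibre.) -/
theorem result (F A : Type u) [Field F] [CommRing A] [Algebra F A]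
    [FiniteDimensional F A] : nilradical A ^ Module.finrank F A = ⊥ := by
  have hn : IsNilpotent (nilradical A) := by
    have : IsNoetherianRing A := IsNoetherianRing.of_finite F A
    exact IsNoetherianRing.isNilpotent_nilradical A
  obtain ⟨m, hm⟩ := hn
  have key : ∀ k : ℕ, nilradical A ^ k = ⊥ ∨ Module.finrank F ((nilradical A ^ k).restrictScalars F : Submodule F A) + k ≤ Module.finrank F A := by
    intro k
    induction k with
    | zero =>
      right
      rw [add_zero]
      exact Submodule.finrank_le _
    | succ k ih =>
      rcases ih with ih | ih
      · left; rw [pow_succ, ih]; simp
      · by_cases hk : nilradical A ^ (k+1) = nilradical A ^ k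
        · left
          have : ∀ j, nilradical A ^ (k + j) = nilradical A ^ k := by
            intro j
            induction j with
            | zero => rfl
            | succ j ihj => rw [← add_assoc, pow_succ, ihj, ← pow_succ, hk]
          rw [hk, ← this m, pow_add, hm]; simp
        · right
          have hlt : nilradical A ^ (k+1) < nilradical A ^ k := lt_of_le_of_ne (Ideal.pow_le_pow_right (Nat.le_succ k)) hk
          have := Submodule.finrank_lt_finrank_of_lt (s := (nilradical A ^ (k+1)).restrictScalars F) (t := (nilradical A ^ k).restrictScalars F) hlt
          omega
  rcases key (Module.finrank F A) with h | h
  · exact h
  · have h0 : Module.finrank F ((nilradical A ^ (Module.finrank F A)).restrictScalars F : Submodule F A) = 0 := by omega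
    rw [Submodule.finrank_eq_zero] at h0
    ext x
    constructor
    · intro hx
      have : x ∈ ((nilradical A ^ (Module.finrank F A)).restrictScalars F : Submodule F A) := hx
      rw [h0] at this
      exact this
    · intro hx
      rw [Submodule.mem_bot] at hx
      rw [hx]; exact Submodule.zero_mem _

end Groth.Agent.S18387
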