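import Groth.Statements.S18390
import Mathlib

set_option autoImplicit false
universe u
open LVCorr

namespace Groth.Agent.S18390

theorem key2 {A : Type*} [CommRing A] (I J₁ J₂ : Ideal A) (h1 : J₁ ≤ I) (h2 : J₂ ≤ I) {k1 k2 : ℕ}
    (hk1 : J₁ ^ k1 ≤ I ^ (k1+1)) (hk2 : J₂ ^ k2 ≤ I ^ (k2+1)) :
    (J₁ ⊔ J₂) ^ (k1 + k2) ≤ I ^ (k1 + k2 + 1) := by
  rw [← Submodule.add_eq_sup, add_pow]
  rw [Ideal.sum_eq_sup, Finset.sup_le_iff]
  intro m hm
  refine le_trans (b := J₁ ^ m * J₂ ^ (k1 + k2 - m)) Ideal.mul_le_left ?_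
  rw [Finset.mem_range] at hm
  by_cases hmk : k1 ≤ m
  · obtain ⟨c, rfl⟩ := Nat.exists_eq_add_of_le hmk
    calc J₁ ^ (k1 + c) * J₂ ^ (k1 + k2 - (k1 + c)) ≤ (I ^ (k1 + 1) * I ^ c) * I ^ (k1 + k2 - (k1 + c)) := by
          rw [pow_add]
          exact Ideal.mul_mono (Ideal.mul_mono hk1 (Ideal.pow_right_mono h1 c)) (Ideal.pow_right_mono h2 _)
      _ = I ^ (k1 + k2 + 1) := by
          rw [← pow_add, ← pow_add]; congr 1; omega
  · obtain ⟨c, hc⟩ := Nat.exists_eq_add_of_le (show k2 ≤ k1 + k2 - m by omega)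
    calc J₁ ^ m * J₂ ^ (k1 + k2 - m) ≤ I ^ m * (I ^ (k2 + 1) * I ^ c) := by
          rw [hc, pow_add]
          exact Ideal.mul_mono (Ideal.pow_right_mono h1 m) (Ideal.mul_mono hk2 (Ideal.pow_right_mono h2 c))
      _ = I ^ (k1 + k2 + 1) := by
          rw [← pow_add, ← pow_add]; congr 1; omega


/-- In the affine, ring-theoretic form which its proof establishes. Let φ : A' → A be a ring
homomorphism, I' a finitely generated ideal of A' and I an ideal of A containing the image of I'.
Then some power I'^k is mapped into I^(k+1) if and only if for every n ≥ 1 and every a ∈ I'^n there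
is a k with φ(a)^k ∈ I^(nk+1). (Geometrically, for a morphism f : (X, Z) → (X', Z') of pairs with Z
a closed subscheme of the preimage of Z', the normal cone of Z in X is the spectrum of the
associated graded algebra of I, and the second condition says that the induced map of normal cones
sends the normal cone of Z set-theoretically into the zero section Z'; the source states the
equivalence in that language.) -/
theorem result (A' A : Type u) [CommRing A'] [CommRing A]
    (φ : A' →+* A) (I' : Ideal A') (hI' : I'.FG) (I : Ideal A) (hle : I'.map φ ≤ I) :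
    (∃ k : ℕ, (I' ^ k).map φ ≤ I ^ (k + 1)) ↔
      ∀ n : ℕ, 1 ≤ n → ∀ a ∈ I' ^ n, ∃ k : ℕ, 1 ≤ k ∧ φ a ^ k ∈ I ^ (n * k + 1) := by
  constructor
  · rintro ⟨k, hk⟩ n hn a ha
    rcases Nat.eq_zero_or_pos k with h0 | h0
    · subst h0
      have hI : I = ⊤ := by
        rw [pow_zero, Ideal.one_eq_top, zero_add, pow_one, Ideal.map_top] at hk
        exact top_le_iff.mp hk
      refine ⟨1, le_rfl, ?_⟩
      rw [hI, ← Ideal.one_eq_top, one_pow, Ideal.one_eq_top]; exact Submodule.mem_top
    · refine ⟨k, h0, ?_⟩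
      have h1 : a ^ k ∈ I' ^ (n * k) := by
        rw [pow_mul]
        exact Ideal.pow_mem_pow ha k
      have h2 : I' ^ (n * k) = (I' ^ k) ^ n := by rw [← pow_mul, mul_comm]
      have h3 : φ (a^k) ∈ (I' ^ (n*k)).map φ := Ideal.mem_map_of_mem φ h1
      rw [h2, Ideal.map_pow] at h3
      have h4 : ((I' ^ k).map φ) ^ n ≤ (I ^ (k+1)) ^ n := Ideal.pow_right_mono hk n
      have h5 := h4 h3
      rw [← pow_mul] at h5
      rw [map_pow] at h5
      refine Ideal.pow_le_pow_right ?_ h5
      nlinarith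
  · intro h
    have key : ∀ N : Ideal A', N.FG → (N ≤ I' → ∃ k : ℕ, (N.map φ) ^ k ≤ I ^ (k+1)) := by
      intro N hN
      induction N, hN using Submodule.fg_induction with
      | singleton x =>
        intro hx
        have hx' : x ∈ I' := hx (Ideal.mem_span_singleton_self x)
        obtain ⟨k, -, hk⟩ := h 1 le_rfl x (by rwa [pow_one])
        refine ⟨k, ?_⟩
        rw [one_mul] at hk
        have : Ideal.map φ (Submodule.span A' {x}) = Ideal.span {φ x} := by
          change Ideal.map φ (Ideal.span {x}) = _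
          rw [Ideal.map_span, Set.image_singleton]
        rw [this, Ideal.span_singleton_pow, Ideal.span_singleton_le_iff_mem]
        exact hk
      | sup N₁ N₂ _ _ ih1 ih2 =>
        intro hN
        obtain ⟨k1, hk1⟩ := ih1 (le_sup_left.trans hN)
        obtain ⟨k2, hk2⟩ := ih2 (le_sup_right.trans hN)
        refine ⟨k1 + k2, ?_⟩
        rw [Ideal.map_sup]
        exact key2 I _ _ ((Ideal.map_mono (le_sup_left.trans hN)).trans hle) ((Ideal.map_mono (le_sup_right.trans hN)).trans hle) hk1 hk2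
    obtain ⟨k, hk⟩ := key I' hI' le_rfl
    exact ⟨k, by rwa [Ideal.map_pow]⟩

end Groth.Agent.S18390
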