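import Groth.Statements.S18393
import Mathlib

set_option autoImplicit false
universe u v
open LVCorr

namespace Groth.Agent.S18393

/-- Stated for the underlying continuous maps. Let c₁, c₂ : C → X be continuous maps with C a Noetherian
topological space, let Z be a closed subset of X and B the closure in C of c₂⁻¹(Z) ∖ c₁⁻¹(Z). Call Z
locally invariant when every point x of Z has an open neighbourhood U such that every y in C with
c₂(y) ∈ Z ∩ U and c₁(y) ∈ U satisfies c₁(y) ∈ Z. Then Z is locally invariant exactly when, for each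
irreducible subset T of B, the closures of c₁(T) and of c₂(T) in X are disjoint. (The source states
this for a correspondence c = (c₁, c₂) : C → X × X of separated schemes of finite type over an
algebraically closed field and for the irreducible components of B; the condition for all
irreducible subsets of B is the same condition.) -/
theorem result {C : Type u} {X : Type v}
    [TopologicalSpace C] [TopologicalSpace X] [TopologicalSpace.NoetherianSpace C]
    (c₁ c₂ : C → X) (hc₁ : Continuous c₁) (hc₂ : Continuous c₂) (Z : Set X) (hZ : IsClosed Z) :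
    (∀ x ∈ Z, ∃ U : Set X, IsOpen U ∧ x ∈ U ∧
        ∀ y : C, c₂ y ∈ Z → c₂ y ∈ U → c₁ y ∈ U → c₁ y ∈ Z) ↔
      ∀ T : Set C, T ⊆ closure (c₂ ⁻¹' Z \ c₁ ⁻¹' Z) → IsIrreducible T →
        closure (c₁ '' T) ∩ closure (c₂ '' T) = ∅ := by
  set B := closure (c₂ ⁻¹' Z \ c₁ ⁻¹' Z) with hB
  constructor
  · intro h T hT hirr
    rw [Set.eq_empty_iff_forall_notMem]
    rintro x ⟨hx1, hx2⟩
    have hBZ : B ⊆ c₂ ⁻¹' Z := closure_minimal Set.diff_subset (hZ.preimage hc₂)
    have hxZ : x ∈ Z := by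
      have : closure (c₂ '' T) ⊆ Z := closure_minimal (by rintro _ ⟨y, hy, rfl⟩; exact hBZ (hT hy)) hZ
      exact this hx2
    obtain ⟨U, hU, hxU, hloc⟩ := h x hxZ
    obtain ⟨_, hz1, ⟨y1, hy1, rfl⟩⟩ := mem_closure_iff.1 hx1 U hU hxU
    obtain ⟨_, hz2, ⟨y2, hy2, rfl⟩⟩ := mem_closure_iff.1 hx2 U hU hxU
    obtain ⟨y, hyT, hy⟩ := hirr.2 (c₁ ⁻¹' U) (c₂ ⁻¹' U) (hU.preimage hc₁) (hU.preimage hc₂) ⟨y1, hy1, hz1⟩ ⟨y2, hy2, hz2⟩
    obtain ⟨w, hw, hw2⟩ := mem_closure_iff.1 (hT hyT) (c₁ ⁻¹' U ∩ c₂ ⁻¹' U) ((hU.preimage hc₁).inter (hU.preimage hc₂)) hy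
    exact hw2.2 (hloc w hw2.1 hw.2 hw.1)
  · intro h x hxZ
    obtain ⟨S, hSfin, hScl, hSirr, hSB⟩ := TopologicalSpace.NoetherianSpace.exists_finite_set_isClosed_irreducible (isClosed_closure (s := c₂ ⁻¹' Z \ c₁ ⁻¹' Z))
    have hTB : ∀ T ∈ S, T ⊆ B := fun T hT => by rw [hB, hSB]; exact Set.subset_sUnion_of_mem hT
    classical
    let V : Set C → Set X := fun T => if x ∈ closure (c₁ '' T) then (closure (c₂ '' T))ᶜ else (closure (c₁ '' T))ᶜ
    have hV : ∀ T ∈ S, IsOpen (V T) ∧ x ∈ V T := by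
      intro T hT
      simp only [V]
      split_ifs with hx
      · refine ⟨isClosed_closure.isOpen_compl, fun hx2 => ?_⟩
        have := h T (hTB T hT) (hSirr T hT)
        exact (Set.eq_empty_iff_forall_notMem.1 this x) ⟨hx, hx2⟩
      · exact ⟨isClosed_closure.isOpen_compl, hx⟩
    refine ⟨⋂ T ∈ S, V T, hSfin.isOpen_biInter fun T hT => (hV T hT).1, ?_, ?_⟩
    · rw [Set.mem_iInter₂]; exact fun T hT => (hV T hT).2
    · intro y hy2Z hy2 hy1
      by_contra hne
      have hyB : y ∈ B := subset_closure ⟨hy2Z, hne⟩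
      rw [hB, hSB] at hyB
      obtain ⟨T, hT, hyT⟩ := hyB
      have e2 := Set.mem_iInter₂.1 hy2 T hT
      have e1 := Set.mem_iInter₂.1 hy1 T hT
      simp only [V] at e1 e2
      split_ifs at e1 e2 with hx
      · exact e2 (subset_closure ⟨y, hyT, rfl⟩)
      · exact e1 (subset_closure ⟨y, hyT, rfl⟩)

end Groth.Agent.S18393
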