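import Groth.Statements.S18404
import Mathlib
import Groth.Agent.Lib.Helper27_Cubic

set_option autoImplicit false
universe u
open Cubic

namespace Groth.Agent.S18404

open Groth.Agent.H27Cubic
theorem ev (k : ℂ) (x : Fin 3 → ℂ) : MvPolynomial.eval x (HesseCubic.form k) =
    x 0 ^ 3 + x 1 ^ 3 + x 2 ^ 3 - 3 * k * (x 0 * x 1 * x 2) := by
  simp [HesseCubic.form]

theorem li_of (v w : Fin 3 → ℂ) (hv : v ≠ 0) (i : Fin 3) (hvi : v i = 0) (hwi : w i = 1) : LinearIndependent ℂ ![v, w] := by
  rw [LinearIndependent.pair_iff' hv]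
  intro a h
  have := congrFun h i
  rw [Pi.smul_apply, hvi, hwi, smul_zero] at this
  exact zero_ne_one this

theorem forward (k : ℂ) (hk : k ^ 3 ≠ 1) (v w : Fin 3 → ℂ) (hv : v ≠ 0)
    (hCv : v 0 ^ 3 + v 1 ^ 3 + v 2 ^ 3 - 3 * k * (v 0 * v 1 * v 2) = 0) (hli : LinearIndependent ℂ ![v, w])
    (h1 : v 0 ^ 2 * w 0 + v 1 ^ 2 * w 1 + v 2 ^ 2 * w 2 - k * (w 0 * v 1 * v 2 + v 0 * w 1 * v 2 + v 0 * v 1 * w 2) = 0)
    (h2 : v 0 * w 0 ^ 2 + v 1 * w 1 ^ 2 + v 2 * w 2 ^ 2 - k * (v 0 * w 1 * w 2 + w 0 * v 1 * w 2 + w 0 * w 1 * v 2) = 0) :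
    v 0 * v 1 * v 2 = 0 := by
  let H : Matrix (Fin 3) (Fin 3) ℂ := !![v 0, -(k/2) * v 2, -(k/2) * v 1; -(k/2) * v 2, v 1, -(k/2) * v 0; -(k/2) * v 1, -(k/2) * v 0, v 2]
  -- P has columns v, w, z
  have hdet : H.det = 0 := by
    by_contra hne
    -- H v and H w are both orthogonal to v and w
    have hHinj : ∀ y : Fin 3 → ℂ, H.mulVec y = 0 → y = 0 := by
      intro y hy
      by_contra hy0
      exact hne (Matrix.exists_mulVec_eq_zero_iff.1 ⟨y, hy0, hy⟩)
    have hliH : LinearIndependent ℂ ![H.mulVec v, H.mulVec w] := by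
      rw [LinearIndependent.pair_iff] at hli ⊢
      intro s t hst
      apply hli s t
      apply hHinj
      rw [Matrix.mulVec_add, Matrix.mulVec_smul, Matrix.mulVec_smul]
      exact hst
    -- v, w in the kernel of the matrix with rows Hv, Hw: two dim kernel and rank 2 in dim 3
    let L : (Fin 3 → ℂ) →ₗ[ℂ] (Fin 2 → ℂ) := Matrix.toLin' (Matrix.of ![H.mulVec v, H.mulVec w])
    have hr : Module.finrank ℂ (LinearMap.range L) = 2 := by
      have : (Matrix.of ![H.mulVec v, H.mulVec w]).rank = 2 := by
        have := LinearIndependent.rank_matrix (M := Matrix.of ![H.mulVec v, H.mulVec w]) hliH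
        simpa using this
      rw [Matrix.rank, ← Matrix.toLin'_apply'] at this
      exact this
    have hk2 := LinearMap.finrank_range_add_finrank_ker L
    rw [hr] at hk2
    simp only [Module.finrank_fintype_fun_eq_card, Fintype.card_fin] at hk2
    have hle : Submodule.span ℂ (Set.range ![v, w]) ≤ LinearMap.ker L := by
      rw [Submodule.span_le]
      rintro _ ⟨i, rfl⟩
      rw [SetLike.mem_coe, LinearMap.mem_ker]
      ext j
      fin_cases i <;> fin_cases j <;>
        simp [L, Matrix.toLin'_apply, Matrix.mulVec, dotProduct, Fin.sum_univ_three, H, Matrix.vecHead, Matrix.vecTail]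
      · linear_combination hCv
      · linear_combination h1
      · linear_combination h1
      · linear_combination h2
    have := Submodule.finrank_mono hle
    rw [finrank_span_eq_card hli] at this
    simp at this
    omega
  have hexp : H.det = v 0 * v 1 * v 2 - (k ^ 2 / 4) * (v 0 ^ 3 + v 1 ^ 3 + v 2 ^ 3) - (k ^ 3 / 4) * (v 0 * v 1 * v 2) := by
    rw [Matrix.det_fin_three]
    simp [H]
    ring
  rw [hexp] at hdet
  have h3 : (v 0 * v 1 * v 2) * (1 - k ^ 3) = 0 := by
    linear_combination hdet + (k ^ 2 / 4) * hCv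
  rcases mul_eq_zero.1 h3 with h | h
  · exact h
  · exact absurd (by linear_combination -h) hk


open MvPolynomial in
/-- Let k ∈ ℂ with k³ ≠ 1 and let h = X₀³ + X₁³ + X₂³ − 3k·X₀X₁X₂ be the Hesse cubic. For a nonzero
vector v with h(v) = 0, the corresponding point is a flex of the plane curve of h — some line
through it meets the curve there with multiplicity three, i.e. there is a vector w linearly
independent from v with h(v + t·w) = t³·h(w) for every t — exactly when v is a scalar multiple of
one of the nine vectors (0, 1, −γ), (−γ, 0, 1), (1, −γ, 0) with γ³ = 1. -/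
theorem result (k : ℂ) (hk : k ^ 3 ≠ 1) (v : Fin 3 → ℂ) (hv : v ≠ 0)
    (hCv : eval v (HesseCubic.form k) = 0) :
    (∃ w : Fin 3 → ℂ, LinearIndependent ℂ ![v, w] ∧
        ∀ t : ℂ, eval (v + t • w) (HesseCubic.form k) = t ^ 3 * eval w (HesseCubic.form k)) ↔
      ∃ γ c : ℂ, γ ^ 3 = 1 ∧ (v = c • ![0, 1, -γ] ∨ v = c • ![-γ, 0, 1] ∨ v = c • ![1, -γ, 0]) := by
  rw [ev] at hCv
  constructor
  · rintro ⟨w, hli, hw⟩
    have e1 := hw 1
    have e2 := hw (-1)
    rw [ev, ev] at e1 e2
    simp only [Pi.add_apply, Pi.smul_apply, smul_eq_mul] at e1 e2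
    have h0 := forward k hk v w hv hCv hli (by linear_combination (1/6) * e1 - (1/6) * e2) (by linear_combination (1/6) * e1 + (1/6) * e2 - (1/3) * hCv)
    rcases mul_eq_zero.1 h0 with h | h
    · rcases mul_eq_zero.1 h with h | h
      · have h1 : v 1 ≠ 0 := by
          intro h1
          have h2 : v 2 ^ 3 = 0 := by rw [h, h1] at hCv; linear_combination hCv
          apply hv
          funext i; fin_cases i
          · exact h
          · exact h1
          · exact pow_eq_zero_iff (by norm_num) |>.1 h2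
        refine ⟨-(v 2) / v 1, v 1, ?_, Or.inl ?_⟩
        · rw [div_pow, div_eq_one_iff_eq (pow_ne_zero _ h1)]
          rw [h] at hCv; linear_combination -hCv
        · funext i; fin_cases i
          · simpa using h
          · simp
          · simp; field_simp
      · have h1 : v 2 ≠ 0 := by
          intro h1
          have h2 : v 0 ^ 3 = 0 := by rw [h, h1] at hCv; linear_combination hCv
          apply hv
          funext i; fin_cases i
          · exact pow_eq_zero_iff (by norm_num) |>.1 h2
          · exact h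
          · exact h1
        refine ⟨-(v 0) / v 2, v 2, ?_, Or.inr (Or.inl ?_)⟩
        · rw [div_pow, div_eq_one_iff_eq (pow_ne_zero _ h1)]
          rw [h] at hCv; linear_combination -hCv
        · funext i; fin_cases i
          · simp; field_simp
          · simpa using h
          · simp
    · have h1 : v 0 ≠ 0 := by
        intro h1
        have h2 : v 1 ^ 3 = 0 := by rw [h, h1] at hCv; linear_combination hCv
        apply hv
        funext i; fin_cases i
        · exact h1
        · exact pow_eq_zero_iff (by norm_num) |>.1 h2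
        · exact h
      refine ⟨-(v 1) / v 0, v 0, ?_, Or.inr (Or.inr ?_)⟩
      · rw [div_pow, div_eq_one_iff_eq (pow_ne_zero _ h1)]
        rw [h] at hCv; linear_combination -hCv
      · funext i; fin_cases i
        · simp
        · simp; field_simp
        · simpa using h
  · rintro ⟨γ, c, hγ, rfl | rfl | rfl⟩
    · refine ⟨![1, -(k * γ), 0], li_of _ _ hv 0 (by simp) (by simp), ?_⟩
      intro t
      rw [ev, ev]
      simp
      linear_combination (-(c ^ 3) - k ^ 3 * t ^ 3 + k^3 * t^3) * hγ
    · refine ⟨![0, 1, -(k * γ)], li_of _ _ hv 1 (by simp) (by simp), ?_⟩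
      intro t
      rw [ev, ev]
      simp
      linear_combination (-(c ^ 3) - k ^ 3 * t ^ 3 + k^3 * t^3) * hγ
    · refine ⟨![-(k * γ), 0, 1], li_of _ _ hv 2 (by simp) (by simp), ?_⟩
      intro t
      rw [ev, ev]
      simp
      linear_combination (-(c ^ 3) - k ^ 3 * t ^ 3 + k^3 * t^3) * hγ

end Groth.Agent.S18404
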