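import Groth.Statements.S18406
import Mathlib
import Groth.Agent.Lib.Helper27_Cubic

set_option autoImplicit false
universe u
open Cubic

namespace Groth.Agent.S18406

open Groth.Agent.H27Cubic
open MvPolynomial in
/-- a smooth cubic does not contain the tangent line at a flex -/
theorem flex_w {f : MvPolynomial (Fin 3) ℂ} (hf : f.IsHomogeneous 3)
    (hsm : ∀ v : Fin 3 → ℂ, v ≠ 0 → eval v f = 0 → ∃ i : Fin 3, eval v (pderiv i f) ≠ 0)
    (v w x0 : Fin 3 → ℂ) (hli : LinearIndependent ℂ ![v, w])
    (hvv : T f v v v = 0) (h1 : T f v v w = 0) (h2 : T f v w w = 0) (hx0 : T f v v x0 = 1)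
    (hspan : ∀ x, T f v v x = 0 → ∃ s t : ℂ, x = s • v + t • w) : eval w f ≠ 0 := by
  intro hw
  have hww : T f w w w = 0 := by rw [T_self hf, hw, mul_zero]
  have hv0 : v ≠ 0 := hli.ne_zero 0
  have hw0 : w ≠ 0 := hli.ne_zero 1
  have hgrad : ∀ a b : ℂ, (a • v + b • w) ≠ 0 → a ^ 2 * T f v v x0 + 2 * a * b * T f v w x0 + b ^ 2 * T f w w x0 ≠ 0 := by
    intro a b hne h0
    have hF : eval (a • v + b • w) f = 0 := by
      have h3 := T_cube f (a • v) (b • w)
      rw [T_self hf] at h3
      simp only [T_smul1, T_smul2, T_smul3, hvv, h1, h2, hww] at h3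
      linear_combination (1/6) * h3
    obtain ⟨z, hz⟩ := exists_grad hf _ (hsm _ hne hF)
    obtain ⟨s, t, hst⟩ := hspan (z + (-(T f v v z)) • x0) (by rw [T_add3, T_smul3, hx0]; ring)
    have hz' : z = (s • v + t • w) + (T f v v z) • x0 := by rw [← hst]; module
    rw [hz'] at hz
    simp only [T_add1, T_add2, T_add3, T_smul1, T_smul2, T_smul3, hvv, h1, h2, hww] at hz
    rw [T_swap12 f w v v, T_swap23 f v w v, h1, T_swap12 f w v w, h2, T_swap23 f w w v, T_swap12 f w v w, h2, T_swap12 f w v x0] at hz
    have : (0:ℂ) = 1 := by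
      rw [← hz]
      linear_combination (-(T f v v z)) * h0
    exact zero_ne_one this
  by_cases hwx : T f w w x0 = 0
  · exact hgrad 0 1 (by simpa using hw0) (by rw [hwx]; ring)
  · obtain ⟨r, hr⟩ := IsAlgClosed.exists_pow_nat_eq ((2 * T f v w x0) ^ 2 - 4 * T f w w x0 * 1) (n := 2) (by norm_num)
    have hne : (1 : ℂ) • v + ((-(2 * T f v w x0) + r) / (2 * T f w w x0)) • w ≠ 0 := by
      intro h
      have := (LinearIndependent.pair_iff.1 hli) 1 _ h
      exact one_ne_zero this.1
    apply hgrad 1 _ hne
    rw [hx0]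
    field_simp
    linear_combination hr

open MvPolynomial in
theorem flex_ne {f : MvPolynomial (Fin 3) ℂ} (hf : f.IsHomogeneous 3)
    (hsm : ∀ v : Fin 3 → ℂ, v ≠ 0 → eval v f = 0 → ∃ i : Fin 3, eval v (pderiv i f) ≠ 0)
    (v w : Fin 3 → ℂ) (hv : v ≠ 0) (hfv : eval v f = 0) (hli : LinearIndependent ℂ ![v, w])
    (hw : ∀ t : ℂ, eval (v + t • w) f = t ^ 3 * eval w f)
    (x : Fin 3 → ℂ) (hx : x ∉ Submodule.span ℂ {v}) (hfx : eval x f = 0) : T f v v x ≠ 0 := by
  intro h0
  obtain ⟨hvv, h1, h2, ⟨x0, hx0⟩, hspan, -⟩ := flex_M hf hsm v hv hfv w hli hw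
  have hwf := flex_w hf hsm v w x0 hli hvv h1 h2 hx0 hspan
  obtain ⟨s, t, rfl⟩ := hspan x h0
  have ht : t ≠ 0 := by
    rintro rfl
    apply hx
    rw [zero_smul, add_zero]
    exact Submodule.smul_mem _ _ (Submodule.mem_span_singleton_self v)
  have h3 := T_cube f (s • v) (t • w)
  rw [T_self hf, hfx] at h3
  simp only [T_smul1, T_smul2, T_smul3, hvv, h1, h2] at h3
  rw [T_self hf] at h3
  have : t * (t * (t * (6 * eval w f))) = 0 := by linear_combination -h3
  simp only [mul_eq_zero] at this
  rcases this with h | h | h | h | h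
  · exact ht h
  · exact ht h
  · exact ht h
  · norm_num at h
  · exact hwf h


open MvPolynomial in
/-- Let f be a nonzero homogeneous cubic in three variables over ℂ whose plane curve is smooth (at every
nonzero zero of f some partial derivative is nonzero), and let v and v′ be flexes of the curve, that
is nonzero zeros of f through each of which some line meets the curve with multiplicity three (there
is a vector w linearly independent from the point with f(point + t·w) = t³·f(w) for every t). Then a
projective automorphism of the curve carries the point of v to the point of v′: there are an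
invertible matrix A whose substitution X_i ↦ Σ_j A_ij X_j multiplies f by a constant c, and a
constant d with A·v = d·v′. (The published statement gives more: a subgroup of the projective
automorphism group isomorphic to C₃ × C₃ acts simply transitively on the nine flexes; only
transitivity is stated here.) -/
theorem result (f : MvPolynomial (Fin 3) ℂ) (hf : f.IsHomogeneous 3)
    (hf0 : f ≠ 0) (hsm : ∀ v : Fin 3 → ℂ, v ≠ 0 → eval v f = 0 → ∃ i : Fin 3, eval v (pderiv i f) ≠ 0)
    (v v' : Fin 3 → ℂ) (hv : v ≠ 0) (hv' : v' ≠ 0) (hfv : eval v f = 0) (hfv' : eval v' f = 0)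
    (hflex : (∃ w : Fin 3 → ℂ, LinearIndependent ℂ ![v, w] ∧ ∀ t : ℂ, eval (v + t • w) f = t ^ 3 * eval w f))
    (hflex' : (∃ w : Fin 3 → ℂ, LinearIndependent ℂ ![v', w] ∧ ∀ t : ℂ, eval (v' + t • w) f = t ^ 3 * eval w f)) :
    ∃ (A : Matrix (Fin 3) (Fin 3) ℂ) (c d : ℂ), IsUnit A.det ∧
      aeval (fun i : Fin 3 => ∑ j : Fin 3, C (A i j) * X j) f = C c * f ∧ A.mulVec v = d • v' := by
  obtain ⟨w, hli, hw⟩ := hflex
  obtain ⟨w', hli', hw'⟩ := hflex'
  by_cases hspan : v' ∈ Submodule.span ℂ {v}
  · obtain ⟨a, ha⟩ := Submodule.mem_span_singleton.1 hspan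
    have ha0 : a ≠ 0 := by rintro rfl; exact hv' (by rw [← ha, zero_smul])
    refine ⟨1, 1, a⁻¹, by simp, ?_, ?_⟩
    · rw [aeval_iff]; intro x; simp
    · rw [Matrix.one_mulVec, ← ha, smul_smul, inv_mul_cancel₀ ha0, one_smul]
  · have hspan' : v ∉ Submodule.span ℂ {v'} := by
      intro h
      obtain ⟨a, ha⟩ := Submodule.mem_span_singleton.1 h
      have ha0 : a ≠ 0 := by rintro rfl; exact hv (by rw [← ha, zero_smul])
      exact hspan (Submodule.mem_span_singleton.2 ⟨a⁻¹, by rw [← ha, smul_smul, inv_mul_cancel₀ ha0, one_smul]⟩)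
    obtain ⟨hvv, -, -, ⟨x0, hx0⟩, -, M, hM, hMv⟩ := flex_M hf hsm v hv hfv w hli hw
    have hv1 : T f v v v' ≠ 0 := flex_ne hf hsm v w hv hfv hli hw v' hspan hfv'
    have hv2 : T f v' v' v ≠ 0 := flex_ne hf hsm v' w' hv' hfv' hli' hw' v hspan' hfv
    have hm : M v' ≠ 0 := by
      intro h
      have := hM v'
      rw [h, mul_zero, T_swap12, T_swap23] at this
      exact hv2 this
    set m := M v' with hmdef
    set u : Fin 3 → ℂ := (invMat v M).mulVec v' with hu
    have hu' : u = v' + (-m) • v := invMat_mulVec v M v'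
    have hspec := invMat_spec hf v hvv M hM
    have hsq := invMat_sq v M hMv
    have hfu : MvPolynomial.eval u f = 0 := by rw [hu, hspec, hfv']
    have hinj : Function.Injective (invMat v M).mulVec := by
      intro a b hab
      have := congrArg (invMat v M).mulVec hab
      rwa [Matrix.mulVec_mulVec, Matrix.mulVec_mulVec, hsq, Matrix.one_mulVec, Matrix.one_mulVec] at this
    have hu0 : u ≠ 0 := by
      intro h
      apply hv'
      apply hinj
      rw [← hu, h, Matrix.mulVec_zero]
    have hliu : LinearIndependent ℂ ![u, (invMat v M).mulVec w'] := by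
      rw [LinearIndependent.pair_iff] at hli' ⊢
      intro s t hst
      apply hli' s t
      apply hinj
      rw [Matrix.mulVec_add, Matrix.mulVec_smul, Matrix.mulVec_smul, Matrix.mulVec_zero]
      exact hst
    have hwu : ∀ t : ℂ, MvPolynomial.eval (u + t • (invMat v M).mulVec w') f = t ^ 3 * MvPolynomial.eval ((invMat v M).mulVec w') f := by
      intro t
      have : u + t • (invMat v M).mulVec w' = (invMat v M).mulVec (v' + t • w') := by
        rw [Matrix.mulVec_add, Matrix.mulVec_smul]
      rw [this, hspec, hspec, hw' t]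
    obtain ⟨huu, -, -, ⟨y0, hy0⟩, -, N, hN, hNu⟩ := flex_M hf hsm u hu0 hfu _ hliu hwu
    have hvu : v' ∉ Submodule.span ℂ {u} := by
      intro h
      obtain ⟨a, ha⟩ := Submodule.mem_span_singleton.1 h
      rw [hu'] at ha
      have h1 : (a * (-m)) • v = (1 - a) • v' := by
        calc (a * (-m)) • v = a • (v' + -m • v) - a • v' := by module
          _ = v' - a • v' := by rw [ha]
          _ = (1 - a) • v' := by module
      by_cases ha1 : a = 1
      · subst ha1
        have : ((1:ℂ) * (-m)) • v = 0 := by rw [h1]; simp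
        rcases smul_eq_zero.1 this with h | h
        · apply hm; linear_combination -h
        · exact hv h
      · apply hspan
        rw [Submodule.mem_span_singleton]
        refine ⟨(1 - a)⁻¹ * (a * (-m)), ?_⟩
        rw [mul_smul, h1, smul_smul, inv_mul_cancel₀ (sub_ne_zero.2 (Ne.symm ha1)), one_smul]
    have hNv : N v' = 1 := by
      have h1 := flex_ne hf hsm u _ hu0 hfu hliu hwu v' hvu hfv'
      have h2 := eval_add_smul hf u huu N hN v' (-1)
      have h3 : v' + (-1 : ℂ) • u = m • v := by rw [hu']; module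
      have h4 : MvPolynomial.eval (m • v) f = 0 := by
        have := T_self hf (m • v)
        simp only [T_smul1, T_smul2, T_smul3, hvv] at this
        linear_combination -(1/6) * this
      rw [h3, h4, hfv'] at h2
      have h5 : T f u u v' * (1 - N v') = 0 := by linear_combination -2 * h2
      have := (mul_eq_zero.1 h5).resolve_left h1
      linear_combination -this
    have hNspec := invMat_spec hf u huu N hN
    have hNsq := invMat_sq u N hNu
    have h6 : (invMat u N).mulVec v' = m • v := by
      rw [invMat_mulVec, hNv, hu']; module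
    have h7 : (invMat u N).mulVec v = m⁻¹ • v' := by
      have h8 : (invMat u N).mulVec (m • v) = v' := by
        rw [← h6, Matrix.mulVec_mulVec, hNsq, Matrix.one_mulVec]
      rw [Matrix.mulVec_smul] at h8
      rw [← h8, smul_smul, inv_mul_cancel₀ hm, one_smul]
    refine ⟨invMat u N, 1, m⁻¹, ?_, ?_, h7⟩
    · rw [← Matrix.isUnit_iff_isUnit_det]
      exact IsUnit.of_mul_eq_one _ hNsq
    · rw [aeval_iff]
      intro x
      rw [hNspec, one_mul]

end Groth.Agent.S18406
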