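import Groth.Statements.S18407
import Mathlib
import Groth.Agent.Lib.Helper27_Cubic

set_option autoImplicit false
universe u
open Cubic

namespace Groth.Agent.S18407

open Groth.Agent.H27Cubic
open MvPolynomial in
theorem eckardt_Q {f : MvPolynomial (Fin 4) ℂ} (hf : f.IsHomogeneous 3)
    (e : Fin 4 → ℂ) (he : e ≠ 0) (x0 : Fin 4 → ℂ) (hx0 : T f e e x0 = 1) (hee : T f e e e = 0)
    (U : Fin 3 → Submodule ℂ (Fin 4 → ℂ)) (hinj : Function.Injective U)
    (hU : ∀ i : Fin 3, Module.finrank ℂ ↥(U i) = 2 ∧ e ∈ U i ∧ ∀ u ∈ U i, eval u f = 0) :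
    ∀ x, T f e e x = 0 → T f e x x = 0 := by
  have hTU : ∀ i, ∀ u ∈ U i, T f e e u = 0 ∧ T f e u u = 0 := by
    intro i u hu
    have h : ∀ t : ℂ, 3 * t * T f u u e + 3 * t ^ 2 * T f u e e = 0 := by
      intro t
      have h1 := T_cube f u (t • e)
      rw [T_self hf, (hU i).2.2 _ (add_mem hu (Submodule.smul_mem _ _ (hU i).2.1)), T_self hf, (hU i).2.2 _ hu] at h1
      simp only [T_smul1, T_smul2, T_smul3, hee] at h1
      linear_combination -h1
    have e1 := h 1
    have e2 := h (-1)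
    have h3 : T f u u e = 0 := by linear_combination (1/6) * e1 - (1/6) * e2
    have h4 : T f u e e = 0 := by linear_combination (1/6) * e1 + (1/6) * e2
    constructor
    · rw [T_swap23, T_swap12]; exact h4
    · rw [T_swap12, T_swap23]; exact h3
  have hnle : ∀ i j, i ≠ j → ∃ u ∈ U i, u ∉ U j := by
    intro i j hij
    by_contra hcon
    push Not at hcon
    have : U i = U j := Submodule.eq_of_le_of_finrank_eq hcon (by rw [(hU i).1, (hU j).1])
    exact hij (hinj this)
  have hspe : ∀ j u, u ∉ U j → u ∉ Submodule.span ℂ {e} := by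
    intro j u hu hmem
    apply hu
    obtain ⟨c, rfl⟩ := Submodule.mem_span_singleton.1 hmem
    exact Submodule.smul_mem _ _ (hU j).2.1
  obtain ⟨u0, hu0, hu0'⟩ := hnle 0 1 (by decide)
  obtain ⟨u1, hu1, hu1'⟩ := hnle 1 0 (by decide)
  obtain ⟨u2, hu2, hu2'⟩ := hnle 2 1 (by decide)
  have hfr := finrank_ker_Tl f e x0 hx0
  have hWle : U 1 ⊔ Submodule.span ℂ {u0} ≤ LinearMap.ker (Tl f e e) := by
    refine sup_le (fun u hu => (hTU 1 u hu).1) ?_
    rw [Submodule.span_singleton_le_iff_mem]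
    exact (hTU 0 u0 hu0).1
  have hWlt : U 1 < U 1 ⊔ Submodule.span ℂ {u0} := by
    refine lt_of_le_of_ne le_sup_left (fun h => hu0' ?_)
    rw [h]
    exact Submodule.mem_sup_right (Submodule.mem_span_singleton_self u0)
  have hWf := Submodule.finrank_lt_finrank_of_lt hWlt
  rw [(hU 1).1] at hWf
  have hWeq : U 1 ⊔ Submodule.span ℂ {u0} = LinearMap.ker (Tl f e e) :=
    Submodule.eq_of_le_of_finrank_le hWle (by omega)
  have hspan : ∀ x, T f e e x = 0 → ∃ a b c : ℂ, x = (a • e + b • u1) + c • u0 := by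
    intro x hx
    have hx' : x ∈ U 1 ⊔ Submodule.span ℂ {u0} := by rw [hWeq]; exact hx
    obtain ⟨y, hy, z, hz, hyz⟩ := Submodule.mem_sup.1 hx'
    obtain ⟨c, rfl⟩ := Submodule.mem_span_singleton.1 hz
    obtain ⟨a, b, rfl⟩ := span_pair (U 1) (hU 1).1 e u1 (hU 1).2.1 hu1 he (hspe 0 u1 hu1') y hy
    exact ⟨a, b, c, hyz.symm⟩
  have h11 := (hTU 1 u1 hu1)
  have h00 := (hTU 0 u0 hu0)
  have hexp : ∀ a b c : ℂ, T f e ((a • e + b • u1) + c • u0) ((a • e + b • u1) + c • u0) = 2 * b * c * T f e u1 u0 := by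
    intro a b c
    rw [T_sq, T_sq]
    simp only [T_add2, T_smul2, T_smul3]
    rw [hee, h11.1, h11.2, h00.1, h00.2]
    ring
  have hB : T f e u1 u0 = 0 := by
    obtain ⟨a, b, c, habc⟩ := hspan u2 (hTU 2 u2 hu2).1
    have hQ := (hTU 2 u2 hu2).2
    rw [habc, hexp] at hQ
    have hc : c ≠ 0 := by
      rintro rfl
      apply hu2'
      rw [habc, zero_smul, add_zero]
      exact add_mem (Submodule.smul_mem _ _ (hU 1).2.1) (Submodule.smul_mem _ _ hu1)
    have hb : b ≠ 0 := by
      rintro rfl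
      have hmem : u2 ∈ U 0 := by
        rw [habc, zero_smul, add_zero]
        exact add_mem (Submodule.smul_mem _ _ (hU 0).2.1) (Submodule.smul_mem _ _ hu0)
      have hle : U 0 ≤ U 2 := by
        intro y hy
        obtain ⟨s, t, rfl⟩ := span_pair (U 0) (hU 0).1 e u2 (hU 0).2.1 hmem he (hspe 1 u2 hu2') y hy
        exact add_mem (Submodule.smul_mem _ _ (hU 2).2.1) (Submodule.smul_mem _ _ hu2)
      have : U 0 = U 2 := Submodule.eq_of_le_of_finrank_eq hle (by rw [(hU 0).1, (hU 2).1])
      exact absurd (hinj this) (by decide)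
    rcases mul_eq_zero.1 hQ with h | h
    · rcases mul_eq_zero.1 h with h | h
      · rcases mul_eq_zero.1 h with h | h
        · norm_num at h
        · exact absurd h hb
      · exact absurd h hc
    · exact h
  intro x hx
  obtain ⟨a, b, c, rfl⟩ := hspan x hx
  rw [hexp, hB, mul_zero]


open MvPolynomial in
/-- Let f be a nonzero homogeneous cubic in four variables over ℂ whose surface S = V_+(f) ⊂ P³ is
smooth (at every nonzero zero of f some partial derivative is nonzero); a line on S is a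
2-dimensional subspace of ℂ⁴ on which f vanishes, and an Eckardt point of S is a nonzero vector
lying on three distinct lines on S. If e is an Eckardt point of S, there is exactly one involutory
matrix A (A² = 1) whose +1-eigenspace is a hyperplane and with A·e = −e, such that the substitution
X_i ↦ Σ_j A_ij X_j multiplies f by a constant — that is, a projective involution preserving S whose
fixed points form a plane together with the point of e, these two pieces being disjoint.
(Normalising A² = 1 and A·e = −e singles out one matrix in the class of the involution.) -/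
theorem result (f : MvPolynomial (Fin 4) ℂ) (hf : f.IsHomogeneous 3)
    (hf0 : f ≠ 0) (hsm : ∀ v : Fin 4 → ℂ, v ≠ 0 → eval v f = 0 → ∃ i : Fin 4, eval v (pderiv i f) ≠ 0)
    (e : Fin 4 → ℂ) (he : e ≠ 0)
    (hE : (∃ U : Fin 3 → Submodule ℂ (Fin 4 → ℂ), Function.Injective U ∧
        ∀ i : Fin 3, Module.finrank ℂ ↥(U i) = 2 ∧ e ∈ U i ∧ ∀ u ∈ U i, eval u f = 0)) :
    ∃! A : Matrix (Fin 4) (Fin 4) ℂ, A * A = 1 ∧ Module.finrank ℂ ↥(LinearMap.ker (Matrix.toLin' A - LinearMap.id)) = 3 ∧
        A.mulVec e = -e ∧ ∃ c : ℂ, aeval (fun i : Fin 4 => ∑ j : Fin 4, C (A i j) * X j) f = C c * f := by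
  obtain ⟨U, hinj, hU⟩ := hE
  have hfe : MvPolynomial.eval e f = 0 := (hU 0).2.2 e (hU 0).2.1
  have hee : T f e e e = 0 := by rw [T_self hf, hfe, mul_zero]
  obtain ⟨x0, hx0⟩ := exists_grad hf e (hsm e he hfe)
  obtain ⟨M, hM, hMe⟩ := exists_M f e x0 hx0 hee (eckardt_Q hf e he x0 hx0 hee U hinj hU)
  refine ⟨invMat e M, ⟨invMat_sq e M hMe, ?_, invMat_v e M hMe, 1, ?_⟩, ?_⟩
  · rw [ker_invMat e he M]
    have := finrank_ker_M M e hMe
    omega
  · rw [aeval_iff]
    intro x
    rw [invMat_spec hf e hee M hM, one_mul]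
  · rintro A ⟨-, hdim, hAe, c, hc⟩
    exact reflection_unique hf e x0 he hx0 hee M hM A (by omega) hAe c ((aeval_iff f A c).1 hc)

end Groth.Agent.S18407
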