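import Groth.Statements.S18467
import Mathlib

set_option autoImplicit false
universe u
open Hopf

namespace Groth.Agent.S18467

/-- Let p be a prime and R a commutative ring containing an element u with u(p − 1) = 1, and let χ be a
homomorphism from the group of units of ℤ/p to the group of units of R such that χ(m) − 1 is a unit
of R for every m ≠ 1. For 0 ≤ i < p − 1 put e_i = u · Σ_m χ(m)^{−i} [m] in the group algebra
R[(ℤ/p)ˣ]. Then the e_i are idempotents, e_i e_j = 0 for i ≠ j, and Σ_i e_i = 1. (The published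
statement is for algebras over the subring of the p-adic integers generated over ℤ by the values of
the Teichmüller character χ and by 1/(p(p − 1)); the hypotheses on R and χ here are the properties
of that situation which the computation uses, so the row is stated for every such pair.) -/
theorem result
    (p : ℕ) [Fact p.Prime] (R : Type u) [CommRing R] (u : R) (hu : u * ((p - 1 : ℕ) : R) = 1)
    (χ : (ZMod p)ˣ →* Rˣ) (hχ : ∀ m : (ZMod p)ˣ, m ≠ 1 → IsUnit ((χ m : R) - 1)) :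
    CompleteOrthogonalIdempotents (fun i : Fin (p - 1) =>
      u • ∑ m : (ZMod p)ˣ, ((χ m⁻¹ : Rˣ) : R) ^ (i : ℕ) • MonoidAlgebra.of R (ZMod p)ˣ m) := by
  classical
  set G := (ZMod p)ˣ
  have hp1 : Fintype.card G = p - 1 := ZMod.card_units p
  obtain ⟨g, hg⟩ := IsCyclic.exists_generator (α := G)
  have hog : orderOf g = p - 1 := by rw [orderOf_eq_card_of_forall_mem_zpowers hg, Nat.card_eq_fintype_card, hp1]
  -- character orthogonality
  have hsum0 : ∀ i j : Fin (p - 1), i ≠ j → ∑ m : G, ((χ m : Rˣ) : R) ^ (i : ℕ) * ((χ m⁻¹ : Rˣ) : R) ^ (j : ℕ) = 0 := by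
    intro i j hij
    have hne : g ^ (i : ℕ) * (g⁻¹) ^ (j : ℕ) ≠ 1 := by
      intro h
      rw [inv_pow, mul_inv_eq_one] at h
      apply hij
      apply Fin.ext
      exact pow_injOn_Iio_orderOf (by rw [Set.mem_Iio, hog]; exact i.2) (by rw [Set.mem_Iio, hog]; exact j.2) h
    have hu1 := hχ _ hne
    set S := ∑ m : G, ((χ m : Rˣ) : R) ^ (i : ℕ) * ((χ m⁻¹ : Rˣ) : R) ^ (j : ℕ) with hS
    have h1 : ((χ (g ^ (i : ℕ) * (g⁻¹) ^ (j : ℕ)) : Rˣ) : R) * S = S := by
      rw [hS, Finset.mul_sum]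
      refine Fintype.sum_equiv (Equiv.mulLeft g) _ _ fun m => ?_
      simp only [Equiv.coe_mulLeft, map_mul, map_pow, Units.val_mul, Units.val_pow_eq_pow_val, mul_inv, mul_pow]
      ring
    have h2 : (((χ (g ^ (i : ℕ) * (g⁻¹) ^ (j : ℕ)) : Rˣ) : R) - 1) * S = 0 := by rw [sub_mul, h1, one_mul, sub_self]
    exact hu1.mul_right_eq_zero.1 h2
  have hχinv : ∀ m : G, ((χ m : Rˣ) : R) * ((χ m⁻¹ : Rˣ) : R) = 1 := by
    intro m
    rw [← Units.val_mul, ← map_mul, mul_inv_cancel, map_one, Units.val_one]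
  set e : Fin (p - 1) → MonoidAlgebra R G := fun i => u • ∑ m : G, ((χ m⁻¹ : Rˣ) : R) ^ (i : ℕ) • MonoidAlgebra.of R G m with he
  have hmul : ∀ i j : Fin (p - 1), e i * e j = (u * ∑ m : G, ((χ m : Rˣ) : R) ^ (j : ℕ) * ((χ m⁻¹ : Rˣ) : R) ^ (i : ℕ)) • e j := by
    intro i j
    have h1 : ∀ m : G, (MonoidAlgebra.of R G m) * (∑ m' : G, ((χ m'⁻¹ : Rˣ) : R) ^ (j : ℕ) • MonoidAlgebra.of R G m') =
        ((χ m : Rˣ) : R) ^ (j : ℕ) • ∑ m' : G, ((χ m'⁻¹ : Rˣ) : R) ^ (j : ℕ) • MonoidAlgebra.of R G m' := by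
      intro m
      rw [Finset.mul_sum, Finset.smul_sum]
      refine Fintype.sum_equiv (Equiv.mulLeft m) _ _ fun m' => ?_
      rw [Equiv.coe_mulLeft, mul_smul_comm, ← map_mul, smul_smul]
      congr 1
      rw [mul_inv, map_mul, Units.val_mul, mul_pow, ← mul_assoc, ← mul_pow, hχinv, one_pow, one_mul]
    simp only [he]
    rw [smul_mul_smul_comm, Finset.sum_mul]
    simp only [smul_mul_assoc, h1, smul_smul]
    rw [← Finset.sum_smul, smul_smul]
    congr 1
    rw [Finset.mul_sum, Finset.mul_sum, Finset.sum_mul]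
    refine Finset.sum_congr rfl fun m _ => ?_
    ring
  refine ⟨⟨fun i => ?_, fun i j hij => ?_⟩, ?_⟩
  · change e i * e i = e i
    rw [hmul]
    have : ∑ m : G, ((χ m : Rˣ) : R) ^ (i : ℕ) * ((χ m⁻¹ : Rˣ) : R) ^ (i : ℕ) = ((p - 1 : ℕ) : R) := by
      simp only [← mul_pow, hχinv, one_pow]
      rw [Finset.sum_const, Finset.card_univ, hp1, nsmul_eq_mul, mul_one]
    rw [this, hu, one_smul]
  · change e i * e j = 0
    rw [hmul, hsum0 j i hij.symm, mul_zero, zero_smul]
  · change ∑ i, e i = 1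
    simp only [he]
    rw [← Finset.smul_sum, Finset.sum_comm]
    have h1 : ∀ m : G, ∑ i : Fin (p - 1), ((χ m⁻¹ : Rˣ) : R) ^ (i : ℕ) • MonoidAlgebra.of R G m =
        if m = 1 then ((p - 1 : ℕ) : R) • (1 : MonoidAlgebra R G) else 0 := by
      intro m
      rw [← Finset.sum_smul]
      split_ifs with hm
      · subst hm
        simp
        rw [MonoidAlgebra.one_def, MonoidAlgebra.smul_single, smul_eq_mul, mul_one]
      · rw [Fin.sum_univ_eq_sum_range (fun i => ((χ m⁻¹ : Rˣ) : R) ^ i)]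
        have h2 := hχ m⁻¹ (by rwa [ne_eq, inv_eq_one])
        have h3 : (((χ m⁻¹ : Rˣ) : R) - 1) * ∑ i ∈ Finset.range (p - 1), ((χ m⁻¹ : Rˣ) : R) ^ i = 0 := by
          rw [mul_comm, geom_sum_mul, ← Units.val_pow_eq_pow_val, ← map_pow, ← hp1, pow_card_eq_one, map_one, Units.val_one, sub_self]
        rw [h2.mul_right_eq_zero.1 h3, zero_smul]
    rw [Finset.sum_congr rfl fun m _ => h1 m, Finset.sum_ite_eq' Finset.univ (1 : G)]
    rw [if_pos (Finset.mem_univ _), smul_smul, hu, one_smul]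

end Groth.Agent.S18467
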