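import Groth.Statements.S18470
import Mathlib

set_option autoImplicit false
universe u v
open OortTate

namespace Groth.Agent.S18470

/-- Let R be a commutative ring and A a commutative Hopf algebra over R which is finitely generated and
projective as an R-module (a finite locally free group scheme G = Spec A, not assumed commutative),
and let A^D = Hom_R(A, R) be the dual algebra with its Hopf structure (the Cartier dual when A is
cocommutative), whose counit is evaluation at 1. Then restriction of linear forms to the
augmentation ideal I = ker ε_A of A is a bijection from the augmentation ideal of A^D onto the dual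
module Hom_R(I, R): the dual of the augmentation ideal of G is the augmentation ideal of the dual.
The published statement is for a group scheme of order p over a Λ_p-algebra; the argument uses only
the splitting A = R·1 ⊕ ker ε. -/
theorem result
    (R : Type u) [CommRing R] (A : Type v) [CommRing A] [HopfAlgebra R A]
    [Module.Finite R A] [Module.Projective R A] :
    Function.Bijective (fun f : LinearMap.ker (Bialgebra.counitAlgHom R (CartDual.D R A)).toLinearMap =>
      ((CartDual.toDual R A) (f : CartDual.D R A)).comp
        (LinearMap.ker (Bialgebra.counitAlgHom R A).toLinearMap).subtype) := by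
  constructor
  · rintro ⟨f, hf⟩ ⟨g, hg⟩ hfg
    apply Subtype.ext
    have hf1 : f.ofConv 1 = 0 := hf
    have hg1 : g.ofConv 1 = 0 := hg
    have key : ∀ a : A, f.ofConv a = g.ofConv a := by
      intro a
      have hmem : a - algebraMap R A (Bialgebra.counitAlgHom R A a) ∈ LinearMap.ker (Bialgebra.counitAlgHom R A).toLinearMap := by
        rw [LinearMap.mem_ker]
        simp
      have h1 := LinearMap.congr_fun hfg ⟨_, hmem⟩
      have h2 : f.ofConv (a - algebraMap R A (Bialgebra.counitAlgHom R A a)) = g.ofConv (a - algebraMap R A (Bialgebra.counitAlgHom R A a)) := h1
      rw [map_sub, map_sub, Algebra.algebraMap_eq_smul_one, map_smul, map_smul, hf1, hg1] at h2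
      simpa using h2
    exact (CartDual.toDual R A).injective (LinearMap.ext key)
  · intro h
    let π : A →ₗ[R] LinearMap.ker (Bialgebra.counitAlgHom R A).toLinearMap :=
      LinearMap.codRestrict _ (LinearMap.id - (Algebra.linearMap R A).comp (Bialgebra.counitAlgHom R A).toLinearMap) (by
        intro a
        rw [LinearMap.mem_ker]
        simp)
    have hπ : ∀ a : A, (π a : A) = a - algebraMap R A (Coalgebra.counit (R := R) a) := fun a => rfl
    refine ⟨⟨(CartDual.toDual R A).symm (h.comp π), ?_⟩, ?_⟩
    · have : h (π 1) = 0 := by
        have hz : π 1 = 0 := by
          apply Subtype.ext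
          rw [hπ, Bialgebra.counit_one, map_one, sub_self]; rfl
        rw [hz, map_zero]
      exact this
    · apply LinearMap.ext
      intro a
      have : h (π a.1) = h a := by
        congr 1
        apply Subtype.ext
        have ha : Coalgebra.counit (R := R) a.1 = 0 := a.2
        rw [hπ, ha, map_zero, sub_zero]
      exact this

end Groth.Agent.S18470
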