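import Groth.Statements.S18480
import Mathlib
import Groth.Agent.Lib.Helper27_OT2

set_option autoImplicit false
universe u v
open scoped TensorProduct
open OortTate

namespace Groth.Agent.S18480

open Groth.Agent.H27OT2
variable {R : Type u} [CommRing R] {A : Type v} [CommRing A] [HopfAlgebra R A] {x : A}
  {A' : Type v} [CommRing A'] [HopfAlgebra R A'] {x' : A'}

noncomputable def F (h : Gen R x) (x' : A') (s : R) : A →ₗ[R] A' :=
  (Algebra.linearMap R A').comp Coalgebra.counit + (LinearMap.toSpanSingleton R A' (s • x')).comp h.pi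

theorem F_apply (h : Gen R x) (x' : A') (s : R) (f : A) : F h x' s f = Coalgebra.counit (R := R) f • (1 : A') + (h.pi f * s) • x' := by
  simp [F, Algebra.algebraMap_eq_smul_one, mul_smul]

theorem F_form (h : Gen R x) (x' : A') (s : R) (c r : R) : F h x' s (c • (1 : A) + r • x) = c • (1 : A') + (r * s) • x' := by
  rw [F_apply, h.pi_eq rfl, map_add, map_smul, map_smul, h.hx, Bialgebra.counit_one]
  simp


/-- Let R be a commutative ring and let A and A' be commutative Hopf algebras over R whose augmentation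
ideals are free of rank one with generators x and x', with constants a, b and a', b' ∈ R such that
x² = a x, Δ(x) = x ⊗ 1 + 1 ⊗ x + b x ⊗ x and x'² = a' x', Δ(x') = x' ⊗ 1 + 1 ⊗ x' + b' x' ⊗ x' (the
group schemes of order two G_{a,b} and G_{a',b'}). Then A and A' are isomorphic as bialgebras over R
(G_{a,b} ≅ G_{a',b'} as group schemes) if and only if there is a unit s of R with a = a'·s and b' =
b·s. -/
theorem result
    (R : Type u) [CommRing R] (A : Type v) [CommRing A] [HopfAlgebra R A]
    (x : A) (hx : Bialgebra.counitAlgHom R A x = 0)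
    (hgen : ∀ f : A, Bialgebra.counitAlgHom R A f = 0 → ∃ r : R, f = r • x)
    (hfree : ∀ r : R, r • x = 0 → r = 0)
    (a b : R) (hxa : x * x = a • x)
    (hxb : Bialgebra.comulAlgHom R A x = x ⊗ₜ[R] 1 + 1 ⊗ₜ[R] x + b • (x ⊗ₜ[R] x))
    (A' : Type v) [CommRing A'] [HopfAlgebra R A']
    (x' : A') (hx' : Bialgebra.counitAlgHom R A' x' = 0)
    (hgen' : ∀ f : A', Bialgebra.counitAlgHom R A' f = 0 → ∃ r : R, f = r • x')
    (hfree' : ∀ r : R, r • x' = 0 → r = 0)
    (a' b' : R) (hxa' : x' * x' = a' • x')
    (hxb' : Bialgebra.comulAlgHom R A' x' = x' ⊗ₜ[R] 1 + 1 ⊗ₜ[R] x' + b' • (x' ⊗ₜ[R] x')) :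
    Nonempty (A ≃ₐc[R] A') ↔ ∃ s : Rˣ, a = a' * (s : R) ∧ b' = b * (s : R) := by
  have h : Gen R x := ⟨hx, hgen, hfree⟩
  have h' : Gen R x' := ⟨hx', hgen', hfree'⟩
  constructor
  · rintro ⟨e⟩
    have h1 : Coalgebra.counit (R := R) (e x) = 0 := by
      rw [CoalgHomClass.counit_comp_apply]; exact h.hx
    have h2 : Coalgebra.counit (R := R) (e.symm x') = 0 := by
      rw [CoalgHomClass.counit_comp_apply]; exact h'.hx
    obtain ⟨s, hs⟩ := h'.hgen _ h1
    obtain ⟨s', hs'⟩ := h.hgen _ h2
    have hss : s * s' = 1 := by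
      apply h.inj
      have : e.symm (e x) = x := e.symm_apply_apply x
      rw [hs, map_smul, hs', smul_smul] at this
      rw [this, one_smul]
    have ha : a * s = a' * s * s := by
      apply h'.inj
      have : e (x * x) = e x * e x := map_mul e x x
      rw [hxa, map_smul, hs] at this
      rw [smul_mul_smul_comm, hxa', smul_smul, smul_smul] at this
      rw [this]; congr 1; ring
    have hb : b * s * s = b' * s := by
      have hc : TensorProduct.map (e : A →ₗ[R] A') (e : A →ₗ[R] A') (Coalgebra.comul (R := R) x) = Coalgebra.comul (R := R) (e x) :=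
        CoalgHomClass.map_comp_comul_apply e x
      have hxb2 : Coalgebra.comul (R := R) x = x ⊗ₜ[R] 1 + 1 ⊗ₜ[R] x + b • (x ⊗ₜ[R] x) := hxb
      have hxb3 : Coalgebra.comul (R := R) x' = x' ⊗ₜ[R] 1 + 1 ⊗ₜ[R] x' + b' • (x' ⊗ₜ[R] x') := hxb'
      have he1 : (e : A →ₗ[R] A') x = s • x' := hs
      have he2 : (e : A →ₗ[R] A') 1 = 1 := map_one e
      rw [hs, map_smul, hxb2, hxb3] at hc
      simp only [map_add, map_smul, TensorProduct.map_tmul, he1, he2] at hc
      have hE := congrArg (E h'.pi h'.pi) hc
      simp only [map_add, map_smul, E_tmul, h'.pi_x, h'.pi_one, smul_eq_mul] at hE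
      linear_combination hE
    have hsu : IsUnit s := IsUnit.of_mul_eq_one s' hss
    refine ⟨hsu.unit, ?_, ?_⟩
    · exact hsu.mul_right_cancel (by rw [IsUnit.unit_spec]; exact ha)
    · exact hsu.mul_right_cancel (by rw [IsUnit.unit_spec]; exact hb.symm)
  · rintro ⟨s, ha, hb⟩
    have hsi : (s : R) * ((s⁻¹ : Rˣ) : R) = 1 := s.mul_inv
    let L : A ≃ₗ[R] A' := LinearEquiv.ofLinear (F h x' (s : R)) (F h' x ((s⁻¹ : Rˣ) : R))
      (by
        apply LinearMap.ext; intro f
        rw [LinearMap.comp_apply, F_apply h', F_form, LinearMap.id_apply]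
        conv_rhs => rw [h'.spec f]
        rw [mul_assoc, s.inv_mul, mul_one])
      (by
        apply LinearMap.ext; intro f
        rw [LinearMap.comp_apply, F_apply h, F_form, LinearMap.id_apply]
        conv_rhs => rw [h.spec f]
        rw [mul_assoc, s.mul_inv, mul_one])
    have hL : ∀ c r : R, L (c • (1 : A) + r • x) = c • (1 : A') + (r * s) • x' := F_form h x' (s : R)
    have hL1 : L 1 = 1 := by
      have := hL 1 0
      simpa using this
    have hLx : L x = (s : R) • x' := by
      have := hL 0 1
      simpa using this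
    have hmul : ∀ f g : A, L (f * g) = L f * L g := by
      intro f g
      rw [h.spec f, h.spec g]
      set c := Coalgebra.counit (R := R) f
      set r := h.pi f
      set c' := Coalgebra.counit (R := R) g
      set r' := h.pi g
      have e1 : (c • (1 : A) + r • x) * (c' • (1 : A) + r' • x) = (c * c') • (1 : A) + (c * r' + r * c' + r * r' * a) • x := by
        simp only [add_mul, mul_add, smul_mul_smul_comm, mul_one, one_mul, hxa]
        module
      rw [e1, hL, hL, hL]
      simp only [add_mul, mul_add, smul_mul_smul_comm, mul_one, one_mul, hxa']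
      rw [ha]
      module
    let Lalg : A ≃ₐ[R] A' := AlgEquiv.ofLinearEquiv L hL1 hmul
    have hLa : ∀ f, Lalg f = L f := fun f => rfl
    refine ⟨BialgEquiv.ofAlgEquiv Lalg ?_ ?_⟩
    · apply AlgHom.ext
      intro f
      rw [AlgHom.comp_apply]
      change Coalgebra.counit (R := R) (L f) = Coalgebra.counit (R := R) f
      rw [h.spec f, hL]
      simp only [map_add, map_smul, h.hx, h'.hx, Bialgebra.counit_one, smul_zero, add_zero]
    · apply AlgHom.ext
      intro f
      rw [AlgHom.comp_apply, AlgHom.comp_apply]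
      have hd1 : Bialgebra.comulAlgHom R A f = Coalgebra.counit (R := R) f • (1 : A ⊗[R] A) + h.pi f • (x ⊗ₜ[R] 1 + 1 ⊗ₜ[R] x + b • (x ⊗ₜ[R] x)) := by
        conv_lhs => rw [h.spec f]
        rw [map_add, map_smul, map_smul, map_one, hxb]
      rw [hd1]
      have hd2 : (Lalg : A →ₐ[R] A') f = Coalgebra.counit (R := R) f • (1 : A') + (h.pi f * s) • x' := by
        change L f = _
        conv_lhs => rw [h.spec f]
        rw [hL]
      rw [hd2]
      simp only [map_add, map_smul, map_one, hxb', Algebra.TensorProduct.map_tmul]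
      have hd3 : (Lalg : A →ₐ[R] A') x = (s : R) • x' := hLx
      rw [hd3, hb]
      simp only [← TensorProduct.smul_tmul', TensorProduct.tmul_smul, smul_smul, smul_add, map_one]
      module

end Groth.Agent.S18480
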