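import Groth.Statements.S18806
import Groth.Agent.Lib.Helper28_Comod

set_option autoImplicit false
universe u v v' w w' x
open TensorProduct
open HopfRep

namespace Groth.Agent.S18806

/-- Let k be a field, i : C → D an injective morphism of k-coalgebras and V a right D-comodule with
coaction ρ : V → V ⊗ D. If ρ(v) lies in the image of V ⊗ C → V ⊗ D (induced by i) for every v, then
V comes from a C-comodule: there is a C-comodule structure on V whose coaction, followed by V ⊗ C →
V ⊗ D, is ρ. (The source states this for left comodules over the coordinate bialgebras of an affine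
monoid scheme over k and of its group of units, assumed open and schematically dense, and uses that
assumption only through the injectivity of the restriction map of coordinate rings; the row is the
right-comodule mirror image for any injective coalgebra map. The converse direction is immediate.) -/
theorem result (k : Type u) [Field k]
    (C : Type v) [AddCommGroup C] [Module k C] [Coalgebra k C]
    (D : Type v') [AddCommGroup D] [Module k D] [Coalgebra k D]
    (i : C →ₗc[k] D) (hi : Function.Injective i)
    (V : Type w) [AddCommGroup V] [Module k V] [HopfRep.Comod k D V]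
    (h : ∀ v : V, HopfRep.Comod.coact (k := k) (A := D) v ∈ LinearMap.range ((i : C →ₗ[k] D).lTensor V)) :
    ∃ c : HopfRep.Comod k C V,
      (i : C →ₗ[k] D).lTensor V ∘ₗ c.coact = HopfRep.Comod.coact (k := k) (A := D) := by
  have hinj : Function.Injective ((i : C →ₗ[k] D).lTensor V) :=
    Module.Flat.lTensor_preserves_injective_linearMap _ hi
  let e := LinearEquiv.ofInjective _ hinj
  let ρ : V →ₗ[k] V ⊗[k] C := e.symm.toLinearMap ∘ₗ
    (HopfRep.Comod.coact (k := k) (A := D)).codRestrict (LinearMap.range ((i : C →ₗ[k] D).lTensor V)) h
  have hρ : ∀ v, (i : C →ₗ[k] D).lTensor V (ρ v) = HopfRep.Comod.coact (k := k) (A := D) v := by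
    intro v
    have : (e (ρ v) : V ⊗[k] D) = HopfRep.Comod.coact (k := k) (A := D) v := by
      simp [ρ]
    rw [← this]
    rfl
  have hρ' : (i : C →ₗ[k] D).lTensor V ∘ₗ ρ = HopfRep.Comod.coact (k := k) (A := D) := by
    ext v; exact hρ v
  have hi2 : Function.Injective ((TensorProduct.map (i : C →ₗ[k] D) (i : C →ₗ[k] D)).lTensor V) := by
    apply Module.Flat.lTensor_preserves_injective_linearMap
    have : TensorProduct.map (i : C →ₗ[k] D) (i : C →ₗ[k] D) = (i : C →ₗ[k] D).lTensor D ∘ₗ (i : C →ₗ[k] D).rTensor C := by
      ext; simp
    rw [this]
    exact (Module.Flat.lTensor_preserves_injective_linearMap (M := D) _ hi).comp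
      (Module.Flat.rTensor_preserves_injective_linearMap (M := C) _ hi)
  refine ⟨⟨ρ, ?_, ?_⟩, hρ'⟩
  · apply LinearMap.ext
    intro v
    apply hi2
    have h1 := LinearMap.congr_fun (HopfRep.Comod.coassoc (k := k) (A := D) (V := V)) v
    simp only [LinearMap.comp_apply, LinearEquiv.coe_coe] at h1 ⊢
    rw [← hρ v] at h1
    have e1 : ∀ t : V ⊗[k] C, (TensorProduct.map (i : C →ₗ[k] D) (i : C →ₗ[k] D)).lTensor V
        (TensorProduct.assoc k V C C (ρ.rTensor C t)) =
        TensorProduct.assoc k V D D ((HopfRep.Comod.coact (k := k) (A := D)).rTensor D ((i : C →ₗ[k] D).lTensor V t)) := by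
      intro t
      induction t with
      | zero => simp
      | add x y hx hy => simp only [map_add, hx, hy]
      | tmul v c =>
        simp only [LinearMap.rTensor_tmul, LinearMap.lTensor_tmul]
        rw [← hρ v]
        generalize ρ v = s
        induction s with
        | zero => simp
        | add x y hx hy => simp only [map_add, TensorProduct.add_tmul, hx, hy]
        | tmul v c => simp
    have e2 : ∀ t : V ⊗[k] C, (TensorProduct.map (i : C →ₗ[k] D) (i : C →ₗ[k] D)).lTensor V
        ((CoalgebraStruct.comul (R := k) (A := C)).lTensor V t) =
        (CoalgebraStruct.comul (R := k) (A := D)).lTensor V ((i : C →ₗ[k] D).lTensor V t) := by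
      intro t
      induction t with
      | zero => simp
      | add x y hx hy => simp only [map_add, hx, hy]
      | tmul v c =>
        simp only [LinearMap.lTensor_tmul]
        congr 1
        exact CoalgHomClass.map_comp_comul_apply i c
    rw [e1, e2, h1]
  · apply LinearMap.ext
    intro v
    have h1 := LinearMap.congr_fun (HopfRep.Comod.counit_comp (k := k) (A := D) (V := V)) v
    simp only [LinearMap.comp_apply, LinearEquiv.coe_coe] at h1 ⊢
    rw [← h1, ← hρ v]
    have e3 : ∀ t : V ⊗[k] C, (CoalgebraStruct.counit (R := k) (A := C)).lTensor V t =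
        (CoalgebraStruct.counit (R := k) (A := D)).lTensor V ((i : C →ₗ[k] D).lTensor V t) := by
      intro t
      induction t with
      | zero => simp
      | add x y hx hy => simp only [map_add, hx, hy]
      | tmul v c => simp
    exact e3 _

end Groth.Agent.S18806
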