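import Groth.Statements.S18807
import Groth.Agent.Lib.Helper28_Comod

set_option autoImplicit false
universe u v v' w w' x
open TensorProduct
open HopfRep

namespace Groth.Agent.S18807

/-- Let k be a field, i : C → D an injective morphism of k-coalgebras, and V a k-vector space carrying a
right C-comodule structure with coaction ρ_C and a right D-comodule structure whose coaction is ρ_C
followed by V ⊗ C → V ⊗ D. Then every k-subspace W of V which is a D-subcomodule (the D-coaction
maps W into the image of W ⊗ D) is a C-subcomodule (ρ_C maps W into the image of W ⊗ C);
consequently the quotient by W is again a C-comodule. (The source states this for left comodules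
over the coordinate bialgebras of an affine monoid scheme and of its open schematically dense group
of units, using only the injectivity of the restriction map; it also records that a D-comodule map
between C-comodules is a C-comodule map, which is immediate from that injectivity and is not part of
this row.) -/
theorem result (k : Type u) [Field k]
    (C : Type v) [AddCommGroup C] [Module k C] [Coalgebra k C]
    (D : Type v') [AddCommGroup D] [Module k D] [Coalgebra k D]
    (i : C →ₗc[k] D) (hi : Function.Injective i)
    (V : Type w) [AddCommGroup V] [Module k V] [HopfRep.Comod k C V] [HopfRep.Comod k D V]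
    (hcd : (i : C →ₗ[k] D).lTensor V ∘ₗ HopfRep.Comod.coact (k := k) (A := C) =
      HopfRep.Comod.coact (k := k) (A := D) (V := V))
    (W : Submodule k V) (hW : HopfRep.IsSubcomod (k := k) (A := D) W) :
    HopfRep.IsSubcomod (k := k) (A := C) W := by
  rw [Groth.Agent.H28Comod.subcomod_iff] at hW ⊢
  intro φ w hw
  obtain ⟨r, hr⟩ := LinearMap.exists_leftInverse_of_injective (i : C →ₗ[k] D) (LinearMap.ker_eq_bot.2 hi)
  have := hW (φ ∘ₗ r) w hw
  have e : Groth.Agent.H28Comod.T (C := D) V (φ ∘ₗ r) w = Groth.Agent.H28Comod.T (C := C) V φ w := by
    rw [Groth.Agent.H28Comod.T_apply, Groth.Agent.H28Comod.T_apply, ← hcd, LinearMap.comp_apply,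
      ← LinearMap.comp_apply, ← LinearMap.lTensor_comp, LinearMap.comp_assoc, hr, LinearMap.comp_id]
  rwa [e] at this

end Groth.Agent.S18807
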