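import Groth.Statements.S18808
import Groth.Agent.Lib.Helper28_Comod

set_option autoImplicit false
universe u v v' w w' x
open TensorProduct
open HopfRep

namespace Groth.Agent.S18808

theorem adm_iff (k : Type u) [Field k]
    (C : Type v) [AddCommGroup C] [Module k C] 
    (D : Type v') [AddCommGroup D] [Module k D] 
    (i : C →ₗ[k] D) {M : Type w} [AddCommGroup M] [Module k M] (t : M ⊗[k] D) :
    t ∈ LinearMap.range (i.lTensor M) ↔ ∀ ψ : D →ₗ[k] k, ψ ∘ₗ i = 0 → TensorProduct.rid k M (ψ.lTensor M t) = 0 := by
  constructor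
  · rintro ⟨s, rfl⟩ ψ hψ
    rw [← LinearMap.comp_apply (ψ.lTensor M), ← LinearMap.lTensor_comp, hψ]
    simp
  · intro h
    have hex : Function.Exact i (LinearMap.range i).mkQ := by
      intro x
      simp
    refine (lTensor_exact M hex (Submodule.mkQ_surjective _) t).1 ?_
    apply Groth.Agent.H28Comod.eq_zero_of_forall
    intro φ
    rw [← LinearMap.comp_apply (φ.lTensor M), ← LinearMap.lTensor_comp]
    apply h
    ext x
    have hx : (Submodule.Quotient.mk (i x) : D ⧸ LinearMap.range i) = 0 :=
      (Submodule.Quotient.mk_eq_zero _).2 ⟨x, rfl⟩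
    simp only [LinearMap.comp_apply, Submodule.mkQ_apply, hx, map_zero, LinearMap.zero_apply]


/-- Let k be a field, i : C → D an injective morphism of k-coalgebras and V a right D-comodule with
coaction ρ. Call a D-subcomodule K of V admissible when the induced coaction of V/K, namely ρ
followed by the projection V ⊗ D → (V/K) ⊗ D, takes all its values in the image of (V/K) ⊗ C → (V/K)
⊗ D (so that V/K comes from a C-comodule). Then there is a least admissible D-subcomodule of V: V
has a largest quotient D-comodule coming from C, through which every D-comodule map from V to a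
comodule coming from C factors. (The source states this for left comodules over the coordinate
bialgebras of an affine monoid scheme and its open schematically dense group of units, as the
existence of a universal map from a representation of the unit group to a representation of the
monoid; it uses that assumption only through the injectivity of the restriction map.) -/
theorem result (k : Type u) [Field k]
    (C : Type v) [AddCommGroup C] [Module k C] [Coalgebra k C]
    (D : Type v') [AddCommGroup D] [Module k D] [Coalgebra k D]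
    (i : C →ₗc[k] D) (hi : Function.Injective i)
    (V : Type w) [AddCommGroup V] [Module k V] [HopfRep.Comod k D V] :
    ∃ K : Submodule k V, HopfRep.IsSubcomod (k := k) (A := D) K ∧
      (∀ v : V, K.mkQ.rTensor D (HopfRep.Comod.coact (k := k) (A := D) v) ∈
        LinearMap.range ((i : C →ₗ[k] D).lTensor (V ⧸ K))) ∧
      ∀ K' : Submodule k V, HopfRep.IsSubcomod (k := k) (A := D) K' →
        (∀ v : V, K'.mkQ.rTensor D (HopfRep.Comod.coact (k := k) (A := D) v) ∈
          LinearMap.range ((i : C →ₗ[k] D).lTensor (V ⧸ K'))) → K ≤ K' := by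
  let K : Submodule k V := sInf {K | HopfRep.IsSubcomod (k := k) (A := D) K ∧ ∀ (ψ : D →ₗ[k] k), ψ ∘ₗ (i : C →ₗ[k] D) = 0 →
    ∀ v : V, Groth.Agent.H28Comod.T V ψ v ∈ K}
  have adm : ∀ K' : Submodule k V, (∀ v : V, K'.mkQ.rTensor D (HopfRep.Comod.coact (k := k) (A := D) v) ∈
          LinearMap.range ((i : C →ₗ[k] D).lTensor (V ⧸ K'))) ↔ ∀ (ψ : D →ₗ[k] k), ψ ∘ₗ (i : C →ₗ[k] D) = 0 →
    ∀ v : V, Groth.Agent.H28Comod.T V ψ v ∈ K' := by
    intro K'
    constructor
    · intro h ψ hψ v
      have := (adm_iff k C D (i : C →ₗ[k] D) _).1 (h v) ψ hψ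
      rw [Groth.Agent.H28Comod.rid_lTensor_rTensor, Submodule.mkQ_apply, Submodule.Quotient.mk_eq_zero] at this
      exact this
    · intro h v
      rw [adm_iff]
      intro ψ hψ
      rw [Groth.Agent.H28Comod.rid_lTensor_rTensor, Submodule.mkQ_apply, Submodule.Quotient.mk_eq_zero]
      exact h ψ hψ v
  refine ⟨K, ?_, ?_, ?_⟩
  · rw [Groth.Agent.H28Comod.subcomod_iff]
    intro φ w hw
    rw [Submodule.mem_sInf] at hw ⊢
    intro K' hK'
    exact (Groth.Agent.H28Comod.subcomod_iff K').1 hK'.1 φ w (hw K' hK')
  · rw [adm]
    intro ψ hψ v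
    rw [Submodule.mem_sInf]
    intro K' hK'
    exact hK'.2 ψ hψ v
  · intro K' hK' h
    exact sInf_le ⟨hK', (adm K').1 h⟩

end Groth.Agent.S18808
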