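import Groth.Statements.S18809
import Groth.Agent.Lib.Helper28_Comod
import Groth.Agent.S18807

set_option autoImplicit false
universe u v v' w w' x
open TensorProduct
open HopfRep

namespace Groth.Agent.S18809

/-- push a comodule structure forward along a coalgebra map -/
@[reducible] noncomputable def pushC (k : Type u) [Field k]
    (C : Type v) [AddCommGroup C] [Module k C] [Coalgebra k C]
    (D : Type v') [AddCommGroup D] [Module k D] [Coalgebra k D]
    (i : C →ₗc[k] D) (V : Type w) [AddCommGroup V] [Module k V] [c : HopfRep.Comod k C V] : HopfRep.Comod k D V where
  coact := (i : C →ₗ[k] D).lTensor V ∘ₗ c.coact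
  coassoc := by
    apply LinearMap.ext
    intro v
    have h1 := LinearMap.congr_fun (HopfRep.Comod.coassoc (k := k) (A := C) (V := V)) v
    simp only [LinearMap.comp_apply, LinearEquiv.coe_coe] at h1 ⊢
    have e1 : ∀ t : V ⊗[k] C, (TensorProduct.map (i : C →ₗ[k] D) (i : C →ₗ[k] D)).lTensor V
        (TensorProduct.assoc k V C C (c.coact.rTensor C t)) =
        TensorProduct.assoc k V D D (((i : C →ₗ[k] D).lTensor V ∘ₗ c.coact).rTensor D ((i : C →ₗ[k] D).lTensor V t)) := by
      intro t
      induction t with
      | zero => simp
      | add x y hx hy => simp only [map_add, hx, hy]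
      | tmul v c' =>
        simp only [LinearMap.rTensor_tmul, LinearMap.lTensor_tmul, LinearMap.comp_apply]
        generalize c.coact v = s
        induction s with
        | zero => simp
        | add x y hx hy => simp only [map_add, TensorProduct.add_tmul, hx, hy]
        | tmul v c => simp
    have e2 : ∀ t : V ⊗[k] C, (TensorProduct.map (i : C →ₗ[k] D) (i : C →ₗ[k] D)).lTensor V
        ((CoalgebraStruct.comul (R := k) (A := C)).lTensor V t) =
        (CoalgebraStruct.comul (R := k) (A := D)).lTensor V ((i : C →ₗ[k] D).lTensor V t) := by
      intro t
      induction t with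
      | zero => simp
      | add x y hx hy => simp only [map_add, hx, hy]
      | tmul v c =>
        simp only [LinearMap.lTensor_tmul]
        congr 1
        exact CoalgHomClass.map_comp_comul_apply i c
    rw [← e1, ← e2, h1]
  counit_comp := by
    apply LinearMap.ext
    intro v
    have h1 := LinearMap.congr_fun (HopfRep.Comod.counit_comp (k := k) (A := C) (V := V)) v
    simp only [LinearMap.comp_apply, LinearEquiv.coe_coe] at h1 ⊢
    rw [← h1]
    have e3 : ∀ t : V ⊗[k] C, (CoalgebraStruct.counit (R := k) (A := C)).lTensor V t =
        (CoalgebraStruct.counit (R := k) (A := D)).lTensor V ((i : C →ₗ[k] D).lTensor V t) := by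
      intro t
      induction t with
      | zero => simp
      | add x y hx hy => simp only [map_add, hx, hy]
      | tmul v c => simp
    exact (e3 _).symm


/-- Let k be a field and i : C → D an injective morphism of k-coalgebras. If every right D-comodule is
semisimple (every subcomodule has a complementary subcomodule), then every right C-comodule is
semisimple. (The source states this for the coordinate bialgebras of an affine monoid scheme over k
and of its open schematically dense group of units, through the injectivity of the restriction map,
with semisimple meaning that every representation is a sum of irreducible subrepresentations;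
D-comodules are quantified in the universe of the given C-comodule.) -/
theorem result (k : Type u) [Field k]
    (C : Type v) [AddCommGroup C] [Module k C] [Coalgebra k C]
    (D : Type v') [AddCommGroup D] [Module k D] [Coalgebra k D]
    (i : C →ₗc[k] D) (hi : Function.Injective i)
    (hD : ∀ (W : Type w) [AddCommGroup W] [Module k W] [HopfRep.Comod k D W], HopfRep.IsSemisimpleComod k D W)
    (V : Type w) [AddCommGroup V] [Module k V] [HopfRep.Comod k C V] :
    HopfRep.IsSemisimpleComod k C V := by
  letI cD := pushC k C D i V
  intro W hW
  have hWD : HopfRep.IsSubcomod (k := k) (A := D) W := by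
    intro w hw
    obtain ⟨s, hs⟩ := hW w hw
    refine ⟨(i : C →ₗ[k] D).lTensor W s, ?_⟩
    change _ = (i : C →ₗ[k] D).lTensor V (HopfRep.Comod.coact (k := k) (A := C) w)
    rw [← hs, ← LinearMap.comp_apply, ← LinearMap.comp_apply, LinearMap.rTensor_comp_lTensor, LinearMap.lTensor_comp_rTensor]
  obtain ⟨W', hW', hc⟩ := hD V W hWD
  exact ⟨W', Groth.Agent.S18807.result k C D i hi V rfl W' hW', hc⟩

end Groth.Agent.S18809
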