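import Groth.Statements.S18810
import Groth.Agent.Lib.Helper28_Comod

set_option autoImplicit false
universe u v v' w w' x
open TensorProduct
open HopfRep

namespace Groth.Agent.S18810

/-- Let k be a field, C a k-coalgebra, V a right C-comodule and (S_j) a family of simple C-comodules
which are pairwise non-isomorphic (for j ≠ j' no k-linear isomorphism S_j ≃ S_j' commutes with the
coactions). For each j let V[j] be the isotypic component of type S_j: the sum of the images of all
comodule maps S_j → V (equivalently of all simple subcomodules of V isomorphic to S_j, a nonzero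
such map being injective). Then the family j ↦ V[j] is independent (so the isotypic components
present form a direct sum; that they exhaust the socle of V is not part of this row, the family S_j
not being required to contain every simple comodule in V). (The source states this for
representations of an affine monoid scheme over k, i.e. left comodules over its coordinate
bialgebra; the row is the right-comodule form over any coalgebra.) -/
theorem result (k : Type u) [Field k]
    (C : Type v) [AddCommGroup C] [Module k C] [Coalgebra k C]
    (V : Type w) [AddCommGroup V] [Module k V] [HopfRep.Comod k C V]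
    {ι : Type x} (S : ι → Type w') [∀ j, AddCommGroup (S j)] [∀ j, Module k (S j)]
    [∀ j, HopfRep.Comod k C (S j)] (hS : ∀ j, HopfRep.IsSimpleComod k C (S j))
    (hne : ∀ j j', j ≠ j' → ∀ e : S j ≃ₗ[k] S j', ¬ Hoch.IsComodHom C (e : S j →ₗ[k] S j')) :
    iSupIndep (fun j => ⨆ f : {f : S j →ₗ[k] V // Hoch.IsComodHom C f}, LinearMap.range f.1) := by
  classical
  letI := Groth.Agent.H28Comod.modR k C V
  letI := fun j => Groth.Agent.H28Comod.modR k C (S j)
  haveI := fun j => Groth.Agent.H28Comod.simple_iff.1 (hS j)
  let R := Groth.Agent.H28Comod.R k C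
  let c : ι → Submodule R V := fun j => isotypicComponent R V (S j)
  have hle : ∀ j, (⨆ f : {f : S j →ₗ[k] V // Hoch.IsComodHom C f}, LinearMap.range f.1) ≤ Groth.Agent.H28Comod.ofR (c j) := by
    intro j
    apply iSup_le
    rintro ⟨f, hf⟩ _ ⟨x, rfl⟩
    let F : S j →ₗ[R] V := Groth.Agent.H28Comod.homR f hf
    rcases LinearMap.injective_or_eq_zero F with h | h
    · have h1 : LinearMap.range F ≤ c j := le_sSup ⟨(LinearEquiv.ofInjective F h).symm⟩
      exact h1 ⟨x, rfl⟩
    · have : f x = 0 := LinearMap.congr_fun h x
      change f x ∈ _
      rw [this]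
      exact Submodule.zero_mem _
  have hex : ∀ j, c j ≠ ⊥ → ∃ m : Submodule R V, Nonempty (m ≃ₗ[R] S j) := by
    intro j hj
    by_contra hcon
    push_neg at hcon
    apply hj
    change sSup {m : Submodule R V | Nonempty (m ≃ₗ[R] S j)} = ⊥
    have : {m : Submodule R V | Nonempty (m ≃ₗ[R] S j)} = ∅ := by
      ext m
      constructor
      · intro hm
        exact absurd hm (not_nonempty_iff.2 (hcon m))
      · intro hm; exact absurd hm (Set.notMem_empty m)
    rw [this, sSup_empty]
  have hmemc : ∀ j, c j ≠ ⊥ → c j ∈ isotypicComponents R V := by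
    intro j hj
    obtain ⟨m, ⟨e⟩⟩ := hex j hj
    refine ⟨m, IsSimpleModule.congr e, e.isotypicComponent_eq.symm⟩
  have hinj : ∀ i j, i ≠ j → c i ≠ ⊥ → c i ≠ c j := by
    intro i j hij hi heq
    obtain ⟨m, ⟨e⟩⟩ := hex i hi
    haveI : IsSimpleModule R m := IsSimpleModule.congr e
    have hm : m ≤ c j := by rw [← heq]; exact le_sSup ⟨e⟩
    have ⟨e'⟩ := isIsotypicOfType_submodule_iff.mp (IsIsotypicOfType.isotypicComponent R V (S j)) _ hm
    let E := e.symm.trans e'
    apply hne i j hij { Groth.Agent.H28Comod.ofHomR E.toLinearMap with
      invFun := E.symm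
      left_inv := fun x => E.symm_apply_apply x
      right_inv := fun x => E.apply_symm_apply x }
    exact Groth.Agent.H28Comod.ofHomR_hom E.toLinearMap
  intro j
  rw [Submodule.disjoint_def]
  intro x hx hx'
  have hx1 : x ∈ c j := hle j hx
  by_cases hj : c j = ⊥
  · rw [hj] at hx1; simpa using hx1
  have hx2 : x ∈ sSup (isotypicComponents R V \ {c j}) := by
    have : (⨆ i, ⨆ (_ : i ≠ j), (⨆ f : {f : S i →ₗ[k] V // Hoch.IsComodHom C f}, LinearMap.range f.1)) ≤
        Groth.Agent.H28Comod.ofR (sSup (isotypicComponents R V \ {c j})) := by
      apply iSup_le; intro i; apply iSup_le; intro hij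
      refine (hle i).trans ?_
      intro y hy
      by_cases hi : c i = ⊥
      · have hy' : y ∈ c i := hy
        rw [hi] at hy'
        have : y = 0 := by simpa using hy'
        rw [this]; exact Submodule.zero_mem _
      · have : c i ≤ sSup (isotypicComponents R V \ {c j}) := le_sSup ⟨hmemc i hi, hinj i j hij hi⟩
        exact this hy
    exact this hx'
  have := sSupIndep_isotypicComponents R V (hmemc j hj)
  exact (Submodule.disjoint_def.1 this) x hx1 hx2

end Groth.Agent.S18810
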