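import Groth.Statements.S18814
import Groth.Agent.Lib.Helper28_Comod

set_option autoImplicit false
universe u v v' w w'
open TensorProduct
open HopfRep

namespace Groth.Agent.S18814

/-- Let k be a field, C and D commutative bialgebras over k (coordinate rings of affine monoid schemes M
and N) and V a k-vector space carrying a right C-comodule structure with coaction ρ_C : V → V ⊗ C
and a right D-comodule structure with coaction ρ_D : V → V ⊗ D which commute: (ρ_C ⊗ id_D) ∘ ρ_D and
(ρ_D ⊗ id_C) ∘ ρ_C agree in V ⊗ C ⊗ D after reassociating and swapping the last two factors (the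
actions of M and N on V commute). Assume V is semisimple as a D-comodule. Then for every simple
D-comodule S the isotypic component of V of type S, the sum of the images of all D-comodule maps S →
V, is a C-subcomodule of V. (The source works with left comodules; this is the right-comodule form.) -/
theorem result (k : Type u) [Field k]
    (C : Type v) [CommRing C] [Bialgebra k C] (D : Type v') [CommRing D] [Bialgebra k D]
    (V : Type w) [AddCommGroup V] [Module k V] [HopfRep.Comod k C V] [HopfRep.Comod k D V]
    (hcomm : (TensorProduct.assoc k V C D).toLinearMap ∘ₗ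
        (HopfRep.Comod.coact (k := k) (A := C) (V := V)).rTensor D ∘ₗ HopfRep.Comod.coact (k := k) (A := D) =
      (TensorProduct.comm k D C).toLinearMap.lTensor V ∘ₗ (TensorProduct.assoc k V D C).toLinearMap ∘ₗ
        (HopfRep.Comod.coact (k := k) (A := D) (V := V)).rTensor C ∘ₗ HopfRep.Comod.coact (k := k) (A := C))
    (hV : HopfRep.IsSemisimpleComod k D V)
    (S : Type w') [AddCommGroup S] [Module k S] [HopfRep.Comod k D S] (hS : HopfRep.IsSimpleComod k D S) :
    HopfRep.IsSubcomod (k := k) (A := C)
      (⨆ f : {f : S →ₗ[k] V // Hoch.IsComodHom D f}, LinearMap.range f.1) := by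
  rw [Groth.Agent.H28Comod.subcomod_iff]
  intro φ
  have key : ∀ (ψ : D →ₗ[k] k) (v : V), Groth.Agent.H28Comod.T (C := C) V φ (Groth.Agent.H28Comod.T (C := D) V ψ v) =
      Groth.Agent.H28Comod.T (C := D) V ψ (Groth.Agent.H28Comod.T (C := C) V φ v) := by
    intro ψ v
    have h := LinearMap.congr_fun hcomm v
    simp only [LinearMap.comp_apply, LinearEquiv.coe_coe] at h
    let Ψ : V ⊗[k] (C ⊗[k] D) →ₗ[k] V := (TensorProduct.rid k V).toLinearMap ∘ₗ
      (LinearMap.mul' k k ∘ₗ TensorProduct.map φ ψ).lTensor V
    have h' := congrArg Ψ h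
    have e1 : ∀ t : V ⊗[k] D, Ψ (TensorProduct.assoc k V C D ((HopfRep.Comod.coact (k := k) (A := C) (V := V)).rTensor D t)) =
        Groth.Agent.H28Comod.T (C := C) V φ (TensorProduct.rid k V (ψ.lTensor V t)) := by
      intro t
      induction t with
      | zero => simp
      | add x y hx hy => simp only [map_add, hx, hy]
      | tmul v d =>
        simp only [LinearMap.rTensor_tmul, LinearMap.lTensor_tmul, TensorProduct.rid_tmul, map_smul]
        rw [Groth.Agent.H28Comod.T_apply]
        generalize HopfRep.Comod.coact (k := k) (A := C) v = s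
        induction s with
        | zero => simp
        | add x y hx hy => simp only [map_add, TensorProduct.add_tmul, hx, hy, smul_add]
        | tmul v c => simp [Ψ, mul_comm, smul_smul]
    have e2 : ∀ t : V ⊗[k] C, Ψ ((TensorProduct.comm k D C).toLinearMap.lTensor V (TensorProduct.assoc k V D C
        ((HopfRep.Comod.coact (k := k) (A := D) (V := V)).rTensor C t))) =
        Groth.Agent.H28Comod.T (C := D) V ψ (TensorProduct.rid k V (φ.lTensor V t)) := by
      intro t
      induction t with
      | zero => simp
      | add x y hx hy => simp only [map_add, hx, hy]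
      | tmul v d =>
        simp only [LinearMap.rTensor_tmul, LinearMap.lTensor_tmul, TensorProduct.rid_tmul, map_smul]
        rw [Groth.Agent.H28Comod.T_apply]
        generalize HopfRep.Comod.coact (k := k) (A := D) v = s
        induction s with
        | zero => simp
        | add x y hx hy => simp only [map_add, TensorProduct.add_tmul, hx, hy, smul_add]
        | tmul v c => simp [Ψ, mul_comm, smul_smul]
    rw [e1, e2] at h'
    exact h'
  have hT : Hoch.IsComodHom D (Groth.Agent.H28Comod.T (C := C) V φ) :=
    (Groth.Agent.H28Comod.hom_iff _).2 key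
  intro w hw
  have : (⨆ f : {f : S →ₗ[k] V // Hoch.IsComodHom D f}, LinearMap.range f.1) ≤
      (⨆ f : {f : S →ₗ[k] V // Hoch.IsComodHom D f}, LinearMap.range f.1).comap (Groth.Agent.H28Comod.T (C := C) V φ) := by
    apply iSup_le
    rintro ⟨f, hf⟩ _ ⟨s, rfl⟩
    have hcomp : Hoch.IsComodHom D ((Groth.Agent.H28Comod.T (C := C) V φ) ∘ₗ f) := by
      rw [Groth.Agent.H28Comod.hom_iff] at hf ⊢
      intro ψ s
      rw [LinearMap.comp_apply, LinearMap.comp_apply, hf, key]
    exact Submodule.mem_iSup_of_mem (p := fun f : {f : S →ₗ[k] V // Hoch.IsComodHom D f} => LinearMap.range f.1)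
      ⟨_, hcomp⟩ ⟨s, rfl⟩
  exact this hw

end Groth.Agent.S18814
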