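import Groth.Statements.S18818
import Groth.Agent.Lib.Helper28_Comod

set_option autoImplicit false
universe u v w
open TensorProduct
open HopfRep

namespace Groth.Agent.S18818

/-- Let k be a field, C a k-coalgebra and V a right C-comodule which is semisimple in the sense that
every subcomodule has a complementary subcomodule (equivalently every injective comodule map into V
splits). Then V is completely reducible: V is the sum of its simple subcomodules, the nonzero
subcomodules W whose only subcomodules are 0 and W. (The source states this for representations of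
an affine monoid scheme over k, i.e. left comodules over its coordinate bialgebra; the converse
implication and the stability of the class under subobjects and quotients are not part of this row.) -/
theorem result (k : Type u) [Field k]
    (C : Type v) [AddCommGroup C] [Module k C] [Coalgebra k C]
    (V : Type w) [AddCommGroup V] [Module k V] [HopfRep.Comod k C V] (hV : HopfRep.IsSemisimpleComod k C V) :
    (⨆ W : {W : Submodule k V // HopfRep.IsSubcomod (k := k) (A := C) W ∧ W ≠ ⊥ ∧
        ∀ W' : Submodule k V, HopfRep.IsSubcomod (k := k) (A := C) W' → W' ≤ W → W' = ⊥ ∨ W' = W},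
      (W.1 : Submodule k V)) = ⊤ := by
  letI := Groth.Agent.H28Comod.modR k C V
  haveI := Groth.Agent.H28Comod.semi_iff.1 hV
  have h := IsSemisimpleModule.sSup_simples_eq_top (Groth.Agent.H28Comod.R k C) V
  rw [eq_top_iff]
  let S := (⨆ W : {W : Submodule k V // HopfRep.IsSubcomod (k := k) (A := C) W ∧ W ≠ ⊥ ∧
        ∀ W' : Submodule k V, HopfRep.IsSubcomod (k := k) (A := C) W' → W' ≤ W → W' = ⊥ ∨ W' = W},
      (W.1 : Submodule k V))
  have hS : HopfRep.IsSubcomod (k := k) (A := C) S := by
    rw [Groth.Agent.H28Comod.subcomod_iff]
    intro φ w hw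
    have : S ≤ S.comap (Groth.Agent.H28Comod.T V φ) := by
      apply iSup_le
      rintro ⟨W, hW1, hW2⟩ x hx
      exact Submodule.mem_iSup_of_mem ⟨W, hW1, hW2⟩ ((Groth.Agent.H28Comod.subcomod_iff W).1 hW1 φ x hx)
    exact this hw
  have h2 : sSup {m : Submodule (Groth.Agent.H28Comod.R k C) V | IsSimpleModule (Groth.Agent.H28Comod.R k C) m} ≤
      Groth.Agent.H28Comod.toR S hS := by
    apply sSup_le
    intro m hm x hx
    have hm' := isSimpleModule_iff_isAtom.1 hm
    refine Submodule.mem_iSup_of_mem (p := fun W : {W : Submodule k V // HopfRep.IsSubcomod (k := k) (A := C) W ∧ W ≠ ⊥ ∧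
        ∀ W' : Submodule k V, HopfRep.IsSubcomod (k := k) (A := C) W' → W' ≤ W → W' = ⊥ ∨ W' = W} => (W.1 : Submodule k V))
        ⟨Groth.Agent.H28Comod.ofR m, Groth.Agent.H28Comod.ofR_sub m, ?_, ?_⟩ hx
    · intro h0
      apply hm'.1
      rw [eq_bot_iff]
      intro y hy
      have : y ∈ Groth.Agent.H28Comod.ofR m := hy
      rw [h0] at this
      simpa using this
    · intro W' hW' hle
      have hle' : Groth.Agent.H28Comod.toR W' hW' ≤ m := hle
      rcases hm'.le_iff.1 hle' with h | h
      · left
        rw [eq_bot_iff]
        intro y hy
        have : y ∈ Groth.Agent.H28Comod.toR W' hW' := hy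
        rw [h] at this
        simpa using this
      · right
        apply le_antisymm hle
        intro y hy
        have : y ∈ Groth.Agent.H28Comod.toR W' hW' := by rw [h]; exact hy
        exact this
  intro x _
  have hx : x ∈ (⊤ : Submodule (Groth.Agent.H28Comod.R k C) V) := trivial
  rw [← h] at hx
  exact h2 hx

end Groth.Agent.S18818
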