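import Groth.Statements.S18819
import Groth.Agent.Lib.Helper28_Comod

set_option autoImplicit false
universe u v w w'
open TensorProduct
open HopfRep

namespace Groth.Agent.S18819

/-- Let k be a field, C a k-coalgebra and V a right C-comodule which is the sum of finitely many simple
subcomodules, given as the images of comodule maps g_i : K_i → V (i < n) from simple comodules K_i.
If S is a simple comodule and f : S → V a nonzero comodule map (so that its image is a simple
subcomodule of V), then S is isomorphic as a comodule to some K_i: there is a k-linear isomorphism S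
≃ K_i commuting with the coactions. (The source states this for representations of an affine monoid
scheme over k with the subrepresentations given as subspaces; here the simple subcomodules are
presented as images of maps from simple comodules.) -/
theorem result (k : Type u) [Field k]
    (C : Type v) [AddCommGroup C] [Module k C] [Coalgebra k C]
    (V : Type w) [AddCommGroup V] [Module k V] [HopfRep.Comod k C V]
    {n : ℕ} (K : Fin n → Type w') [∀ i, AddCommGroup (K i)] [∀ i, Module k (K i)] [∀ i, HopfRep.Comod k C (K i)]
    (hK : ∀ i, HopfRep.IsSimpleComod k C (K i)) (g : ∀ i, K i →ₗ[k] V) (hg : ∀ i, Hoch.IsComodHom C (g i))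
    (hsum : (⨆ i, LinearMap.range (g i)) = ⊤)
    (S : Type w') [AddCommGroup S] [Module k S] [HopfRep.Comod k C S] (hS : HopfRep.IsSimpleComod k C S)
    (f : S →ₗ[k] V) (hf : Hoch.IsComodHom C f) (hf0 : f ≠ 0) :
    ∃ (i : Fin n) (e : S ≃ₗ[k] K i), Hoch.IsComodHom C (e : S →ₗ[k] K i) := by
  letI := Groth.Agent.H28Comod.modR k C V
  letI := Groth.Agent.H28Comod.modR k C S
  letI := fun i => Groth.Agent.H28Comod.modR k C (K i)
  haveI := Groth.Agent.H28Comod.simple_iff.1 hS
  haveI := fun i => Groth.Agent.H28Comod.simple_iff.1 (hK i)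
  let R := Groth.Agent.H28Comod.R k C
  let F : S →ₗ[R] V := Groth.Agent.H28Comod.homR f hf
  let G : ∀ i, K i →ₗ[R] V := fun i => Groth.Agent.H28Comod.homR (g i) (hg i)
  have hGtop : (⨆ i, LinearMap.range (G i)) = ⊤ := by
    have h1 : (⨆ i, LinearMap.range (g i)) ≤ Groth.Agent.H28Comod.ofR (⨆ i, LinearMap.range (G i)) := by
      apply iSup_le
      rintro i _ ⟨x, rfl⟩
      exact Submodule.mem_iSup_of_mem (p := fun i => LinearMap.range (G i)) i ⟨x, rfl⟩
    rw [eq_top_iff]
    intro x _
    exact h1 (hsum ▸ Submodule.mem_top)
  have hss : IsSemisimpleModule R V := by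
    have : ∀ i, IsSemisimpleModule R (LinearMap.range (G i)) := fun i =>
      IsSemisimpleModule.of_surjective (G i).rangeRestrict (G i).surjective_rangeRestrict
    exact isSemisimpleModule_of_isSemisimpleModule_submodule' this hGtop
  obtain ⟨W', hW'⟩ := exists_isCompl (LinearMap.range F)
  have hFne : F ≠ 0 := by
    intro h0
    apply hf0
    ext x
    exact LinearMap.congr_fun h0 x
  have hFinj : Function.Injective F := (LinearMap.injective_or_eq_zero F).resolve_right hFne
  let e : S ≃ₗ[R] LinearMap.range F := LinearEquiv.ofInjective F hFinj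
  let pr : V →ₗ[R] LinearMap.range F := Submodule.linearProjOfIsCompl _ _ hW'
  have : ∃ i, pr ∘ₗ G i ≠ 0 := by
    by_contra hcon
    push_neg at hcon
    have : (⊤ : Submodule R V) ≤ LinearMap.ker pr := by
      rw [← hGtop]
      apply iSup_le
      rintro i _ ⟨x, rfl⟩
      exact LinearMap.congr_fun (hcon i) x
    apply hFne
    ext x
    have h1 : F x ∈ LinearMap.ker pr := this trivial
    have h2 : pr (F x) = ⟨F x, x, rfl⟩ := Submodule.linearProjOfIsCompl_apply_left hW' ⟨F x, x, rfl⟩
    rw [LinearMap.mem_ker, h2] at h1
    exact congrArg Subtype.val h1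
  obtain ⟨i, hi⟩ := this
  let H : K i →ₗ[R] S := e.symm.toLinearMap ∘ₗ pr ∘ₗ G i
  have hH : H ≠ 0 := by
    intro h0
    apply hi
    ext1 x
    have := LinearMap.congr_fun h0 x
    simpa [H] using this
  have hHb := (LinearMap.bijective_or_eq_zero H).resolve_right hH
  let E := (LinearEquiv.ofBijective H hHb).symm
  refine ⟨i, { Groth.Agent.H28Comod.ofHomR E.toLinearMap with
      invFun := H
      left_inv := fun x => E.symm_apply_apply x
      right_inv := fun x => E.apply_symm_apply x }, ?_⟩
  exact Groth.Agent.H28Comod.ofHomR_hom E.toLinearMap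

end Groth.Agent.S18819
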