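import Groth.Statements.S18928
import Mathlib.Data.Nat.Choose.Sum
import Mathlib.Data.Nat.Factorial.BigOperators
import Mathlib.Tactic.LinearCombination

set_option autoImplicit false
universe u
open DPow

namespace Groth.Agent.S18928

/-- Let B be a commutative ring, I an ideal of B with a divided power structure, p a prime, r a natural
number, b an element of B and δ an element of I. Then (b + δ)^(p^r) − b^(p^r) lies in the ideal p^r
I. (The source states this for a divided power thickening over the Witt vectors of length n and 0 ≤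
r ≤ n; neither restriction is used.) -/
theorem result {B : Type u} [CommRing B] {I : Ideal B}
    (hI : DividedPowers I) (p : ℕ) [Fact p.Prime] (r : ℕ) (b δ : B) (hδ : δ ∈ I) :
    (b + δ) ^ (p ^ r) - b ^ (p ^ r) ∈ Ideal.span {((p : B) ^ r)} * I := by
  rw [add_comm b δ, add_pow, Finset.sum_range_succ', ]
  simp only [pow_zero, one_mul, Nat.sub_zero, Nat.choose_zero_right, Nat.cast_one, mul_one, add_sub_cancel_right]
  refine sum_mem fun j hj => ?_
  rw [← hI.factorial_mul_dpow_eq_pow hδ]
  have hj' : j + 1 ≤ p^r := by simpa using hj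
  have h1 : (p^r).choose (j+1) * (j+1).factorial = p^r * (p^r - 1).descFactorial j := by
    rw [mul_comm, ← Nat.descFactorial_eq_factorial_mul_choose]
    obtain ⟨N, hN⟩ : ∃ N, p^r = N + 1 := ⟨p^r - 1, by omega⟩
    rw [hN, Nat.succ_descFactorial_succ]; simp
  have h2 : ((j + 1).factorial : B) * hI.dpow (j + 1) δ * b ^ (p ^ r - (j + 1)) * ((p ^ r).choose (j + 1) : B) =
      (p:B)^r * (hI.dpow (j+1) δ * (((p^r - 1).descFactorial j : B) * b ^ (p ^ r - (j + 1)))) := by
    have h3 := congrArg (fun x : ℕ => (x : B)) h1
    simp only [Nat.cast_mul, Nat.cast_pow] at h3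
    linear_combination (hI.dpow (j + 1) δ * b ^ (p ^ r - (j + 1))) * h3
  rw [h2]
  exact Ideal.mul_mem_mul (Ideal.mem_span_singleton_self _) (Ideal.mul_mem_right _ _ (hI.dpow_mem (by omega) hδ))

end Groth.Agent.S18928
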