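import Groth.Statements.S18936
import Mathlib.Tactic
import Mathlib.RingTheory.Localization.Away.Basic

set_option autoImplicit false
universe u
open CAlg

namespace Groth.Agent.S18936

/-- Let A be a Noetherian commutative ring, q a prime ideal of A and f an element of A whose image in
the localization A_q is a non-zero-divisor. Then there is an element b of A not in q such that the
image of f in A[1/b] is a non-zero-divisor. -/
theorem result {A : Type u} [CommRing A] [IsNoetherianRing A]
    (q : Ideal A) [q.IsPrime] (f : A)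
    (hf : algebraMap A (Localization.AtPrime q) f ∈ nonZeroDivisors (Localization.AtPrime q)) :
    ∃ b : A, b ∉ q ∧ algebraMap A (Localization.Away b) f ∈ nonZeroDivisors (Localization.Away b) := by
  classical
  -- annihilator of f
  let J : Ideal A := LinearMap.ker (LinearMap.mulRight A f)
  have hJ : ∀ x, x ∈ J ↔ x * f = 0 := by intro x; simp [J]
  obtain ⟨s, hs⟩ : J.FG := IsNoetherian.noetherian J
  have h1 : ∀ x ∈ J, ∃ b : A, b ∉ q ∧ b * x = 0 := by
    intro x hx
    have h2 : algebraMap A (Localization.AtPrime q) x * algebraMap A (Localization.AtPrime q) f = 0 := by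
      rw [← map_mul, (hJ x).1 hx, map_zero]
    have h3 := (mem_nonZeroDivisors_iff_right.1 hf) _ h2
    obtain ⟨b, hb⟩ := (IsLocalization.map_eq_zero_iff q.primeCompl (Localization.AtPrime q) x).1 h3
    exact ⟨b, b.2, hb⟩
  choose! b hb1 hb2 using h1
  have hsJ : ∀ x ∈ s, x ∈ J := fun x hx => hs ▸ Submodule.subset_span hx
  let B := ∏ x ∈ s, b x
  have hBq : B ∉ q := by
    intro hB
    obtain ⟨x, hx, hxq⟩ := (Ideal.IsPrime.prod_mem_iff (hp := inferInstance)).1 hB
    exact hb1 x (hsJ x hx) hxq
  have hBJ : ∀ x ∈ J, B * x = 0 := by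
    intro x hx
    have : J ≤ LinearMap.ker (LinearMap.mulLeft A B) := by
      rw [← hs, Submodule.span_le]
      intro y hy
      have hy' : y ∈ s := hy
      change B * y = 0
      rw [show B = (∏ x ∈ s, b x) from rfl, ← Finset.mul_prod_erase s b hy', mul_assoc, mul_comm, mul_assoc, mul_comm y, hb2 y (hsJ y hy'), mul_zero]
    exact this hx
  refine ⟨B, hBq, ?_⟩
  rw [mem_nonZeroDivisors_iff_right]
  intro z hz
  obtain ⟨⟨a, c⟩, hac⟩ := IsLocalization.surj (Submonoid.powers B) z
  simp only at hac
  have h5 : algebraMap A (Localization.Away B) (a * f) = 0 := by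
    rw [map_mul, ← hac, mul_assoc, mul_comm _ (algebraMap A (Localization.Away B) f), ← mul_assoc, hz, zero_mul]
  obtain ⟨⟨d, n, rfl⟩, hd⟩ := (IsLocalization.map_eq_zero_iff (Submonoid.powers B) (Localization.Away B) _).1 h5
  simp only at hd
  have h6 : B ^ n * a ∈ J := by rw [hJ, mul_assoc]; exact hd
  have h7 := hBJ _ h6
  have h8 : algebraMap A (Localization.Away B) a = 0 := by
    rw [IsLocalization.map_eq_zero_iff (Submonoid.powers B) (Localization.Away B)]
    refine ⟨⟨B ^ (n+1), n+1, rfl⟩, ?_⟩
    change B ^ (n+1) * a = 0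
    rw [pow_succ', mul_assoc]; exact h7
  rw [h8] at hac
  have hu := IsLocalization.map_units (Localization.Away B) c
  exact (hu.mul_left_eq_zero).1 hac

end Groth.Agent.S18936
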