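import Groth.Statements.S18942
import Mathlib.Tactic
import Mathlib.RingTheory.WittVector.TeichmullerSeries
import Mathlib.RingTheory.WittVector.Truncated
import Mathlib.RingTheory.WittVector.Identities
import Mathlib.NumberTheory.Basic

set_option autoImplicit false
set_option linter.style.haveILetI false
universe u
open DPow

namespace Groth.Agent.S18942

theorem kerW' (p : ℕ) [Fact p.Prime] (k : Type u) [Field k] [CharP k p] [PerfectRing k p] (x : WittVector p k)
    (hx : x.coeff 0 = 0) : (p : WittVector p k) ∣ x := by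
  refine ⟨WittVector.mk p (fun i => (frobeniusEquiv k p).symm (x.coeff (i+1))), ?_⟩
  rw [mul_comm]
  ext i
  cases i with
  | zero => rw [WittVector.mul_charP_coeff_zero, hx]
  | succ i =>
    rw [WittVector.mul_charP_coeff_succ, WittVector.coeff_mk]
    exact ((frobeniusEquiv k p).apply_symm_apply (x.coeff (i+1))).symm

theorem symm_pow (p : ℕ) [Fact p.Prime] (k : Type u) [Field k] [CharP k p] [PerfectRing k p] (i : ℕ) (z : k) :
    ((frobeniusEquiv k p).symm ^ i) (z ^ p ^ i) = z := by
  induction i with
  | zero => simp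
  | succ i ih =>
    rw [pow_succ (frobeniusEquiv k p).symm]
    change ((frobeniusEquiv k p).symm ^ i) ((frobeniusEquiv k p).symm (z ^ p ^ (i+1))) = z
    have h1 : z ^ p ^ (i+1) = (z ^ p ^ i) ^ p := by rw [← pow_mul, ← pow_succ]
    have h2 : (frobeniusEquiv k p).symm ((z ^ p ^ i)^p) = z ^ p ^ i := (frobeniusEquiv k p).symm_apply_apply _
    rw [h1, h2, ih]


/-- Let p be a prime, k a perfect field of characteristic p, n a natural number and x an element of
W_n(k), written here as the truncation of a Witt vector x over k. For any Witt vectors y_0, …,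
y_{n−1} over k lifting the components of x under the map y ↦ (y_0)^(p^n) (that is, (y_i)_0^(p^n) =
x_i), one has x = Σ_{i<n} p^i y_i^(p^(n−i)) in W_n(k). -/
theorem result (p : ℕ) [Fact p.Prime]
    (k : Type u) [Field k] [CharP k p] [PerfectRing k p] (n : ℕ) (x : WittVector p k)
    (y : Fin n → WittVector p k) (hy : ∀ i : Fin n, ((y i).coeff 0) ^ (p ^ n) = x.coeff i) :
    WittVector.truncate n x =
      WittVector.truncate n (∑ i : Fin n, (p : WittVector p k) ^ (i : ℕ) * (y i) ^ (p ^ (n - i))) := by
  cases n with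
  | zero => apply TruncatedWittVector.ext; intro i; exact i.elim0
  | succ N =>
    have h1 := WittVector.dvd_sub_sum_teichmuller_iterateFrobeniusEquiv_coeff x N
    have e1 : ∑ i ∈ Finset.Iic N, (WittVector.teichmuller p (((frobeniusEquiv k p).symm ^ i) (x.coeff i)) * (p : WittVector p k) ^ i) = ∑ i : Fin (N+1), WittVector.teichmuller p (((frobeniusEquiv k p).symm ^ (i : ℕ)) (x.coeff i)) * (p : WittVector p k) ^ (i : ℕ) := by
      rw [← Finset.sum_range (fun i => WittVector.teichmuller p (((frobeniusEquiv k p).symm ^ i) (x.coeff i)) * (p : WittVector p k) ^ i)]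
      apply Finset.sum_congr _ (fun _ _ => rfl)
      ext i
      simp [Nat.lt_succ_iff]
    rw [e1] at h1
    have h3 : (p : WittVector p k) ^ (N+1) ∣ ∑ i : Fin (N+1), ((p : WittVector p k) ^ (i : ℕ) * (y i) ^ (p ^ (N + 1 - i)) - WittVector.teichmuller p (((frobeniusEquiv k p).symm ^ (i : ℕ)) (x.coeff i)) * (p : WittVector p k) ^ (i : ℕ)) := by
      apply Finset.dvd_sum
      intro i _
      have h4 : (p : WittVector p k) ∣ y i - WittVector.teichmuller p ((y i).coeff 0) := by
        apply kerW'
        change WittVector.constantCoeff (y i - WittVector.teichmuller p ((y i).coeff 0)) = 0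
        rw [map_sub]
        change (y i).coeff 0 - (WittVector.teichmuller p ((y i).coeff 0)).coeff 0 = 0
        rw [WittVector.teichmuller_coeff_zero, sub_self]
      have h5 := dvd_sub_pow_of_dvd_sub h4 (N + 1 - i)
      rw [← map_pow] at h5
      have h6 : ((frobeniusEquiv k p).symm ^ (i : ℕ)) (x.coeff i) = (y i).coeff 0 ^ p ^ (N + 1 - i) := by
        have h7 : x.coeff i = ((y i).coeff 0 ^ p ^ (N + 1 - i)) ^ p ^ (i : ℕ) := by
          rw [← hy i, ← pow_mul, ← pow_add]
          congr 2
          have := i.2
          omega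
        rw [h7]
        exact symm_pow p k i _
      rw [h6]
      have h8 : (p : WittVector p k) ^ (i : ℕ) * (y i) ^ (p ^ (N + 1 - i)) - WittVector.teichmuller p ((y i).coeff 0 ^ p ^ (N + 1 - i)) * (p : WittVector p k) ^ (i : ℕ) =
          (p : WittVector p k) ^ (i : ℕ) * ((y i) ^ (p ^ (N + 1 - i)) - WittVector.teichmuller p ((y i).coeff 0 ^ p ^ (N + 1 - i))) := by ring
      rw [h8]
      have h9 : (p : WittVector p k) ^ (N + 1) = (p : WittVector p k) ^ (i : ℕ) * (p : WittVector p k) ^ (N + 1 - i) := by
        rw [← pow_add]; congr 1; have := i.2; omega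
      rw [h9]
      exact mul_dvd_mul_left _ ((pow_dvd_pow _ (Nat.le_succ _)).trans h5)
    have h2 := dvd_sub h1 h3
    rw [Finset.sum_sub_distrib, sub_sub_sub_cancel_right] at h2
    obtain ⟨w, hw⟩ := h2
    have h10 : WittVector.truncate (p := p) (R := k) (N + 1) ((p : WittVector p k) ^ (N + 1)) = 0 := by
      apply TruncatedWittVector.ext
      intro i
      rw [WittVector.coeff_truncate, WittVector.coeff_p_pow_eq_zero p k i.2.ne, TruncatedWittVector.coeff_zero]
    rw [← sub_eq_zero, ← map_sub, hw, map_mul, h10, zero_mul]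

end Groth.Agent.S18942
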