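import Groth.Statements.S18946
import Mathlib.Tactic
import Mathlib.Algebra.MvPolynomial.Basic

set_option autoImplicit false
set_option linter.style.haveILetI false
universe u
open scoped BigOperators
open InvQ

namespace Groth.Agent.S18946

theorem aux_mono {k : Type u} [Field k] {n : ℕ} (σ : Fin (n+1) → kˣ) (u : Fin (n+1) →₀ ℕ) (a : k) :
    MvPolynomial.aeval (fun i => MvPolynomial.C (σ i : k) * MvPolynomial.X i) (MvPolynomial.monomial u a) =
      MvPolynomial.monomial u (a * ∏ i, (σ i : k) ^ u i) := by
  rw [MvPolynomial.aeval_monomial, Finsupp.prod_fintype _ _ (by simp), MvPolynomial.monomial_eq, Finsupp.prod_fintype _ _ (by simp)]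
  simp_rw [mul_pow]
  rw [Finset.prod_mul_distrib, map_mul, map_prod]
  simp only [map_pow, MvPolynomial.algebraMap_eq]
  ring

theorem aux_coeff {k : Type u} [Field k] {n : ℕ} (σ : Fin (n+1) → kˣ) (f : MvPolynomial (Fin (n+1)) k) (m : Fin (n+1) →₀ ℕ) :
    MvPolynomial.coeff m (MvPolynomial.aeval (fun i => MvPolynomial.C (σ i : k) * MvPolynomial.X i) f) =
      MvPolynomial.coeff m f * ∏ i, (σ i : k) ^ m i := by
  classical
  induction f using MvPolynomial.induction_on' with
  | monomial u a =>
    rw [aux_mono, MvPolynomial.coeff_monomial, MvPolynomial.coeff_monomial]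
    split_ifs with h
    · rw [h]
    · rw [zero_mul]
  | add p q hp hq => rw [map_add, MvPolynomial.coeff_add, MvPolynomial.coeff_add, hp, hq, add_mul]


/-- Let k be an algebraically closed field of characteristic zero and n a natural number, and let the
torus of (n+1)-tuples of units of k with product 1 act on the polynomial ring k[t_0, ..., t_n] by
rescaling each variable t_i by the i-th unit. A polynomial is fixed by every such rescaling if and
only if it lies in the k-subalgebra generated by the product t_0 t_1 ... t_n. (This is the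
computation of the ring of functions on affine (n+1)-space invariant under the maximal diagonal
torus of the special linear group, identified with the polynomial ring in the single coordinate t =
t_0 ... t_n of the line it maps to by the product map; invariance is tested on k-valued points of
the torus, which over an infinite field is the same as invariance under the group scheme.) -/
theorem result
    (k : Type u) [Field k] [IsAlgClosed k] [CharZero k] (n : ℕ)
    (f : MvPolynomial (Fin (n + 1)) k) :
    (∀ σ : Fin (n + 1) → kˣ, ∏ i, (σ i : k) = 1 →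
        MvPolynomial.aeval (fun i => MvPolynomial.C (σ i : k) * MvPolynomial.X i) f = f) ↔
      f ∈ Algebra.adjoin k ({∏ i : Fin (n + 1), MvPolynomial.X i} : Set (MvPolynomial (Fin (n + 1)) k)) := by
  classical
  constructor
  · intro h
    have hm : ∀ m ∈ f.support, ∀ i j, m i = m j := by
      intro m hm i j
      by_cases hij : i = j
      · rw [hij]
      let two : kˣ := Units.mk0 2 two_ne_zero
      let σ : Fin (n+1) → kˣ := fun l => if l = i then two else if l = j then two⁻¹ else 1
      have hσi : σ i = two := if_pos rfl
      have hσj : σ j = two⁻¹ := (if_neg (Ne.symm hij)).trans (if_pos rfl)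
      have hσl : ∀ l, l ≠ i ∧ l ≠ j → σ l = 1 := by
        intro l hl; exact (if_neg hl.1).trans (if_neg hl.2)
      have h1 : ∏ l, (σ l : k) = 1 := by
        rw [Finset.prod_eq_mul i j hij (fun l _ hl => by rw [hσl l hl]; simp) (by simp) (by simp), hσi, hσj]
        simp
      have h2 := congrArg (MvPolynomial.coeff m) (h σ h1)
      rw [aux_coeff] at h2
      have h3 : ∏ l, (σ l : k) ^ m l = 1 := by
        have h0 : MvPolynomial.coeff m f ≠ 0 := MvPolynomial.mem_support_iff.1 hm
        exact mul_left_cancel₀ h0 (by rw [h2, mul_one])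
      rw [Finset.prod_eq_mul i j hij (fun l _ hl => by rw [hσl l hl]; simp) (by simp) (by simp), hσi, hσj] at h3
      have h4 : (2 : k) ^ m i = 2 ^ m j := by
        have h5 : (2 : k) ^ m i * ((2 : k)⁻¹) ^ m j = 1 := by simpa [two] using h3
        rw [inv_pow] at h5
        exact eq_of_mul_inv_eq_one h5 |> fun h => h
      have h6 : (2 : ℕ) ^ m i = 2 ^ m j := by exact_mod_cast h4
      exact Nat.pow_right_injective le_rfl h6
    rw [← MvPolynomial.support_sum_monomial_coeff f]
    apply Subalgebra.sum_mem
    intro m hms
    have h5 := hm m hms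
    have h6 : MvPolynomial.monomial m (MvPolynomial.coeff m f) = (MvPolynomial.coeff m f) • (∏ i : Fin (n + 1), MvPolynomial.X i) ^ (m 0) := by
      rw [MvPolynomial.monomial_eq, Finsupp.prod_fintype _ _ (by simp), MvPolynomial.smul_eq_C_mul, ← Finset.prod_pow]
      congr 1
      apply Finset.prod_congr rfl
      intro i _
      rw [h5 i 0]
    rw [h6]
    have hP : (∏ i : Fin (n + 1), MvPolynomial.X i : MvPolynomial (Fin (n+1)) k) ∈ Algebra.adjoin k ({∏ i : Fin (n + 1), MvPolynomial.X i} : Set (MvPolynomial (Fin (n + 1)) k)) :=
      Algebra.subset_adjoin (Set.mem_singleton _)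
    exact Subalgebra.smul_mem _ (Subalgebra.pow_mem _ hP _) _
  · intro hf σ hσ
    have hC : ∏ i, (MvPolynomial.C (σ i : k) : MvPolynomial (Fin (n+1)) k) = 1 := by
      rw [← map_prod (MvPolynomial.C : k →+* MvPolynomial (Fin (n+1)) k) (fun i => (σ i : k)), hσ, map_one]
    have hgen : MvPolynomial.aeval (fun i => (MvPolynomial.C (σ i : k) * MvPolynomial.X i : MvPolynomial (Fin (n+1)) k)) (∏ i : Fin (n + 1), (MvPolynomial.X i : MvPolynomial (Fin (n+1)) k)) = (∏ i : Fin (n + 1), MvPolynomial.X i) := by
      rw [map_prod]
      simp only [MvPolynomial.aeval_X]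
      rw [Finset.prod_mul_distrib, hC, one_mul]
    refine Algebra.adjoin_induction (p := fun x _ => MvPolynomial.aeval (fun i => (MvPolynomial.C (σ i : k) * MvPolynomial.X i : MvPolynomial (Fin (n+1)) k)) x = x) ?_ ?_ ?_ ?_ hf
    · intro x hx
      rw [Set.mem_singleton_iff.1 hx]
      exact hgen
    · intro r; exact AlgHom.commutes _ r
    · intro x y _ _ hx hy; rw [map_add, hx, hy]
    · intro x y _ _ hx hy; rw [map_mul, hx, hy]

end Groth.Agent.S18946
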