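import Groth.Statements.S19106
import Mathlib.Tactic

set_option autoImplicit false
set_option linter.style.haveILetI false
open HilbD

namespace Groth.Agent.S19106

/-- Let μ be a non-empty Young diagram, V the number of its cells, E the number of unordered pairs of
cells sharing a side (a cell together with the cell immediately below it, or immediately to its
right, both in μ) and Q the number of 2 × 2 blocks of cells of μ (cells c such that the cell
diagonally below-right of c is in μ, the other two corners being in μ automatically). Then V − E + Q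
− 1 = 0, stated as V + Q = E + 1 in the naturals. (The empty diagram, for which the count reads 0 −
0 + 0 − 1, is excluded.) -/
theorem result (μ : YoungDiagram) (hμ : μ ≠ ⊥) :
    μ.cells.card + (μ.cells.filter (fun c => (c.1 + 1, c.2 + 1) ∈ μ)).card =
      (μ.cells.filter (fun c => (c.1 + 1, c.2) ∈ μ)).card + (μ.cells.filter (fun c => (c.1, c.2 + 1) ∈ μ)).card + 1 := by
  classical
  have h00 : ((0, 0) : ℕ × ℕ) ∈ μ.cells := by
    obtain ⟨c, hc⟩ : ∃ c, c ∈ μ.cells := by
      by_contra hcon
      push_neg at hcon
      apply hμ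
      ext c
      simp only [YoungDiagram.mem_cells] at hcon
      constructor
      · intro h; exact absurd h (hcon c)
      · intro h; exact absurd h (YoungDiagram.notMem_bot c)
    exact μ.isLowerSet (show ((0,0) : ℕ × ℕ) ≤ c from ⟨Nat.zero_le _, Nat.zero_le _⟩) hc
  have e1 : (μ.cells.filter (fun c => (c.1 + 1, c.2) ∈ μ)).card = (μ.cells.filter (fun c => 1 ≤ c.1)).card := by
    apply Finset.card_bij (fun c _ => (c.1 + 1, c.2))
    · intro c hc
      simp only [Finset.mem_filter] at hc ⊢
      exact ⟨hc.2, by simp⟩
    · intro a _ b _ h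
      simp only [Prod.mk.injEq, add_left_inj] at h
      exact Prod.ext h.1 h.2
    · intro c hc
      simp only [Finset.mem_filter] at hc
      refine ⟨(c.1 - 1, c.2), ?_, ?_⟩
      · simp only [Finset.mem_filter]
        have : c.1 - 1 + 1 = c.1 := by omega
        rw [this]
        exact ⟨μ.isLowerSet (show ((c.1 - 1, c.2) : ℕ × ℕ) ≤ c from ⟨Nat.sub_le _ _, le_rfl⟩) hc.1, hc.1⟩
      · apply Prod.ext
        · simp only; omega
        · rfl
  have e2 : (μ.cells.filter (fun c => (c.1, c.2 + 1) ∈ μ)).card = (μ.cells.filter (fun c => 1 ≤ c.2)).card := by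
    apply Finset.card_bij (fun c _ => (c.1, c.2 + 1))
    · intro c hc
      simp only [Finset.mem_filter] at hc ⊢
      exact ⟨hc.2, by simp⟩
    · intro a _ b _ h
      simp only [Prod.mk.injEq, add_left_inj] at h
      exact Prod.ext h.1 h.2
    · intro c hc
      simp only [Finset.mem_filter] at hc
      refine ⟨(c.1, c.2 - 1), ?_, ?_⟩
      · simp only [Finset.mem_filter]
        have : c.2 - 1 + 1 = c.2 := by omega
        rw [this]
        exact ⟨μ.isLowerSet (show ((c.1, c.2 - 1) : ℕ × ℕ) ≤ c from ⟨le_rfl, Nat.sub_le _ _⟩) hc.1, hc.1⟩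
      · apply Prod.ext
        · rfl
        · simp only; omega
  have e3 : (μ.cells.filter (fun c => (c.1 + 1, c.2 + 1) ∈ μ)).card = (μ.cells.filter (fun c => 1 ≤ c.1 ∧ 1 ≤ c.2)).card := by
    apply Finset.card_bij (fun c _ => (c.1 + 1, c.2 + 1))
    · intro c hc
      simp only [Finset.mem_filter] at hc ⊢
      exact ⟨hc.2, by simp⟩
    · intro a _ b _ h
      simp only [Prod.mk.injEq, add_left_inj] at h
      exact Prod.ext h.1 h.2
    · intro c hc
      simp only [Finset.mem_filter] at hc
      refine ⟨(c.1 - 1, c.2 - 1), ?_, ?_⟩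
      · simp only [Finset.mem_filter]
        have h1 : c.1 - 1 + 1 = c.1 := by omega
        have h2 : c.2 - 1 + 1 = c.2 := by omega
        rw [h1, h2]
        exact ⟨μ.isLowerSet (show ((c.1 - 1, c.2 - 1) : ℕ × ℕ) ≤ c from ⟨Nat.sub_le _ _, Nat.sub_le _ _⟩) hc.1, hc.1⟩
      · apply Prod.ext
        · simp only; omega
        · simp only; omega
  rw [e1, e2, e3]
  have e4 : μ.cells.card = (μ.cells.filter (fun c => 1 ≤ c.1 ∨ 1 ≤ c.2)).card + 1 := by
    rw [← Finset.card_filter_add_card_filter_not (s := μ.cells) (fun c => 1 ≤ c.1 ∨ 1 ≤ c.2)]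
    congr 1
    rw [Finset.card_eq_one]
    refine ⟨(0, 0), ?_⟩
    ext c
    simp only [Finset.mem_filter, Finset.mem_singleton]
    constructor
    · rintro ⟨_, h⟩
      apply Prod.ext
      · simp only; omega
      · simp only; omega
    · rintro rfl
      exact ⟨h00, by simp⟩
  have e5 := Finset.card_union_add_card_inter (μ.cells.filter (fun c => 1 ≤ c.1)) (μ.cells.filter (fun c => 1 ≤ c.2))
  rw [← Finset.filter_or, ← Finset.filter_and] at e5
  omega

end Groth.Agent.S19106
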