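import Groth.Statements.S19160
import Mathlib.Algebra.TrivSqZeroExt.Basic

set_option autoImplicit false
open scoped TensorProduct
universe u
open PureMod

namespace Groth.Agent.S19160

/-- (2) ⇒ (3): in affine form, let R be a commutative ring and i : A → B an R-linear map such that for
every commutative R-algebra R' the base change R' ⊗ A → R' ⊗ B is injective (the pull-back of i to
every affine scheme over Spec R is a monomorphism). Then F ⊗ A → F ⊗ B is injective for every
R-module F, i.e. i is universally injective (pure). (Modules and algebras are taken in the universe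
of R.) -/
theorem result (R : Type u) [CommRing R]
    (A B : Type u) [AddCommGroup A] [Module R A] [AddCommGroup B] [Module R B] (i : A →ₗ[R] B)
    (h : ∀ (R' : Type u) [CommRing R'] [Algebra R R'], Function.Injective (i.baseChange R'))
    (F : Type u) [AddCommGroup F] [Module R F] :
    Function.Injective (i.lTensor F) := by
  letI : Module Rᵐᵒᵖ F := Module.compHom F ((RingHom.id R).fromOpposite mul_comm)
  haveI : IsCentralScalar R F := ⟨fun r m => rfl⟩
  have hh := h (TrivSqZeroExt R F)
  rw [← LinearMap.ker_eq_bot, Submodule.eq_bot_iff]
  intro x hx
  rw [LinearMap.mem_ker] at hx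
  have h1 : (TrivSqZeroExt.inrHom R F).rTensor A x = 0 := by
    apply hh
    rw [map_zero]
    have : ∀ x, i.baseChange (TrivSqZeroExt R F) ((TrivSqZeroExt.inrHom R F).rTensor A x) =
      (TrivSqZeroExt.inrHom R F).rTensor B (i.lTensor F x) := by
      intro x
      induction x with
      | zero => simp
      | add x y hx hy => simp only [map_add, hx, hy]
      | tmul x y => simp
    rw [this, hx, map_zero]
  have h2 : (TrivSqZeroExt.sndHom R F).rTensor A ((TrivSqZeroExt.inrHom R F).rTensor A x) = x := by
    rw [← LinearMap.comp_apply, ← LinearMap.rTensor_comp]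
    have : (TrivSqZeroExt.sndHom R F) ∘ₗ (TrivSqZeroExt.inrHom R F) = LinearMap.id := by ext; simp
    rw [this]; simp
  rw [← h2, h1, map_zero]

end Groth.Agent.S19160
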