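import Groth.Statements.S19212
import Mathlib
import Groth.Agent.Lib.Lead_Kae
-- import your own Groth.Agent.* helpers here

set_option autoImplicit false
universe u v
open TensorProduct
open DiagIdeal

namespace Groth.Agent.S19212

open Groth.Agent.LeadKae in

/-- Let k be an algebraically closed field of characteristic zero and A a smooth k-algebra which is a
domain. Let the symmetric group on three letters permute the factors of A ⊗ A ⊗ A (it is generated
by the swap of the first two factors and the swap of the last two), let r : A ⊗ (A ⊗ A) → A ⊗ A be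
the k-linear map a ⊗ b ⊗ c ↦ ab ⊗ c, and let D : A ⊗ A → Ω_{A/k} be the k-linear map a ⊗ b ↦ 2a·db −
b·da. Then an element y of A ⊗ A satisfies D y = 0 if and only if y = r x for some x fixed by both
swaps, and D is surjective. (This is exactness at the last two places of the four-term right
resolution of the invariants of the ideal of the big diagonal on the symmetric cube of X = Spec A,
namely invariant functions on X³, then functions on X × X through restriction to a diagonal, then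
one-forms on X; exactness at the first two places is immediate. The published statement is the sheaf
version on the symmetric cube of a smooth complex variety of any dimension; an algebraically closed
field of characteristic zero is used here.) -/
theorem result (k : Type u) [Field k] [IsAlgClosed k] [CharZero k]
    (A : Type v) [CommRing A] [Algebra k A] [Algebra.Smooth k A] [IsDomain A]
    (r : A ⊗[k] (A ⊗[k] A) →ₗ[k] A ⊗[k] A)
    (hr : ∀ a b c : A, r (a ⊗ₜ[k] (b ⊗ₜ[k] c)) = (a * b) ⊗ₜ[k] c)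
    (D : A ⊗[k] A →ₗ[k] Ω[A⁄k])
    (hD : ∀ a b : A, D (a ⊗ₜ[k] b) = (2 : A) • (a • KaehlerDifferential.D k A b) - b • KaehlerDifferential.D k A a) :
    (∀ y : A ⊗[k] A, D y = 0 ↔ ∃ x : A ⊗[k] (A ⊗[k] A),
        TensorProduct.leftComm k A A A x = x ∧
        LinearMap.lTensor A (TensorProduct.comm k A A).toLinearMap x = x ∧ r x = y) ∧
    Function.Surjective D := by
  classical
  have h2 : (2 : k) ≠ 0 := two_ne_zero
  have h3 : (3 : k) ≠ 0 := three_ne_zero
  -- the set of good elements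
  let E : Submodule k (A ⊗[k] A) := Submodule.span k
    {t | ∃ a b c : A, t = (a * b) ⊗ₜ[k] c + (b * c) ⊗ₜ[k] a + (c * a) ⊗ₜ[k] b}
  have hE : ∀ a b c : A, (a * b) ⊗ₜ[k] c + (b * c) ⊗ₜ[k] a + (c * a) ⊗ₜ[k] b ∈ E := fun a b c =>
    Submodule.subset_span ⟨a, b, c, rfl⟩
  let m1 : A ⊗[k] A →ₗ[k] A ⊗[k] A := (TensorProduct.mk k A A).flip 1 ∘ₗ LinearMap.mul' k A
  have hm1 : ∀ a b : A, m1 (a ⊗ₜ[k] b) = (a * b) ⊗ₜ[k] 1 := fun a b => by simp [m1]
  let sw : A ⊗[k] A →ₗ[k] A ⊗[k] A := (TensorProduct.comm k A A).toLinearMap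
  have hsw : ∀ a b : A, sw (a ⊗ₜ[k] b) = b ⊗ₜ[k] a := fun a b => rfl
  have hc1 : ∀ y, y + sw y + m1 y ∈ E := by
    intro y
    induction y with
    | zero => simp
    | tmul a b =>
      rw [hsw, hm1]
      have h := hE a b 1
      rw [mul_one, one_mul] at h
      have h' : a ⊗ₜ[k] b + b ⊗ₜ[k] a + (a * b) ⊗ₜ[k] (1 : A) =
        (a * b) ⊗ₜ[k] 1 + b ⊗ₜ[k] a + a ⊗ₜ[k] b := by abel
      rw [h']; exact h
    | add x y hx hy =>
      have h' : x + y + sw (x + y) + m1 (x + y) = (x + sw x + m1 x) + (y + sw y + m1 y) := by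
        rw [map_add, map_add]; abel
      rw [h']; exact E.add_mem hx hy
  have hDL : ∀ y, D y = Lmap k A ((2 : k) • y - sw y) := by
    intro y
    induction y with
    | zero => simp
    | tmul a b =>
      rw [hsw, map_sub, map_smul, Lmap_tmul, Lmap_tmul, hD]
      congr 1
      rw [two_smul, two_smul]
    | add x y hx hy =>
      rw [map_add, hx, hy, ← map_add]
      congr 1
      rw [map_add, smul_add]; abel
  have claim1 : ∀ y, D y = 0 → y ∈ E := by
    intro y hy
    rw [hDL] at hy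
    have hR := mem_span_of_L k A (Lmap k A) (Lmap_tmul k A) _ hy
    have hRE : ∀ z ∈ Submodule.span A (rel k A), z - m1 z ∈ E := by
      apply rel_induction
      · simp
      · intro x y hx hy
        have h' : x + y - m1 (x + y) = (x - m1 x) + (y - m1 y) := by rw [map_add]; abel
        rw [h']; exact E.add_mem hx hy
      · intro a b c
        rw [map_sub, map_sub, hm1, hm1, hm1]
        have e1 := hE a b c
        have e2 := hc1 (a ⊗ₜ[k] (b * c))
        rw [hsw, hm1] at e2
        have h' : a ⊗ₜ[k] (b * c) - (a * b) ⊗ₜ[k] c - (a * c) ⊗ₜ[k] b -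
            ((a * (b * c)) ⊗ₜ[k] (1 : A) - (a * b * c) ⊗ₜ[k] (1 : A) - (a * c * b) ⊗ₜ[k] (1 : A)) =
            (a ⊗ₜ[k] (b * c) + (b * c) ⊗ₜ[k] a + (a * (b * c)) ⊗ₜ[k] (1 : A)) -
            ((a * b) ⊗ₜ[k] c + (b * c) ⊗ₜ[k] a + (c * a) ⊗ₜ[k] b) := by
          rw [mul_assoc a b c, mul_assoc a c b, mul_comm c b, mul_comm c a]; abel
        rw [h']; exact E.sub_mem e2 e1
    have h4 := hRE _ hR
    have h5 := hc1 y
    have hmsw : ∀ y, m1 (sw y) = m1 y := by
      intro y
      induction y with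
      | zero => simp
      | tmul a b => rw [hsw, hm1, hm1, mul_comm]
      | add x y hx hy => rw [map_add, map_add, map_add, hx, hy]
    have h6 : (3 : k) • y ∈ E := by
      have h' : (3 : k) • y = ((2 : k) • y - sw y - m1 ((2 : k) • y - sw y)) + (y + sw y + m1 y) := by
        rw [map_sub, map_smul, hmsw]; module
      rw [h']; exact E.add_mem h4 h5
    have h7 := E.smul_mem (3 : k)⁻¹ h6
    rwa [smul_smul, inv_mul_cancel₀ h3, one_smul] at h7
  let s1 : A ⊗[k] (A ⊗[k] A) →ₗ[k] A ⊗[k] (A ⊗[k] A) := (TensorProduct.leftComm k A A A).toLinearMap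
  let s2 : A ⊗[k] (A ⊗[k] A) →ₗ[k] A ⊗[k] (A ⊗[k] A) := LinearMap.lTensor A (TensorProduct.comm k A A).toLinearMap
  have hs1 : ∀ a b c : A, s1 (a ⊗ₜ[k] (b ⊗ₜ[k] c)) = b ⊗ₜ[k] (a ⊗ₜ[k] c) := fun a b c => rfl
  have hs2 : ∀ a b c : A, s2 (a ⊗ₜ[k] (b ⊗ₜ[k] c)) = a ⊗ₜ[k] (c ⊗ₜ[k] b) := fun a b c => rfl
  have claim2 : ∀ y ∈ E, ∃ x, s1 x = x ∧ s2 x = x ∧ r x = y := by
    intro y hy
    induction hy using Submodule.span_induction with
    | mem x hx =>
      obtain ⟨a, b, c, rfl⟩ := hx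
      refine ⟨(2 : k)⁻¹ • (a ⊗ₜ[k] (b ⊗ₜ[k] c) + a ⊗ₜ[k] (c ⊗ₜ[k] b) + b ⊗ₜ[k] (a ⊗ₜ[k] c) +
        b ⊗ₜ[k] (c ⊗ₜ[k] a) + c ⊗ₜ[k] (a ⊗ₜ[k] b) + c ⊗ₜ[k] (b ⊗ₜ[k] a)), ?_, ?_, ?_⟩
      · rw [map_smul]; congr 1
        simp only [map_add, hs1]; abel
      · rw [map_smul]; congr 1
        simp only [map_add, hs2]; abel
      · rw [map_smul]
        simp only [map_add, hr]
        have h' : (a * b) ⊗ₜ[k] c + (a * c) ⊗ₜ[k] b + (b * a) ⊗ₜ[k] c + (b * c) ⊗ₜ[k] a +
            (c * a) ⊗ₜ[k] b + (c * b) ⊗ₜ[k] a = (2 : k) • ((a * b) ⊗ₜ[k] c + (b * c) ⊗ₜ[k] a + (c * a) ⊗ₜ[k] b) := by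
          rw [mul_comm b a, mul_comm c b, mul_comm a c]; module
        rw [h', smul_smul, inv_mul_cancel₀ h2, one_smul]
    | zero => exact ⟨0, by simp, by simp, by simp⟩
    | add x y hx hy h1 h2 =>
      obtain ⟨x1, a1, b1, c1⟩ := h1
      obtain ⟨x2, a2, b2, c2⟩ := h2
      exact ⟨x1 + x2, by rw [map_add, a1, a2], by rw [map_add, b1, b2], by rw [map_add, c1, c2]⟩
    | smul c x hx h1 =>
      obtain ⟨x1, a1, b1, c1⟩ := h1
      exact ⟨c • x1, by rw [map_smul, a1], by rw [map_smul, b1], by rw [map_smul, c1]⟩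
  have hsym : ∀ x, D (r (x + s1 x + s2 x + s1 (s2 x) + s2 (s1 x) + s1 (s2 (s1 x)))) = 0 := by
    intro x
    induction x with
    | zero => simp
    | tmul a t =>
      induction t with
      | zero => simp
      | tmul b c =>
        simp only [hs1, hs2, map_add, hr, hD, Derivation.leibniz, smul_add, smul_smul]
        rw [mul_comm b a, mul_comm c a, mul_comm c b]
        module
      | add x y hx hy =>
        rw [TensorProduct.tmul_add]
        have h' : ∀ X Y : A ⊗[k] (A ⊗[k] A), (X + Y) + s1 (X + Y) + s2 (X + Y) + s1 (s2 (X + Y)) + s2 (s1 (X + Y)) + s1 (s2 (s1 (X + Y))) =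
          (X + s1 X + s2 X + s1 (s2 X) + s2 (s1 X) + s1 (s2 (s1 X))) + (Y + s1 Y + s2 Y + s1 (s2 Y) + s2 (s1 Y) + s1 (s2 (s1 Y))) := by
          intro X Y; simp only [map_add]; abel
        rw [h', map_add, map_add, hx, hy, add_zero]
    | add x y hx hy =>
      have h' : ∀ X Y : A ⊗[k] (A ⊗[k] A), (X + Y) + s1 (X + Y) + s2 (X + Y) + s1 (s2 (X + Y)) + s2 (s1 (X + Y)) + s1 (s2 (s1 (X + Y))) =
        (X + s1 X + s2 X + s1 (s2 X) + s2 (s1 X) + s1 (s2 (s1 X))) + (Y + s1 Y + s2 Y + s1 (s2 Y) + s2 (s1 Y) + s1 (s2 (s1 Y))) := by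
        intro X Y; simp only [map_add]; abel
      rw [h', map_add, map_add, hx, hy, add_zero]
  refine ⟨fun y => ⟨fun hy => ?_, ?_⟩, ?_⟩
  · exact claim2 y (claim1 y hy)
  · rintro ⟨x, hx1, hx2, rfl⟩
    have e1 : s1 x = x := hx1
    have e2 : s2 x = x := hx2
    have h := hsym x
    simp only [e1, e2] at h
    have h' : x + x + x + x + x + x = (6 : k) • x := by module
    rw [h', map_smul, map_smul] at h
    have h6 : (6 : k) ≠ 0 := by
      have : (6 : k) = 2 * 3 := by norm_num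
      rw [this]; exact mul_ne_zero h2 h3
    exact (smul_eq_zero.1 h).resolve_left h6
  · apply omega_induction
    · exact ⟨0, map_zero _⟩
    · rintro x y ⟨x', rfl⟩ ⟨y', rfl⟩
      exact ⟨x' + y', map_add _ _ _⟩
    · intro a b
      refine ⟨(3 : k)⁻¹ • (a ⊗ₜ[k] b - (a * b) ⊗ₜ[k] 1), ?_⟩
      rw [map_smul, map_sub, hD, hD]
      have h' : (2 : A) • a • KaehlerDifferential.D k A b - b • KaehlerDifferential.D k A a -
          ((2 : A) • (a * b) • KaehlerDifferential.D k A 1 - (1 : A) • KaehlerDifferential.D k A (a * b)) =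
          (3 : k) • (a • KaehlerDifferential.D k A b) := by
        rw [Derivation.map_one_eq_zero, smul_zero, smul_zero, zero_sub, one_smul, Derivation.leibniz]
        have : (3 : k) • (a • KaehlerDifferential.D k A b) = (3 : A) • (a • KaehlerDifferential.D k A b) := by
          rw [show (3 : k) = 1 + 1 + 1 by norm_num, show (3 : A) = 1 + 1 + 1 by norm_num]
          simp only [add_smul, one_smul]
        rw [this]; module
      rw [h', smul_smul, inv_mul_cancel₀ h3, one_smul]

end Groth.Agent.S19212
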