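import Groth.Statements.S19213
import Mathlib
import Groth.Agent.Lib.Lead_Kae
-- import your own Groth.Agent.* helpers here

set_option autoImplicit false
universe u v
open TensorProduct
open DiagIdeal

namespace Groth.Agent.S19213

open Groth.Agent.LeadKae in

/-- Let k be an algebraically closed field of characteristic zero and A a smooth k-algebra which is a
domain. Let r₁₂, r₂₃ : A ⊗ (A ⊗ A) → A ⊗ A be the k-linear maps a ⊗ u ⊗ v ↦ au ⊗ v and a ⊗ u ⊗ v ↦
uv ⊗ a (restriction to the diagonal of factors 1, 2, resp. 2, 3, the repeated coordinate written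
first), let m : A ⊗ A → A be multiplication, and let ψ : (A ⊗ A) × (A ⊗ A) → Ω_{A/k} be the k-linear
map with ψ(a ⊗ u, b ⊗ v) = 2a·du − v·db. Then for p, q in A ⊗ A with m p = m q one has ψ(p, q) = 0
if and only if (p, q) = (r₁₂ x, r₂₃ x) for some x fixed by the swap of the last two tensor factors;
and every element of Ω_{A/k} is ψ(p, q) for some pair with m p = m q. (This is exactness at the last
two places of the right resolution, on the symmetric cube of X = Spec A, of the invariants of the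
ideal of the big diagonal under the transposition of the last two factors; exactness at the first
two places is immediate. The published statement is the sheaf version for a smooth complex variety
of any dimension; an algebraically closed field of characteristic zero is used here.) -/
theorem result (k : Type u) [Field k] [IsAlgClosed k] [CharZero k]
    (A : Type v) [CommRing A] [Algebra k A] [Algebra.Smooth k A] [IsDomain A]
    (r₁₂ r₂₃ : A ⊗[k] (A ⊗[k] A) →ₗ[k] A ⊗[k] A)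
    (h₁₂ : ∀ a u v : A, r₁₂ (a ⊗ₜ[k] (u ⊗ₜ[k] v)) = (a * u) ⊗ₜ[k] v)
    (h₂₃ : ∀ a u v : A, r₂₃ (a ⊗ₜ[k] (u ⊗ₜ[k] v)) = (u * v) ⊗ₜ[k] a)
    (ψ : (A ⊗[k] A) × (A ⊗[k] A) →ₗ[k] Ω[A⁄k])
    (hψ : ∀ a u b v : A, ψ (a ⊗ₜ[k] u, b ⊗ₜ[k] v) =
      (2 : A) • (a • KaehlerDifferential.D k A u) - v • KaehlerDifferential.D k A b) :
    (∀ p q : A ⊗[k] A, LinearMap.mul' k A p = LinearMap.mul' k A q →
      (ψ (p, q) = 0 ↔ ∃ x : A ⊗[k] (A ⊗[k] A),
        LinearMap.lTensor A (TensorProduct.comm k A A).toLinearMap x = x ∧ r₁₂ x = p ∧ r₂₃ x = q)) ∧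
    (∀ ω : Ω[A⁄k], ∃ p q : A ⊗[k] A, LinearMap.mul' k A p = LinearMap.mul' k A q ∧ ψ (p, q) = ω) := by
  classical
  have h2 : (2 : k) ≠ 0 := two_ne_zero
  let s2 : A ⊗[k] (A ⊗[k] A) →ₗ[k] A ⊗[k] (A ⊗[k] A) := LinearMap.lTensor A (TensorProduct.comm k A A).toLinearMap
  have hs2 : ∀ a b c : A, s2 (a ⊗ₜ[k] (b ⊗ₜ[k] c)) = a ⊗ₜ[k] (c ⊗ₜ[k] b) := fun a b c => rfl
  let E : Submodule k ((A ⊗[k] A) × (A ⊗[k] A)) := Submodule.span k
    {t | ∃ a u v : A, t = ((a * u) ⊗ₜ[k] v + (a * v) ⊗ₜ[k] u, (u * v) ⊗ₜ[k] a + (u * v) ⊗ₜ[k] a)}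
  have hE : ∀ a u v : A, ((a * u) ⊗ₜ[k] v + (a * v) ⊗ₜ[k] u, (u * v) ⊗ₜ[k] a + (u * v) ⊗ₜ[k] a) ∈ E :=
    fun a u v => Submodule.subset_span ⟨a, u, v, rfl⟩
  let m1 : A ⊗[k] A →ₗ[k] A ⊗[k] A := (TensorProduct.mk k A A).flip 1 ∘ₗ LinearMap.mul' k A
  have hm1 : ∀ a b : A, m1 (a ⊗ₜ[k] b) = (a * b) ⊗ₜ[k] 1 := fun a b => by simp [m1]
  have hm1' : ∀ z, m1 z = (LinearMap.mul' k A z) ⊗ₜ[k] 1 := fun z => rfl
  let sw : A ⊗[k] A →ₗ[k] A ⊗[k] A := (TensorProduct.comm k A A).toLinearMap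
  have hsw : ∀ a b : A, sw (a ⊗ₜ[k] b) = b ⊗ₜ[k] a := fun a b => rfl
  -- (sw q + m1 q, 2 q) ∈ E
  have hq : ∀ q, (sw q + m1 q, q + q) ∈ E := by
    intro q
    induction q with
    | zero =>
      have h' : ((sw 0 + m1 0, 0 + 0) : (A ⊗[k] A) × (A ⊗[k] A)) = 0 := by
        rw [map_zero, map_zero, add_zero]; rfl
      rw [h']; exact E.zero_mem
    | tmul v a =>
      rw [hsw, hm1]
      have h := hE a 1 v
      rw [mul_one, one_mul, mul_comm a v] at h
      exact h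
    | add x y hx hy =>
      have h' : ((sw (x + y) + m1 (x + y), (x + y) + (x + y)) : (A ⊗[k] A) × (A ⊗[k] A)) = (sw x + m1 x, x + x) + (sw y + m1 y, y + y) := by
        rw [Prod.mk_add_mk, map_add, map_add]
        congr 1 <;> abel
      rw [h']; exact E.add_mem hx hy
  have hψ1 : ∀ p, ψ (p, 0) = (2 : k) • Lmap k A p := by
    intro p
    have h0 : ∀ p, ψ (p, 0) = (ψ ∘ₗ LinearMap.inl k _ _) p := fun p => rfl
    rw [h0]
    induction p with
    | zero => rw [map_zero, map_zero, smul_zero]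
    | tmul a u =>
      rw [← h0]
      have h := hψ a u 0 0
      rw [TensorProduct.zero_tmul, zero_smul, sub_zero] at h
      rw [h, Lmap_tmul, two_smul, two_smul]
    | add x y hx hy => rw [map_add, hx, hy, map_add, smul_add]
  have hψE : ∀ t ∈ E, ψ t = 0 := by
    intro t ht
    induction ht using Submodule.span_induction with
    | mem x hx =>
      obtain ⟨a, u, v, rfl⟩ := hx
      have h' : (((a * u) ⊗ₜ[k] v + (a * v) ⊗ₜ[k] u, (u * v) ⊗ₜ[k] a + (u * v) ⊗ₜ[k] a) : (A ⊗[k] A) × (A ⊗[k] A)) =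
        ((a * u) ⊗ₜ[k] v, (u * v) ⊗ₜ[k] a) + ((a * v) ⊗ₜ[k] u, (u * v) ⊗ₜ[k] a) := rfl
      rw [h', map_add, hψ, hψ]
      simp only [Derivation.leibniz, smul_add, smul_smul]
      module
    | zero => simp
    | add x y hx hy h1 h2 => rw [map_add, h1, h2, add_zero]
    | smul c x hx h1 => rw [map_smul, h1, smul_zero]
  have hEx : ∀ t ∈ E, ∃ x, s2 x = x ∧ r₁₂ x = t.1 ∧ r₂₃ x = t.2 := by
    intro t ht
    induction ht using Submodule.span_induction with
    | mem x hx =>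
      obtain ⟨a, u, v, rfl⟩ := hx
      refine ⟨a ⊗ₜ[k] (u ⊗ₜ[k] v) + a ⊗ₜ[k] (v ⊗ₜ[k] u), ?_, ?_, ?_⟩
      · rw [map_add, hs2, hs2]; abel
      · rw [map_add, h₁₂, h₁₂]
      · rw [map_add, h₂₃, h₂₃, mul_comm v u]
    | zero => exact ⟨0, by simp, by simp, by simp⟩
    | add x y hx hy h1 h2 =>
      obtain ⟨x1, a1, b1, c1⟩ := h1
      obtain ⟨x2, a2, b2, c2⟩ := h2
      exact ⟨x1 + x2, by rw [map_add, a1, a2], by rw [map_add, b1, b2]; rfl, by rw [map_add, c1, c2]; rfl⟩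
    | smul c x hx h1 =>
      obtain ⟨x1, a1, b1, c1⟩ := h1
      exact ⟨c • x1, by rw [map_smul, a1], by rw [map_smul, b1]; rfl, by rw [map_smul, c1]; rfl⟩
  have hxE : ∀ x, (r₁₂ (x + s2 x), r₂₃ (x + s2 x)) ∈ E := by
    intro x
    have hadd : ∀ X Y : A ⊗[k] (A ⊗[k] A), (r₁₂ (X + s2 X), r₂₃ (X + s2 X)) ∈ E → (r₁₂ (Y + s2 Y), r₂₃ (Y + s2 Y)) ∈ E →
        (r₁₂ ((X + Y) + s2 (X + Y)), r₂₃ ((X + Y) + s2 (X + Y))) ∈ E := by
      intro X Y hX hY
      have h' : ((r₁₂ ((X + Y) + s2 (X + Y)), r₂₃ ((X + Y) + s2 (X + Y))) : (A ⊗[k] A) × (A ⊗[k] A)) =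
        (r₁₂ (X + s2 X), r₂₃ (X + s2 X)) + (r₁₂ (Y + s2 Y), r₂₃ (Y + s2 Y)) := by
        rw [Prod.mk_add_mk, ← map_add, ← map_add, map_add s2]
        congr 2 <;> abel
      rw [h']; exact E.add_mem hX hY
    have hz : ((r₁₂ (0 + s2 0), r₂₃ (0 + s2 0)) : (A ⊗[k] A) × (A ⊗[k] A)) ∈ E := by
      have h' : ((r₁₂ (0 + s2 0), r₂₃ (0 + s2 0)) : (A ⊗[k] A) × (A ⊗[k] A)) = 0 := by
        rw [map_zero, add_zero, map_zero, map_zero]; rfl
      rw [h']; exact E.zero_mem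
    induction x with
    | zero => exact hz
    | tmul a t =>
      induction t with
      | zero => rw [TensorProduct.tmul_zero]; exact hz
      | tmul u v =>
        rw [hs2, map_add, map_add, h₁₂, h₁₂, h₂₃, h₂₃, mul_comm v u]
        exact hE a u v
      | add x y hx hy => rw [TensorProduct.tmul_add]; exact hadd _ _ hx hy
    | add x y hx hy => exact hadd _ _ hx hy
  refine ⟨fun p q hpq => ⟨fun h => ?_, ?_⟩, ?_⟩
  · -- reduce to q = 0
    have hq' := E.smul_mem (2 : k)⁻¹ (hq q)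
    have e1 : (2 : k)⁻¹ • ((sw q + m1 q, q + q) : (A ⊗[k] A) × (A ⊗[k] A)) = ((2 : k)⁻¹ • (sw q + m1 q), q) := by
      rw [Prod.smul_mk]
      congr 1
      rw [← two_smul k q, smul_smul, inv_mul_cancel₀ h2, one_smul]
    rw [e1] at hq'
    set p' := p - (2 : k)⁻¹ • (sw q + m1 q) with hp'
    have hsplit : (p, q) = (p', 0) + ((2 : k)⁻¹ • (sw q + m1 q), q) := by
      rw [Prod.mk_add_mk, hp', sub_add_cancel, zero_add]
    have hp'0 : ψ (p', 0) = 0 := by
      rw [hsplit, map_add, hψE _ hq', add_zero] at h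
      exact h
    rw [hψ1] at hp'0
    have hL := (smul_eq_zero.1 hp'0).resolve_left h2
    have hR := mem_span_of_L k A (Lmap k A) (Lmap_tmul k A) _ hL
    have hmsw : ∀ y, LinearMap.mul' k A (sw y) = LinearMap.mul' k A y := by
      intro y
      induction y with
      | zero => simp
      | tmul a b => rw [hsw, LinearMap.mul'_apply, LinearMap.mul'_apply, mul_comm]
      | add x y hx hy => rw [map_add, map_add, map_add, hx, hy]
    have hmm1 : ∀ y, LinearMap.mul' k A (m1 y) = LinearMap.mul' k A y := by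
      intro y
      rw [hm1', LinearMap.mul'_apply, mul_one]
    have hmp' : m1 p' = 0 := by
      rw [hm1', hp', map_sub, map_smul, map_add, hmsw, hmm1, hpq, ← two_smul k (LinearMap.mul' k A q), smul_smul,
        inv_mul_cancel₀ h2, one_smul, sub_self, TensorProduct.zero_tmul]
    have hRE : ∀ z ∈ Submodule.span A (rel k A), ((z - m1 z, 0) : (A ⊗[k] A) × (A ⊗[k] A)) ∈ E := by
      apply rel_induction
      · have h' : ((0 - m1 0, 0) : (A ⊗[k] A) × (A ⊗[k] A)) = 0 := by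
          rw [map_zero, sub_zero]; rfl
        rw [h']; exact E.zero_mem
      · intro x y hx hy
        have h' : ((x + y - m1 (x + y), 0) : (A ⊗[k] A) × (A ⊗[k] A)) = (x - m1 x, 0) + (y - m1 y, 0) := by
          rw [Prod.mk_add_mk, map_add]; congr 1 <;> abel
        rw [h']; exact E.add_mem hx hy
      · intro a u v
        have e1 := hE a u v
        have e2 := hE a (u * v) 1
        have h' : ((a ⊗ₜ[k] (u * v) - (a * u) ⊗ₜ[k] v - (a * v) ⊗ₜ[k] u -
            m1 (a ⊗ₜ[k] (u * v) - (a * u) ⊗ₜ[k] v - (a * v) ⊗ₜ[k] u), 0) : (A ⊗[k] A) × (A ⊗[k] A)) =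
            ((a * (u * v)) ⊗ₜ[k] 1 + (a * 1) ⊗ₜ[k] (u * v), (u * v * 1) ⊗ₜ[k] a + (u * v * 1) ⊗ₜ[k] a) -
            ((a * u) ⊗ₜ[k] v + (a * v) ⊗ₜ[k] u, (u * v) ⊗ₜ[k] a + (u * v) ⊗ₜ[k] a) := by
          rw [map_sub, map_sub, hm1, hm1, hm1, mul_one, mul_one, Prod.mk_sub_mk,
            mul_assoc a u v, mul_assoc a v u, mul_comm v u]
          refine Prod.ext ?_ ?_
          · show _ = _
            dsimp only
            abel
          · dsimp only
            rw [sub_self]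
        rw [h']; exact E.sub_mem e2 e1
    have h4 := hRE _ hR
    rw [hmp', sub_zero] at h4
    have h5 := E.add_mem h4 hq'
    rw [← hsplit] at h5
    exact hEx _ h5
  · rintro ⟨x, hx1, rfl, rfl⟩
    have e1 : s2 x = x := hx1
    have h := hψE _ (hxE x)
    rw [e1, map_add, map_add, ← Prod.mk_add_mk, map_add, ← two_smul k] at h
    exact (smul_eq_zero.1 h).resolve_left h2
  · apply omega_induction
    · exact ⟨0, 0, rfl, map_zero ψ⟩
    · rintro x y ⟨p, q, h1, rfl⟩ ⟨p', q', h1', rfl⟩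
      refine ⟨p + p', q + q', by rw [map_add, map_add, h1, h1'], ?_⟩
      rw [← Prod.mk_add_mk, map_add]
    · intro a b
      refine ⟨(2 : k)⁻¹ • (a ⊗ₜ[k] b - (a * b) ⊗ₜ[k] 1), 0, ?_, ?_⟩
      · rw [map_smul, map_sub, LinearMap.mul'_apply, LinearMap.mul'_apply, mul_one, sub_self, smul_zero, map_zero]
      · rw [hψ1, map_smul, map_sub, Lmap_tmul, Lmap_tmul, Derivation.map_one_eq_zero, smul_zero, sub_zero,
          smul_smul, mul_inv_cancel₀ h2, one_smul]

end Groth.Agent.S19213
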