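import Groth.Statements.S19229
import Mathlib.Tactic
import Mathlib.LinearAlgebra.FiniteDimensional.Lemmas
import Mathlib.LinearAlgebra.Dimension.OrzechProperty

set_option autoImplicit false
set_option linter.style.haveILetI false
universe u v
open SigmaLin

namespace Groth.Agent.S19229

theorem injW
    (k : Type u) [Field k] (σ : k →+* k)
    (V : Type v) [AddCommGroup V] [Module k V] [FiniteDimensional k V] (T : V →ₛₗ[σ] V) (W : Submodule k V)
    (hW : ∀ w ∈ W, T w ∈ W) (hspan : W ≤ Submodule.span k (T '' W)) (w : V) (hw : w ∈ W) (h0 : T w = 0) : w = 0 := by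
  let b := Module.finBasis k W
  let c : Fin (Module.finrank k W) → W := fun i => ⟨T (b i), hW _ (b i).2⟩
  have hc : ⊤ ≤ Submodule.span k (Set.range c) := by
    have h1 : W ≤ (Submodule.span k (Set.range c)).map W.subtype := by
      refine hspan.trans ?_
      rw [Submodule.span_le]
      rintro _ ⟨x, hx, rfl⟩
      have hx' := b.sum_repr ⟨x, hx⟩
      have hx'' : x = ∑ i, (b.repr ⟨x, hx⟩ i) • (b i : V) := by
        refine (congrArg Subtype.val hx').symm.trans ?_
        rw [Submodule.coe_sum]; rfl
      refine ⟨∑ i, σ (b.repr ⟨x, hx⟩ i) • c i, ?_, ?_⟩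
      · exact Submodule.sum_mem _ fun i _ => Submodule.smul_mem _ _ (Submodule.subset_span ⟨i, rfl⟩)
      · conv_rhs => rw [hx'', map_sum]
        rw [map_sum]
        apply Finset.sum_congr rfl
        intro i _
        rw [map_smul, LinearMap.map_smulₛₗ]
        rfl
    intro y _
    obtain ⟨z, hz, hzy⟩ := h1 y.2
    have : z = y := Subtype.ext hzy
    rwa [← this]
  have hli : LinearIndependent k c := linearIndependent_of_top_le_span_of_card_eq_finrank hc (by simp)
  have hx' := b.sum_repr ⟨w, hw⟩
  have hx'' : w = ∑ i, (b.repr ⟨w, hw⟩ i) • (b i : V) := by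
    refine (congrArg Subtype.val hx').symm.trans ?_
    rw [Submodule.coe_sum]; rfl
  have h2 : ∑ i, σ (b.repr ⟨w, hw⟩ i) • c i = 0 := by
    apply Subtype.ext
    refine Eq.trans ?_ (h0.trans rfl : T w = ((0 : W) : V))
    conv_rhs => rw [hx'', map_sum]
    rw [Submodule.coe_sum]
    apply Finset.sum_congr rfl
    intro i _
    rw [LinearMap.map_smulₛₗ]
    rfl
  have h3 := Fintype.linearIndependent_iff.1 hli _ h2
  rw [hx'']
  apply Finset.sum_eq_zero
  intro i _
  have := h3 i
  rw [map_eq_zero] at this
  rw [this, zero_smul]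

theorem T_mem
    (k : Type u) [Field k] (σ : k →+* k)
    (V : Type v) [AddCommGroup V] [Module k V] (T : V →ₛₗ[σ] V) (n : ℕ) (w : V)
    (hw : w ∈ Submodule.span k (Set.range ((⇑T)^[n]))) : T w ∈ Submodule.span k (Set.range ((⇑T)^[n+1])) := by
  induction hw using Submodule.span_induction with
  | mem x hx =>
    obtain ⟨y, rfl⟩ := hx
    apply Submodule.subset_span
    exact ⟨y, by rw [Function.iterate_succ_apply']⟩
  | zero => simp
  | add x y _ _ hx hy => rw [map_add]; exact Submodule.add_mem _ hx hy
  | smul c x _ hx => rw [LinearMap.map_smulₛₗ]; exact Submodule.smul_mem _ _ hx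

theorem exists_stab
    (k : Type u) [Field k] (σ : k →+* k)
    (V : Type v) [AddCommGroup V] [Module k V] [FiniteDimensional k V] (T : V →ₛₗ[σ] V) :
    ∃ N, ∀ n, N ≤ n → Submodule.span k (Set.range ((⇑T)^[n])) = Submodule.span k (Set.range ((⇑T)^[N])) := by
  let F : ℕ →o (Submodule k V)ᵒᵈ := ⟨fun n => OrderDual.toDual (Submodule.span k (Set.range ((⇑T)^[n]))), by
    apply monotone_nat_of_le_succ
    intro n
    change Submodule.span k (Set.range ((⇑T)^[n+1])) ≤ Submodule.span k (Set.range ((⇑T)^[n]))
    rw [Submodule.span_le]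
    rintro _ ⟨x, rfl⟩
    rw [Function.iterate_succ_apply]
    exact Submodule.subset_span ⟨_, rfl⟩⟩
  obtain ⟨N, hN⟩ := IsArtinian.monotone_stabilizes F
  exact ⟨N, fun n hn => (hN n hn).symm⟩


/-- Let k be a field with a ring endomorphism σ, V a finite-dimensional k-vector space and T : V → V an
additive map with T (c • v) = σ c • T v. If some iterate of T sends v to 0 and v lies in the
k-linear span of the image of every iterate of T, then v = 0. In other words the union of the
kernels of the iterates of T and the intersection of the spans of their images meet only in 0. -/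
theorem result
    (k : Type u) [Field k] (σ : k →+* k)
    (V : Type v) [AddCommGroup V] [Module k V] [FiniteDimensional k V] (T : V →ₛₗ[σ] V) (v : V)
    (hnil : ∃ n : ℕ, (⇑T)^[n] v = 0)
    (hss : ∀ n : ℕ, v ∈ Submodule.span k (Set.range ((⇑T)^[n]))) : v = 0 := by
  obtain ⟨N, hN⟩ := exists_stab k σ V T
  let W := Submodule.span k (Set.range ((⇑T)^[N]))
  have hW : ∀ w ∈ W, T w ∈ W := by
    intro w hw
    have := T_mem k σ V T N w hw
    rwa [hN (N+1) (Nat.le_succ N)] at this
  have hspan : W ≤ Submodule.span k (T '' W) := by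
    have : W = Submodule.span k (Set.range ((⇑T)^[N+1])) := (hN (N+1) (Nat.le_succ N)).symm
    conv_lhs => rw [this]
    rw [Submodule.span_le]
    rintro _ ⟨x, rfl⟩
    rw [Function.iterate_succ_apply']
    exact Submodule.subset_span ⟨_, Submodule.subset_span ⟨x, rfl⟩, rfl⟩
  obtain ⟨n, hn⟩ := hnil
  have : ∀ n : ℕ, ∀ v ∈ W, (⇑T)^[n] v = 0 → v = 0 := by
    intro n
    induction n with
    | zero => intro v _ h; simpa using h
    | succ n ih =>
      intro v hv h
      rw [Function.iterate_succ_apply] at h
      exact injW k σ V T W hW hspan v hv (ih _ (hW v hv) h)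
  exact this n v (hss N) hn

end Groth.Agent.S19229
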