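import Groth.Statements.S19230
import Mathlib.Tactic
import Groth.Agent.Lib.Helper28_SigmaLin

set_option autoImplicit false
set_option linter.style.haveILetI false
universe u v
open SigmaLin

namespace Groth.Agent.S19230

/-- Let k be a field, σ a surjective ring endomorphism of k, V a finite-dimensional k-vector space and T
: V → V additive with T (c • v) = σ c • T v. Then the set of vectors killed by some iterate of T is
a k-subspace on which a single iterate of T vanishes, it is a complement of the intersection over n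
of the k-spans of the images of the n-th iterates, and T restricts to a bijection of that
intersection onto itself. -/
theorem result
    (k : Type u) [Field k] (σ : k →+* k) (hσ : Function.Surjective σ)
    (V : Type v) [AddCommGroup V] [Module k V] [FiniteDimensional k V] (T : V →ₛₗ[σ] V) :
    (∃ W : Submodule k V, (W : Set V) = {v : V | ∃ n : ℕ, (⇑T)^[n] v = 0} ∧
      (∃ N : ℕ, ∀ v ∈ W, (⇑T)^[N] v = 0) ∧
      IsCompl W (⨅ n : ℕ, Submodule.span k (Set.range ((⇑T)^[n])))) ∧
    Set.BijOn (⇑T) (⋂ n : ℕ, (Submodule.span k (Set.range ((⇑T)^[n])) : Set V))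
      (⋂ n : ℕ, (Submodule.span k (Set.range ((⇑T)^[n])) : Set V)) := by
  obtain ⟨N, hN⟩ := H28Sigma.exists_stab k σ V T
  obtain ⟨hW, hspan⟩ := H28Sigma.stable k σ V T N hN
  have hinf := H28Sigma.iInf_eq k σ V T N hN
  have hfit := H28Sigma.fitting k σ hσ V T N hN
  have hinj := H28Sigma.iter_inj k σ V T _ hW hspan
  have hker : ∀ v, (∃ n : ℕ, (⇑T)^[n] v = 0) → (⇑T)^[N] v = 0 := by
    rintro v ⟨n, hn⟩
    apply hinj n _ (Submodule.subset_span ⟨v, rfl⟩)
    rw [← Function.iterate_add_apply, add_comm, Function.iterate_add_apply, hn, H28Sigma.iter_zero]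
  constructor
  · let W0 : Submodule k V :=
      { carrier := {v : V | ∃ n : ℕ, (⇑T)^[n] v = 0}
        add_mem' := by
          intro a b ha hb
          refine ⟨N, ?_⟩
          rw [H28Sigma.iter_add, hker a ha, hker b hb, add_zero]
        zero_mem' := ⟨0, rfl⟩
        smul_mem' := by
          rintro c x ⟨n, hn⟩
          exact ⟨n, by rw [H28Sigma.iter_smul, hn, smul_zero]⟩ }
    refine ⟨W0, rfl, ⟨N, fun v hv => hker v hv⟩, ?_⟩
    rw [hinf]
    constructor
    · rw [Submodule.disjoint_def]
      intro x hx hx'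
      exact hinj N x hx' (hker x hx)
    · rw [codisjoint_iff, eq_top_iff]
      intro v _
      obtain ⟨v0, w, rfl, h0, hw⟩ := hfit v
      exact Submodule.add_mem_sup (show v0 ∈ W0 from ⟨N, h0⟩) hw
  · have hset : (⋂ n : ℕ, (Submodule.span k (Set.range ((⇑T)^[n])) : Set V)) = (Submodule.span k (Set.range ((⇑T)^[N])) : Set V) := by
      rw [← hinf, Submodule.coe_iInf]
    rw [hset]
    refine ⟨fun w hw => hW w hw, ?_, ?_⟩
    · intro a ha b hb hab
      rw [← sub_eq_zero]
      apply hinj 1 _ (Submodule.sub_mem _ ha hb)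
      rw [Function.iterate_one, map_sub, hab, sub_self]
    · intro w hw
      have h1 : w ∈ Submodule.span k (Set.range ((⇑T)^[N+1])) := by rw [hN (N+1) (Nat.le_succ N)]; exact hw
      obtain ⟨v, hv⟩ := (H28Sigma.mem_span_iff k σ hσ V T _ _).1 h1
      rw [Function.iterate_succ_apply'] at hv
      exact ⟨_, Submodule.subset_span ⟨v, rfl⟩, hv⟩

end Groth.Agent.S19230
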