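import Groth.Statements.S19238
import Mathlib.Tactic
import Groth.Agent.Lib.Helper28_SigmaLin3

set_option autoImplicit false
set_option linter.style.haveILetI false
universe u v
open SigmaLin

namespace Groth.Agent.S19238

/-- Let k be an algebraically closed field of characteristic p > 0 and n a natural number; let M be a
finitely generated module over the ring W_n(k) of truncated Witt vectors and T : M → M an additive
map with T (c • m) = σ(c) • T m, where σ is either the Frobenius endomorphism of W_n(k) or its
inverse. Then the set of T-fixed elements of M is finite. (The printed statement says that the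
T-fixed elements form a finitely generated module over the σ-fixed subring of W_n(k), which is the
finite ring of integers modulo p^n.) -/
theorem result
    (p : ℕ) [Fact p.Prime] (k : Type u) [Field k] [CharP k p] [IsAlgClosed k] (n : ℕ)
    (σ : TruncatedWittVector p n k →+* TruncatedWittVector p n k)
    (hσ : σ = WittGrp.truncMap p n (frobenius k p) ∨
      σ = WittGrp.truncMap p n (frobeniusEquiv k p).symm.toRingHom)
    (M : Type v) [AddCommGroup M] [Module (TruncatedWittVector p n k) M] [Module.Finite (TruncatedWittVector p n k) M]
    (T : M →ₛₗ[σ] M) :
    {m : M | T m = m}.Finite := by
  rcases hσ with h | h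
  · exact H28Sigma.finiteW p k n (frobenius k p) M σ h T (fun x hx => hx)
  · refine H28Sigma.finiteW p k n (frobeniusEquiv k p).symm.toRingHom M σ h T (fun x hx => ?_)
    have h1 : (frobeniusEquiv k p).symm x = x := hx
    have h2 := (frobeniusEquiv k p).apply_symm_apply x
    rw [h1] at h2
    exact h2

end Groth.Agent.S19238
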