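import Groth.Statements.S19239
import Mathlib.Tactic
import Groth.Agent.Lib.Helper28_SigmaLin
import Mathlib.FieldTheory.IsAlgClosed.Basic
import Mathlib.FieldTheory.Perfect

set_option autoImplicit false
set_option linter.style.haveILetI false
universe u v
open SigmaLin

namespace Groth.Agent.S19239

theorem h2_of (p : ℕ) [Fact p.Prime] (k : Type u) [Field k] [IsAlgClosed k] (σ : k →+* k) (hσp : ∀ x : k, σ (x ^ p) = x) :
    ∀ (n : ℕ) (b : Fin (n + 1) → k), b ≠ 0 →
      ∃ x : k, x ≠ 0 ∧ x = ∑ i : Fin (n + 1), (⇑σ)^[i.val + 1] x * (⇑σ)^[i.val] (b (Fin.rev i)) := by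
  have hp := (Fact.out : p.Prime)
  have hit : ∀ (m n : ℕ) (y : k), (⇑σ)^[m] (y ^ p ^ (m + n)) = y ^ p ^ n := by
    intro m n y
    induction m with
    | zero => simp
    | succ m ih =>
      rw [Function.iterate_succ_apply]
      have : y ^ p ^ (m + 1 + n) = (y ^ p ^ (m + n)) ^ p := by
        rw [← pow_mul, ← pow_succ]; congr 2; ring
      rw [this, hσp, ih]
  intro n b hb
  -- polynomial q = X^{p^{n+1}} - ∑ c_j X^{p^j}
  let c : Fin (n+1) → k := fun i => (⇑σ)^[i.val] (b (Fin.rev i))
  have hc : ∃ i, c i ≠ 0 := by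
    by_contra hcon
    push Not at hcon
    apply hb
    ext j
    have h1 := hcon (Fin.rev j)
    have hinj : Function.Injective ((⇑σ)^[(Fin.rev j).val]) := (RingHom.injective σ).iterate _
    have h0 : (⇑σ)^[(Fin.rev j).val] (0 : k) = 0 := Function.iterate_fixed (map_zero σ) _
    have h2 := hinj (h1.trans h0.symm)
    rw [Fin.rev_rev] at h2
    exact h2
  let q : Polynomial k := Polynomial.X ^ p ^ (n+1) - ∑ i : Fin (n+1), Polynomial.C (c i) * Polynomial.X ^ p ^ (n - i.val)
  have hlt : ∀ i : Fin (n+1), p ^ (n - i.val) < p ^ (n+1) := fun i => Nat.pow_lt_pow_right hp.one_lt (by omega)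
  have hdeg : (∑ i : Fin (n+1), Polynomial.C (c i) * Polynomial.X ^ p ^ (n - i.val)).degree < ((p ^ (n+1) : ℕ) : WithBot ℕ) := by
    refine lt_of_le_of_lt (Polynomial.degree_sum_le _ _) ?_
    rw [Finset.sup_lt_iff (WithBot.bot_lt_coe _)]
    intro i _
    refine lt_of_le_of_lt (Polynomial.degree_C_mul_X_pow_le _ _) ?_
    exact_mod_cast hlt i
  have hmonic : q.Monic := Polynomial.monic_X_pow_sub (n := p ^ (n+1)) (by
    exact hdeg)
  have hroot : ∃ y : k, y ≠ 0 ∧ q.IsRoot y := by
    by_contra hcon
    push Not at hcon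
    have hr : ∀ a ∈ q.roots, a = 0 := by
      intro a ha
      by_contra hne
      exact hcon a hne ((Polynomial.mem_roots hmonic.ne_zero).1 ha)
    have hroots : q.roots = Multiset.replicate (Multiset.card q.roots) 0 := Multiset.eq_replicate.2 ⟨rfl, hr⟩
    have hsplit := (IsAlgClosed.splits q).eq_prod_roots_of_monic hmonic
    rw [hroots] at hsplit
    simp only [Multiset.map_replicate, Multiset.prod_replicate, map_zero, sub_zero] at hsplit
    obtain ⟨i, hi⟩ := hc
    have h5 : q.coeff (p ^ (n - i.val)) = - c i := by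
      simp only [q, Polynomial.coeff_sub, Polynomial.coeff_X_pow, Polynomial.finset_sum_coeff, Polynomial.coeff_C_mul]
      rw [if_neg (hlt i).ne, Finset.sum_eq_single i]
      · simp
      · intro j _ hj
        rw [if_neg, mul_zero]
        intro h
        apply hj
        have := Nat.pow_right_injective hp.two_le h
        apply Fin.ext
        have := i.2
        have := j.2
        omega
      · simp
    have h6 : q.coeff (p ^ (n+1)) = 1 := by
      have h7 : (∑ i : Fin (n+1), Polynomial.C (c i) * Polynomial.X ^ p ^ (n - i.val)).coeff (p ^ (n+1)) = 0 :=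
        Polynomial.coeff_eq_zero_of_degree_lt hdeg
      simp only [q, Polynomial.coeff_sub, Polynomial.coeff_X_pow]
      rw [if_pos trivial, h7, sub_zero]
    rw [hsplit, Polynomial.coeff_X_pow] at h5 h6
    split_ifs at h5 h6 with h8 h9
    · have := hlt i
      omega
    · exact zero_ne_one h6
    · exact hi (neg_eq_zero.1 h5.symm)
    · exact hi (neg_eq_zero.1 h5.symm)
  obtain ⟨y, hy0, hy⟩ := hroot
  refine ⟨y ^ p ^ (n+1), pow_ne_zero _ hy0, ?_⟩
  have h9 : y ^ p ^ (n+1) - ∑ i : Fin (n+1), c i * y ^ p ^ (n - i.val) = 0 := by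
    have : q.eval y = 0 := hy
    simpa [q, Polynomial.eval_finset_sum] using this
  rw [sub_eq_zero] at h9
  conv_lhs => rw [h9]
  apply Finset.sum_congr rfl
  intro i _
  rw [mul_comm]
  congr 1
  have h10 := hit (i.val + 1) (n - i.val) y
  rw [show i.val + 1 + (n - i.val) = n + 1 from by have := i.2; omega] at h10
  exact h10.symm

theorem h3_of (p : ℕ) [Fact p.Prime] (k : Type u) [Field k] [IsAlgClosed k] (σ : k →+* k) (hσp : ∀ x : k, σ (x ^ p) = x) :
    ∀ c : k, ∃ y : k, σ y - y + c = 0 := by
  have hp := (Fact.out : p.Prime)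
  intro c
  have hq : (Polynomial.X ^ p - Polynomial.X - Polynomial.C c : Polynomial k).degree ≠ 0 := by
    have : (Polynomial.X ^ p - Polynomial.X - Polynomial.C c : Polynomial k).degree = p := by
      rw [sub_sub]
      rw [Polynomial.degree_sub_eq_left_of_degree_lt]
      · simp
      · rw [Polynomial.degree_X_pow, Polynomial.degree_X_add_C]
        exact_mod_cast hp.one_lt
    rw [this]
    exact_mod_cast hp.ne_zero
  obtain ⟨z, hz⟩ := IsAlgClosed.exists_root _ hq
  refine ⟨z ^ p, ?_⟩
  rw [hσp]
  have : z ^ p - z - c = 0 := by simpa using hz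
  linear_combination -this


/-- Let k be an algebraically closed field of characteristic p > 0, V a finite-dimensional k-vector
space and T : V → V an additive map with T (c • v) = σ(c) • T v for σ the inverse of the p-th power
map of k. Then v ↦ v − T v is surjective on V, and the intersection over n of the k-spans of the
images of the iterates of T admits a k-basis consisting of vectors fixed by T. (A special case of
the statement for a surjective field endomorphism satisfying two solvability conditions.) -/
theorem result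
    (p : ℕ) [Fact p.Prime] (k : Type u) [Field k] [CharP k p] [IsAlgClosed k]
    (V : Type v) [AddCommGroup V] [Module k V] [FiniteDimensional k V]
    (T : V →ₛₗ[(frobeniusEquiv k p).symm.toRingHom] V) :
    Function.Surjective (fun v : V => v - T v) ∧
    ∃ b : Module.Basis (Fin (Module.finrank k ↥(⨅ n : ℕ, Submodule.span k (Set.range ((⇑T)^[n]))))) k ↥(⨅ n : ℕ, Submodule.span k (Set.range ((⇑T)^[n]))),
      ∀ i, T (b i : V) = (b i : V) := by
  exact H28Sigma.main k _ (frobeniusEquiv k p).symm.surjective V T (h2_of p k _ (fun x => (frobeniusEquiv k p).symm_apply_apply x)) (h3_of p k _ (fun x => (frobeniusEquiv k p).symm_apply_apply x))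

end Groth.Agent.S19239
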