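import Groth.Statements.S19348
import Mathlib

set_option autoImplicit false
universe u
open RigCh

namespace Groth.Agent.S19348

/-- Let p be a prime and m a natural number, P a commutative ring complete and separated for the p-adic
topology, and I an ideal of P with a divided power structure of level m, that is a sub-ideal J of I
endowed with divided powers such that x ^ (p ^ m) and p * x lie in J for all x in I. Then an element
of P whose class in P / I is invertible is invertible in P. (The source states this for a lift of a
unit to the p-adically completed level-m divided power envelope of a closed immersion; the statement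
here keeps exactly what its argument uses: completeness for p and the level-m divided powers on the
kernel.) -/
theorem result (p : ℕ) [Fact p.Prime] (m : ℕ)
    (P : Type u) [CommRing P] [IsAdicComplete (Ideal.span {(p : P)}) P]
    (I J : Ideal P) (hJ : DividedPowers J) (hJI : J ≤ I)
    (hpow : ∀ x ∈ I, x ^ (p ^ m) ∈ J) (hmul : ∀ x ∈ I, (p : P) * x ∈ J)
    (u : P) (hu : IsUnit (Ideal.Quotient.mk I u)) : IsUnit u := by
  obtain ⟨v', hv'⟩ := hu.exists_right_inv
  obtain ⟨v, rfl⟩ := Ideal.Quotient.mk_surjective v'
  have hx : 1 - u * v ∈ I := by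
    rw [← Ideal.Quotient.eq_zero_iff_mem]
    simp [hv']
  -- (1-uv)^(p^m) ∈ J, and its p-th power is p! * dp
  set x := 1 - u * v with hxdef
  have h1 : x ^ (p ^ m) ∈ J := hpow x hx
  have h2 : (x ^ (p ^ m)) ^ p ∈ Ideal.span {(p : P)} := by
    have := hJ.factorial_mul_dpow_eq_pow (n := p) h1
    rw [← this, Ideal.mem_span_singleton]
    apply Dvd.dvd.mul_right
    exact_mod_cast (Nat.cast_dvd_cast (Nat.dvd_factorial (Fact.out : p.Prime).pos le_rfl) : (p : P) ∣ ((p.factorial : ℕ) : P))
  -- p in Jacobson radical
  have hjac : Ideal.span {(p : P)} ≤ Ideal.jacobson ⊥ := IsAdicComplete.le_jacobson_bot _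
  have h3 : IsUnit (1 - (x ^ (p ^ m)) ^ p) := by
    have := (Ideal.mem_jacobson_bot.mp (hjac h2)) (-1)
    simpa [sub_eq_add_neg, add_comm] using this
  -- 1 - y^k is divisible by 1 - y
  have h4 : (1 - x) ∣ 1 - (x ^ (p ^ m)) ^ p := by
    rw [← pow_mul]
    simpa using sub_dvd_pow_sub_pow (1 : P) x (p ^ m * p)
  have h5 : IsUnit (1 - x) := isUnit_of_dvd_unit h4 h3
  have h6 : 1 - x = u * v := by rw [hxdef]; ring
  rw [h6] at h5
  exact isUnit_of_mul_isUnit_left h5

end Groth.Agent.S19348
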