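import Groth.Statements.S19560
import Mathlib

set_option autoImplicit false
universe u
open W4c1limliniiii

namespace Groth.Agent.S19560

open Polynomial in
/-- Let k be an algebraically closed field of characteristic p (a prime or zero) and let F, G be
polynomials spanning a base-point-free pencil V of degree d (a two-dimensional space of polynomials
of degree at most d containing one of degree d and with no common zero in k), so that V encodes a
degree-d self-map F/G of the projective line up to automorphisms of the target. Suppose the
Wronskian W = FG′ − F′G is non-zero and vanishes at the point a to order exactly e − 1 with e ≥ 1,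
and that p = 0 or e − 1 < p. Then the map is tamely ramified at a with index e: the largest order of
vanishing at a of a non-zero member of V is e, and p does not divide e. (The hypothesis W ≠ 0 makes
the order of vanishing meaningful; for W = 0 the map is inseparable.) -/
theorem result
    (k : Type u) [Field k] [IsAlgClosed k] (p : ℕ) [CharP k p]
    (d : ℕ) (F G : k[X]) (hV : W4c1limliniiii.IsPencil d (Submodule.span k {F, G}))
    (hW : Polynomial.wronskian F G ≠ 0) (a : k) (e : ℕ)
    (he : (Polynomial.wronskian F G).rootMultiplicity a + 1 = e) (hp : p = 0 ∨ e - 1 < p) :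
    W4c1limliniiii.HasRamIdx (Submodule.span k {F, G}) a e ∧ ¬ p ∣ e := by
  obtain ⟨-, -, -, hbp⟩ := hV
  obtain ⟨s, hs, hsa⟩ := hbp a
  -- key claim: for t ∈ V nonzero with root multiplicity f ≥ 1 at a: f = e and ¬ p ∣ f
  have hs0 : s ≠ 0 := by rintro rfl; simp at hsa
  have key : ∀ t ∈ Submodule.span k {F, G}, t ≠ 0 → t.eval a = 0 → t.rootMultiplicity a = e ∧ ¬ p ∣ e := by
    intro t ht ht0 hta
    -- wronskian s t = c * W
    obtain ⟨a1, b1, hs1⟩ := Submodule.mem_span_pair.mp hs
    obtain ⟨a2, b2, ht1⟩ := Submodule.mem_span_pair.mp ht
    have hwr : wronskian s t = C (a1 * b2 - a2 * b1) * wronskian F G := by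
      rw [← hs1, ← ht1]
      simp only [wronskian, Polynomial.smul_eq_C_mul, derivative_add, derivative_C_mul, map_sub, map_mul]
      ring
    have hdet : a1 * b2 - a2 * b1 ≠ 0 := by
      intro h0
      -- then s, t are proportional
      have h1 : C (t.eval a) * s = C (s.eval a) * t := by
        by_cases ha1 : a1 = 0
        · by_cases hb1 : b1 = 0
          · exfalso; apply hs0; rw [← hs1, ha1, hb1]; simp
          · -- a1 = 0, so a2 b1 = 0 → a2 = 0
            have ha2 : a2 = 0 := by
              rw [ha1, zero_mul, zero_sub, neg_eq_zero] at h0
              exact (mul_eq_zero.mp h0).resolve_right hb1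
            rw [← hs1, ← ht1, ha1, ha2]
            simp only [Polynomial.smul_eq_C_mul, eval_add, eval_mul, eval_C, map_add, map_mul, map_zero, zero_mul, zero_add]
            ring
        · have h2 : b2 = a2 * b1 / a1 := by field_simp; linear_combination h0
          have h3 : C a1 * t = C a2 * s := by
            rw [← hs1, ← ht1]
            simp only [Polynomial.smul_eq_C_mul]
            have : C a1 * C b2 = C a2 * C b1 := by rw [← C_mul, ← C_mul]; congr 1; linear_combination h0
            linear_combination G * this
          have h4 : a1 * t.eval a = a2 * s.eval a := by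
            have := congrArg (eval a) h3; simpa using this
          have hC : C a1 ≠ 0 := by simpa using ha1
          apply mul_left_cancel₀ hC
          have h5 : C a1 * C (t.eval a) = C a2 * C (s.eval a) := by rw [← C_mul, ← C_mul, h4]
          linear_combination s * h5 - C (s.eval a) * h3
      rw [hta, map_zero, zero_mul] at h1
      rcases mul_eq_zero.mp h1.symm with h | h
      · exact hsa (by simpa using h)
      · exact ht0 h
    have hWst0 : wronskian s t ≠ 0 := by
      rw [hwr]; exact mul_ne_zero (C_ne_zero.mpr hdet) hW
    have hWst : (wronskian s t).rootMultiplicity a = e - 1 := by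
      rw [hwr] at hWst0 ⊢
      rw [rootMultiplicity_mul hWst0, rootMultiplicity_C]
      omega
    set f := t.rootMultiplicity a with hf
    have hfpos : 0 < f := by
      rw [hf]; exact (rootMultiplicity_pos ht0).mpr hta
    obtain ⟨t1, ht1'⟩ : (X - C a) ^ f ∣ t := pow_rootMultiplicity_dvd t a
    have ht1a : t1.eval a ≠ 0 := by
      intro h
      have hd : (X - C a) ∣ t1 := dvd_iff_isRoot.mpr h
      have : (X - C a) ^ (f + 1) ∣ t := by
        rw [ht1', pow_succ]; exact mul_dvd_mul_left _ hd
      have h9 := (le_rootMultiplicity_iff ht0).mpr this
      omega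
    obtain ⟨f', hf'⟩ : ∃ f', f = f' + 1 := ⟨f - 1, by omega⟩
    have hexp : wronskian s t = (X - C a) ^ f' * (C (f : k) * (s * t1) + (X - C a) * (s * derivative t1 - derivative s * t1)) := by
      conv_lhs => rw [ht1', hf']
      simp only [wronskian, derivative_mul, derivative_pow, derivative_sub, derivative_X, derivative_C, sub_zero, mul_one]
      rw [hf']
      simp only [Nat.add_sub_cancel]
      rw [pow_succ]
      ring
    by_cases hpf : (f : k) = 0
    · exfalso
      -- order ≥ f' + 1
      rw [hpf, map_zero, zero_mul, zero_add] at hexp
      have hdvd : (X - C a) ^ f ∣ wronskian s t := by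
        rw [hexp, hf', pow_succ]
        exact mul_dvd_mul_left _ (dvd_mul_right _ _)
      have h1 : f ≤ e - 1 := by
        rw [← hWst]; exact (le_rootMultiplicity_iff hWst0).mpr hdvd
      have h2 : p ∣ f := (CharP.cast_eq_zero_iff k p f).mp hpf
      rcases hp with hp | hp
      · subst hp
        have := zero_dvd_iff.mp h2
        omega
      · have := Nat.le_of_dvd hfpos h2
        omega
    · have hmul : (wronskian s t).rootMultiplicity a = f' := by
        rw [hexp]
        have hne : (C (f : k) * (s * t1) + (X - C a) * (s * derivative t1 - derivative s * t1)).eval a ≠ 0 := by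
          simp only [eval_add, eval_mul, eval_C, eval_sub, eval_X, sub_self, zero_mul, add_zero]
          exact mul_ne_zero hpf (mul_ne_zero hsa ht1a)
        rw [rootMultiplicity_mul (by
          rw [← hexp]; exact hWst0)]
        rw [rootMultiplicity_X_sub_C_pow, rootMultiplicity_eq_zero hne, add_zero]
      have hfe : f = e := by omega
      refine ⟨hfe, ?_⟩
      rw [← hfe]
      intro h
      exact hpf ((CharP.cast_eq_zero_iff k p f).mpr h)
  -- existence of t
  have hex : ∃ t ∈ Submodule.span k {F, G}, t ≠ 0 ∧ t.eval a = 0 := by
    by_cases hFa : F.eval a = 0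
    · refine ⟨F, Submodule.subset_span (by simp), ?_, hFa⟩
      rintro rfl; exact hW (by simp [wronskian])
    · refine ⟨C (F.eval a) * G - C (G.eval a) * F, ?_, ?_, ?_⟩
      · rw [← Polynomial.smul_eq_C_mul, ← Polynomial.smul_eq_C_mul]
        exact sub_mem (Submodule.smul_mem _ _ (Submodule.subset_span (by simp))) (Submodule.smul_mem _ _ (Submodule.subset_span (by simp)))
      · intro h
        apply hW
        have hC : C (F.eval a) ≠ 0 := by simpa using hFa
        apply mul_left_cancel₀ hC
        rw [mul_zero]
        have h2 : C (F.eval a) * G = C (G.eval a) * F := sub_eq_zero.mp h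
        have h3 := congrArg derivative h2
        rw [derivative_C_mul, derivative_C_mul] at h3
        simp only [wronskian]
        linear_combination F * h3 - derivative F * h2
      · simp; ring
  obtain ⟨t, ht, ht0, hta⟩ := hex
  obtain ⟨h1, h2⟩ := key t ht ht0 hta
  refine ⟨⟨⟨t, ht, ht0, h1.ge⟩, ?_⟩, h2⟩
  intro q hq hq0
  by_cases hqa : q.eval a = 0
  · exact (key q hq hq0 hqa).1.le
  · rw [rootMultiplicity_eq_zero hqa]; exact Nat.zero_le _

end Groth.Agent.S19560
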