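import Groth.Statements.S19561
import Mathlib

set_option autoImplicit false
universe u
open W4c1limliniiii

namespace Groth.Agent.S19561

open Polynomial in
/-- Let k be an algebraically closed field and F, G polynomials over k with deg G < deg F which span a
base-point-free pencil V of degree deg F (a two-dimensional space of polynomials of degree at most
deg F with no common zero in k), encoding the self-map F/G of the projective line. Then the
ramification index of the map at the point at infinity, namely the largest value of deg F − deg s
over the non-zero members s of V (orders of vanishing at infinity of the corresponding binary forms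
of degree deg F), is deg F − deg G. -/
theorem result
    (k : Type u) [Field k] [IsAlgClosed k] (F G : k[X]) (hlt : G.natDegree < F.natDegree)
    (hV : W4c1limliniiii.IsPencil F.natDegree (Submodule.span k {F, G})) :
    W4c1limliniiii.HasRamIdxInf F.natDegree (Submodule.span k {F, G}) (F.natDegree - G.natDegree) := by
  have hG : G ≠ 0 := by
    rintro rfl
    have h2 := hV.2.1
    have h3 : Submodule.span k ({F, 0} : Set (Polynomial k)) = Submodule.span k {F} := by
      rw [Set.pair_comm, Submodule.span_insert_zero]
    rw [h3] at h2
    have h4 : Module.finrank k (Submodule.span k {F}) ≤ 1 := by
      have := finrank_span_le_card (R := k) ({F} : Set (Polynomial k))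
      simpa using this
    omega
  refine ⟨⟨G, Submodule.subset_span (by simp), hG, by omega⟩, ?_⟩
  intro s hs hs0
  obtain ⟨a, b, rfl⟩ := Submodule.mem_span_pair.mp hs
  by_cases ha : a = 0
  · subst ha
    rw [zero_smul, zero_add] at hs0 ⊢
    have hb : b ≠ 0 := by rintro rfl; simp at hs0
    rw [Polynomial.natDegree_smul _ hb]; omega
  · have h1 : (a • F).natDegree = F.natDegree := Polynomial.natDegree_smul _ ha
    have h2 : (b • G).natDegree ≤ G.natDegree := Polynomial.natDegree_smul_le _ _
    rw [Polynomial.natDegree_add_eq_left_of_natDegree_lt (by omega), h1]
    omega

end Groth.Agent.S19561
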