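import Groth.Statements.S19562
import Mathlib

set_option autoImplicit false
universe u
open W4c1limliniiii

namespace Groth.Agent.S19562

open TensorProduct in
/-- Let k be a field, 0 < r < d, and f_i, g_i (i < n) linear maps forward and backward between
consecutive ones of n + 1 copies of k^d, forming a linked Grassmannian over Spec k whose scalar s is
zero: every composite f_i ∘ g_i and g_i ∘ f_i vanishes, rank f_i + rank g_i ≥ d, and for consecutive
indices im f_i ∩ ker f_{i+1} = 0 and im g_{i+1} ∩ ker g_i = 0. Let (V_i) be a k-valued point of the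
linked Grassmannian of rank-r sub-bundles (subspaces V_i of k ⊗ k^d with quotient of rank d − r,
with f_i(V_i) ⊆ V_{i+1} and g_i(V_{i+1}) ⊆ V_i). Then (V_i) is exact, meaning ker g_i ∩ V_{i+1} ⊆
f_i(V_i) and ker f_i ∩ V_i ⊆ g_i(V_{i+1}) for all i, if and only if dim f_i(V_i) + dim g_i(V_{i+1})
= r for all i. (The published assertion is for points with values in an arbitrary scheme and also
says that f_i(V_i) and g_i(V_{i+1}) are then sub-bundles; this row is the case of a field, where the
last clause is empty.) -/
theorem result (k : Type u) [Field k]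
    (d r n : ℕ) (hr : 0 < r) (hrd : r < d) (f g : Fin n → ((Fin d → k) →ₗ[k] (Fin d → k)))
    (hI : ∀ i, (f i).comp (g i) = 0 ∧ (g i).comp (f i) = 0)
    (hII : ∀ i, d ≤ Module.finrank k (LinearMap.range (f i)) + Module.finrank k (LinearMap.range (g i)))
    (hIII : ∀ i j : Fin n, i.val + 1 = j.val →
      LinearMap.range (f i) ⊓ LinearMap.ker (f j) = ⊥ ∧
        LinearMap.range (g j) ⊓ LinearMap.ker (g i) = ⊥)
    (V : Fin (n + 1) → Module.Grassmannian k (k ⊗[k] (Fin d → k)) (d - r))
    (hV : V ∈ W4c1limliniiii.LGPoints k d r n f g k) :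
    W4c1limliniiii.IsExact k d r n f g k V ↔
      ∀ i : Fin n,
        Module.finrank k ↥(Submodule.map ((f i).baseChange k) (V i.castSucc).toSubmodule) +
          Module.finrank k ↥(Submodule.map ((g i).baseChange k) (V i.succ).toSubmodule) = r := by
  have hrk : ∀ i, Module.finrank k (V i).toSubmodule = r := by
    intro i
    have h1 := (V i).rankAtStalk_eq ⊥
    rw [Module.rankAtStalk_eq_finrank_of_free] at h1
    simp only [Pi.natCast_apply, Nat.cast_id] at h1
    have h2 := Submodule.finrank_quotient_add_finrank (V i).toSubmodule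
    have h3 : Module.finrank k (k ⊗[k] (Fin d → k)) = d := by simp
    have h1' : Module.finrank k ((k ⊗[k] (Fin d → k)) ⧸ (V i).toSubmodule) = d - r := by exact_mod_cast h1
    omega
  have key : ∀ {W : Type u} [AddCommGroup W] [Module k W] [FiniteDimensional k W] (F : W →ₗ[k] W) (U : Submodule k W),
      Module.finrank k (U.map F) + Module.finrank k ↥(LinearMap.ker F ⊓ U) = Module.finrank k U := by
    intro W _ _ _ F U
    have h := LinearMap.finrank_range_add_finrank_ker (F.domRestrict U)
    rw [LinearMap.range_domRestrict] at h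
    have h2 : Module.finrank k (LinearMap.ker (F.domRestrict U)) = Module.finrank k ↥(LinearMap.ker F ⊓ U) := by
      have e1 : LinearMap.ker (F.domRestrict U) = (LinearMap.ker F).comap U.subtype := rfl
      rw [e1]
      have e2 := (Submodule.equivSubtypeMap U ((LinearMap.ker F).comap U.subtype)).finrank_eq
      rw [e2]
      rw [Submodule.map_comap_subtype, inf_comm]
    omega
  have hcomp : ∀ i, (∀ x, (g i).baseChange k ((f i).baseChange k x) = 0) ∧ (∀ x, (f i).baseChange k ((g i).baseChange k x) = 0) := by
    intro i
    constructor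
    · intro x
      rw [← LinearMap.comp_apply, ← LinearMap.baseChange_comp, (hI i).2]; simp
    · intro x
      rw [← LinearMap.comp_apply, ← LinearMap.baseChange_comp, (hI i).1]; simp
  apply forall_congr'
  intro i
  have hFle : Submodule.map ((f i).baseChange k) (V i.castSucc).toSubmodule ≤ LinearMap.ker ((g i).baseChange k) ⊓ (V i.succ).toSubmodule := by
    refine le_inf ?_ (hV i).1
    rintro _ ⟨x, -, rfl⟩
    exact (hcomp i).1 x
  have hGle : Submodule.map ((g i).baseChange k) (V i.succ).toSubmodule ≤ LinearMap.ker ((f i).baseChange k) ⊓ (V i.castSucc).toSubmodule := by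
    refine le_inf ?_ (hV i).2
    rintro _ ⟨x, -, rfl⟩
    exact (hcomp i).2 x
  have k1 := key ((f i).baseChange k) (V i.castSucc).toSubmodule
  have k2 := key ((g i).baseChange k) (V i.succ).toSubmodule
  rw [hrk] at k1 k2
  constructor
  · rintro ⟨h1, h2⟩
    have e1 := le_antisymm hFle h1
    rw [← e1] at k2
    omega
  · intro h
    refine ⟨(Submodule.eq_of_le_of_finrank_eq hFle (by omega)).ge, (Submodule.eq_of_le_of_finrank_eq hGle (by omega)).ge⟩

end Groth.Agent.S19562
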