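import Groth.Statements.S19589
import Mathlib

set_option autoImplicit false
universe u v
open Brauer

namespace Groth.Agent.S19589

open TensorProduct

/-- Let R be a commutative ring and P a finitely generated projective R-module which is faithful. Then
End_R(P) is an Azumaya R-algebra. (The published statement is for a finite locally free sheaf E on a
scheme X and the sheaf of algebras End(E); this row is the case of affine X. Azumaya is taken in the
sense that includes faithfulness over R, which is why P is assumed faithful; the published notion
also admits rank zero.) -/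
theorem result (R : Type u) [CommRing R]
    (P : Type v) [AddCommGroup P] [Module R P] [Module.Finite R P] [Module.Projective R P]
    [FaithfulSMul R P] : IsAzumaya R (Module.End R P) := by
  obtain ⟨n, f, g, hf, hg, hfg⟩ := Module.Finite.exists_comp_eq_id_of_projective R P
  haveI : Module.IsReflexive R P := Module.IsReflexive.of_split g f hfg
  haveI hDp : Module.Projective R (Module.Dual R P) := by
    refine Module.Projective.of_split (f.dualMap) (g.dualMap) ?_
    ext φ x
    simp only [LinearMap.comp_apply, LinearMap.dualMap_apply, LinearMap.id_apply]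
    have := LinearMap.congr_fun hfg x
    simp only [LinearMap.comp_apply, LinearMap.id_apply] at this
    rw [this]
  haveI hDf : Module.Finite R (Module.Dual R P) := by
    apply Module.Finite.of_surjective (g.dualMap)
    intro φ
    refine ⟨f.dualMap φ, ?_⟩
    ext x
    simp only [LinearMap.dualMap_apply]
    have := LinearMap.congr_fun hfg x
    simp only [LinearMap.comp_apply, LinearMap.id_apply] at this
    rw [this]
  let δ := dualTensorHomEquiv R P P
  haveI hEf : Module.Finite R (Module.End R P) := Module.Finite.equiv δ
  haveI hEp : Module.Projective R (Module.End R P) := Module.Projective.of_equiv δ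
  haveI : FaithfulSMul R (Module.End R P) := by
    constructor
    intro r r' h
    apply FaithfulSMul.eq_of_smul_eq_smul (α := P)
    intro p
    have := LinearMap.congr_fun (h 1) p
    simpa using this
  let τ0 : (Module.End R P)ᵐᵒᵖ →ₗ[R] Module.End R (Module.Dual R P) :=
    (Module.Dual.transpose (R := R)) ∘ₗ (MulOpposite.opLinearEquiv R).symm.toLinearMap
  have hτ : Function.Bijective τ0 := by
    constructor
    · intro a b hab
      apply MulOpposite.unop_injective
      ext x
      apply (Module.evalEquiv R P).injective
      ext φ
      have := LinearMap.congr_fun (LinearMap.congr_fun hab φ) x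
      exact this
    · intro h
      refine ⟨MulOpposite.op ((Module.evalEquiv R P).symm.toLinearMap ∘ₗ h.dualMap ∘ₗ (Module.evalEquiv R P).toLinearMap), ?_⟩
      ext φ x
      simp only [τ0, LinearMap.comp_apply, LinearEquiv.coe_coe, MulOpposite.coe_opLinearEquiv_symm, MulOpposite.unop_op, Module.Dual.transpose_apply]
      have : φ ((Module.evalEquiv R P).symm (h.dualMap ((Module.evalEquiv R P) x))) = (Module.evalEquiv R P ((Module.evalEquiv R P).symm (h.dualMap ((Module.evalEquiv R P) x)))) φ := rfl
      rw [this, LinearEquiv.apply_symm_apply]
      rfl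
  let τ := LinearEquiv.ofBijective τ0 hτ
  let E : (Module.End R P) ⊗[R] (Module.End R P)ᵐᵒᵖ ≃ₗ[R] Module.End R (Module.End R P) :=
    TensorProduct.comm R _ _ ≪≫ₗ
    TensorProduct.congr τ (LinearEquiv.refl R _) ≪≫ₗ
    homTensorHomEquiv R (Module.Dual R P) P (Module.Dual R P) P ≪≫ₗ
    δ.conj
  have hE : ∀ z, E z = AlgHom.mulLeftRight R (Module.End R P) z := by
    have : (E : _ →ₗ[R] _) = (AlgHom.mulLeftRight R (Module.End R P)).toLinearMap := by
      apply TensorProduct.ext'
      intro a b
      obtain ⟨b, rfl⟩ := MulOpposite.op_surjective b
      apply LinearMap.ext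
      intro x
      obtain ⟨y, rfl⟩ := δ.surjective x
      induction y with
      | zero => simp only [map_zero]
      | add x1 x2 h1 h2 => rw [map_add, map_add, map_add, h1, h2]
      | tmul φ p =>
        change δ (((homTensorHomEquiv R (Module.Dual R P) P (Module.Dual R P) P) (τ (MulOpposite.op b) ⊗ₜ a)) (δ.symm (δ (φ ⊗ₜ p)))) = AlgHom.mulLeftRight R (Module.End R P) (a ⊗ₜ MulOpposite.op b) (δ (φ ⊗ₜ p))
        rw [AlgHom.mulLeftRight_apply, LinearEquiv.symm_apply_apply, homTensorHomEquiv_apply]
        simp only [TensorProduct.homTensorHomMap_apply, TensorProduct.map_tmul, MulOpposite.unop_op]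
        have hτb : τ (MulOpposite.op b) φ = φ ∘ₗ b := rfl
        rw [hτb]
        have hδ : ∀ (ψ : Module.Dual R P) (q : P), δ (ψ ⊗ₜ q) = dualTensorHom R P P (ψ ⊗ₜ q) := fun ψ q => rfl
        rw [hδ, hδ]
        ext v
        simp [dualTensorHom_apply]
    intro z
    exact LinearMap.congr_fun this z
  exact { bij := by
            have : (AlgHom.mulLeftRight R (Module.End R P) : _ → _) = E := by funext z; exact (hE z).symm
            rw [this]; exact E.bijective }

end Groth.Agent.S19589
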