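import Groth.Statements.S19632
import Mathlib

set_option autoImplicit false
universe u
open DeRham

namespace Groth.Agent.S19632

noncomputable def eulL (k : Type u) [Field k] : LaurentPolynomial k →ₗ[k] LaurentPolynomial k where
  toFun f := AddMonoidAlgebra.ofCoeff (Finsupp.onFinset f.coeff.support (fun n => (n : k) * f.coeff n) (by
    intro n hn; rw [Finsupp.mem_support_iff]; intro h; exact hn (by rw [h, mul_zero])))
  map_add' f g := by
    apply AddMonoidAlgebra.ext
    ext n
    simp [mul_add]
  map_smul' c f := by
    apply AddMonoidAlgebra.ext
    ext n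
    simp
    ring

theorem eulL_coeff (k : Type u) [Field k] (f : LaurentPolynomial k) (n : ℤ) : (eulL k f).coeff n = (n : k) * f.coeff n := rfl

theorem eulL_single (k : Type u) [Field k] (n : ℤ) (a : k) :
    eulL k (LaurentPolynomial.C a * LaurentPolynomial.T n) = (n : k) • (LaurentPolynomial.C a * LaurentPolynomial.T n) := by
  apply AddMonoidAlgebra.ext
  ext m
  rw [eulL_coeff, ← LaurentPolynomial.single_eq_C_mul_T]
  simp only [AddMonoidAlgebra.coeff_smul, Finsupp.smul_apply, AddMonoidAlgebra.coeff_single, smul_eq_mul]
  rw [Finsupp.single_apply]
  split_ifs with h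
  · rw [h]
  · simp

noncomputable def eulD (k : Type u) [Field k] : Derivation k (LaurentPolynomial k) (LaurentPolynomial k) :=
  Derivation.mk' (eulL k) (by
    intro f g
    induction f using LaurentPolynomial.induction_on' with
    | add p q hp hq => simp only [add_mul, map_add, hp, hq, smul_eq_mul, mul_add]; ring
    | C_mul_T m a =>
      induction g using LaurentPolynomial.induction_on' with
      | add p q hp hq => simp only [mul_add, map_add, hp, hq, smul_eq_mul, add_mul]; ring
      | C_mul_T n b =>
        have e : (LaurentPolynomial.C a * LaurentPolynomial.T m) * (LaurentPolynomial.C b * LaurentPolynomial.T n) = LaurentPolynomial.C (a * b) * LaurentPolynomial.T (m + n) := by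
          rw [LaurentPolynomial.T_add, map_mul]; ring
        rw [e, eulL_single, eulL_single, eulL_single, ← e]
        simp only [smul_eq_mul, mul_smul_comm]
        push_cast
        rw [add_smul, add_comm, mul_comm (LaurentPolynomial.C b * LaurentPolynomial.T n)])

/-- Let k be a field of characteristic zero and G_m = Spec k[t, t⁻¹] the multiplicative group. The
kernel of the differential d : k[t, t⁻¹] → Ω¹ of the de Rham complex of G_m consists of the
constants: for a Laurent polynomial f, df = 0 if and only if f lies in the image of k. Equivalently
H^0_dR(G_m/k) = k. (Characteristic zero is used: in characteristic p the element t^p is closed.) -/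
theorem result (k : Type u) [Field k] [CharZero k]
    (f : LaurentPolynomial k) :
    KaehlerDifferential.D k (LaurentPolynomial k) f = 0 ↔ f ∈ Set.range (algebraMap k (LaurentPolynomial k)) := by
  constructor
  · intro h
    have h1 : (eulD k) f = 0 := by
      rw [← (eulD k).liftKaehlerDifferential_comp_D f, h, map_zero]
    have h2 : ∀ n : ℤ, n ≠ 0 → f.coeff n = 0 := by
      intro n hn
      have h3 : (eulL k f).coeff n = 0 := by
        have : eulL k f = 0 := h1
        rw [this]; rfl
      rw [eulL_coeff] at h3
      rcases mul_eq_zero.mp h3 with h | h
      · exact absurd (Int.cast_eq_zero.mp h) hn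
      · exact h
    refine ⟨f.coeff 0, ?_⟩
    apply AddMonoidAlgebra.ext
    ext n
    rw [LaurentPolynomial.algebraMap_apply, LaurentPolynomial.C_apply]
    simp only [Algebra.algebraMap_self, RingHom.id_apply]
    by_cases hn : n = 0
    · rw [hn, if_pos rfl]
    · rw [if_neg hn, h2 n hn]
  · rintro ⟨c, rfl⟩
    exact Derivation.map_algebraMap _ c

end Groth.Agent.S19632
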