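import Groth.Statements.S19634
import Mathlib

set_option autoImplicit false
universe u
open DeRham

namespace Groth.Agent.S19634

section
open MvPolynomial

theorem coeff_eul (k : Type u) [Field k] (i : Fin 2) (p : MvPolynomial (Fin 2) k) (m : Fin 2 →₀ ℕ) :
    coeff m (X i * pderiv i p) = (m i : k) * coeff m p := by
  induction p using MvPolynomial.induction_on' with
  | monomial s a =>
    rw [X_mul_pderiv_monomial]
    rw [coeff_smul, coeff_monomial]
    split_ifs with h
    · rw [h]; simp
    · simp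
  | add p q hp hq => rw [map_add, mul_add, coeff_add, coeff_add, hp, hq]; ring

theorem mem_iff (k : Type u) [Field k] (p : MvPolynomial (Fin 2) k) :
    p ∈ Ideal.span {(X 0 * X 1 : MvPolynomial (Fin 2) k)} ↔ ∀ m ∈ p.support, m 0 ≠ 0 ∧ m 1 ≠ 0 := by
  have e : ({(X 0 * X 1 : MvPolynomial (Fin 2) k)} : Set (MvPolynomial (Fin 2) k)) = (fun s => monomial s (1 : k)) '' {Finsupp.single 0 1 + Finsupp.single 1 1} := by
    rw [Set.image_singleton]
    congr 1
    simp only [X, monomial_mul, mul_one]
  rw [e, mem_ideal_span_monomial_image]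
  apply forall_congr'
  intro m
  apply imp_congr_right
  intro _
  simp only [Set.mem_singleton_iff, exists_eq_left]
  constructor
  · intro h
    have h0 := h 0
    have h1 := h 1
    simp at h0 h1
    omega
  · rintro ⟨h0, h1⟩ i
    fin_cases i <;> simp <;> omega

theorem eulvanish (k : Type u) [Field k] (i : Fin 2) (p : MvPolynomial (Fin 2) k)
    (h : KaehlerDifferential.D k (MvPolynomial (Fin 2) k ⧸ Ideal.span {(X 0 * X 1 : MvPolynomial (Fin 2) k)}) (Ideal.Quotient.mk _ p) = 0) :
    X i * pderiv i p ∈ Ideal.span {(X 0 * X 1 : MvPolynomial (Fin 2) k)} := by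
  let I := Ideal.span {(X 0 * X 1 : MvPolynomial (Fin 2) k)}
  let d : Derivation k (MvPolynomial (Fin 2) k) (MvPolynomial (Fin 2) k) := (X i : MvPolynomial (Fin 2) k) • pderiv i
  have hd : ∀ x, (Ideal.Quotient.mkₐ k I) x = 0 → (Ideal.Quotient.mkₐ k I) (d x) = 0 := by
    intro x hx
    rw [Ideal.Quotient.mkₐ_eq_mk, Ideal.Quotient.eq_zero_iff_mem] at hx ⊢
    change X i * pderiv i x ∈ Ideal.span {(X 0 * X 1 : MvPolynomial (Fin 2) k)}
    rw [mem_iff]
    intro m hm
    rw [mem_support_iff, coeff_eul] at hm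
    have hx' := (mem_iff k x).mp hx
    apply hx' m
    rw [mem_support_iff]
    intro h; exact hm (by rw [h, mul_zero])
  let D' := Derivation.liftOfSurjective (Ideal.Quotient.mkₐ_surjective k I) hd
  have h1 : D' (Ideal.Quotient.mkₐ k I p) = 0 := by
    rw [← D'.liftKaehlerDifferential_comp_D]
    have : KaehlerDifferential.D k (MvPolynomial (Fin 2) k ⧸ I) (Ideal.Quotient.mkₐ k I p) = 0 := h
    rw [this, map_zero]
  rw [Derivation.liftOfSurjective_apply, Ideal.Quotient.mkₐ_eq_mk, Ideal.Quotient.eq_zero_iff_mem] at h1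
  exact h1


end

/-- Let k be a field of characteristic zero and A = k[X, Y]/(XY), the coordinate ring of two affine
lines crossing in a point. In the naive de Rham complex A → Ω¹_{A/k} the kernel of d consists of the
constants: dP = 0 if and only if P is in the image of k. -/
theorem result (k : Type u) [Field k] [CharZero k]
    (P : MvPolynomial (Fin 2) k ⧸ Ideal.span {(MvPolynomial.X 0 * MvPolynomial.X 1 : MvPolynomial (Fin 2) k)}) :
    KaehlerDifferential.D k (MvPolynomial (Fin 2) k ⧸ Ideal.span {(MvPolynomial.X 0 * MvPolynomial.X 1 : MvPolynomial (Fin 2) k)}) P = 0 ↔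
      P ∈ Set.range (algebraMap k (MvPolynomial (Fin 2) k ⧸ Ideal.span {(MvPolynomial.X 0 * MvPolynomial.X 1 : MvPolynomial (Fin 2) k)})) := by
  constructor
  · intro h
    obtain ⟨p, rfl⟩ := Ideal.Quotient.mk_surjective P
    have h0 := (mem_iff k _).mp (eulvanish k 0 p h)
    have h1 := (mem_iff k _).mp (eulvanish k 1 p h)
    refine ⟨MvPolynomial.coeff 0 p, ?_⟩
    have e : algebraMap k (MvPolynomial (Fin 2) k ⧸ Ideal.span {(MvPolynomial.X 0 * MvPolynomial.X 1 : MvPolynomial (Fin 2) k)}) (MvPolynomial.coeff 0 p) = Ideal.Quotient.mk _ (MvPolynomial.C (MvPolynomial.coeff 0 p)) := rfl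
    rw [e, eq_comm, Ideal.Quotient.eq, mem_iff]
    intro m hm
    rw [MvPolynomial.mem_support_iff, MvPolynomial.coeff_sub, MvPolynomial.coeff_C] at hm
    by_cases hm0 : m = 0
    · subst hm0; simp at hm
    rw [if_neg (Ne.symm hm0), sub_zero] at hm
    have a0 : m 0 ≠ 0 → m 1 ≠ 0 := by
      intro h
      refine (h0 m ?_).2
      rw [MvPolynomial.mem_support_iff, coeff_eul]
      exact mul_ne_zero (Nat.cast_ne_zero.mpr h) hm
    have a1 : m 1 ≠ 0 → m 0 ≠ 0 := by
      intro h
      refine (h1 m ?_).1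
      rw [MvPolynomial.mem_support_iff, coeff_eul]
      exact mul_ne_zero (Nat.cast_ne_zero.mpr h) hm
    have : m 0 ≠ 0 ∨ m 1 ≠ 0 := by
      by_contra hcon
      push Not at hcon
      apply hm0
      ext i
      fin_cases i
      · exact hcon.1
      · exact hcon.2
    tauto
  · rintro ⟨c, rfl⟩
    exact Derivation.map_algebraMap _ c

end Groth.Agent.S19634
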