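import Groth.Statements.S19635
import Mathlib

set_option autoImplicit false
universe u
open DeRham

namespace Groth.Agent.S19635

section
open MvPolynomial

theorem ydx_ne (k : Type u) [Field k] :
   (Ideal.Quotient.mk (Ideal.span {(X 0 * X 1 : MvPolynomial (Fin 2) k)}) (X 1)) • KaehlerDifferential.D k (MvPolynomial (Fin 2) k ⧸ Ideal.span {(X 0 * X 1 : MvPolynomial (Fin 2) k)}) (Ideal.Quotient.mk _ (X 0)) ≠ 0 := by
  let I := Ideal.span {(X 0 * X 1 : MvPolynomial (Fin 2) k)}
  let S := DualNumber k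
  let δ : S := DualNumber.eps
  let xx : DualNumber S := TrivSqZeroExt.inl (-δ) + TrivSqZeroExt.inr (1 : S)
  let yy : DualNumber S := TrivSqZeroExt.inl δ + TrivSqZeroExt.inr (1 : S)
  have hδ : δ * δ = 0 := DualNumber.eps_mul_eps
  have hxy : xx * yy = 0 := by
    have h5 : -δ * δ = 0 := by rw [neg_mul, hδ, neg_zero]
    apply TrivSqZeroExt.ext
    · simp only [xx, yy, TrivSqZeroExt.fst_mul, TrivSqZeroExt.fst_add, TrivSqZeroExt.fst_inl, TrivSqZeroExt.fst_inr, add_zero, TrivSqZeroExt.fst_zero]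
      exact h5
    · simp [xx, yy]
      exact neg_add_cancel δ
  let Ψ : (MvPolynomial (Fin 2) k ⧸ I) →ₐ[k] DualNumber S := Ideal.Quotient.liftₐ I (aeval ![xx, yy]) (by
    intro a ha
    obtain ⟨c, rfl⟩ := Ideal.mem_span_singleton'.mp ha
    rw [map_mul, map_mul, aeval_X, aeval_X]
    change _ * (xx * yy) = 0
    rw [hxy, mul_zero])
  let φ : (MvPolynomial (Fin 2) k ⧸ I) →ₐ[k] S := (TrivSqZeroExt.fstHom k S S).comp Ψ
  letI : Algebra (MvPolynomial (Fin 2) k ⧸ I) S := φ.toRingHom.toAlgebra
  haveI : IsScalarTower k (MvPolynomial (Fin 2) k ⧸ I) S := IsScalarTower.of_algebraMap_eq (fun r => (φ.commutes r).symm)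
  let L : (MvPolynomial (Fin 2) k ⧸ I) →ₗ[k] S :=
    { toFun := fun a => (Ψ a).snd
      map_add' := by intro a b; simp
      map_smul' := by intro a b; simp }
  let d : Derivation k (MvPolynomial (Fin 2) k ⧸ I) S := Derivation.mk' L (by
    intro a b
    change (Ψ (a * b)).snd = φ a * (Ψ b).snd + φ b * (Ψ a).snd
    rw [map_mul, TrivSqZeroExt.snd_mul, mul_comm (φ b)]
    rfl)
  intro h
  have h1 := congrArg d.liftKaehlerDifferential h
  rw [map_smul, map_zero, Derivation.liftKaehlerDifferential_comp_D] at h1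
  have e1 : Ψ (Ideal.Quotient.mk I (X 0)) = xx := by
    change aeval ![xx, yy] (X 0) = xx
    rw [aeval_X]; rfl
  have e2 : Ψ (Ideal.Quotient.mk I (X 1)) = yy := by
    change aeval ![xx, yy] (X 1) = yy
    rw [aeval_X]; rfl
  have h2 : (Ψ (Ideal.Quotient.mk I (X 1))).fst * (Ψ (Ideal.Quotient.mk I (X 0))).snd = 0 := h1
  rw [e1, e2] at h2
  have h3 : δ = 0 := by simpa [xx, yy] using h2
  have h4 := congrArg TrivSqZeroExt.snd h3
  simp [δ] at h4

theorem coeff_eul (k : Type u) [Field k] (i : Fin 2) (p : MvPolynomial (Fin 2) k) (m : Fin 2 →₀ ℕ) :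
    coeff m (X i * pderiv i p) = (m i : k) * coeff m p := by
  induction p using MvPolynomial.induction_on' with
  | monomial s a =>
    rw [X_mul_pderiv_monomial]
    rw [coeff_smul, coeff_monomial]
    split_ifs with h
    · rw [h]; simp
    · simp
  | add p q hp hq => rw [map_add, mul_add, coeff_add, coeff_add, hp, hq]; ring

theorem mem_iff (k : Type u) [Field k] (p : MvPolynomial (Fin 2) k) :
    p ∈ Ideal.span {(X 0 * X 1 : MvPolynomial (Fin 2) k)} ↔ ∀ m ∈ p.support, m 0 ≠ 0 ∧ m 1 ≠ 0 := by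
  have e : ({(X 0 * X 1 : MvPolynomial (Fin 2) k)} : Set (MvPolynomial (Fin 2) k)) = (fun s => monomial s (1 : k)) '' {Finsupp.single 0 1 + Finsupp.single 1 1} := by
    rw [Set.image_singleton]
    congr 1
    simp only [X, monomial_mul, mul_one]
  rw [e, mem_ideal_span_monomial_image]
  apply forall_congr'
  intro m
  apply imp_congr_right
  intro _
  simp only [Set.mem_singleton_iff, exists_eq_left]
  constructor
  · intro h
    have h0 := h 0
    have h1 := h 1
    simp at h0 h1
    omega
  · rintro ⟨h0, h1⟩ i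
    fin_cases i <;> simp <;> omega

theorem eulD (k : Type u) [Field k] (i : Fin 2) : ∃ D' : Derivation k (MvPolynomial (Fin 2) k ⧸ Ideal.span {(X 0 * X 1 : MvPolynomial (Fin 2) k)}) (MvPolynomial (Fin 2) k ⧸ Ideal.span {(X 0 * X 1 : MvPolynomial (Fin 2) k)}), ∀ p, D' (Ideal.Quotient.mk _ p) = Ideal.Quotient.mk _ (X i * pderiv i p) := by
  let I := Ideal.span {(X 0 * X 1 : MvPolynomial (Fin 2) k)}
  let d : Derivation k (MvPolynomial (Fin 2) k) (MvPolynomial (Fin 2) k) := (X i : MvPolynomial (Fin 2) k) • pderiv i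
  have hd : ∀ x, (Ideal.Quotient.mkₐ k I) x = 0 → (Ideal.Quotient.mkₐ k I) (d x) = 0 := by
    intro x hx
    rw [Ideal.Quotient.mkₐ_eq_mk, Ideal.Quotient.eq_zero_iff_mem] at hx ⊢
    change X i * pderiv i x ∈ Ideal.span {(X 0 * X 1 : MvPolynomial (Fin 2) k)}
    rw [mem_iff]
    intro m hm
    rw [mem_support_iff, coeff_eul] at hm
    have hx' := (mem_iff k x).mp hx
    apply hx' m
    rw [mem_support_iff]
    intro h; exact hm (by rw [h, mul_zero])
  refine ⟨Derivation.liftOfSurjective (Ideal.Quotient.mkₐ_surjective k I) hd, fun p => ?_⟩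
  exact Derivation.liftOfSurjective_apply (Ideal.Quotient.mkₐ_surjective k I) hd p

theorem t19635 (k : Type u) [Field k] [CharZero k] :
    ¬ Function.Surjective (KaehlerDifferential.D k (MvPolynomial (Fin 2) k ⧸ Ideal.span {(MvPolynomial.X 0 * MvPolynomial.X 1 : MvPolynomial (Fin 2) k)})) := by
  intro hs
  obtain ⟨P, hP⟩ := hs ((Ideal.Quotient.mk (Ideal.span {(X 0 * X 1 : MvPolynomial (Fin 2) k)}) (X 1)) • KaehlerDifferential.D k (MvPolynomial (Fin 2) k ⧸ Ideal.span {(X 0 * X 1 : MvPolynomial (Fin 2) k)}) (Ideal.Quotient.mk _ (X 0)))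
  obtain ⟨p, rfl⟩ := Ideal.Quotient.mk_surjective P
  have hz : ∀ i, X i * pderiv i p ∈ Ideal.span {(X 0 * X 1 : MvPolynomial (Fin 2) k)} := by
    intro i
    obtain ⟨D', hD'⟩ := eulD k i
    have h1 := congrArg D'.liftKaehlerDifferential hP
    rw [map_smul, Derivation.liftKaehlerDifferential_comp_D, Derivation.liftKaehlerDifferential_comp_D, hD', hD'] at h1
    rw [← Ideal.Quotient.eq_zero_iff_mem, h1, smul_eq_mul, ← map_mul, Ideal.Quotient.eq_zero_iff_mem, Ideal.mem_span_singleton]
    fin_cases i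
    · refine ⟨1, ?_⟩
      simp; ring
    · simp
  have h0 := (mem_iff k _).mp (hz 0)
  have h1 := (mem_iff k _).mp (hz 1)
  have e : (Ideal.Quotient.mk (Ideal.span {(X 0 * X 1 : MvPolynomial (Fin 2) k)}) p) = algebraMap k _ (coeff 0 p) := by
    have e : algebraMap k (MvPolynomial (Fin 2) k ⧸ Ideal.span {(X 0 * X 1 : MvPolynomial (Fin 2) k)}) (coeff 0 p) = Ideal.Quotient.mk _ (C (coeff 0 p)) := rfl
    rw [e, Ideal.Quotient.eq, mem_iff]
    intro m hm
    rw [mem_support_iff, coeff_sub, coeff_C] at hm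
    by_cases hm0 : m = 0
    · subst hm0; simp at hm
    rw [if_neg (Ne.symm hm0), sub_zero] at hm
    have a0 : m 0 ≠ 0 → m 1 ≠ 0 := by
      intro h
      refine (h0 m ?_).2
      rw [mem_support_iff, coeff_eul]
      exact mul_ne_zero (Nat.cast_ne_zero.mpr h) hm
    have a1 : m 1 ≠ 0 → m 0 ≠ 0 := by
      intro h
      refine (h1 m ?_).1
      rw [mem_support_iff, coeff_eul]
      exact mul_ne_zero (Nat.cast_ne_zero.mpr h) hm
    have : m 0 ≠ 0 ∨ m 1 ≠ 0 := by
      by_contra hcon
      push Not at hcon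
      apply hm0
      ext i
      fin_cases i
      · exact hcon.1
      · exact hcon.2
    tauto
  rw [e, Derivation.map_algebraMap] at hP
  exact ydx_ne k hP.symm

end

/-- Let k be a field of characteristic zero and A = k[X, Y]/(XY), the coordinate ring of two affine
lines crossing in a point. The differential d : A → Ω¹_{A/k} is not surjective (for instance Y dX is
not of the form da), so already the two-term complex A → Ω¹_{A/k} has non-zero cohomology in degree
one, although one expects a union of two lines meeting in a point to have trivial cohomology; this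
is the example motivating the h-topology definition. -/
theorem result (k : Type u) [Field k] [CharZero k] :
    ¬ Function.Surjective (KaehlerDifferential.D k (MvPolynomial (Fin 2) k ⧸ Ideal.span {(MvPolynomial.X 0 * MvPolynomial.X 1 : MvPolynomial (Fin 2) k)})) := by
  exact t19635 k

end Groth.Agent.S19635
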