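import Groth.Statements.S19799
import Mathlib

set_option autoImplicit false
universe u v w
open scoped TensorProduct
open CAlg

namespace Groth.Agent.S19799

theorem exists_char (k : Type u) [Field k] [IsAlgClosed k] (A : Type v) [CommRing A] [Algebra k A] [Module.Finite k A]
    (a : A) (ha : ¬ IsNilpotent a) : ∃ φ : A →ₐ[k] k, φ a ≠ 0 := by
  have : ∃ p : Ideal A, p.IsPrime ∧ a ∉ p := by
    by_contra hcon
    push Not at hcon
    apply ha
    rw [← mem_nilradical, nilradical_eq_sInf, Submodule.mem_sInf]
    intro p hp
    exact hcon p hp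
  obtain ⟨p, hp, hap⟩ := this
  have hbij := IsAlgClosed.algebraMap_bijective_of_isIntegral (k := k) (K := A ⧸ p)
  let e : k ≃ₐ[k] (A ⧸ p) := AlgEquiv.ofBijective (Algebra.ofId k (A ⧸ p)) hbij
  refine ⟨e.symm.toAlgHom.comp (Ideal.Quotient.mkₐ k p), fun h => hap ?_⟩
  rw [← Ideal.Quotient.eq_zero_iff_mem]
  exact e.symm.map_eq_zero_iff.mp h

theorem tensor_red (k : Type u) [Field k] [IsAlgClosed k] (A : Type v) [CommRing A] [Algebra k A] [Module.Finite k A]
    (B : Type w) [CommRing B] [Algebra k B] [Module.Finite k B] [IsReduced A] [IsReduced B]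
    (z : A ⊗[k] B) (hz : IsNilpotent z) : z = 0 := by
  let b := Module.finBasis k B
  let bb := Algebra.TensorProduct.basis A b
  have hzz : z = ∑ j, bb.repr z j ⊗ₜ[k] b j := by
    conv_lhs => rw [← bb.sum_repr z]
    apply Finset.sum_congr rfl
    intro j _
    rw [Algebra.TensorProduct.basis_apply, TensorProduct.smul_tmul', smul_eq_mul, mul_one]
  have h0 : ∀ j, bb.repr z j = 0 := by
    intro j
    by_contra hne
    obtain ⟨φ, hφ⟩ := exists_char k A (bb.repr z j) (fun h => hne h.eq_zero)
    have h1 : ∑ j, φ (bb.repr z j) • b j = 0 := by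
      by_contra hne2
      obtain ⟨ψ, hψ⟩ := exists_char k B _ (fun h => hne2 h.eq_zero)
      apply hψ
      have h2 : IsNilpotent (Algebra.TensorProduct.lift φ ψ (fun _ _ => Commute.all _ _) z) := hz.map _
      have h3 := h2.eq_zero
      rw [hzz, map_sum] at h3
      rw [map_sum, ← h3]
      apply Finset.sum_congr rfl
      intro j _
      rw [Algebra.TensorProduct.lift_tmul, map_smul, smul_eq_mul]
    have h2 := (Fintype.linearIndependent_iff.mp b.linearIndependent) _ h1 j
    exact hφ h2
  rw [hzz]
  apply Finset.sum_eq_zero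
  intro j _
  rw [h0 j, TensorProduct.zero_tmul]

/-- Let k be an algebraically closed field and A, B commutative k-algebras, each finite-dimensional as a
k-vector space. Then reduction commutes with tensor products: the kernel of the canonical surjection
A ⊗_k B ⟶ (A/nilradical A) ⊗_k (B/nilradical B) equals the nilradical of A ⊗_k B, so that this
surjection induces an isomorphism (A ⊗_k B)_red ≅ A_red ⊗_k B_red and in particular A_red ⊗_k B_red
is reduced. -/
theorem result (k : Type u) [Field k]
    [IsAlgClosed k] (A : Type v) [CommRing A] [Algebra k A] [Module.Finite k A]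
    (B : Type w) [CommRing B] [Algebra k B] [Module.Finite k B] :
    RingHom.ker (Algebra.TensorProduct.map (Ideal.Quotient.mkₐ k (nilradical A))
      (Ideal.Quotient.mkₐ k (nilradical B))).toRingHom = nilradical (A ⊗[k] B) := by
  apply le_antisymm
  · have := Algebra.TensorProduct.map_ker (f := Ideal.Quotient.mkₐ k (nilradical A)) (g := Ideal.Quotient.mkₐ k (nilradical B)) (Ideal.Quotient.mkₐ_surjective k _) (Ideal.Quotient.mkₐ_surjective k _)
    refine le_trans (le_of_eq this) ?_
    refine sup_le ?_ ?_
    · rw [Ideal.map_le_iff_le_comap]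
      intro x hx
      have hx' : x ∈ nilradical A := by
        rw [← Ideal.Quotient.mkₐ_ker k (nilradical A)]; exact hx
      rw [Ideal.mem_comap]
      exact (mem_nilradical.mpr ((mem_nilradical.mp hx').map _))
    · rw [Ideal.map_le_iff_le_comap]
      intro x hx
      have hx' : x ∈ nilradical B := by
        rw [← Ideal.Quotient.mkₐ_ker k (nilradical B)]; exact hx
      rw [Ideal.mem_comap]
      exact (mem_nilradical.mpr ((mem_nilradical.mp hx').map _))
  · intro z hz
    rw [RingHom.mem_ker]
    haveI : IsReduced (A ⧸ nilradical A) := (Ideal.isRadical_iff_quotient_reduced _).mp (Ideal.radical_isRadical _)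
    haveI : IsReduced (B ⧸ nilradical B) := (Ideal.isRadical_iff_quotient_reduced _).mp (Ideal.radical_isRadical _)
    apply tensor_red k
    exact (mem_nilradical.mp hz).map _

end Groth.Agent.S19799
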