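import Groth.Statements.S19804
import Mathlib

set_option autoImplicit false
open scoped TensorProduct
universe u v w
open Brauer

namespace Groth.Agent.S19804

theorem aux19804 {R : Type u} [CommRing R]
    [ConnectedSpace (PrimeSpectrum R)] {A : Type v} [Ring A] [Algebra R A] [IsAzumaya R A]
    (e : A) (he : IsIdempotentElem e) (R' : Type w) [CommRing R'] [Nontrivial R'] [Algebra R R']
    (h : (1 : R') ⊗ₜ[R] e = (0 : R' ⊗[R] A)) : e = 0 := by
  let P := LinearMap.range (LinearMap.mulLeft R e)
  let π : A →ₗ[R] P := LinearMap.rangeRestrict (LinearMap.mulLeft R e)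
  have hπ : π ∘ₗ P.subtype = LinearMap.id := by
    ext ⟨x, a, ha⟩
    change e * x = x
    rw [← ha]
    change e * (e * a) = e * a
    rw [← mul_assoc, he.eq]
  haveI : Module.Projective R P := Module.Projective.of_split P.subtype π hπ
  haveI : Module.Finite R P := Module.Finite.range _
  have hsub : Subsingleton (R' ⊗[R] P) := by
    rw [subsingleton_iff_forall_eq 0]
    intro x
    have h1 : (π.lTensor R') ((P.subtype.lTensor R') x) = x := by
      rw [← LinearMap.comp_apply, ← LinearMap.lTensor_comp, hπ, LinearMap.lTensor_id]; rfl
    have h2 : (P.subtype.lTensor R') x = 0 := by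
      induction x with
      | zero => simp
      | add x y hx hy => 
        rw [map_add, hx, hy, add_zero]
        · rw [← LinearMap.comp_apply, ← LinearMap.lTensor_comp, hπ, LinearMap.lTensor_id]; rfl
        · rw [← LinearMap.comp_apply, ← LinearMap.lTensor_comp, hπ, LinearMap.lTensor_id]; rfl
      | tmul r y =>
        obtain ⟨y, a, rfl⟩ := y
        rw [LinearMap.lTensor_tmul]
        change r ⊗ₜ[R] (e * a) = 0
        have := congrArg (fun z => z * (r ⊗ₜ[R] a)) h
        simpa using this
    rw [← h1, h2, map_zero]
  obtain ⟨q⟩ : Nonempty (PrimeSpectrum R') := inferInstance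
  have hz : Module.rankAtStalk (R := R) P (PrimeSpectrum.comap (algebraMap R R') q) = 0 := by
    rw [← Module.rankAtStalk_baseChange]
    have := Module.rankAtStalk_eq_zero_of_subsingleton (R := R') (M := R' ⊗[R] P)
    exact congrFun this q
  haveI : Module.FinitePresentation R P := Module.finitePresentation_of_projective R P
  haveI : Module.Flat R P := inferInstance
  have hconst : ∀ p, Module.rankAtStalk (R := R) P p = 0 := by
    intro p
    have h5 := (Module.isLocallyConstant_rankAtStalk (R := R) (M := P)).apply_eq_of_isPreconnected isPreconnected_univ (Set.mem_univ p) (Set.mem_univ (PrimeSpectrum.comap (algebraMap R R') q))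
    rw [h5]
    exact hz
  have hPsub : Subsingleton P := by
    apply (Module.rankAtStalk_eq_zero_iff_subsingleton (R := R) (M := P)).mp
    ext p; exact hconst p
  have : (⟨e, ⟨1, by simp⟩⟩ : P) = 0 := Subsingleton.elim _ _
  exact congrArg Subtype.val this

/-- Let R be a commutative ring with Spec R connected, A an Azumaya R-algebra and e an idempotent
element of A. If for some nonzero commutative R-algebra R' the element 1 ⊗ e of R' ⊗_R A is 0, then
e = 0; and if 1 ⊗ e = 1 in R' ⊗_R A, then e = 1. (The published statement is for an Azumaya algebra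
over a connected scheme S and base change to an arbitrary nonempty S-scheme T; this row takes S and
T affine.) -/
theorem result {R : Type u} [CommRing R]
    [ConnectedSpace (PrimeSpectrum R)] {A : Type v} [Ring A] [Algebra R A] [IsAzumaya R A]
    (e : A) (he : IsIdempotentElem e) (R' : Type w) [CommRing R'] [Nontrivial R'] [Algebra R R'] :
    ((1 : R') ⊗ₜ[R] e = (0 : R' ⊗[R] A) → e = 0) ∧ ((1 : R') ⊗ₜ[R] e = (1 : R' ⊗[R] A) → e = 1) := by
  refine ⟨aux19804 (R := R) e he R', fun h => ?_⟩
  have := aux19804 (R := R) (1 - e) he.one_sub R' (by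
    rw [TensorProduct.tmul_sub, h, Algebra.TensorProduct.one_def, sub_self])
  exact (sub_eq_zero.mp this).symm

end Groth.Agent.S19804
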