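import Groth.Statements.S2978


set_option autoImplicit false
universe u
open SGA3b

namespace Groth.Agent.S2978

/-- Let A be a Noetherian ring, M a set and a : M × M → A a family vanishing off the diagonal which is a
finite sum of decomposable families: a(m, m') = Σ_i b_i(m) c_i(m') for finitely many b_i, c_i : M →
A. Then a has finite support. -/
theorem result (A : Type u) [CommRing A] [IsNoetherianRing A] (M : Type u)
    (a : M × M → A) (hdiag : ∀ m m', m ≠ m' → a (m, m') = 0)
    (ι : Type u) [Fintype ι] (b c : ι → M → A) (hdec : ∀ m m', a (m, m') = ∑ i, b i m * c i m') :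
    Set.Finite {p : M × M | a p ≠ 0} := by
  classical
  let v : M → (ι → A) := fun m i => b i m
  obtain ⟨s', hs', hspan⟩ := (Submodule.fg_span_iff_fg_span_finset_subset (R := A) (Set.range v)).mp
    (IsNoetherian.noetherian _)
  have hex : ∃ T : Finset M, T.image v = s' := by
    rw [← Set.image_univ] at hs'
    obtain ⟨T, -, hT⟩ := Finset.subset_set_image_iff.mp hs'
    exact ⟨T, hT⟩
  obtain ⟨T, rfl⟩ := hex
  refine (T.finite_toSet.image (fun m => (m, m))).subset ?_
  rintro ⟨m, m'⟩ hp
  have hmm : m = m' := by
    by_contra h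
    exact hp (hdiag m m' h)
  subst hmm
  refine ⟨m, ?_, rfl⟩
  by_contra hmT
  refine hp ?_
  let Lm : (ι → A) →ₗ[A] A :=
    { toFun := fun u => ∑ i, u i * c i m
      map_add' := fun u w => by simp [add_mul, Finset.sum_add_distrib]
      map_smul' := fun r u => by simp [mul_assoc, Finset.mul_sum] }
  have hL : ∀ u, Lm u = ∑ i, u i * c i m := fun _ => rfl
  have hle : Submodule.span A (Set.range v) ≤ LinearMap.ker Lm := by
    rw [hspan, Submodule.span_le]
    intro u hu
    rw [Finset.mem_coe, Finset.mem_image] at hu
    obtain ⟨m', hm', rfl⟩ := hu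
    change Lm (v m') = 0
    rw [hL]
    have hne : m' ≠ m := fun h => hmT (h ▸ hm')
    rw [← hdiag m' m hne, hdec]
  have := hle (Submodule.subset_span ⟨m, rfl⟩)
  rw [LinearMap.mem_ker, hL] at this
  rw [hdec]
  exact this

end Groth.Agent.S2978
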