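import Groth.Statements.S3093


set_option autoImplicit false
universe u
open CohTop

namespace Groth.Agent.S3093

/-- Let X be a topological space and K ⊆ X a compact subset such that any two distinct points of K have
disjoint open neighbourhoods in X. If A and B are subsets of K that are closed in K and W is an open
subset of X containing A ∩ B, then there are open subsets U ⊇ A and V ⊇ B of X with U ∩ V ⊆ W. -/
theorem result {X : Type u} [TopologicalSpace X] {K : Set X} (hK : IsCompact K)
    (hsep : ∀ x ∈ K, ∀ y ∈ K, x ≠ y → ∃ U V : Set X, IsOpen U ∧ IsOpen V ∧ x ∈ U ∧ y ∈ V ∧ Disjoint U V)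
    {A B W : Set X} (hA : A ⊆ K) (hB : B ⊆ K) (hAc : IsClosed (Subtype.val ⁻¹' A : Set K))
    (hBc : IsClosed (Subtype.val ⁻¹' B : Set K)) (hW : IsOpen W) (hABW : A ∩ B ⊆ W) :
    ∃ U V : Set X, IsOpen U ∧ IsOpen V ∧ A ⊆ U ∧ B ⊆ V ∧ U ∩ V ⊆ W := by
  have hAK : IsCompact A := by
    have h1 : IsCompact (Subtype.val ⁻¹' A : Set K) := by
      have := isCompact_iff_compactSpace.mp hK
      exact hAc.isCompact
    have h2 := h1.image continuous_subtype_val
    rwa [Subtype.image_preimage_coe, Set.inter_eq_right.mpr hA] at h2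
  have hBK : IsCompact B := by
    have h1 : IsCompact (Subtype.val ⁻¹' B : Set K) := by
      have := isCompact_iff_compactSpace.mp hK
      exact hBc.isCompact
    have h2 := h1.image continuous_subtype_val
    rwa [Subtype.image_preimage_coe, Set.inter_eq_right.mpr hB] at h2
  have hA' : IsCompact (A \ W) := hAK.diff hW
  obtain ⟨U, V, hU, hV, hAU, hBV, hUV⟩ := generalized_tube_lemma hA' hBK
    (n := interior ((Set.diagonal X)ᶜ)) isOpen_interior (by
      rintro ⟨x, y⟩ ⟨hx, hy⟩
      obtain ⟨U, V, hU, hV, hxU, hyV, hUV⟩ := hsep x (hA hx.1) y (hB hy) (by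
        rintro rfl
        exact hx.2 (hABW ⟨hx.1, hy⟩))
      rw [mem_interior]
      refine ⟨U ×ˢ V, ?_, hU.prod hV, ⟨hxU, hyV⟩⟩
      rintro ⟨p, q⟩ ⟨hp, hq⟩ hpq
      have : p = q := hpq
      subst this
      exact Set.disjoint_left.mp hUV hp hq)
  refine ⟨U ∪ W, V, hU.union hW, hV, ?_, hBV, ?_⟩
  · intro x hx
    by_cases hxW : x ∈ W
    · exact Or.inr hxW
    · exact Or.inl (hAU ⟨hx, hxW⟩)
  · rintro x ⟨hx | hx, hxV⟩
    · exfalso
      have := interior_subset (hUV (Set.mk_mem_prod hx hxV))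
      exact this rfl
    · exact hx

end Groth.Agent.S3093
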