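import Groth.Statements.S3287


set_option autoImplicit false
universe u
open Finset
open LambdaRing

namespace Groth.Agent.S3287

/-- For a line element u (positive of augmentation one) of a λ-ring with positive structure, ψ^j(u) =
u^j for every j. -/
theorem result (K : Type u) [CommRing K] [LambdaRing.LambdaOps K] (P : LambdaRing.PosStructure K) (u : K) (hu : P.IsLine u) (j : ℕ) :
    LambdaRing.adams P j u = u ^ j := by
  have hlam : ∀ i : ℕ, 1 < i → LambdaRing.LambdaOps.lam i u = 0 := fun i hi =>
    P.lam_eq_zero u hu.1 i (by rw [hu.2]; exact_mod_cast hi)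
  set D := PowerSeries.rescale (-1 : K) (LambdaRing.lamSeries u) with hD
  have hD' : D = 1 - PowerSeries.C u * PowerSeries.X := by
    ext n
    rw [hD, PowerSeries.coeff_rescale, LambdaRing.lamSeries, PowerSeries.coeff_mk, map_sub,
      PowerSeries.coeff_one]
    rcases n with _ | _ | n
    · simp [LambdaRing.LambdaOps.lam_zero]
    · rw [PowerSeries.coeff_succ_mul_X]
      simp [LambdaRing.LambdaOps.lam_one]
    · rw [hlam _ (by omega), PowerSeries.coeff_succ_mul_X, PowerSeries.coeff_C]
      simp
  have hder : PowerSeries.derivative K D = - PowerSeries.C u := by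
    rw [hD']
    ext n
    rw [PowerSeries.coeff_derivative, map_sub, PowerSeries.coeff_one,
      PowerSeries.coeff_succ_mul_X, map_neg, PowerSeries.coeff_C]
    rcases n with _ | n
    · simp
    · simp
  have hinv : D * PowerSeries.invOfUnit D 1 = 1 := by
    refine PowerSeries.mul_invOfUnit D 1 ?_
    rw [hD']; simp
  have hG : PowerSeries.mk (fun j => u ^ j) * D = 1 := by
    rw [hD', mul_sub, mul_one, ← mul_assoc]
    ext n
    rw [map_sub, PowerSeries.coeff_mk, PowerSeries.coeff_one]
    rcases n with _ | n
    · simp
    · rw [PowerSeries.coeff_succ_mul_X, PowerSeries.coeff_mul_C, PowerSeries.coeff_mk]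
      simp [pow_succ]
  have hA : LambdaRing.adamsSeries P u = PowerSeries.mk (fun j => u ^ j) := by
    have h1 : LambdaRing.adamsSeries P u = 1 + PowerSeries.X * PowerSeries.C u *
        PowerSeries.invOfUnit D 1 := by
      rw [LambdaRing.adamsSeries, ← hD, hder, hu.2]
      simp only [Int.cast_one, map_one]
      ring
    have h2 : PowerSeries.invOfUnit D 1 = PowerSeries.mk (fun j => u ^ j) := by
      calc PowerSeries.invOfUnit D 1
          = (PowerSeries.mk (fun j => u ^ j) * D) * PowerSeries.invOfUnit D 1 := by
            rw [hG, one_mul]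
        _ = PowerSeries.mk (fun j => u ^ j) * (D * PowerSeries.invOfUnit D 1) := by ring
        _ = _ := by rw [hinv, mul_one]
    rw [h1, h2]
    have h3 : PowerSeries.X * PowerSeries.C u = 1 - D := by rw [hD']; ring
    rw [h3]
    linear_combination (-1 : PowerSeries K) * hG
  rw [LambdaRing.adams, hA, PowerSeries.coeff_mk]

end Groth.Agent.S3287
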