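import Groth.Statements.S3291


set_option autoImplicit false
universe u
open Finset
open LambdaRing

namespace Groth.Agent.S3291

/-- The γ-filtration F^n K of a λ-ring with positive structure (F^0 = K, F^n for n ≥ 1 generated
additively by products γ^(r₁)(x₁)⋯γ^(r_k)(x_k) with ε(x_i) = 0 and Σ r_i ≥ n) consists of ideals,
and F^m · F^n ⊆ F^(m+n). -/
theorem result (K : Type u) [CommRing K] [LambdaRing.LambdaOps K] (P : LambdaRing.PosStructure K) :
    (∀ (n : ℕ) (a x : K), x ∈ LambdaRing.gammaFiltration P n → a * x ∈ LambdaRing.gammaFiltration P n) ∧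
    ∀ (m n : ℕ) (x y : K), x ∈ LambdaRing.gammaFiltration P m → y ∈ LambdaRing.gammaFiltration P n →
      x * y ∈ LambdaRing.gammaFiltration P (m + n) := by
  have g1 : ∀ x : K, LambdaRing.gamma 1 x = x := by
    intro x
    simp [LambdaRing.gamma, Finset.sum_range_succ, LambdaRing.LambdaOps.lam_one]
  have hmul : ∀ (n : ℕ) (a x : K), x ∈ LambdaRing.gammaFiltration P n →
      a * x ∈ LambdaRing.gammaFiltration P n := by
    intro n a x hx
    by_cases hn : n = 0
    · rw [LambdaRing.gammaFiltration, if_pos hn]
      trivial
    · rw [LambdaRing.gammaFiltration, if_neg hn] at hx ⊢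
      induction hx using AddSubgroup.closure_induction with
      | mem y hy =>
        obtain ⟨l, hl, hle, rfl⟩ := hy
        have h1 : (l.map fun p => LambdaRing.gamma p.1 p.2).prod ∈
            AddSubgroup.closure {y | ∃ (l : List (ℕ × K)), (∀ p ∈ l, P.aug p.2 = 0) ∧
              n ≤ (l.map Prod.fst).sum ∧ y = (l.map fun p => LambdaRing.gamma p.1 p.2).prod} :=
          AddSubgroup.subset_closure ⟨l, hl, hle, rfl⟩
        have h2 : (((1, a - (P.aug a : K)) :: l).map fun p => LambdaRing.gamma p.1 p.2).prod ∈
            AddSubgroup.closure {y | ∃ (l : List (ℕ × K)), (∀ p ∈ l, P.aug p.2 = 0) ∧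
              n ≤ (l.map Prod.fst).sum ∧ y = (l.map fun p => LambdaRing.gamma p.1 p.2).prod} := by
          refine AddSubgroup.subset_closure ⟨(1, a - (P.aug a : K)) :: l, ?_, ?_, rfl⟩
          · intro p hp
            rcases List.mem_cons.mp hp with rfl | hp
            · simp
            · exact hl p hp
          · rw [List.map_cons, List.sum_cons]
            exact le_add_left hle
        have h3 : a * (l.map fun p => LambdaRing.gamma p.1 p.2).prod =
            (P.aug a) • (l.map fun p => LambdaRing.gamma p.1 p.2).prod +
              (((1, a - (P.aug a : K)) :: l).map fun p => LambdaRing.gamma p.1 p.2).prod := by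
          rw [List.map_cons, List.prod_cons, g1, zsmul_eq_mul]
          ring
        rw [h3]
        exact add_mem (zsmul_mem h1 _) h2
      | zero => rw [mul_zero]; exact zero_mem _
      | add y z _ _ hy hz => rw [mul_add]; exact add_mem hy hz
      | neg y _ hy => rw [mul_neg]; exact neg_mem hy
  refine ⟨hmul, ?_⟩
  intro m n x y hx hy
  by_cases hm : m = 0
  · subst hm
    rw [zero_add]
    exact hmul n x y hy
  by_cases hn : n = 0
  · subst hn
    rw [add_zero, mul_comm]
    exact hmul m y x hx
  have hmn : m + n ≠ 0 := by omega
  rw [LambdaRing.gammaFiltration, if_neg hm] at hx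
  rw [LambdaRing.gammaFiltration, if_neg hn] at hy
  rw [LambdaRing.gammaFiltration, if_neg hmn]
  induction hx using AddSubgroup.closure_induction with
  | mem u hu =>
    obtain ⟨l, hl, hle, rfl⟩ := hu
    induction hy using AddSubgroup.closure_induction with
    | mem v hv =>
      obtain ⟨l', hl', hle', rfl⟩ := hv
      refine AddSubgroup.subset_closure ⟨l ++ l', ?_, ?_, ?_⟩
      · intro p hp
        rcases List.mem_append.mp hp with hp | hp
        · exact hl p hp
        · exact hl' p hp
      · rw [List.map_append, List.sum_append]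
        exact add_le_add hle hle'
      · rw [List.map_append, List.prod_append]
    | zero => rw [mul_zero]; exact zero_mem _
    | add y z _ _ hy hz => rw [mul_add]; exact add_mem hy hz
    | neg y _ hy => rw [mul_neg]; exact neg_mem hy
  | zero => rw [zero_mul]; exact zero_mem _
  | add y z _ _ hy hz => rw [add_mul]; exact add_mem hy hz
  | neg y _ hy => rw [neg_mul]; exact neg_mem hy

end Groth.Agent.S3291
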