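import Groth.Statements.S4243
import Mathlib

set_option autoImplicit false
open SGA4h

namespace Groth.Agent.S4243

open MvPolynomial


/-- Let k be a finite field with q elements and P a nonzero homogeneous polynomial of degree d in r+1
variables over k. If P vanishes at every point of k^{r+1} (that is, the hypersurface P = 0 in
projective r-space passes through every rational point), then d ≥ q + 1. -/
theorem result (k : Type) [Field k] [Fintype k] (r d : ℕ)
    (P : MvPolynomial (Fin (r + 1)) k) (hP : P.IsHomogeneous d) (hP0 : P ≠ 0)
    (hvan : ∀ x : Fin (r + 1) → k, MvPolynomial.eval x P = 0) :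
    Fintype.card k + 1 ≤ d := by
  classical
  by_contra hcon
  push Not at hcon
  apply hP0
  have hd : d ≤ Fintype.card k := by omega
  have hdeg : ∀ i, P.degreeOf i < Fintype.card k := by
    intro i
    rw [MvPolynomial.degreeOf_lt_iff Fintype.card_pos]
    intro m hm
    have hmd : ∑ j, m j = d := by
      have := hP (by simpa using hm : coeff m P ≠ 0)
      rw [← this]
      simp [Finsupp.weight_apply, Finsupp.sum_fintype]
    have hle : m i ≤ ∑ j, m j := Finset.single_le_sum (fun j _ => Nat.zero_le _) (Finset.mem_univ i)
    rcases lt_or_eq_of_le (hle.trans (hmd.le.trans hd)) with h | h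
    · exact h
    exfalso
    have hdi : d = m i := by omega
    -- m = single i d
    have hms : m = Finsupp.single i d := by
      ext j
      by_cases hj : j = i
      · subst hj; simp [hdi]
      · have h2 : m i + m j ≤ ∑ j, m j := by
          have := Finset.sum_le_sum_of_subset (f := m) (Finset.subset_univ ({i, j} : Finset (Fin (r+1))))
          rw [Finset.sum_pair (Ne.symm hj)] at this
          exact this
        have : m j = 0 := by omega
        rw [this, Finsupp.single_eq_of_ne hj]
    have hev := hvan (fun j => if j = i then 1 else 0)
    rw [MvPolynomial.eval_eq'] at hev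
    rw [Finset.sum_eq_single m] at hev
    · have : ∏ j, (if j = i then (1:k) else 0) ^ (m j) = 1 := by
        apply Finset.prod_eq_one
        intro j _
        by_cases hj : j = i
        · simp [hj]
        · rw [hms, Finsupp.single_eq_of_ne hj]; simp
      rw [this, mul_one] at hev
      exact (by simpa using hm : coeff m P ≠ 0) hev
    · intro m' hm' hne
      have hmd' : ∑ j, m' j = d := by
        have := hP (by simpa using hm' : coeff m' P ≠ 0)
        rw [← this]
        simp [Finsupp.weight_apply, Finsupp.sum_fintype]
      -- exists j ≠ i with m' j ≠ 0
      have : ∃ j, j ≠ i ∧ m' j ≠ 0 := by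
        by_contra hc
        push Not at hc
        apply hne
        rw [hms]
        ext j
        by_cases hj : j = i
        · subst hj
          rw [Finset.sum_eq_single j (fun a _ ha => hc a ha) (by simp)] at hmd'
          simp [hmd']
        · rw [hc j hj, Finsupp.single_eq_of_ne hj]
      obtain ⟨j, hj, hj'⟩ := this
      rw [Finset.prod_eq_zero (Finset.mem_univ j)]
      · simp
      · simp [hj, hj']
    · intro h; exact absurd hm h
  exact MvPolynomial.eq_zero_of_eval_zero_at_prod_finset P (fun _ => Finset.univ) (by simpa using hdeg) (fun x _ => hvan x)
end Groth.Agent.S4243
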