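import Groth.Statements.S4256
import Mathlib

set_option autoImplicit false
open scoped BigOperators
open SGA4h

namespace Groth.Agent.S4256



/-- Let k be a finite field, ψ a nontrivial additive character of k with values in a domain R, and n ≥
1. Then the generalised Kloosterman sum with parameter 0, Σ ψ(x_1 + ⋯ + x_n) over all (x_1, …, x_n)
∈ k^n with x_1 ⋯ x_n = 0, equals (-1)^{n-1}. -/
theorem result (k : Type) [Field k] [Fintype k] [DecidableEq k] (R : Type) [CommRing R] [IsDomain R]
    (ψ : AddChar k R) (hψ : ψ ≠ 1) (n : ℕ) (hn : 1 ≤ n) :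
    ∑ x ∈ (Finset.univ : Finset (Fin n → k)).filter (fun x => ∏ i, x i = 0), ψ (∑ i, x i) = (-1) ^ (n - 1) := by
  have hsum : ∑ x : k, ψ x = 0 := AddChar.sum_eq_zero_of_ne_one hψ
  have hsum' : ∑ x ∈ (Finset.univ : Finset k).filter (fun x => x ≠ 0), ψ x = -1 := by
    have := Finset.sum_filter_add_sum_filter_not (Finset.univ : Finset k) (fun x => x ≠ 0) (fun x => ψ x)
    rw [hsum] at this
    have h2 : (Finset.univ : Finset k).filter (fun x => ¬ x ≠ 0) = {0} := by ext; simp
    rw [h2] at this
    simp at this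
    exact eq_neg_of_add_eq_zero_left this
  have hprod : ∀ x : Fin n → k, ψ (∑ i, x i) = ∏ i, ψ (x i) := fun x => by
    have : ∀ s : Finset (Fin n), ψ (∑ i ∈ s, x i) = ∏ i ∈ s, ψ (x i) := by
      intro s
      induction s using Finset.induction_on with
      | empty => simp
      | insert a s ha ih => rw [Finset.sum_insert ha, Finset.prod_insert ha, AddChar.map_add_eq_mul, ih]
    exact this _
  have htot : ∑ x : Fin n → k, ψ (∑ i, x i) = 0 := by
    simp_rw [hprod]
    have := Finset.sum_prod_piFinset (ι := Fin n) (Finset.univ : Finset k) (fun _ x => ψ x)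
    rw [hsum] at this
    rw [Fintype.piFinset_univ] at this
    rw [this]
    simp; omega
  have hnz : ∑ x ∈ (Finset.univ : Finset (Fin n → k)).filter (fun x => ¬ ∏ i, x i = 0), ψ (∑ i, x i) = (-1) ^ n := by
    simp_rw [hprod]
    have := Finset.sum_prod_piFinset (ι := Fin n) ((Finset.univ : Finset k).filter (fun x => x ≠ 0)) (fun _ x => ψ x)
    rw [hsum'] at this
    have h3 : (Finset.univ : Finset (Fin n → k)).filter (fun x => ¬ ∏ i, x i = 0) = 
      Fintype.piFinset (fun _ : Fin n => (Finset.univ : Finset k).filter (fun x => x ≠ 0)) := by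
      ext x
      simp [Fintype.mem_piFinset, Finset.prod_eq_zero_iff]
    rw [h3, this]
    simp
  have := Finset.sum_filter_add_sum_filter_not (Finset.univ : Finset (Fin n → k)) (fun x => ∏ i, x i = 0) (fun x => ψ (∑ i, x i))
  rw [htot, hnz] at this
  rw [eq_neg_of_add_eq_zero_left this]
  obtain ⟨m, rfl⟩ : ∃ m, n = m + 1 := ⟨n - 1, by omega⟩
  simp [pow_succ]
end Groth.Agent.S4256
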