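import Groth.Statements.S4688
import Mathlib

set_option autoImplicit false
universe u
open EGA4

namespace Groth.Agent.S4688

open Polynomial in
theorem part1 (A : Type u) [CommRing A] [IsNoetherianRing A] (p : Ideal A) [p.IsPrime] :
    (p.map (C : A →+* A[X])).height = p.height := by
  have hp1 : (p.map (C : A →+* A[X])).IsPrime := Ideal.isPrime_map_C_of_isPrime
  have hl : (p.map (C : A →+* A[X])).LiesOver p := ⟨by
    ext x
    rw [Ideal.under_def, Ideal.mem_comap, Polynomial.algebraMap_eq, Ideal.mem_map_C_iff]
    constructor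
    · intro hx n
      rw [Polynomial.coeff_C]
      split_ifs
      · exact hx
      · exact p.zero_mem
    · intro h
      have := h 0
      rwa [Polynomial.coeff_C_zero] at this⟩
  have h := Ideal.height_eq_height_add_of_liesOver_of_hasGoingDown p (p.map (C : A →+* A[X]))
  have h0 : ((p.map (C : A →+* A[X])).map (Ideal.Quotient.mk (p.map (algebraMap A A[X])))) = ⊥ := by
    rw [Ideal.map_eq_bot_iff_le_ker, Ideal.mk_ker, Polynomial.algebraMap_eq]
  have hnt : Nontrivial (A[X] ⧸ (p.map (algebraMap A A[X]))) := by
    rw [Polynomial.algebraMap_eq]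
    exact Ideal.Quotient.nontrivial_iff.mpr hp1.ne_top
  rw [h0, Ideal.height_bot, add_zero] at h
  exact h

attribute [local instance] Polynomial.algebra Polynomial.isLocalization in
open Polynomial Ideal IsLocalization in
theorem part2 (R : Type u) [CommRing R] [IsNoetherianRing R] (p : Ideal R) [p.IsPrime]
    (P : Ideal R[X]) [P.IsPrime] [P.LiesOver p] (hP : P ≠ p.map (C : R →+* R[X])) : P.height = p.height + 1 := by
  let Rₚ := Localization.AtPrime p
  set p' : Ideal Rₚ := p.map (algebraMap R Rₚ) with p'_def
  have hp'max : p'.IsMaximal := by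
    rw [p'_def, Localization.AtPrime.map_eq_maximalIdeal]
    exact IsLocalRing.maximalIdeal.isMaximal Rₚ
  let P' : Ideal Rₚ[X] := P.map (algebraMap R[X] Rₚ[X])
  have disj : Disjoint (p.primeCompl.map C : Set R[X]) P := by
    refine Set.disjoint_left.mpr fun a ⟨b, hb⟩ ha ↦ hb.1 ?_
    rwa [SetLike.mem_coe, LiesOver.over (P := P) (p := p), mem_comap, algebraMap_eq, hb.2]
  have eq := under_map_of_isPrime_disjoint (p.primeCompl.map C) Rₚ[X] ‹P.IsPrime› disj
  have hP'prime : P'.IsPrime := IsLocalization.isPrime_of_isPrime_disjoint (p.primeCompl.map C) _ _ ‹_› disj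
  have hover : P'.LiesOver p' := liesOver_of_isPrime_of_disjoint p.primeCompl _ _ disj
  have hP'max : P'.IsMaximal := by
    letI : Field (Rₚ ⧸ p') := Ideal.Quotient.field p'
    let φ : Rₚ[X] →+* (Rₚ ⧸ p')[X] := Polynomial.mapRingHom (Ideal.Quotient.mk p')
    have hφ : Function.Surjective φ := Polynomial.map_surjective _ Ideal.Quotient.mk_surjective
    have hker : RingHom.ker φ = p'.map (C : Rₚ →+* Rₚ[X]) := by
      rw [Polynomial.ker_mapRingHom, Ideal.mk_ker]
    have hle : RingHom.ker φ ≤ P' := by
      rw [hker, Ideal.map_le_iff_le_comap]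
      exact hover.over.le
    have hpr : (P'.map φ).IsPrime := Ideal.map_isPrime_of_surjective hφ hle
    have hne : P'.map φ ≠ ⊥ := by
      intro h
      rw [Ideal.map_eq_bot_iff_le_ker, hker] at h
      have h2 : P' = p'.map (C : Rₚ →+* Rₚ[X]) := le_antisymm h (hker ▸ hle)
      apply hP
      have hp1 : (p.map (C : R →+* R[X])).IsPrime := Ideal.isPrime_map_C_of_isPrime
      have disj2 : Disjoint ((p.primeCompl.map C : Submonoid R[X]) : Set R[X]) ((p.map (C : R →+* R[X]) : Ideal R[X]) : Set R[X]) := by
        refine Set.disjoint_left.mpr fun a ⟨b, hb⟩ ha ↦ hb.1 ?_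
        rw [← hb.2] at ha
        have := (Ideal.mem_map_C_iff.mp ha) 0
        rwa [Polynomial.coeff_C_zero] at this
      have eq3 := under_map_of_isPrime_disjoint (p.primeCompl.map C) Rₚ[X] hp1 disj2
      rw [← eq, ← eq3]
      have h4 : P.map (algebraMap R[X] Rₚ[X]) = (p.map (C : R →+* R[X])).map (algebraMap R[X] Rₚ[X]) := by
        show P' = _
        rw [h2, p'_def, Ideal.map_map, Ideal.map_map]
        congr 1
        refine RingHom.ext fun r => ?_
        show C (algebraMap R Rₚ r) = (Polynomial.mapRingHom (algebraMap R Rₚ)) (C r)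
        rw [Polynomial.coe_mapRingHom, Polynomial.map_C]
      rw [h4]
    have hmax : (P'.map φ).IsMaximal := hpr.isMaximal hne
    have h5 : P' = (P'.map φ).comap φ := by
      rw [Ideal.comap_map_of_surjective φ hφ]
      exact (sup_eq_left.mpr hle).symm
    rw [h5]
    exact Ideal.comap_isMaximal_of_surjective φ hφ
  have eq1 : p.height = p'.height := by
    rw [height_map_of_disjoint p.primeCompl]
    exact Disjoint.symm <| Set.disjoint_left.mpr fun _ a b ↦ b a
  have eq2 : P.height = P'.height := by
    rw [height_map_of_disjoint (Submonoid.map C <| p.primeCompl) _ disj]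
  rw [eq1, eq2]
  exact Polynomial.height_eq_height_add_one p' P'


open Polynomial in
/-- Let A be a Noetherian ring, p a prime ideal of A and q a prime ideal of the polynomial ring A[T]
lying over p. Then the extended ideal p A[T] has the same height as p, and if q is different from p
A[T] one has ht(q) = ht(p) + 1. (The remaining assertions of the published item, that p A[T] is
prime over p and that there are infinitely many pairwise incomparable such q, are not restated.) -/
theorem result (A : Type u) [CommRing A] [IsNoetherianRing A]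
    (p : Ideal A) [p.IsPrime] (q : Ideal A[X]) [q.IsPrime] [q.LiesOver p] :
    (p.map (Polynomial.C : A →+* A[X])).height = p.height ∧
      (q ≠ p.map (Polynomial.C : A →+* A[X]) → q.height = p.height + 1) := by
  exact ⟨part1 A p, part2 A p q⟩
end Groth.Agent.S4688
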