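import Groth.Statements.S5208
import Groth.Agent.Lib.H8Desc

set_option autoImplicit false
open CategoryTheory CategoryTheory.Limits
universe w v₁ u₁
open DescCat

namespace Groth.Agent.S5208

/-- The strong form established in its proof: if `u : T ⟶ S` admits a section and `T ×_S T` exists, then
for every presheaf of sets `F` the diagram `F(S) → F(T) ⇉ F(T ×_S T)` is exact: `F(u)` is injective,
and an element of `F(T)` whose images under the two projections agree comes from `F(S)`. Applied to
representable presheaves this makes `u` an effective epimorphism, a consequence this row does not
state. -/
theorem result {C : Type u₁} [Category.{v₁} C]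
    {T S : C} (u : T ⟶ S) [IsSplitEpi u] [HasPullback u u] (F : Cᵒᵖ ⥤ Type w) :
    Function.Injective (F.map u.op) ∧
      ∀ y : F.obj (Opposite.op T),
        F.map (pullback.fst u u).op y = F.map (pullback.snd u u).op y →
          y ∈ Set.range (F.map u.op) := by
  exact Groth.Agent.H8Desc.presheaf_exact u F

end Groth.Agent.S5208
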