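import Groth.Statements.S5450
import Groth.Agent.Lib.H8RootDC

set_option autoImplicit false
open RootD

namespace Groth.Agent.S5450

/-- In a root datum over ℤ with finitely many roots, a positive root (relative to a system of simple
roots Δ) is simple if and only if it is not the sum of two positive roots. -/
theorem result {ι M N : Type*} [AddCommGroup M] [AddCommGroup N]
    (P : RootPairing ι ℤ M N) [Finite ι] (Δ : Set ι) (hΔ : RootD.IsSimpleSys P Δ)
    (k : ι) (hk : k ∈ RootD.posOf P Δ) :
    k ∈ Δ ↔ ¬ ∃ i j : ι, i ∈ RootD.posOf P Δ ∧ j ∈ RootD.posOf P Δ ∧ P.root k = P.root i + P.root j := by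
  have h := Groth.Agent.H8RootD.eq_indec hΔ (Groth.Agent.H8RootD.isPosSys_posOf hΔ)
    Groth.Agent.H8RootD.subset_posOf
  constructor
  · intro hk' hex
    obtain ⟨i, j, hi, hj, e⟩ := hex
    rw [h] at hk'
    exact hk'.2 i hi j hj e
  · intro hn
    rw [h]
    exact ⟨hk, fun i hi j hj e => hn ⟨i, j, hi, hj, e⟩⟩

end Groth.Agent.S5450
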