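import Groth.Statements.S5451
import Groth.Agent.Lib.H8RootDF

set_option autoImplicit false
open RootD

namespace Groth.Agent.S5451

/-- In a root datum over ℤ with finitely many roots, if a root is a positive integer combination of
roots α_i, then it can be reached from 0 by successively adding roots taken among the α_i in such a
way that every partial sum is a root. -/
theorem result {ι M N : Type*} [AddCommGroup M] [AddCommGroup N]
    (P : RootPairing ι ℤ M N) [Finite ι] {n : ℕ} (a : Fin n → ι) (m : Fin n → ℕ)
    (hm : ∀ i, 0 < m i) (k : ι) (hk : P.root k = ∑ i, m i • P.root (a i)) :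
    ∃ (l : ℕ) (b : Fin l → Fin n), 0 < l ∧
      (∀ p : Fin l, ∃ j : ι, P.root j = ∑ q ∈ Finset.univ.filter (fun q : Fin l => q.val ≤ p.val), P.root (a (b q))) ∧
      P.root k = ∑ q, P.root (a (b q)) := by
  have hmem : P.root k ∈ RootD.natSpan P (Set.range a) := by
    rw [hk]
    apply sum_mem
    intro i _
    exact AddSubmonoid.nsmul_mem _ (Groth.Agent.H8RootD.root_mem_natSpan P (Set.mem_range_self i)) _
  refine Groth.Agent.H8RootD.chain_induction P (S := Set.range a)
    (p := fun k => ∃ (l : ℕ) (b : Fin l → Fin n), 0 < l ∧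
      (∀ p : Fin l, ∃ j : ι, P.root j =
        ∑ q ∈ Finset.univ.filter (fun q : Fin l => q.val ≤ p.val), P.root (a (b q))) ∧
      P.root k = ∑ q, P.root (a (b q))) ?_ ?_ k hmem
  · rintro _ ⟨i, rfl⟩
    refine ⟨1, fun _ => i, one_pos, ?_, by simp⟩
    intro p
    refine ⟨a i, ?_⟩
    have hp : p = 0 := Subsingleton.elim _ _
    subst hp
    simp
  · rintro i _ k hi ⟨l, b, hl, hb, hs⟩ ⟨j, rfl⟩ e
    refine ⟨l + 1, Fin.snoc b j, Nat.succ_pos _, ?_, ?_⟩
    · intro p
      refine Fin.lastCases ?_ ?_ p
      · refine ⟨k, ?_⟩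
        rw [Finset.sum_filter, Fin.sum_univ_castSucc]
        simp only [Fin.snoc_castSucc, Fin.snoc_last, Fin.val_castSucc, Fin.val_last]
        rw [e, hs]
        congr 1
        · apply Finset.sum_congr rfl
          intro q _
          rw [if_pos (by omega)]
        · rw [if_pos le_rfl]
      · intro p'
        obtain ⟨j', hj'⟩ := hb p'
        refine ⟨j', ?_⟩
        rw [hj', Finset.sum_filter, Finset.sum_filter, Fin.sum_univ_castSucc]
        simp only [Fin.snoc_castSucc, Fin.snoc_last, Fin.val_castSucc, Fin.val_last]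
        rw [if_neg (by omega), add_zero]
    · rw [Fin.sum_univ_castSucc]
      simp only [Fin.snoc_castSucc, Fin.snoc_last]
      rw [e, hs]

end Groth.Agent.S5451
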