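import Groth.Statements.S5456
import Groth.Agent.Lib.H8RootDC

set_option autoImplicit false
open RootD

namespace Groth.Agent.S5456

/-- In a root datum over ℤ with finitely many roots, a set of roots is a system of positive roots if and
only if it satisfies (P 1) (no root of the set has its opposite in the set), (P 2) (every root or
its opposite is in the set) and is closed. -/
theorem result {ι M N : Type*} [AddCommGroup M] [AddCommGroup N]
    (P : RootPairing ι ℤ M N) [Finite ι] (S : Set ι) :
    RootD.IsPosSys P S ↔ ((∀ i ∈ S, P.reflectionPerm i i ∉ S) ∧ (∀ i : ι, i ∈ S ∨ P.reflectionPerm i i ∈ S) ∧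
      RootD.IsClosedSub P S) := by
  exact Groth.Agent.H8RootD.isPosSys_iff P S

end Groth.Agent.S5456
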