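import Groth.Statements.S5459
import Groth.Agent.Lib.H8RootDF

set_option autoImplicit false
open RootD

namespace Groth.Agent.S5459

/-- In a root datum over ℤ with finitely many roots, a closed set of roots containing each root or its
opposite is, for a suitable system of simple roots Δ and a subset Δ' ⊆ Δ, the set of roots lying in
ℕΔ ∪ (-ℕΔ'). -/
theorem result {ι M N : Type*} [AddCommGroup M] [AddCommGroup N]
    (P : RootPairing ι ℤ M N) [Finite ι] (P' : Set ι)
    (hP2 : ∀ i : ι, i ∈ P' ∨ P.reflectionPerm i i ∈ P') (hcl : RootD.IsClosedSub P P') :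
    ∃ Δ Δ' : Set ι, RootD.IsSimpleSys P Δ ∧ Δ' ⊆ Δ ∧
      P' = RootD.posOf P Δ ∪ {k : ι | -P.root k ∈ RootD.natSpan P Δ'} := by
  obtain ⟨S0, hS0⟩ := Groth.Agent.H8RootD.exists_posSys (P := P)
  obtain ⟨g, hg, hgS⟩ := Groth.Agent.H8RootD.exists_weyl_image_subset hS0 hP2 hcl
  have hS := Groth.Agent.H8RootD.isPosSys_image g hS0
  have hsim := Groth.Agent.H8RootD.isSimpleSys_indec' hS
  have he := Groth.Agent.H8RootD.eq_posOf hsim hS (Groth.Agent.H8RootD.indec_subset P _)
  refine ⟨_, _, hsim, ?_, Groth.Agent.H8RootD.closed_superset hsim hcl ?_⟩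
  · intro i hi; exact hi.1
  · rw [← he]; exact hgS

end Groth.Agent.S5459
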