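import Groth.Statements.S5460
import Groth.Agent.Lib.H8RootDF

set_option autoImplicit false
open RootD

namespace Groth.Agent.S5460

/-- In a root datum over ℤ with finitely many roots, a set of roots R' is the trace on R of a vector
subspace (every root with a positive multiple in the span of R' lies in R') if and only if R' is the
set of roots in the span of a subset Δ' of some system of simple roots Δ. -/
theorem result {ι M N : Type*} [AddCommGroup M] [AddCommGroup N]
    (P : RootPairing ι ℤ M N) [Finite ι] (R' : Set ι) :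
    (∀ k : ι, (∃ n : ℕ, 0 < n ∧ n • P.root k ∈ Submodule.span ℤ (P.root '' R')) → k ∈ R') ↔
      ∃ Δ Δ' : Set ι, RootD.IsSimpleSys P Δ ∧ Δ' ⊆ Δ ∧ R' = RootD.inSpan P Δ' := by
  constructor
  · intro h; exact Groth.Agent.H8RootD.sat_exists h
  · rintro ⟨Δ, Δ', hΔ, hsub, rfl⟩ k ⟨n, hn, hk⟩
    obtain ⟨g, hg0, hg1⟩ := Groth.Agent.H8RootD.exists_zero_one hΔ Δ'
    have hk' := Groth.Agent.H8RootD.hom_span_zero P (Δ' := RootD.inSpan P Δ') (g := g)
      (fun i hi => (Groth.Agent.H8RootD.mem_inSpan_iff hΔ hsub hg0 hg1 i).mp hi) hk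
    rw [Groth.Agent.H8RootD.mem_inSpan_iff hΔ hsub hg0 hg1]
    rw [map_nsmul, nsmul_eq_mul] at hk'
    have hn' : (n : ℚ) ≠ 0 := by exact_mod_cast (by omega : n ≠ 0)
    exact (mul_eq_zero.mp hk').resolve_left hn'

end Groth.Agent.S5460
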