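import Groth.Statements.S5462
import Groth.Agent.Lib.H8RootDE

set_option autoImplicit false
open RootPairing
open scoped Pointwise
open RootD

namespace Groth.Agent.S5462

/-- In a root datum over ℤ with finitely many roots, for Δ' contained in a system of simple roots Δ, the
subgroup of the Weyl group generated by the reflections in Δ' preserves the set of positive roots
not lying in the span of Δ'. -/
theorem result {ι M N : Type*} [AddCommGroup M] [AddCommGroup N]
    (P : RootPairing ι ℤ M N) [Finite ι] (Δ Δ' : Set ι) (hΔ : RootD.IsSimpleSys P Δ) (hsub : Δ' ⊆ Δ)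
    (g : P.Aut) (hg : g ∈ Subgroup.closure ((fun i : ι => Equiv.reflection P i) '' Δ'))
    (k : ι) (hk : k ∈ RootD.posOf P Δ) (hk' : k ∉ RootD.inSpan P Δ') :
    g • k ∈ RootD.posOf P Δ ∧ g • k ∉ RootD.inSpan P Δ' := by
  exact Groth.Agent.H8RootD.WG_mapsTo hΔ hsub (fun k => Groth.Agent.H8RootD.WG_cond hg k) k hk hk'

end Groth.Agent.S5462
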