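import Groth.Statements.S5463
import Groth.Agent.Lib.H8RootDE

set_option autoImplicit false
open RootPairing
open scoped Pointwise
open RootD

namespace Groth.Agent.S5463

/-- In a root datum over ℤ with finitely many roots, an element w of the Weyl group belongs to the
subgroup generated by the reflections in Δ' ⊆ Δ (Δ a system of simple roots) if and only if w(α) - α
lies in the rational span of Δ' for every root α. -/
theorem result {ι M N : Type*} [AddCommGroup M] [AddCommGroup N]
    (P : RootPairing ι ℤ M N) [Finite ι] (Δ Δ' : Set ι) (hΔ : RootD.IsSimpleSys P Δ)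
    (hsub : Δ' ⊆ Δ) (g : P.Aut) (hg : g ∈ P.weylGroup) :
    g ∈ Subgroup.closure ((fun i : ι => Equiv.reflection P i) '' Δ') ↔
      ∀ k : ι, ∃ n : ℕ, 0 < n ∧ n • (P.root (g • k) - P.root k) ∈ Submodule.span ℤ (P.root '' Δ') := by
  exact Groth.Agent.H8RootD.mem_WG_iff hΔ hsub hg

end Groth.Agent.S5463
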