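import Groth.Statements.S5464
import Groth.Agent.Lib.H8RootDH

set_option autoImplicit false
open RootD

namespace Groth.Agent.S5464

/-- In a root datum over ℤ with finitely many roots, given an indivisible root α and a root γ not
proportional to it, there is a system of simple roots containing α and a simple root β of it with γ
= aα + bβ, a, b ∈ ℕ. -/
theorem result {ι M N : Type*} [AddCommGroup M] [AddCommGroup N]
    (P : RootPairing ι ℤ M N) [Finite ι] (i k : ι) (hα : RootD.IsIndiv P i)
    (hli : LinearIndependent ℤ ![P.root i, P.root k]) :
    ∃ Δ : Set ι, RootD.IsSimpleSys P Δ ∧ i ∈ Δ ∧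
      ∃ j ∈ Δ, ∃ a b : ℕ, P.root k = a • P.root i + b • P.root j := by
  exact Groth.Agent.H8RootD.exists_pair hα hli

end Groth.Agent.S5464
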