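import Groth.Statements.S5467
import Groth.Agent.Lib.H8RootDG

set_option autoImplicit false
open RootD

namespace Groth.Agent.S5467

/-- In a root datum over ℤ with finitely many roots and a simple system Δ, for an indivisible positive
non-simple root α there is a simple root β with (β^v, α) > 0 such that s_β(α) is again positive.
Since s_β(α) = α − (β^v, α)β, the order of s_β(α) relative to Δ is then smaller than that of α by
(β^v, α); that consequence is not asserted here. -/
theorem result {ι M N : Type*} [AddCommGroup M] [AddCommGroup N]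
    (P : RootPairing ι ℤ M N) [Finite ι] (Δ : Set ι) (hΔ : RootD.IsSimpleSys P Δ)
    (k : ι) (hk : k ∈ RootD.posOf P Δ) (hkΔ : k ∉ Δ) (hind : RootD.IsIndiv P k) :
    ∃ i ∈ Δ, 0 < P.pairing k i ∧ P.reflectionPerm i k ∈ RootD.posOf P Δ := by
  obtain ⟨i, hi, hik⟩ := Groth.Agent.H8RootD.natSpan_exists_pairing_pos (P := P) (S := Δ) (k := k)
    (c := 1) one_pos (by rw [one_smul]; exact hk)
  refine ⟨i, hi, Groth.Agent.H8RootD.pairing_pos_symm P hik, ?_⟩
  apply Groth.Agent.H8RootD.reflectionPerm_mem_posOf hΔ hk hi
  intro n hn
  rcases Groth.Agent.H8RootD.nsmul_root hn with rfl | rfl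
  · have : k = i := P.root.injective (by simpa using hn)
    exact hkΔ (this ▸ hi)
  · apply hind i
    rw [hn]; norm_cast

end Groth.Agent.S5467
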