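import Groth.Statements.S5472
import Groth.Agent.Lib.H8RootDL

set_option autoImplicit false
open RootPairing
open scoped Pointwise
open RootD

namespace Groth.Agent.S5472

/-- In a root datum over ℤ with finitely many roots, let Δ be a system of simple roots (root-only
sense), γ a positive root and α, β simple roots with (γ, α^v) > 0 and (γ, β^v) ≥ 0 (equivalently:
the order of s_α(γ) along Δ is smaller than that of γ, and the order of s_β(γ) is at most that of
γ). Then for every w in the group generated by s_α and s_β the order of w(γ) along Δ is at most that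
of γ, and strictly smaller unless w ∈ {1, s_β}. The order is the sum of the coefficients along Δ;
the conclusion is stated for the coefficient vector c of γ - w(γ) along Δ: its coefficient sum is ≥
0, and > 0 unless w = 1 or w = s_β. -/
theorem result {ι M N : Type*} [AddCommGroup M] [AddCommGroup N]
    (P : RootPairing ι ℤ M N) [Finite ι] (Δ : Set ι) (hΔ : RootD.IsSimpleSys P Δ)
    (k i j : ι) (hk : k ∈ RootD.posOf P Δ) (hi : i ∈ Δ) (hj : j ∈ Δ)
    (hα : 0 < P.pairing k i) (hβ : 0 ≤ P.pairing k j)
    (g : P.Aut) (hg : g ∈ Subgroup.closure {Equiv.reflection P i, Equiv.reflection P j})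
    (c : ι →₀ ℤ) (hc : ↑c.support ⊆ Δ)
    (hck : Finsupp.linearCombination ℤ P.root c = P.root k - P.root (g • k)) :
    0 ≤ c.sum (fun _ a => a) ∧ (g ≠ 1 → g ≠ Equiv.reflection P j → 0 < c.sum (fun _ a => a)) := by
  exact Groth.Agent.H8RootD.coeffSum hΔ hi hj hα hβ g hg c hc hck

end Groth.Agent.S5472
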