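import Groth.Statements.S5476
import Groth.Agent.Lib.H8RootDJ

set_option autoImplicit false
open RootD

namespace Groth.Agent.S5476

/-- In a root datum over ℤ with finitely many roots and finitely generated lattices, the lattice of the
coradical (weights killed by every coroot) and the lattice of the radical (coweights killed by every
root) both have rank rgred - rgss, the rank of the weight lattice minus the rank of the lattice
generated by the roots; and the datum is semisimple (the roots span a sublattice of full rank) if
and only if the coradical lattice vanishes, if and only if the radical lattice vanishes. -/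
theorem result {ι M N : Type*} [AddCommGroup M] [AddCommGroup N]
    (P : RootPairing ι ℤ M N) [Finite ι] [Module.Finite ℤ M] [Module.Finite ℤ N] :
    (Module.finrank ℤ (⨅ i : ι, LinearMap.ker (P.coroot' i) : Submodule ℤ M) +
        Module.finrank ℤ (Submodule.span ℤ (Set.range P.root)) = Module.finrank ℤ M) ∧
      (Module.finrank ℤ (⨅ i : ι, LinearMap.ker (P.root' i) : Submodule ℤ N) +
        Module.finrank ℤ (Submodule.span ℤ (Set.range P.root)) = Module.finrank ℤ M) ∧
      (Module.finrank ℤ (Submodule.span ℤ (Set.range P.root)) = Module.finrank ℤ M ↔
        (⨅ i : ι, LinearMap.ker (P.coroot' i) : Submodule ℤ M) = ⊥) ∧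
      (Module.finrank ℤ (Submodule.span ℤ (Set.range P.root)) = Module.finrank ℤ M ↔
        (⨅ i : ι, LinearMap.ker (P.root' i) : Submodule ℤ N) = ⊥) := by
  exact Groth.Agent.H8RootD.finrank_four P

end Groth.Agent.S5476
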