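import Groth.Statements.S5478
import Groth.Agent.Lib.H8RootDG

set_option autoImplicit false
open RootPairing
open scoped Pointwise
open RootD

namespace Groth.Agent.S5478

/-- The group of automorphisms of a root datum that act trivially on the radical is finite. -/
theorem result {ι M N : Type*} [AddCommGroup M] [AddCommGroup N]
    (P : RootPairing ι ℤ M N) [Finite ι] :
    Set.Finite {u : P.Aut | ∀ m : M, ∃ n : ℕ, 0 < n ∧ n • (u • m - m) ∈ Submodule.span ℤ (Set.range P.root)} := by
  apply Set.Finite.of_injOn (f := fun u : P.Aut => (MulAction.toPerm u : Equiv.Perm ι)) (t := Set.univ)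
  · intro _ _; trivial
  · intro u hu v hv huv
    have key : u⁻¹ * v = 1 := by
      apply Groth.Agent.H8RootD.aut_eq_one
      · intro m
        obtain ⟨n, hn, h1⟩ := hu m
        obtain ⟨k, hk, h2⟩ := hv m
        refine ⟨n * k, Nat.mul_pos hn hk, ?_⟩
        have e : (n * k) • ((u⁻¹ * v) • m - m) = u⁻¹ • (n • (k • (v • m - m)) - k • (n • (u • m - m))) := by
          have e1 : (u⁻¹ * v) • m - m = u⁻¹ • ((v • m - m) - (u • m - m)) := by
            rw [smul_sub, smul_sub, smul_sub, mul_smul, inv_smul_smul]; abel
          rw [e1, smul_comm (n * k) u⁻¹]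
          congr 1
          generalize v • m - m = A
          generalize u • m - m = B
          module
        rw [e]
        apply Groth.Agent.H8RootD.smul_mem_span
        exact sub_mem (nsmul_mem h2 _) (nsmul_mem h1 _)
      · intro i
        have h3 := DFunLike.congr_fun huv i
        simp only [MulAction.toPerm_apply] at h3
        rw [mul_smul, ← h3, inv_smul_smul]
    exact (inv_mul_eq_one.mp key)
  · exact Set.finite_univ

end Groth.Agent.S5478
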