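import Groth.Statements.S5479
import Groth.Agent.Lib.H8RootDE

set_option autoImplicit false
open RootPairing
open scoped Pointwise
open RootD

namespace Groth.Agent.S5479

/-- In a root datum over ℤ with finitely many roots, Aut(R) is the semidirect product of the Weyl group
by the stabiliser E_Δ of a system of simple roots: every automorphism is uniquely w · e with w ∈ W
and e(Δ) = Δ. -/
theorem result {ι M N : Type*} [AddCommGroup M] [AddCommGroup N]
    (P : RootPairing ι ℤ M N) [Finite ι] (Δ : Set ι) (hΔ : RootD.IsSimpleSys P Δ) (u : P.Aut) :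
    ∃! w : P.weylGroup, (fun i : ι => ((w : P.Aut)⁻¹ * u) • i) '' Δ = Δ := by
  exact Groth.Agent.H8RootD.aut_existsUnique hΔ u

end Groth.Agent.S5479
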