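import Groth.Statements.S5486
import Groth.Agent.Lib.H8RootDG

set_option autoImplicit false
open RootD

namespace Groth.Agent.S5486

/-- In a root datum over ℤ with finitely many roots, for orthogonal roots α, β, the sum α + β is a root
if and only if the difference α - β is. -/
theorem result {ι M N : Type*} [AddCommGroup M] [AddCommGroup N]
    (P : RootPairing ι ℤ M N) [Finite ι] (i j : ι) (h : P.IsOrthogonal i j) :
    P.root i + P.root j ∈ Set.range P.root ↔ P.root i - P.root j ∈ Set.range P.root := by
  have e : ∀ x : M, P.reflection j x ∈ Set.range P.root ↔ x ∈ Set.range P.root := by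
    intro x
    constructor
    · rintro ⟨k, hk⟩
      refine ⟨P.reflectionPerm j k, ?_⟩
      rw [P.root_reflectionPerm, hk, P.reflection_same]
    · rintro ⟨k, rfl⟩
      exact ⟨P.reflectionPerm j k, P.root_reflectionPerm j k⟩
  rw [← e (P.root i + P.root j), map_add, P.reflection_apply_self, P.reflection_apply_root, h.1,
    zero_smul, sub_zero, sub_eq_add_neg]

end Groth.Agent.S5486
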