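import Groth.Statements.S5487
import Groth.Agent.Lib.H8RootDG

set_option autoImplicit false
open RootD

namespace Groth.Agent.S5487

/-- In a root datum over ℤ with finitely many roots, for non-orthogonal roots α, β one has ℓ(α) ℓ(α^v) =
ℓ(β) ℓ(β^v), where ℓ is the canonical quadratic form of the datum and of its dual. -/
theorem result {ι M N : Type*} [AddCommGroup M] [AddCommGroup N]
    (P : RootPairing ι ℤ M N) [Finite ι] [Fintype ι] (i j : ι) (h : ¬ P.IsOrthogonal i j) :
    P.RootForm (P.root i) (P.root i) * P.CorootForm (P.coroot i) (P.coroot i) =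
      P.RootForm (P.root j) (P.root j) * P.CorootForm (P.coroot j) (P.coroot j) := by
  have hp : P.pairing i j ≠ 0 := fun h0 => h ⟨h0, Groth.Agent.H8RootD.pairing_zero_symm P h0⟩
  have hq : P.pairing j i ≠ 0 := fun h0 => hp (Groth.Agent.H8RootD.pairing_zero_symm P h0)
  have h1 := Groth.Agent.H8RootD.length_rel (P := P) i j
  have h2 := Groth.Agent.H8RootD.length_rel (P := P.flip) i j
  simp only [P.pairing_flip] at h2
  change P.pairing j i * P.CorootForm (P.coroot j) (P.coroot j) =
    P.pairing i j * P.CorootForm (P.coroot i) (P.coroot i) at h2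
  apply mul_left_cancel₀ (mul_ne_zero hp hq)
  calc P.pairing i j * P.pairing j i * (P.RootForm (P.root i) (P.root i) * P.CorootForm (P.coroot i) (P.coroot i))
      = (P.pairing j i * P.RootForm (P.root i) (P.root i)) * (P.pairing i j * P.CorootForm (P.coroot i) (P.coroot i)) := by ring
    _ = (P.pairing i j * P.RootForm (P.root j) (P.root j)) * (P.pairing j i * P.CorootForm (P.coroot j) (P.coroot j)) := by rw [h1, h2]
    _ = _ := by ring

end Groth.Agent.S5487
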