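import Groth.Statements.S5488
import Groth.Agent.Lib.H8RootDD

set_option autoImplicit false
open RootPairing
open scoped Pointwise
open RootD

namespace Groth.Agent.S5488

/-- In a root datum over ℤ with finitely many roots, the reduced datum of indivisible roots has the same
Weyl group: the reflections in indivisible roots generate W. -/
theorem result {ι M N : Type*} [AddCommGroup M] [AddCommGroup N]
    (P : RootPairing ι ℤ M N) [Finite ι] :
    Subgroup.closure ((fun i : ι => Equiv.reflection P i) '' {i : ι | RootD.IsIndiv P i}) = P.weylGroup := by
  apply le_antisymm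
  · rw [Subgroup.closure_le]
    rintro _ ⟨i, _, rfl⟩
    exact P.reflection_mem_weylGroup i
  · rw [weylGroup, Subgroup.closure_le]
    rintro _ ⟨k, rfl⟩
    obtain ⟨k', hk', e⟩ := Groth.Agent.H8RootD.exists_indiv_reflection (P := P) k
    rw [e]
    exact Subgroup.subset_closure ⟨k', hk', rfl⟩

end Groth.Agent.S5488
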