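import Groth.Statements.S5489
import Groth.Agent.Lib.H8RootDG

set_option autoImplicit false
open RootD

namespace Groth.Agent.S5489

/-- In a root datum over ℤ with finitely many roots, if a root α, distinct from roots α_1, ..., α_n, is
a non-negative rational combination of them, then some α_l with non-zero coefficient has (α^v, α_l)
> 0 and α - α_l a root. -/
theorem result {ι M N : Type*} [AddCommGroup M] [AddCommGroup N]
    (P : RootPairing ι ℤ M N) [Finite ι] {n : ℕ} (a : Fin n → ι) (m : Fin n → ℕ)
    (k : ι) (hne : ∀ l, a l ≠ k) (c : ℕ) (hc : 0 < c) (hk : c • P.root k = ∑ l, m l • P.root (a l)) :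
    ∃ l : Fin n, m l ≠ 0 ∧ 0 < P.pairing (a l) k ∧ P.root k - P.root (a l) ∈ Set.range P.root := by
  by_contra hcon
  push Not at hcon
  have hsum : (c : ℤ) * 2 = ∑ l, (m l : ℤ) * P.pairing (a l) k := by
    have h1 := congrArg (P.coroot' k) hk
    rw [map_nsmul, map_sum] at h1
    have e : P.coroot' k (P.root k) = 2 := by simp
    rw [e, nsmul_eq_mul] at h1
    rw [h1]
    apply Finset.sum_congr rfl
    intro l _
    rw [map_nsmul, nsmul_eq_mul]; rfl
  have hle : ∑ l, (m l : ℤ) * P.pairing (a l) k ≤ 0 := by
    apply Finset.sum_nonpos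
    intro l _
    by_contra hpos
    push Not at hpos
    have hm : m l ≠ 0 := by rintro h0; rw [h0] at hpos; simp at hpos
    have hml : (0 : ℤ) < m l := by exact_mod_cast Nat.pos_of_ne_zero hm
    have hp : 0 < P.pairing (a l) k := pos_of_mul_pos_right hpos hml.le
    apply hcon l hm hp
    obtain ⟨k', hk'⟩ := Groth.Agent.H8RootD.exists_sub P hp (hne l)
    exact ⟨P.reflectionPerm k' k', by rw [Groth.Agent.H8RootD.root_neg, hk']; abel⟩
  have : (0 : ℤ) < c := by exact_mod_cast hc
  linarith

end Groth.Agent.S5489
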