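import Groth.Statements.S5493
import Groth.Agent.Lib.H8RootDL

set_option autoImplicit false
open RootD

namespace Groth.Agent.S5493

/-- Adjoint case; the simply connected case is dual: two reduced adjoint root data with systems of
simple roots Δ, Δ' and a bijection u : Δ → Δ' respecting the Cartan matrices are isomorphic through
a unique isomorphism inducing u on Δ. -/
theorem result {ι M N ι' M' N' : Type*} [AddCommGroup M] [AddCommGroup N] [AddCommGroup M'] [AddCommGroup N']
    (P : RootPairing ι ℤ M N) (P' : RootPairing ι' ℤ M' N') [Finite ι] [Finite ι'] [P.IsReduced] [P'.IsReduced]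
    (had : Submodule.span ℤ (Set.range P.root) = ⊤) (had' : Submodule.span ℤ (Set.range P'.root) = ⊤)
    (b : P.Base) (b' : P'.Base) (u : ↥b.support ≃ ↥b'.support)
    (hu : ∀ i j : ↥b.support, P.pairing (i : ι) (j : ι) = P'.pairing (u i : ι') (u j : ι')) :
    ∃! e : RootPairing.Equiv P P', ∀ i : ↥b.support, e.indexEquiv (i : ι) = (u i : ι') := by
  have hΔ : RootD.IsSimpleSys P (↑b.support : Set ι) := ⟨b.linearIndepOn_root, fun i => b.root_mem_or_neg_mem i⟩
  have hΔ' : RootD.IsSimpleSys P' (↑b'.support : Set ι') := ⟨b'.linearIndepOn_root, fun i => b'.root_mem_or_neg_mem i⟩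
  exact Groth.Agent.H8RootD.existsUnique_equiv P P' had had' hΔ hΔ' u hu

end Groth.Agent.S5493
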