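import Groth.Statements.S5494
import Groth.Agent.Lib.H8RootDH

set_option autoImplicit false
open RootD

namespace Groth.Agent.S5494

/-- In a root datum over ℤ with finitely many roots, if a system of simple roots has no partition into
two non-empty orthogonal subsets, then any two roots are linked by a chain of roots with consecutive
members non-orthogonal. -/
theorem result {ι M N : Type*} [AddCommGroup M] [AddCommGroup N]
    (P : RootPairing ι ℤ M N) [Finite ι] (Δ : Set ι) (hΔ : RootD.IsSimpleSys P Δ)
    (hconn : ∀ Δ' : Set ι, Δ' ⊆ Δ → (∀ i ∈ Δ', ∀ j ∈ Δ \ Δ', P.IsOrthogonal i j) → Δ' = ∅ ∨ Δ' = Δ)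
    (i j : ι) : Relation.ReflTransGen (fun a b : ι => ¬ P.IsOrthogonal a b) i j := by
  exact Groth.Agent.H8RootD.chain_of_connected hΔ hconn i j

end Groth.Agent.S5494
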