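import Groth.Statements.S5496
import Groth.Agent.Lib.H8RootDK

set_option autoImplicit false
open RootPairing
open scoped Pointwise
open RootD

namespace Groth.Agent.S5496

/-- In a root datum over ℤ with finitely many roots, for non-proportional roots α, β let n be the least
integer n > 0 with (s_α s_β)^n(α) = α and (s_α s_β)^n(β) = β. Then the subgroup W_{α,β} generated by
s_α and s_β is presented by s_α² = s_β² = (s_α s_β)^n = 1; equivalently it has exactly 2n elements. -/
theorem result {ι M N : Type*} [AddCommGroup M] [AddCommGroup N]
    (P : RootPairing ι ℤ M N) [Finite ι] (i j : ι) (hli : LinearIndependent ℤ ![P.root i, P.root j])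
    (n : ℕ) (hn : IsLeast {m : ℕ | 0 < m ∧ ((Equiv.reflection P i * Equiv.reflection P j) ^ m) • i = i ∧
      ((Equiv.reflection P i * Equiv.reflection P j) ^ m) • j = j} n) :
    Nat.card (Subgroup.closure ({Equiv.reflection P i, Equiv.reflection P j} : Set P.Aut)) = 2 * n := by
  exact Groth.Agent.H8RootD.dihedral_card hli hn

end Groth.Agent.S5496
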