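import Groth.Statements.S5498
import Groth.Agent.Lib.H8RootDI

set_option autoImplicit false
open RootD

namespace Groth.Agent.S5498

/-- In a root datum over ℤ with finitely many roots, if R is irreducible then so is the dual datum R^v,
and long(α)·long(α^v) (equivalently ℓ(α) ℓ(α^v)) is constant on the roots. -/
theorem result {ι M N : Type*} [AddCommGroup M] [AddCommGroup N]
    (P : RootPairing ι ℤ M N) [Finite ι] [Fintype ι] [Nonempty ι]
    (hirr : ∀ R' : Set ι, RootD.IsClosedSub P R' → RootD.IsSymmSub P R' → RootD.IsClosedSub P R'ᶜ →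
      RootD.IsSymmSub P R'ᶜ → R' = ∅ ∨ R' = Set.univ) :
    (∀ R' : Set ι, RootD.IsClosedSub P.flip R' → RootD.IsSymmSub P.flip R' → RootD.IsClosedSub P.flip R'ᶜ →
      RootD.IsSymmSub P.flip R'ᶜ → R' = ∅ ∨ R' = Set.univ) ∧
    ∀ i j : ι, P.RootForm (P.root i) (P.root i) * P.CorootForm (P.coroot i) (P.coroot i) =
      P.RootForm (P.root j) (P.root j) * P.CorootForm (P.coroot j) (P.coroot j) := by
  exact ⟨Groth.Agent.H8RootD.irred_flip hirr, Groth.Agent.H8RootD.length_prod_const hirr⟩

end Groth.Agent.S5498
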