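import Groth.Statements.S5499
import Groth.Agent.Lib.H8RootDI

set_option autoImplicit false
open RootD

namespace Groth.Agent.S5499

/-- In an irreducible root datum over ℤ with finitely many roots, with α₀ a root of minimal length and
long(α) = ℓ(α)/ℓ(α₀), there is a unique homomorphism u : Γ_0(R) → M^v with u(α) = long(α) α^v for
every root α. -/
theorem result {ι M N : Type*} [AddCommGroup M] [AddCommGroup N]
    (P : RootPairing ι ℤ M N) [Finite ι] [Fintype ι]
    (hirr : ∀ R' : Set ι, RootD.IsClosedSub P R' → RootD.IsSymmSub P R' → RootD.IsClosedSub P R'ᶜ →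
      RootD.IsSymmSub P R'ᶜ → R' = ∅ ∨ R' = Set.univ)
    (i₀ : ι) (hmin : ∀ i : ι, P.RootForm (P.root i₀) (P.root i₀) ≤ P.RootForm (P.root i) (P.root i)) :
    ∃! u : Submodule.span ℤ (Set.range P.root) →+ N, ∀ i : ι,
      u ⟨P.root i, Submodule.subset_span (Set.mem_range_self i)⟩ =
        (P.RootForm (P.root i) (P.root i) / P.RootForm (P.root i₀) (P.root i₀)) • P.coroot i := by
  exact Groth.Agent.H8RootD.lengthHom hirr i₀ hmin

end Groth.Agent.S5499
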