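import Groth.Statements.S5502
import Groth.Agent.Lib.H8RootDK

set_option autoImplicit false
open RootD

namespace Groth.Agent.S5502

/-- In a root datum over ℤ with finitely many roots, if β = Σ_{α ∈ Δ} a_α α along a system of simple
roots Δ, then ℓ(β) divides 2 a_α ℓ(α), and 2ℓ(β) divides it when α^v is indivisible (ℓ the canonical
quadratic form). -/
theorem result {ι M N : Type*} [AddCommGroup M] [AddCommGroup N]
    (P : RootPairing ι ℤ M N) [Finite ι] [Fintype ι] (Δ : Set ι) (hΔ : RootD.IsSimpleSys P Δ)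
    (k : ι) (c : ι →₀ ℤ) (hc : ↑c.support ⊆ Δ) (hck : Finsupp.linearCombination ℤ P.root c = P.root k)
    (i : ι) (hi : i ∈ Δ) :
    P.RootForm (P.root k) (P.root k) ∣ 2 * c i * P.RootForm (P.root i) (P.root i) ∧
      (RootD.IsIndiv P.flip i → 2 * P.RootForm (P.root k) (P.root k) ∣ 2 * c i * P.RootForm (P.root i) (P.root i)) := by
  exact Groth.Agent.H8RootD.form_dvd hΔ k c hc hck i hi

end Groth.Agent.S5502
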