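import Groth.Statements.S5504
import Groth.Agent.Lib.H8RootDE

set_option autoImplicit false
open RootPairing
open scoped Pointwise
open RootD

namespace Groth.Agent.S5504

/-- Stated for the group generated by the simple reflections (rather than for the abstractly presented
group): in a root datum over ℤ with finitely many roots and a system of simple roots Δ, if w =
s_{α_1} ⋯ s_{α_m} (m ≥ 1, all α_i in Δ) is a word of minimal length among the words in the simple
reflections with the same product, then w(α_m) is a negative root (its opposite is a non-negative
integer combination of Δ). -/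
theorem result {ι M N : Type*} [AddCommGroup M] [AddCommGroup N]
    (P : RootPairing ι ℤ M N) [Finite ι] (Δ : Set ι) (hΔ : RootD.IsSimpleSys P Δ)
    (l : List ι) (hl : ∀ a ∈ l, a ∈ Δ) (hne : l ≠ [])
    (hmin : ∀ l' : List ι, (∀ a ∈ l', a ∈ Δ) →
      (l'.map fun a => Equiv.reflection P a).prod = (l.map fun a => Equiv.reflection P a).prod → l.length ≤ l'.length) :
    -P.root ((l.map fun a => Equiv.reflection P a).prod • l.getLast hne) ∈ RootD.natSpan P Δ := by
  exact Groth.Agent.H8RootD.neg_last_of_min hΔ l hl hne hmin

end Groth.Agent.S5504
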