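import Groth.Statements.S5507
import Groth.Agent.Lib.H8RootDJ

set_option autoImplicit false
open RootD

namespace Groth.Agent.S5507

/-- In a root datum over ℤ with finitely many roots, for a system of simple roots Δ there are positive
integers m_α (the lengths) such that the matrix (m_α a_{α,β}) with a_{α,β} = (α^v, β) is symmetric
and positive definite. -/
theorem result {ι M N : Type*} [AddCommGroup M] [AddCommGroup N]
    (P : RootPairing ι ℤ M N) [Finite ι] (Δ : Finset ι) (hΔ : RootD.IsSimpleSys P (↑Δ : Set ι)) :
    ∃ m : ↥Δ → ℤ, (∀ a, 0 < m a) ∧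
      (Matrix.of fun (a b : ↥Δ) => m a * P.pairing (b : ι) (a : ι)).IsSymm ∧
      (Matrix.of fun (a b : ↥Δ) => m a * P.pairing (b : ι) (a : ι)).PosDef := by
  exact Groth.Agent.H8RootD.posDef_gram hΔ

end Groth.Agent.S5507
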