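import Groth.Statements.S8364
import Mathlib

set_option autoImplicit false
universe u
open SGA3

namespace Groth.Agent.S8364

theorem endo_bij {R A : Type u} [CommRing R] [CommRing A] [Algebra R A] (J : Ideal R) (hJ : J * J = ⊥)
    (w : A →ₐ[R] A) (hw : ∀ a, w a - a ∈ Ideal.map (algebraMap R A) J) : Function.Bijective w := by
  have hII : ∀ x ∈ Ideal.map (algebraMap R A) J, ∀ y ∈ Ideal.map (algebraMap R A) J, x * y = 0 := by
    intro x hx y hy
    have := Ideal.mul_mem_mul hx hy
    rw [← Ideal.map_mul, hJ, Ideal.map_bot] at this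
    exact this
  have hI : ∀ x ∈ Ideal.map (algebraMap R A) J, w x = x := by
    intro x hx
    have hx' := hx
    rw [Ideal.map] at hx
    refine (Submodule.span_induction (p := fun x _ => x ∈ Ideal.map (algebraMap R A) J ∧ w x = x) ?_ ?_ ?_ ?_ hx).2
    · rintro _ ⟨j, hj, rfl⟩
      exact ⟨Ideal.mem_map_of_mem _ hj, w.commutes j⟩
    · exact ⟨zero_mem _, map_zero w⟩
    · rintro x y _ _ ⟨h1, h2⟩ ⟨h3, h4⟩
      exact ⟨add_mem h1 h3, by rw [map_add, h2, h4]⟩
    · rintro a x _ ⟨h1, h2⟩
      refine ⟨Ideal.mul_mem_left _ a h1, ?_⟩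
      rw [smul_eq_mul, map_mul, h2]
      have := hII _ (hw a) x h1
      linear_combination this
  constructor
  · rw [injective_iff_map_eq_zero]
    intro c hc
    have h1 := hw c
    rw [hc, zero_sub, neg_mem_iff] at h1
    rw [← hI c h1, hc]
  · intro b
    refine ⟨b - (w b - b), ?_⟩
    rw [map_sub, hI _ (hw b)]
    ring

/-- For a commutative ring R, an ideal J of R of square zero, a smooth R-algebra A and the extended
ideal I = J·A, every R-algebra automorphism of A/I lifts to an R-algebra automorphism of A. (The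
published statement concerns the automorphism functor of a smooth affine S-scheme E and affine test
schemes Y; this row is the case Y = S = Spec R, E = Spec A, which gives the general one after
replacing R by the ring of Y.) -/
theorem result (R A : Type u) [CommRing R] [CommRing A] [Algebra R A]
    [Algebra.Smooth R A] (J : Ideal R) (hJ : J * J = ⊥)
    (φ₀ : (A ⧸ Ideal.map (algebraMap R A) J) ≃ₐ[R] (A ⧸ Ideal.map (algebraMap R A) J)) :
    ∃ φ : A ≃ₐ[R] A,
      (Ideal.Quotient.mkₐ R (Ideal.map (algebraMap R A) J)).comp φ.toAlgHom =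
        φ₀.toAlgHom.comp (Ideal.Quotient.mkₐ R (Ideal.map (algebraMap R A) J)) := by
  have hII : IsNilpotent (Ideal.map (algebraMap R A) J) := ⟨2, by
    rw [pow_two, ← Ideal.map_mul, hJ, Ideal.map_bot]; rfl⟩
  have hlift : ∀ ψ : (A ⧸ Ideal.map (algebraMap R A) J) →ₐ[R] (A ⧸ Ideal.map (algebraMap R A) J),
      ∃ φ : A →ₐ[R] A, ∀ a, Ideal.Quotient.mk (Ideal.map (algebraMap R A) J) (φ a) = ψ (Ideal.Quotient.mk _ a) := by
    intro ψ
    refine ⟨Algebra.FormallySmooth.lift _ hII (ψ.comp (Ideal.Quotient.mkₐ R _)), fun a => ?_⟩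
    rw [Algebra.FormallySmooth.mk_lift]
    rfl
  obtain ⟨φ, hφ⟩ := hlift φ₀.toAlgHom
  obtain ⟨ψ, hψ⟩ := hlift φ₀.symm.toAlgHom
  have h1 : Function.Bijective (ψ.comp φ) := endo_bij J hJ _ (fun a => by
    rw [← Ideal.Quotient.eq]
    change Ideal.Quotient.mk _ (ψ (φ a)) = _
    rw [hψ, hφ]
    exact φ₀.symm_apply_apply _)
  have h2 : Function.Bijective (φ.comp ψ) := endo_bij J hJ _ (fun a => by
    rw [← Ideal.Quotient.eq]
    change Ideal.Quotient.mk _ (φ (ψ a)) = _
    rw [hφ, hψ]
    exact φ₀.apply_symm_apply _)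
  have hb : Function.Bijective φ := ⟨fun a b hab => h1.1 (congrArg ψ hab), fun b => by
    obtain ⟨a, ha⟩ := h2.2 b
    exact ⟨ψ a, ha⟩⟩
  refine ⟨AlgEquiv.ofBijective φ hb, ?_⟩
  ext a
  exact hφ a


end Groth.Agent.S8364
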