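import Groth.Statements.S8383
import Mathlib

set_option autoImplicit false
universe u
open scoped TensorProduct
open SGA3t2b

namespace Groth.Agent.S8383

theorem key (k K : Type*) [Field k] [Field K] [Algebra k K] {ι : Type*} [Fintype ι] [DecidableEq ι]
    (M : Matrix ι ι K) (hM : M.det ≠ 0) :
    ∃ x : ι → k, ∀ i, ∑ j, M i j * algebraMap k K (x j) ≠ 0 := by
  classical
  let B := Module.Basis.ofVectorSpace k K
  let s : Finset _ := (Finset.univ : Finset (ι × ι)).biUnion fun ij => (B.repr (M ij.1 ij.2)).support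
  have hrow : ∀ i j, M i j = ∑ β ∈ s, B β * algebraMap k K (B.repr (M i j) β) := by
    intro i j
    conv_lhs => rw [← B.linearCombination_repr (M i j), Finsupp.linearCombination_apply]
    rw [Finsupp.sum_of_support_subset (s := s)]
    · refine Finset.sum_congr rfl fun β _ => ?_
      rw [Algebra.smul_def, mul_comm]
    · intro β hβ
      exact Finset.mem_biUnion.2 ⟨(i, j), Finset.mem_univ _, hβ⟩
    · intro _ _; simp
  have hdet : M.det = ∑ r ∈ Fintype.piFinset (fun _ : ι => s),
      (∏ i, B (r i)) * algebraMap k K (Matrix.det (Matrix.of fun i j => B.repr (M i j) (r i))) := by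
    have h1 : M.det = Matrix.detRowAlternating.toMultilinearMap
        (fun i => ∑ β ∈ s, B β • (fun j => algebraMap k K (B.repr (M i j) β))) := by
      change M.det = Matrix.det (fun i => ∑ β ∈ s, B β • (fun j => algebraMap k K (B.repr (M i j) β)))
      congr 1
      funext i j
      rw [hrow i j, Finset.sum_apply]
      simp
    rw [h1, MultilinearMap.map_sum_finset]
    refine Finset.sum_congr rfl fun r _ => ?_
    rw [MultilinearMap.map_smul_univ, smul_eq_mul]
    congr 1
    change Matrix.det _ = _
    rw [RingHom.map_det]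
    rfl
  have hex : ∃ r : ι → _, Matrix.det (Matrix.of fun i j => B.repr (M i j) (r i)) ≠ 0 := by
    by_contra hcon
    push Not at hcon
    apply hM
    rw [hdet]
    refine Finset.sum_eq_zero fun r _ => ?_
    rw [hcon r]; simp
  obtain ⟨r, hr⟩ := hex
  set C : Matrix ι ι k := Matrix.of fun i j => B.repr (M i j) (r i) with hC
  have hCu : IsUnit C.det := IsUnit.mk0 _ hr
  refine ⟨C⁻¹.mulVec 1, fun i h0 => ?_⟩
  have h2 : C.mulVec (C⁻¹.mulVec 1) = 1 := by
    rw [Matrix.mulVec_mulVec, Matrix.mul_nonsing_inv _ hCu, Matrix.one_mulVec]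
  have h3 := congrFun h2 i
  have h4 := congrArg (fun t => B.repr t (r i)) h0
  simp only [map_zero, Finsupp.zero_apply] at h4
  have h5 : ∀ x : ι → k, B.repr (∑ j, M i j * algebraMap k K (x j)) (r i) = ∑ j, C i j * x j := by
    intro x
    rw [map_sum, Finsupp.finset_sum_apply]
    refine Finset.sum_congr rfl fun j _ => ?_
    rw [mul_comm, ← Algebra.smul_def, map_smul, Finsupp.smul_apply, smul_eq_mul, mul_comm]
    rfl
  rw [h5] at h4
  rw [Matrix.mulVec, dotProduct, h4] at h3
  simp at h3


/-- Let k be a finite field with algebraic closure K, V a finite-dimensional vector space over k, and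
θ₁, …, θₙ a basis of the dual of the K-vector space K ⊗ V. Then there is x ∈ V with θᵢ(1 ⊗ x) ≠ 0
for every i. -/
theorem result (k : Type u) [Field k] [Finite k]
    (V : Type u) [AddCommGroup V] [Module k V] [Module.Finite k V] {ι : Type} [Fintype ι]
    (θ : Module.Basis ι (AlgebraicClosure k) (Module.Dual (AlgebraicClosure k) (AlgebraicClosure k ⊗[k] V))) :
    ∃ x : V, ∀ i : ι, θ i ((1 : AlgebraicClosure k) ⊗ₜ[k] x) ≠ 0 := by
  classical
  let K := AlgebraicClosure k
  let b := Module.finBasis k V
  let bK : Module.Basis _ K (K ⊗[k] V) := Algebra.TensorProduct.basis K b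
  have hcard : Fintype.card ι = Fintype.card (Fin (Module.finrank k V)) := by
    rw [← Module.finrank_eq_card_basis θ, ← Module.finrank_eq_card_basis bK.dualBasis]
  let e : ι ≃ Fin (Module.finrank k V) := Fintype.equivOfCardEq hcard
  let c : Module.Basis ι K (K ⊗[k] V) := bK.reindex e.symm
  have hc : ∀ j, c j = 1 ⊗ₜ[k] b (e j) := by
    intro j
    simp [c, bK, Module.Basis.reindex_apply]
  let M : Matrix ι ι K := Matrix.of fun i j => θ i (c j)
  have hM : M.det ≠ 0 := by
    have h1 := (c.dualBasis).isUnit_det θ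
    rw [Module.Basis.det_apply] at h1
    have h2 : (c.dualBasis.toMatrix θ) = M.transpose := by
      ext i j
      rw [Module.Basis.toMatrix_apply, Module.Basis.dualBasis_repr]
      rfl
    rw [h2, Matrix.det_transpose] at h1
    exact h1.ne_zero
  obtain ⟨x, hx⟩ := key k K M hM
  refine ⟨∑ j, x j • b (e j), fun i => ?_⟩
  have h3 : (1 : K) ⊗ₜ[k] (∑ j, x j • b (e j)) = ∑ j, algebraMap k K (x j) • c j := by
    rw [TensorProduct.tmul_sum]
    refine Finset.sum_congr rfl fun j _ => ?_
    rw [hc, TensorProduct.tmul_smul, algebraMap_smul]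
  rw [h3, map_sum]
  have h4 := hx i
  convert h4 using 1
  refine Finset.sum_congr rfl fun j _ => ?_
  rw [map_smul, smul_eq_mul, mul_comm]
  rfl


end Groth.Agent.S8383
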