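import Groth.Statements.S8384
import Mathlib

set_option autoImplicit false
universe u
open CategoryTheory MonoidalCategory CartesianMonoidalCategory MonObj GrpObj AlgebraicGeometry
open SGA3x

namespace Groth.Agent.S8384

theorem factor_affine {A : Type u} [CommRing A] [IsLocalRing A] {X : Scheme.{u}}
    (f : Spec (CommRingCat.of A) ⟶ X) (U : X.Opens) (hU : IsAffineOpen U)
    (h : f.base (IsLocalRing.closedPoint A) ∈ U) :
    ∃ φ : Γ(X, U) ⟶ CommRingCat.of A, f = Spec.map φ ≫ hU.fromSpec := by
  have h1 : f ⁻¹ᵁ U = ⊤ := (IsLocalRing.closedPoint_mem_iff (f ⁻¹ᵁ U)).1 h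
  have h2 : Set.range f.base ⊆ Set.range hU.fromSpec.base := by
    rw [hU.range_fromSpec]
    rintro _ ⟨x, rfl⟩
    have : x ∈ f ⁻¹ᵁ U := by rw [h1]; trivial
    exact this
  refine ⟨Spec.preimage (IsOpenImmersion.lift hU.fromSpec f h2), ?_⟩
  rw [Spec.map_preimage, IsOpenImmersion.lift_fac]


/-- Let A be a local ring, separated and complete for the topology defined by its maximal ideal m, S =
Spec A and Sₙ = Spec(A/mⁿ). Then for every scheme X the canonical map Hom(S, X) → lim Hom(Sₙ, X) is
bijective: two morphisms S → X that agree on every Sₙ are equal, and every family of morphisms Sₙ →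
X compatible with the closed immersions Sₙ → Sₙ₊₁ is induced by a morphism S → X. -/
theorem result (A : Type u) [CommRing A] [IsLocalRing A]
    [IsAdicComplete (IsLocalRing.maximalIdeal A) A] (X : Scheme.{u}) :
    (∀ f g : (Spec (CommRingCat.of A)) ⟶ X,
      (∀ n : ℕ, (Spec.map (CommRingCat.ofHom (Ideal.Quotient.mk ((IsLocalRing.maximalIdeal A) ^ n)))) ≫ f = (Spec.map (CommRingCat.ofHom (Ideal.Quotient.mk ((IsLocalRing.maximalIdeal A) ^ n)))) ≫ g) → f = g) ∧
    (∀ u : (n : ℕ) → (Spec (CommRingCat.of (A ⧸ (IsLocalRing.maximalIdeal A) ^ n)) ⟶ X),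
      (∀ n : ℕ, (Spec.map (CommRingCat.ofHom (Ideal.Quotient.factor
          (Ideal.pow_le_pow_right (I := (IsLocalRing.maximalIdeal A)) (Nat.le_succ n))))) ≫ u (n + 1) = u n) →
      ∃ f : (Spec (CommRingCat.of A)) ⟶ X, ∀ n : ℕ, (Spec.map (CommRingCat.ofHom (Ideal.Quotient.mk ((IsLocalRing.maximalIdeal A) ^ n)))) ≫ f = u n) := by
  have hmax : ∀ n : ℕ, 0 < n → IsLocalRing (A ⧸ (IsLocalRing.maximalIdeal A) ^ n) := by
    intro n hn
    have : Nontrivial (A ⧸ (IsLocalRing.maximalIdeal A) ^ n) := by
      rw [Ideal.Quotient.nontrivial_iff]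
      intro h
      have h1 := Ideal.pow_le_self (I := IsLocalRing.maximalIdeal A) hn.ne'
      rw [h] at h1
      exact (IsLocalRing.maximalIdeal.isMaximal A).ne_top (top_le_iff.1 h1)
    exact IsLocalRing.of_surjective' (Ideal.Quotient.mk _) Ideal.Quotient.mk_surjective
  have hcl : ∀ n : ℕ, 0 < n → ∀ [IsLocalRing (A ⧸ (IsLocalRing.maximalIdeal A) ^ n)],
      (Spec.map (CommRingCat.ofHom (Ideal.Quotient.mk ((IsLocalRing.maximalIdeal A) ^ n)))).base
        (IsLocalRing.closedPoint (A ⧸ (IsLocalRing.maximalIdeal A) ^ n)) = IsLocalRing.closedPoint A := by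
    intro n hn _
    have : IsLocalHom (Ideal.Quotient.mk ((IsLocalRing.maximalIdeal A) ^ n)) :=
      IsLocalHom.of_surjective _ Ideal.Quotient.mk_surjective
    exact IsLocalRing.comap_closedPoint _
  refine ⟨?_, ?_⟩
  · intro f g hfg
    obtain ⟨U, hU, hxU, -⟩ := exists_isAffineOpen_mem_and_subset (x := f.base (IsLocalRing.closedPoint A)) (U := ⊤) trivial
    have := hmax 1 one_pos
    have hg : g.base (IsLocalRing.closedPoint A) = f.base (IsLocalRing.closedPoint A) := by
      rw [← hcl 1 one_pos]
      have h1 := congrArg (fun t => t.base (IsLocalRing.closedPoint (A ⧸ (IsLocalRing.maximalIdeal A) ^ 1))) (hfg 1)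
      simp only [Scheme.Hom.comp_base, TopCat.hom_comp, ContinuousMap.comp_apply] at h1
      exact h1.symm
    obtain ⟨φ, hφ⟩ := factor_affine f U hU hxU
    obtain ⟨ψ, hψ⟩ := factor_affine g U hU (by rw [hg]; exact hxU)
    have h2 : ∀ n : ℕ, φ ≫ CommRingCat.ofHom (Ideal.Quotient.mk ((IsLocalRing.maximalIdeal A) ^ n)) =
        ψ ≫ CommRingCat.ofHom (Ideal.Quotient.mk ((IsLocalRing.maximalIdeal A) ^ n)) := by
      intro n
      have h3 := hfg n
      rw [hφ, hψ, ← Category.assoc, ← Category.assoc, ← Spec.map_comp, ← Spec.map_comp, cancel_mono] at h3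
      exact Spec.map_injective h3
    have h4 : φ = ψ := by
      ext x
      apply IsHausdorff.eq_iff_smodEq (I := IsLocalRing.maximalIdeal A) |>.2
      intro n
      have h5 := congrArg (fun t => t.hom x) (h2 n)
      simp only [CommRingCat.hom_comp, CommRingCat.hom_ofHom, RingHom.comp_apply] at h5
      rw [SModEq.sub_mem, smul_eq_mul, Ideal.mul_top]
      exact Ideal.Quotient.eq.1 h5
    rw [hφ, hψ, h4]
  · intro u hu
    have := hmax 1 one_pos
    obtain ⟨U, hU, hxU, -⟩ := exists_isAffineOpen_mem_and_subset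
      (x := (u 1).base (IsLocalRing.closedPoint (A ⧸ (IsLocalRing.maximalIdeal A) ^ 1))) (U := ⊤) trivial
    have hpt : ∀ n : ℕ, ∀ [IsLocalRing (A ⧸ (IsLocalRing.maximalIdeal A) ^ (n + 1))],
        (u (n + 1)).base (IsLocalRing.closedPoint (A ⧸ (IsLocalRing.maximalIdeal A) ^ (n + 1))) =
          (u 1).base (IsLocalRing.closedPoint (A ⧸ (IsLocalRing.maximalIdeal A) ^ 1)) := by
      intro n
      induction n with
      | zero => intro _; rfl
      | succ n ih =>
        intro _
        have i1 := hmax (n + 1) (Nat.succ_pos n)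
        rw [← ih]
        have h6 : IsLocalHom (Ideal.Quotient.factor
          (Ideal.pow_le_pow_right (I := (IsLocalRing.maximalIdeal A)) (Nat.le_succ (n + 1)))) :=
          IsLocalHom.of_surjective _ (Ideal.Quotient.factor_surjective _)
        have h7 : (Spec.map (CommRingCat.ofHom (Ideal.Quotient.factor
          (Ideal.pow_le_pow_right (I := (IsLocalRing.maximalIdeal A)) (Nat.le_succ (n + 1)))))).base
            (IsLocalRing.closedPoint (A ⧸ (IsLocalRing.maximalIdeal A) ^ (n + 1))) =
            IsLocalRing.closedPoint (A ⧸ (IsLocalRing.maximalIdeal A) ^ (n + 2)) :=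
          IsLocalRing.comap_closedPoint _
        have h8 := congrArg (fun t => t.base (IsLocalRing.closedPoint (A ⧸ (IsLocalRing.maximalIdeal A) ^ (n + 1)))) (hu (n + 1))
        simp only [Scheme.Hom.comp_base, TopCat.hom_comp, ContinuousMap.comp_apply] at h8
        rw [← h8]
        exact (congrArg (u (n + 2)).base h7).symm
    have hex : ∀ n : ℕ, ∃ φ : Γ(X, U) ⟶ CommRingCat.of (A ⧸ (IsLocalRing.maximalIdeal A) ^ n),
        u n = Spec.map φ ≫ hU.fromSpec := by
      intro n
      rcases n with _ | n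
      · have : Subsingleton (A ⧸ (IsLocalRing.maximalIdeal A) ^ 0) := by
          rw [pow_zero, Ideal.one_eq_top]
          exact Ideal.Quotient.subsingleton_iff.2 rfl
        refine ⟨CommRingCat.ofHom
          { toFun := fun _ => 0
            map_one' := Subsingleton.elim _ _
            map_mul' := fun _ _ => Subsingleton.elim _ _
            map_zero' := Subsingleton.elim _ _
            map_add' := fun _ _ => Subsingleton.elim _ _ }, ?_⟩
        have : IsEmpty (Spec (CommRingCat.of (A ⧸ (IsLocalRing.maximalIdeal A) ^ 0))) := by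
          change IsEmpty (PrimeSpectrum (A ⧸ (IsLocalRing.maximalIdeal A) ^ 0))
          infer_instance
        exact (isInitialOfIsEmpty (X := Spec (CommRingCat.of (A ⧸ (IsLocalRing.maximalIdeal A) ^ 0)))).hom_ext _ _
      · have := hmax (n + 1) (Nat.succ_pos n)
        exact factor_affine (u (n + 1)) U hU (by rw [hpt]; exact hxU)
    choose φ hφ using hex
    have hcomp : ∀ n : ℕ, (Ideal.Quotient.factor
          (Ideal.pow_le_pow_right (I := (IsLocalRing.maximalIdeal A)) (Nat.le_succ n))).comp (φ (n + 1)).hom = (φ n).hom := by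
      intro n
      have h9 := hu n
      rw [hφ n, hφ (n + 1), ← Category.assoc, ← Spec.map_comp, cancel_mono] at h9
      exact congrArg CommRingCat.Hom.hom (Spec.map_injective h9)
    refine ⟨Spec.map (CommRingCat.ofHom (IsAdicComplete.StrictMono.liftRingHom (IsLocalRing.maximalIdeal A)
      (a := id) strictMono_id (fun n => (φ n).hom) (fun {m} => hcomp m))) ≫ hU.fromSpec, ?_⟩
    intro n
    rw [← Category.assoc, ← Spec.map_comp, hφ n]
    congr 2
    ext x
    exact IsAdicComplete.StrictMono.mk_liftRingHom (IsLocalRing.maximalIdeal A) (a := id) strictMono_id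
      (fun n => (φ n).hom) (fun {m} => hcomp m) x


end Groth.Agent.S8384
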