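import Groth.Statements.S8441


set_option autoImplicit false
universe u v w
open SGA3t2b

namespace Groth.Agent.S8441

theorem fold_mem {ι : Type u} {M : Type v} {N : Type w} [AddCommGroup M] [Module ℤ M]
    [AddCommGroup N] [Module ℤ N] (P : RootPairing ι ℤ M N) {n : ℕ} (e : Fin n → ι) (i : Fin n) (W : Submodule ℤ M)
    (hW : ∀ j, i < j → P.root (e j) ∈ W) (L : List (Fin n)) (hL : ∀ j ∈ L, i < j) (x : M)
    (hx : x - P.root (e i) ∈ W) :
    L.foldl (fun x j => P.reflection (e j) x) x - P.root (e i) ∈ W := by
  induction L generalizing x with
  | nil => exact hx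
  | cons j L ih =>
    rw [List.foldl_cons]
    refine ih (fun k hk => hL k (List.mem_cons_of_mem _ hk)) _ ?_
    rw [RootPairing.reflection_apply, sub_right_comm]
    exact W.sub_mem hx (W.smul_mem _ (hW j (hL j List.mem_cons_self)))

theorem tri {R : Type*} [CommRing R] {M : Type v} [AddCommGroup M] [Module R M] {n : ℕ} (α θ : Fin n → M)
    (hα : LinearIndependent R α) (h : ∀ i, θ i - α i ∈ Submodule.span R (α '' {j | i < j})) :
    LinearIndependent R θ ∧ Submodule.span R (Set.range θ) = Submodule.span R (Set.range α) := by
  constructor
  · rw [Fintype.linearIndependent_iff]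
    intro g hg
    have key : ∀ m : ℕ, ∀ i : Fin n, (i : ℕ) = m → g i = 0 := by
      intro m
      induction m using Nat.strong_induction_on with
      | _ m ih =>
        intro i hi
        have h1 : g i • α i ∈ Submodule.span R (α '' {j | i < j}) := by
          have h2 : g i • α i = -(∑ j ∈ Finset.univ.erase i, g j • θ j) - g i • (θ i - α i) := by
            rw [← Finset.add_sum_erase _ _ (Finset.mem_univ i)] at hg
            rw [smul_sub, ← eq_neg_of_add_eq_zero_left hg]
            abel
          rw [h2]
          refine Submodule.sub_mem _ (Submodule.neg_mem _ (Submodule.sum_mem _ fun j hj => ?_)) (Submodule.smul_mem _ _ (h i))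
          have hne := (Finset.mem_erase.1 hj).1
          rcases lt_or_gt_of_ne hne with hlt | hgt
          · rw [ih j (by rw [← hi]; exact hlt) j rfl, zero_smul]
            exact Submodule.zero_mem _
          · refine Submodule.smul_mem _ _ ?_
            have h3 := Submodule.span_mono (R := R) (Set.image_mono (f := α) (fun k (hk : j < k) => (lt_trans hgt hk : i < k))) (h j)
            have h4 : α j ∈ Submodule.span R (α '' {j | i < j}) := Submodule.subset_span ⟨j, hgt, rfl⟩
            have := Submodule.add_mem _ h3 h4
            rwa [sub_add_cancel] at this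
        have h5 := hα.eq_zero_of_smul_mem_span i (g i) (Submodule.span_mono (Set.image_mono (by
          intro k hk
          refine ⟨trivial, ?_⟩
          rintro rfl
          exact lt_irrefl k hk)) h1)
        exact h5
    exact fun i => key i i rfl
  · apply le_antisymm
    · rw [Submodule.span_le]
      rintro _ ⟨i, rfl⟩
      have h3 := Submodule.span_mono (R := R) (Set.image_subset_range α _) (h i)
      have h4 : α i ∈ Submodule.span R (Set.range α) := Submodule.subset_span ⟨i, rfl⟩
      have := Submodule.add_mem _ h3 h4
      rwa [sub_add_cancel] at this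
    · have key : ∀ m : ℕ, ∀ i : Fin n, n - (i : ℕ) = m → α i ∈ Submodule.span R (Set.range θ) := by
        intro m
        induction m using Nat.strong_induction_on with
        | _ m ih =>
          intro i hi
          have h3 : Submodule.span R (α '' {j | i < j}) ≤ Submodule.span R (Set.range θ) := by
            rw [Submodule.span_le]
            rintro _ ⟨j, hj, rfl⟩
            have hj' : (i : ℕ) < j := hj
            exact ih (n - j) (by omega) j rfl
          have h4 : θ i ∈ Submodule.span R (Set.range θ) := Submodule.subset_span ⟨i, rfl⟩
          have := Submodule.sub_mem _ h4 (h3 (h i))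
          rwa [sub_sub_cancel] at this
      rw [Submodule.span_le]
      rintro _ ⟨i, rfl⟩
      exact key _ i rfl

/-- Let R be a root system with a system of simple roots a₁, …, aₙ and simple reflections rᵢ, and put θᵢ
= rₙ ⋯ rᵢ₊₁(aᵢ). Then the θᵢ form a basis of the group generated by the roots. Stated for a root
pairing over ℤ (Mathlib) with a base whose support is enumerated by Fin n: the θᵢ are ℤ-linearly
independent and their ℤ-span is the ℤ-span of all roots. -/
theorem result {ι : Type u} {M : Type v} {N : Type w} [AddCommGroup M] [Module ℤ M]
    [AddCommGroup N] [Module ℤ N] (P : RootPairing ι ℤ M N) (b : P.Base) (n : ℕ) (e : Fin n ≃ ↥b.support) :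
    LinearIndependent ℤ (fun i : Fin n =>
      ((List.finRange n).filter (fun j => i < j)).foldl (fun x j => P.reflection (e j : ι) x) (P.root (e i : ι))) ∧
    Submodule.span ℤ (Set.range (fun i : Fin n =>
      ((List.finRange n).filter (fun j => i < j)).foldl (fun x j => P.reflection (e j : ι) x) (P.root (e i : ι)))) =
      Submodule.span ℤ (Set.range P.root) := by
  have hα : LinearIndependent ℤ (fun i : Fin n => P.root (e i : ι)) := by
    have h1 : LinearIndependent ℤ (fun x : b.support => P.root (x : ι)) := b.linearIndepOn_root
    exact h1.comp e e.injective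
  have ht := tri (fun i : Fin n => P.root (e i : ι)) (fun i : Fin n =>
      ((List.finRange n).filter (fun j => i < j)).foldl (fun x j => P.reflection (e j : ι) x) (P.root (e i : ι)))
    hα (fun i => by
      refine fold_mem P (fun j => (e j : ι)) i _ ?_ _ ?_ _ ?_
      · intro j hj
        exact Submodule.subset_span ⟨j, hj, rfl⟩
      · intro j hj
        simpa using (List.mem_filter.1 hj).2
      · rw [sub_self]; exact Submodule.zero_mem _)
  refine ⟨ht.1, ht.2.trans ?_⟩
  have h2 : Set.range (fun i : Fin n => P.root (e i : ι)) = P.root '' b.support := by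
    ext x
    constructor
    · rintro ⟨i, rfl⟩
      exact ⟨e i, (e i).2, rfl⟩
    · rintro ⟨y, hy, rfl⟩
      exact ⟨e.symm ⟨y, hy⟩, by simp⟩
  rw [h2]
  have h4 : ‹Module ℤ M› = AddCommGroup.toIntModule M := Subsingleton.elim _ _
  subst h4
  exact b.span_int_root_support


end Groth.Agent.S8441
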