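import Groth.Statements.S8591
import Mathlib

set_option autoImplicit false
universe u
open CAlg

namespace Groth.Agent.S8591

open Polynomial in
theorem K1 {R : Type*} [CommRing R] {ι : Type*} [Fintype ι] [DecidableEq ι] (A : Matrix ι ι R) (c : R) :
    (aeval A (X - C c)).det = (-1) ^ Fintype.card ι * A.charpoly.eval c := by
  rw [Matrix.eval_charpoly, ← Matrix.det_neg]
  congr 1
  simp [Matrix.algebraMap_eq_diagonal]

open Polynomial in
theorem K2 {R : Type*} [CommRing R] {ι ι' : Type*} [Fintype ι] [DecidableEq ι] [Fintype ι'] [DecidableEq ι']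
    (A : Matrix ι ι R) (B : Matrix ι' ι' R) (hc : Fintype.card ι = Fintype.card ι')
    (h : A.charpoly = B.charpoly) (m : Multiset R) :
    (aeval A ((m.map fun c => X - C c).prod)).det = (aeval B ((m.map fun c => X - C c).prod)).det := by
  induction m using Multiset.induction_on with
  | empty => simp
  | cons c m ih =>
    rw [Multiset.map_cons, Multiset.prod_cons, map_mul, map_mul, Matrix.det_mul, Matrix.det_mul, ih, K1, K1, hc, h]

open Polynomial in
theorem aeval_map_matrix {R S : Type*} [CommRing R] [CommRing S] (f : R →+* S) {ι : Type*} [Fintype ι] [DecidableEq ι]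
    (A : Matrix ι ι R) (P : R[X]) :
    f.mapMatrix (aeval A P) = aeval (f.mapMatrix A) (P.map f) := by
  rw [aeval_def, aeval_def, hom_eval₂, eval₂_map]
  congr 1
  ext r i j
  simp [Matrix.algebraMap_matrix_apply, apply_ite f]

open Polynomial in
theorem K3 {R : Type*} [CommRing R] [Nontrivial R] {ι ι' : Type*} [Fintype ι] [DecidableEq ι] [Fintype ι'] [DecidableEq ι']
    (A : Matrix ι ι R) (B : Matrix ι' ι' R) (hc : Fintype.card ι = Fintype.card ι')
    (h : A.charpoly = B.charpoly) (P : R[X]) (hP : P.Monic) :
    (aeval A P).det = (aeval B P).det := by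
  obtain ⟨S, _, _, _, _, _, hS⟩ := hP.exists_splits_map
  obtain ⟨m, hm⟩ := Polynomial.splits_iff_exists_multiset.1 hS
  rw [(hP.map (algebraMap R S)).leadingCoeff, map_one, one_mul] at hm
  have hinj : Function.Injective (algebraMap R S) := FaithfulSMul.algebraMap_injective R S
  apply hinj
  rw [RingHom.map_det, RingHom.map_det, aeval_map_matrix, aeval_map_matrix, hm]
  apply K2 _ _ hc
  change (A.map (algebraMap R S)).charpoly = (B.map (algebraMap R S)).charpoly
  rw [Matrix.charpoly_map, Matrix.charpoly_map, h]

open Polynomial in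
theorem key {R : Type*} [CommRing R] {κ : Type*} [Fintype κ] [DecidableEq κ] (M : Matrix κ κ R) (P : R[X]) (N : ℕ) :
    coeff ((aeval ((C : R →+* R[X]).mapMatrix M) (X ^ N + C (X : R[X]) * P.map (C : R →+* R[X]))).det)
      (Fintype.card κ) = (aeval M P).det := by
  rw [map_add, map_mul, map_pow, aeval_X, aeval_C, ← aeval_map_matrix, ← Algebra.smul_def, ← map_pow,
    add_comm]
  exact Polynomial.coeff_det_X_add_C_card _ _

open Polynomial in
theorem K4 {R : Type*} [CommRing R] [Nontrivial R] {ι ι' : Type*} [Fintype ι] [DecidableEq ι] [Fintype ι'] [DecidableEq ι']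
    (A : Matrix ι ι R) (B : Matrix ι' ι' R) (hc : Fintype.card ι = Fintype.card ι')
    (h : A.charpoly = B.charpoly) (P : R[X]) :
    (aeval A P).det = (aeval B P).det := by
  set N := P.natDegree + 1 with hN
  set Q : R[X][X] := X ^ N + C (X : R[X]) * P.map (C : R →+* R[X]) with hQ
  have hQm : Q.Monic := by
    apply monic_X_pow_add
    refine lt_of_le_of_lt ((degree_mul_le _ _).trans (add_le_add degree_C_le degree_map_le)) ?_
    rw [zero_add]
    refine lt_of_le_of_lt degree_le_natDegree ?_
    exact_mod_cast Nat.lt_succ_self _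
  rw [← key A P N, ← key B P N, K3 _ _ hc _ Q hQm, hc]
  change (A.map (C : R →+* R[X])).charpoly = (B.map (C : R →+* R[X])).charpoly
  rw [Matrix.charpoly_map, Matrix.charpoly_map, h]

open Polynomial in
theorem K5 {R : Type*} [CommRing R] [Nontrivial R] {M M' : Type*} [AddCommGroup M] [Module R M]
    [Module.Free R M] [Module.Finite R M] [AddCommGroup M'] [Module R M'] [Module.Free R M'] [Module.Finite R M']
    (u : M →ₗ[R] M) (v : M' →ₗ[R] M') (h : u.charpoly = v.charpoly) (P : R[X]) :
    LinearMap.det (aeval u P) = LinearMap.det (aeval v P) := by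
  classical
  let b := Module.Free.chooseBasis R M
  let b' := Module.Free.chooseBasis R M'
  have h1 : (LinearMap.toMatrixAlgEquiv b u).charpoly = (LinearMap.toMatrixAlgEquiv b' v).charpoly := by
    change (LinearMap.toMatrix b b u).charpoly = (LinearMap.toMatrix b' b' v).charpoly
    rw [LinearMap.charpoly_toMatrix, LinearMap.charpoly_toMatrix, h]
  have hc : Fintype.card (Module.Free.ChooseBasisIndex R M) = Fintype.card (Module.Free.ChooseBasisIndex R M') := by
    have := congrArg natDegree h1
    rwa [Matrix.charpoly_natDegree_eq_dim, Matrix.charpoly_natDegree_eq_dim] at this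
  rw [← LinearMap.det_toMatrix b, ← LinearMap.det_toMatrix b']
  change (LinearMap.toMatrixAlgEquiv b (aeval u P)).det = (LinearMap.toMatrixAlgEquiv b' (aeval v P)).det
  have h2 : LinearMap.toMatrixAlgEquiv b (aeval u P) = aeval (LinearMap.toMatrixAlgEquiv b u) P :=
    (aeval_algHom_apply (LinearMap.toMatrixAlgEquiv b).toAlgHom u P).symm
  have h3 : LinearMap.toMatrixAlgEquiv b' (aeval v P) = aeval (LinearMap.toMatrixAlgEquiv b' v) P :=
    (aeval_algHom_apply (LinearMap.toMatrixAlgEquiv b').toAlgHom v P).symm
  rw [h2, h3]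
  exact K4 _ _ hc h1 P


/-- Let k be a commutative ring, M a finite free k-module, u an endomorphism of M with characteristic
polynomial χ, and P a polynomial over k. Then the norm, from the k-algebra k[T]/(χ) (free of rank
the rank of M) down to k, of the class of P(T) equals det(P(u)). (The published statement writes the
quotient by det(u - T), which generates the same ideal as χ(T) = det(T - u).) -/
theorem result (k : Type u) [CommRing k] (M : Type u) [AddCommGroup M] [Module k M]
    [Module.Free k M] [Module.Finite k M] (u : M →ₗ[k] M) (P : Polynomial k) :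
    Algebra.norm k (AdjoinRoot.mk u.charpoly P) = LinearMap.det (Polynomial.aeval u P) := by
  rcases subsingleton_or_nontrivial k with hk | hk
  · exact Subsingleton.elim _ _
  have hf : u.charpoly.Monic := u.charpoly_monic
  have := hf.free_adjoinRoot
  have := hf.finite_adjoinRoot
  set v : AdjoinRoot u.charpoly →ₗ[k] AdjoinRoot u.charpoly :=
    Algebra.lmul k (AdjoinRoot u.charpoly) (AdjoinRoot.root u.charpoly) with hv
  have hv1 : ∀ Q : Polynomial k, Polynomial.aeval v Q = Algebra.lmul k (AdjoinRoot u.charpoly) (AdjoinRoot.mk u.charpoly Q) := by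
    intro Q
    rw [hv, Polynomial.aeval_algHom_apply, AdjoinRoot.aeval_eq]
  have hdvd : u.charpoly ∣ v.charpoly := by
    rw [← AdjoinRoot.mk_eq_zero]
    have h1 := LinearMap.congr_fun (LinearMap.aeval_self_charpoly v) 1
    rw [hv1] at h1
    simpa using h1
  have hdeg : v.charpoly.natDegree = u.charpoly.natDegree := by
    rw [LinearMap.charpoly_natDegree, (AdjoinRoot.powerBasis' hf).finrank, AdjoinRoot.powerBasis'_dim]
  have hch : u.charpoly = v.charpoly :=
    (Polynomial.eq_of_monic_of_dvd_of_natDegree_le hf v.charpoly_monic hdvd hdeg.le).symm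
  rw [Algebra.norm_apply, K5 u v hch P, hv1]


end Groth.Agent.S8591
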