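import Groth.Statements.S8604
import Groth.Agent.Lib.helper13_PLin

set_option autoImplicit false
universe u
open CAlg

namespace Groth.Agent.S8604

open Groth.Agent.H13PLin

theorem li_aux (p : ℕ) [Fact p.Prime] (k : Type u) [Field k]
    [CharP k p] (V : Type u) [AddCommGroup V] [Module k V]
    (F : V →+ V) (hF : ∀ (a : k) (v : V), F (a • v) = a ^ p • F v) (s : Finset V) (hs : ∀ v ∈ s, F v = v)
    (h : ∀ c : V → ℤ, (∑ v ∈ s, c v • v) = 0 → ∀ v ∈ s, (p : ℤ) ∣ c v) :
    ∀ (n : ℕ) (t : Finset V), t.card ≤ n → t ⊆ s → ∀ c : V → k, ∑ v ∈ t, c v • v = 0 → ∀ v ∈ t, c v = 0 := by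
  classical
  intro n
  induction n with
  | zero =>
    intro t ht _ c _ v hv
    rw [Finset.card_eq_zero.1 (Nat.le_zero.1 ht)] at hv
    simp at hv
  | succ n ih =>
    intro t ht hts c hc v₀ hv₀
    by_contra hne
    set c' : V → k := fun v => (c v₀)⁻¹ * c v with hc'
    have h1 : ∑ v ∈ t, c' v • v = 0 := by
      simp only [hc', mul_smul]
      rw [← Finset.smul_sum, hc, smul_zero]
    have h2 : ∑ v ∈ t, (c' v) ^ p • v = 0 := by
      have := congrArg F h1
      rw [map_sum, map_zero] at this
      rw [← this]
      refine Finset.sum_congr rfl fun v hv => ?_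
      rw [hF, hs v (hts hv)]
    have hv0 : c' v₀ = 1 := inv_mul_cancel₀ hne
    have h3 : ∑ v ∈ t.erase v₀, (c' v ^ p - c' v) • v = 0 := by
      have h4 : ∑ v ∈ t, (c' v ^ p - c' v) • v = 0 := by
        simp only [sub_smul]
        rw [Finset.sum_sub_distrib, h1, h2, sub_zero]
      rw [← Finset.add_sum_erase _ _ hv₀, hv0] at h4
      simpa using h4
    have h5 := ih (t.erase v₀) (by rw [Finset.card_erase_of_mem hv₀]; omega)
      ((Finset.erase_subset _ _).trans hts) _ h3
    have h6 : ∀ v ∈ t, c' v ^ p = c' v := by
      intro v hv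
      by_cases hvv : v = v₀
      · rw [hvv, hv0, one_pow]
      · exact sub_eq_zero.1 (h5 v (Finset.mem_erase.2 ⟨hvv, hv⟩))
    have h7 : ∀ v, ∃ z : ℤ, v ∈ t → (z : k) = c' v := by
      intro v
      by_cases hv : v ∈ t
      · have h8 := (Subfield.mem_bot_iff_pow_eq_self (F := k) (p := p)).2 (h6 v hv)
        obtain ⟨z, hz⟩ := (_root_.mem_bot_iff_intCast p k).1 h8
        exact ⟨z, fun _ => hz⟩
      · exact ⟨0, fun h => absurd h hv⟩
    choose z hz using h7
    have h9 := h (fun v => if v ∈ t then z v else 0) (by
      rw [← Finset.sum_subset hts]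
      · rw [← h1]
        refine Finset.sum_congr rfl fun v hv => ?_
        rw [if_pos hv, ← hz v hv, Int.cast_smul_eq_zsmul]
      · intro v _ hv
        rw [if_neg hv, zero_smul]) v₀ (hts hv₀)
    rw [if_pos hv₀] at h9
    have h10 := hz v₀ hv₀
    rw [(CharP.intCast_eq_zero_iff k p _).2 h9, hv0] at h10
    exact zero_ne_one h10


/-- Over an algebraically closed field: let k be an algebraically closed field of characteristic p > 0,
V a finite-dimensional k-vector space and F : V -> V a p-linear endomorphism (additive with F(a·v) =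
a^p·F(v)). Let V^F be the set of vectors fixed by F (an F_p-subspace), V_0 the k-span of V^F and V_n
the k-span of the vectors killed by some iterate of F (these already form an F-stable subspace on
which F is nilpotent). Then V = V_0 ⊕ V_n, and V^F ⊗ k -> V_0 is bijective in the sense that any
finitely many F-fixed vectors linearly independent over Z/p (every vanishing integer combination has
all coefficients divisible by p) are linearly independent over k. (The published statement asserts
this decomposition, with V^F ⊗ k ≅ V_0, for every PERFECT field k; that is false when k is not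
separably closed — for k = Z/3, V = k and F = multiplication by 2 there are no nonzero fixed vectors
although F is bijective — and the decomposition is stated here over an algebraically closed field,
the case in which it holds.) -/
theorem result (p : ℕ) [Fact p.Prime] (k : Type u) [Field k]
    [IsAlgClosed k] [CharP k p] (V : Type u) [AddCommGroup V] [Module k V] [FiniteDimensional k V]
    (F : V →+ V) (hF : ∀ (a : k) (v : V), F (a • v) = a ^ p • F v) :
    IsCompl (Submodule.span k {v : V | F v = v})
        (Submodule.span k {v : V | ∃ m : ℕ, (⇑F)^[m] v = 0}) ∧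
      ∀ (s : Finset V), (∀ v ∈ s, F v = v) →
        (∀ c : s → ℤ, (∑ v : s, c v • (v : V)) = 0 → ∀ v : s, (p : ℤ) ∣ c v) →
          LinearIndependent k (fun v : s => (v : V)) := by
  have hF' : ∀ (c : k) (v : V), F (c • v) = c ^ (p ^ 1) • F v := by intro c v; rw [pow_one]; exact hF c v
  refine ⟨⟨?_, ?_⟩, ?_⟩
  · rw [Submodule.disjoint_def]
    intro x hx hx'
    obtain ⟨m, hm⟩ := (mem_nil_iff p 1 F hF' x).1 hx'
    obtain ⟨B, hB, hBs, hBl⟩ := exists_linearIndependent k {v : V | F v = v}
    rw [← hBs] at hx
    obtain ⟨g, t, ht, _, rfl⟩ := Submodule.mem_span_iff_exists_finset_subset.1 hx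
    rw [iter_sum] at hm
    have h1 : ∑ w ∈ t, (g w) ^ ((p ^ 1) ^ m) • w = 0 := by
      rw [← hm]
      refine Finset.sum_congr rfl fun w hw => ?_
      rw [iter_smul p 1 F hF', Function.iterate_fixed (hB (ht hw))]
    have h2 : LinearIndepOn k id B := hBl
    have h3 := linearIndepOn_iff'.1 h2 t _ ht h1
    refine Finset.sum_eq_zero fun w hw => ?_
    have h4 := pow_eq_zero_iff (n := (p ^ 1) ^ m) (by
      have := (Fact.out : p.Prime).pos
      positivity) |>.1 (h3 w hw)
    rw [h4, zero_smul]
  · rw [codisjoint_iff, Submodule.eq_top_iff']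
    intro v
    obtain ⟨m, hm⟩ := exists_iter_mem p 1 one_pos F hF' v
    obtain ⟨g, t, ht, _, hgt⟩ := Submodule.mem_span_iff_exists_finset_subset.1 hm
    have hpos : 0 < (p ^ 1) ^ m := by
      have := (Fact.out : p.Prime).pos
      positivity
    choose c hc using fun w => IsAlgClosed.exists_pow_nat_eq (g w) hpos
    have h1 : (∑ w ∈ t, c w • w) ∈ Submodule.span k {v : V | F v = v} :=
      Submodule.sum_mem _ fun w hw => Submodule.smul_mem _ _ (Submodule.subset_span (ht hw))
    have h2 : v - (∑ w ∈ t, c w • w) ∈ Submodule.span k {v : V | ∃ m : ℕ, (⇑F)^[m] v = 0} := by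
      refine Submodule.subset_span ⟨m, ?_⟩
      rw [iterate_map_sub, iter_sum, ← hgt, sub_eq_zero]
      refine Finset.sum_congr rfl fun w hw => ?_
      rw [iter_smul p 1 F hF', Function.iterate_fixed (ht hw), hc]
    have := Submodule.add_mem_sup h1 h2
    rwa [add_sub_cancel] at this
  · intro s hs h
    have h1 := li_aux p k V F hF s hs (fun c hc v hv => by
      refine h (fun v => c v) ?_ ⟨v, hv⟩
      rw [← hc, ← Finset.sum_coe_sort s (fun v => c v • v)]) s.card s le_rfl subset_rfl
    have h2 : LinearIndepOn k id (s : Set V) := by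
      rw [linearIndepOn_finset_iff]
      intro g hg
      exact h1 g hg
    exact h2


end Groth.Agent.S8604
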