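import Groth.Statements.S8630
import Mathlib

set_option autoImplicit false
open Zeta

namespace Groth.Agent.S8630

open Polynomial in
theorem clear (U : ℚ[X]) : ∃ b : ℤ, b ≠ 0 ∧ ∃ U₀ : ℤ[X], U₀.map (Int.castRingHom ℚ) = C (b : ℚ) * U := by
  obtain ⟨b, hb⟩ := IsLocalization.integerNormalization_map_to_map (nonZeroDivisors ℤ) U
  refine ⟨b, nonZeroDivisors.ne_zero b.2, _, (show _ = _ from hb).trans ?_⟩
  rw [← Int.cast_smul_eq_zsmul ℚ, Polynomial.smul_eq_C_mul]

theorem unit_of (Q₁ : Polynomial ℤ) (hQ : Q₁.IsPrimitive) : ∀ (n : ℕ) (m : ℤ) (W : PowerSeries ℤ), m ≠ 0 → m.natAbs = n →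
    (Q₁ : PowerSeries ℤ) * W = PowerSeries.C m → IsUnit (Q₁.coeff 0) := by
  intro n
  induction n using Nat.strong_induction_on with
  | _ n ih =>
    intro m W hm hn h
    by_cases hu : IsUnit m
    · have h1 := congrArg (PowerSeries.constantCoeff (R := ℤ)) h
      rw [map_mul, PowerSeries.constantCoeff_C] at h1
      have h2 : IsUnit (PowerSeries.constantCoeff (R := ℤ) (Q₁ : PowerSeries ℤ)) := isUnit_of_mul_isUnit_left (h1 ▸ hu)
      rwa [← PowerSeries.coeff_zero_eq_constantCoeff_apply, Polynomial.coeff_coe] at h2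
    · obtain ⟨l, hl, hlm⟩ := Nat.exists_prime_and_dvd (n := m.natAbs) (fun h1 => hu (Int.isUnit_iff_natAbs_eq.2 h1))
      haveI : Fact l.Prime := ⟨hl⟩
      obtain ⟨m', rfl⟩ : (l : ℤ) ∣ m := Int.natCast_dvd.2 hlm
      have h1 := congrArg (PowerSeries.map (Int.castRingHom (ZMod l))) h
      rw [map_mul, PowerSeries.map_C] at h1
      have h0 : Int.castRingHom (ZMod l) (l * m') = 0 := by simp
      rw [h0, map_zero, mul_eq_zero] at h1
      have hdiv : ∀ W : PowerSeries ℤ, PowerSeries.map (Int.castRingHom (ZMod l)) W = 0 → ∀ i, (l : ℤ) ∣ PowerSeries.coeff i W := by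
        intro W hW i
        have h2 := congrArg (PowerSeries.coeff i) hW
        rw [PowerSeries.coeff_map, map_zero] at h2
        exact (ZMod.intCast_zmod_eq_zero_iff_dvd _ _).1 h2
      rcases h1 with h1 | h1
      · exfalso
        have h2 : Polynomial.C (l : ℤ) ∣ Q₁ := by
          rw [Polynomial.C_dvd_iff_dvd_coeff]
          intro i
          have := hdiv _ h1 i
          rwa [Polynomial.coeff_coe] at this
        have h3 := hQ _ h2
        rw [Int.isUnit_iff_natAbs_eq, Int.natAbs_natCast] at h3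
        exact hl.one_lt.ne' h3
      · choose c hc using hdiv W h1
        refine ih m'.natAbs ?_ m' (PowerSeries.mk c) (right_ne_zero_of_mul hm) rfl ?_
        · rw [← hn, Int.natAbs_mul, Int.natAbs_natCast]
          have : 0 < m'.natAbs := Int.natAbs_pos.2 (right_ne_zero_of_mul hm)
          nlinarith [hl.one_lt]
        · have hl0 : (PowerSeries.C (l : ℤ) : PowerSeries ℤ) ≠ 0 := by
            intro h4
            have := congrArg (PowerSeries.constantCoeff (R := ℤ)) h4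
            simp [hl.ne_zero] at this
          apply mul_left_cancel₀ hl0
          have hW : W = PowerSeries.C (l : ℤ) * PowerSeries.mk c := by
            ext i
            rw [PowerSeries.coeff_C_mul, PowerSeries.coeff_mk, hc]
          rw [← map_mul, ← h, hW]
          ring

/-- Fatou's lemma: let P, Q ∈ ℚ[T] be coprime with constant coefficient 1, and suppose the power series
P/Q has integer coefficients, i.e. P = Q·Z in ℚ⟦T⟧ for a power series Z with coefficients in ℤ. Then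
P and Q have integer coefficients. -/
theorem result (P Q : Polynomial ℚ)
    (hPQ : IsCoprime P Q) (hP : P.coeff 0 = 1) (hQ : Q.coeff 0 = 1) (Z : PowerSeries ℤ)
    (hZ : (P : PowerSeries ℚ) = (Q : PowerSeries ℚ) * PowerSeries.map (Int.castRingHom ℚ) Z) :
    (∃ P₀ : Polynomial ℤ, P₀.map (Int.castRingHom ℚ) = P) ∧
      ∃ Q₀ : Polynomial ℤ, Q₀.map (Int.castRingHom ℚ) = Q := by
  obtain ⟨b, hb, Q₀, hQ₀⟩ := clear Q
  obtain ⟨b1, hb1, U₀, hU₀⟩ : ∃ b : ℤ, b ≠ 0 ∧ ∃ U₀ : Polynomial ℤ, U₀.map (Int.castRingHom ℚ) = Polynomial.C (b : ℚ) * hPQ.choose := clear _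
  obtain ⟨b2, hb2, V₀, hV₀⟩ : ∃ b : ℤ, b ≠ 0 ∧ ∃ U₀ : Polynomial ℤ, U₀.map (Int.castRingHom ℚ) = Polynomial.C (b : ℚ) * hPQ.choose_spec.choose := clear _
  have hbez := hPQ.choose_spec.choose_spec
  set U := hPQ.choose
  set V := hPQ.choose_spec.choose
  have hQ₀0 : Q₀ ≠ 0 := by
    rintro rfl
    have := congrArg (fun q => Polynomial.coeff q 0) hQ₀
    simp [hQ, hb] at this
    exact hb (by exact_mod_cast this.symm)
  -- content
  set Q₁ := Q₀.primPart with hQ₁
  have hcont := Q₀.eq_C_content_mul_primPart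
  have hc0 : Q₀.content ≠ 0 := by rwa [Ne, Polynomial.content_eq_zero_iff]
  have hmapinj : Function.Injective (PowerSeries.map (Int.castRingHom ℚ)) := by
    intro f g hfg
    ext i
    have := congrArg (PowerSeries.coeff i) hfg
    simpa using this
  have hkey : (Q₁ : PowerSeries ℤ) * (PowerSeries.C Q₀.content * (PowerSeries.C b2 * (U₀ : PowerSeries ℤ) * Z + PowerSeries.C b1 * (V₀ : PowerSeries ℤ))) =
      PowerSeries.C (b * b1 * b2) := by
    apply hmapinj
    have e0 : ((Q₀.map (Int.castRingHom ℚ) : Polynomial ℚ) : PowerSeries ℚ) = PowerSeries.C (b : ℚ) * (Q : PowerSeries ℚ) := by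
      rw [hQ₀, Polynomial.coe_mul, Polynomial.coe_C]
    have e1 : ((U₀.map (Int.castRingHom ℚ) : Polynomial ℚ) : PowerSeries ℚ) = PowerSeries.C (b1 : ℚ) * (U : PowerSeries ℚ) := by
      rw [hU₀, Polynomial.coe_mul, Polynomial.coe_C]
    have e2 : ((V₀.map (Int.castRingHom ℚ) : Polynomial ℚ) : PowerSeries ℚ) = PowerSeries.C (b2 : ℚ) * (V : PowerSeries ℚ) := by
      rw [hV₀, Polynomial.coe_mul, Polynomial.coe_C]
    have e3 : (U : PowerSeries ℚ) * (P : PowerSeries ℚ) + (V : PowerSeries ℚ) * (Q : PowerSeries ℚ) = 1 := by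
      rw [← Polynomial.coe_mul, ← Polynomial.coe_mul, ← Polynomial.coe_add, hbez, Polynomial.coe_one]
    have e4 : (Q₁ : PowerSeries ℤ) * PowerSeries.C Q₀.content = (Q₀ : PowerSeries ℤ) := by
      conv_rhs => rw [hcont]
      rw [Polynomial.coe_mul, Polynomial.coe_C, mul_comm]
    rw [← mul_assoc, e4]
    simp only [map_mul, map_add, ← Polynomial.polynomial_map_coe, PowerSeries.map_C, e0, e1, e2]
    have h5 : (Int.castRingHom ℚ) b = (b : ℚ) := rfl
    have h6 : (Int.castRingHom ℚ) b1 = (b1 : ℚ) := rfl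
    have h7 : (Int.castRingHom ℚ) b2 = (b2 : ℚ) := rfl
    rw [h5, h6, h7]
    rw [hZ] at e3
    linear_combination (PowerSeries.C (b : ℚ) * PowerSeries.C (b1 : ℚ) * PowerSeries.C (b2 : ℚ)) * e3
  have hunit := unit_of Q₁ Q₀.isPrimitive_primPart _ _ _ (mul_ne_zero (mul_ne_zero hb hb1) hb2) rfl hkey
  -- Q is an integer multiple
  obtain ⟨Q₂, hQ₂⟩ : ∃ Q₂ : Polynomial ℤ, Q₂.map (Int.castRingHom ℚ) = Q := by
    obtain ⟨w, hw⟩ := hunit
    refine ⟨Polynomial.C (↑w⁻¹ : ℤ) * Q₁, ?_⟩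
    have h1 : (b : ℚ) = (Q₀.content : ℚ) * ((w : ℤ) : ℚ) := by
      have h2 := congrArg (fun q => Polynomial.coeff q 0) hQ₀
      simp only [Polynomial.coeff_map, Polynomial.coeff_C_mul, hQ, mul_one] at h2
      rw [← h2, hw, hQ₁]
      conv_lhs => rw [hcont, Polynomial.coeff_C_mul]
      simp
    have hbq : (b : ℚ) ≠ 0 := by exact_mod_cast hb
    have hww : ((↑w⁻¹ : ℤ) : ℚ) * ((w : ℤ) : ℚ) = 1 := by exact_mod_cast Units.inv_mul w
    have hCb : (Polynomial.C (b : ℚ)) ≠ 0 := by simpa using hbq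
    apply mul_left_cancel₀ hCb
    rw [← hQ₀]
    conv_rhs => rw [hcont]
    rw [Polynomial.map_mul, Polynomial.map_mul, Polynomial.map_C, Polynomial.map_C, ← mul_assoc, ← Polynomial.C_mul]
    congr 2
    rw [h1]
    change (Q₀.content : ℚ) * ((w : ℤ) : ℚ) * ((↑w⁻¹ : ℤ) : ℚ) = (Q₀.content : ℚ)
    rw [mul_assoc, mul_comm (((w : ℤ) : ℚ)), hww, mul_one]
  refine ⟨?_, Q₂, hQ₂⟩
  refine ⟨(PowerSeries.trunc (P.natDegree + 1) ((Q₂ : PowerSeries ℤ) * Z)), ?_⟩
  have h8 : PowerSeries.map (Int.castRingHom ℚ) ((Q₂ : PowerSeries ℤ) * Z) = (P : PowerSeries ℚ) := by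
    rw [map_mul, ← Polynomial.polynomial_map_coe, hQ₂, hZ]
  ext i
  rw [Polynomial.coeff_map, PowerSeries.coeff_trunc]
  have h9 := congrArg (PowerSeries.coeff i) h8
  rw [PowerSeries.coeff_map, Polynomial.coeff_coe] at h9
  split_ifs with hi
  · exact h9
  · rw [map_zero, Polynomial.coeff_eq_zero_of_natDegree_lt (by omega)]


end Groth.Agent.S8630
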