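import Groth.Statements.S8678
import Groth.Agent.Lib.helper13_Lam

set_option autoImplicit false
universe u
open Finset
open LambdaRing

namespace Groth.Agent.S8678

/-- As the identity it proves in the pre-λ-ring K(Y') of the exceptional divisor: let K be a pre-λ-ring
(λ^0 = 1, λ^1 = id, additive formula) with λ^k(1) = 0 for all k ≥ 2, let d ≥ 2, and let F, L, N' ∈ K
satisfy λ^j(L) = 0 for j ≥ 2 (L is the class of an invertible module), λ^i(N') = 0 for i ≥ d − 1 (N'
is the class of a bundle of rank d − 2) and F + L = N' + 2 (for the blowing up of a regular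
immersion of codimension d: on the exceptional divisor the pulled-back conormal class is F + L, and
N = N' + 2). Then 1 − L divides λ_{−1}(F) = Σ_{i<d} (−1)^i λ^i(F). (The published proof uses only
additivity of λ_t and λ_t(1) = 1 + t, the hypotheses taken here.) -/
theorem result (K : Type u) [CommRing K] [LambdaRing.LambdaOps K]
    (h1 : ∀ k : ℕ, 2 ≤ k → LambdaRing.LambdaOps.lam k (1 : K) = 0) (d : ℕ) (hd : 2 ≤ d) (F L N' : K)
    (hL : ∀ j : ℕ, 2 ≤ j → LambdaRing.LambdaOps.lam j L = 0) (hN' : ∀ i : ℕ, d - 1 ≤ i → LambdaRing.LambdaOps.lam i N' = 0)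
    (hrel : F + L = N' + 2) :
    (1 - L) ∣ ∑ i ∈ range d, (-1 : K) ^ i * LambdaRing.LambdaOps.lam i F := by
  have hd' : 2 ≤ d := hd
  have h2 : LambdaRing.lamSeries (F + L) = LambdaRing.lamSeries (N' + 2) := by rw [hrel]
  have hF : ∀ i : ℕ, LambdaRing.LambdaOps.lam (i + 1) F + LambdaRing.LambdaOps.lam i F * L =
      LambdaRing.LambdaOps.lam (i + 1) (N' + 1) + LambdaRing.LambdaOps.lam i (N' + 1) := by
    intro i
    rw [← Groth.Agent.H13Lam.lam_add_line L hL, hrel, show N' + 2 = (N' + 1) + 1 by ring,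
      Groth.Agent.H13Lam.lam_add_line 1 h1, mul_one]
  have hdiff : ∀ i : ℕ, (1 - L) ∣ LambdaRing.LambdaOps.lam i F - LambdaRing.LambdaOps.lam i (N' + 1) := by
    intro i
    induction i with
    | zero => simp [LambdaRing.LambdaOps.lam_zero]
    | succ i ih =>
      have h3 : LambdaRing.LambdaOps.lam (i + 1) F - LambdaRing.LambdaOps.lam (i + 1) (N' + 1) =
          (1 - L) * LambdaRing.LambdaOps.lam i F -
            (LambdaRing.LambdaOps.lam i F - LambdaRing.LambdaOps.lam i (N' + 1)) := by
        linear_combination hF i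
      rw [h3]
      exact dvd_sub (dvd_mul_right _ _) ih
  have hsum : ∀ m : ℕ, ∑ i ∈ range (m + 1), (-1 : K) ^ i * LambdaRing.LambdaOps.lam i (N' + 1) =
      (-1) ^ m * LambdaRing.LambdaOps.lam m N' := by
    intro m
    induction m with
    | zero => simp [LambdaRing.LambdaOps.lam_zero]
    | succ m ih =>
      rw [Finset.sum_range_succ, ih, Groth.Agent.H13Lam.lam_add_line 1 h1]
      ring
  obtain ⟨e, rfl⟩ : ∃ e, d = e + 1 := ⟨d - 1, by omega⟩
  have h4 : ∑ i ∈ range (e + 1), (-1 : K) ^ i * LambdaRing.LambdaOps.lam i F =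
      ∑ i ∈ range (e + 1), (-1 : K) ^ i * (LambdaRing.LambdaOps.lam i F - LambdaRing.LambdaOps.lam i (N' + 1)) := by
    have h5 := hsum e
    rw [hN' e (by omega), mul_zero] at h5
    simp only [mul_sub, Finset.sum_sub_distrib, h5, sub_zero]
  rw [h4]
  exact Finset.dvd_sum fun i _ => Dvd.dvd.mul_left (hdiff i) _


end Groth.Agent.S8678
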