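import Groth.Statements.S8699
import Groth.Agent.Lib.helper13_Lam

set_option autoImplicit false
universe u
open LambdaRing

namespace Groth.Agent.S8699

/-- A binomial ring K (no additive torsion and all binomial coefficients C(x, n) defined) with its
binomial λ-structure λ^n(x) = C(x, n), i.e. λ_t(x) = (1 + t)^x, is a λ-ring in the strict sense:
λ_t(1) = 1 + t, λ^n(xy) = P_n(λ^1 x, …; λ^1 y, …) and λ^j(λ^i x) = Q_{i,j}(λ^1 x, …) for the
universal polynomials. In particular the integers with λ^n(m) = C(m, n) form a λ-ring. -/
theorem result (K : Type u) [CommRing K] [LambdaRing.LambdaOps K] [BinomialRing K]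
    (hKb : LambdaRing.IsBinomial K) : LambdaRing.IsSpecial K := by
  rcases subsingleton_or_nontrivial K with h | h
  · exact Groth.Agent.H13Lam.isSpecial_of_subsingleton
  have hTF0 : IsAddTorsionFree K := BinomialRing.toIsAddTorsionFree
  have hTF : Groth.Agent.H13Lam.TF K := by
    intro k x y hxy
    have h1 : (k + 1) • x = (k + 1) • y := by
      rw [nsmul_eq_mul, nsmul_eq_mul]; push_cast; exact hxy
    exact hTF0.nsmul_right_injective (Nat.succ_ne_zero k) h1
  have hch : ∀ (x : K) (n : ℕ), ((n : K) + 1) * Ring.choose x (n + 1) + (n : K) * Ring.choose x n =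
      x * Ring.choose x n := by
    intro x n
    have h1 := Ring.descPochhammer_eq_factorial_smul_choose x (n + 1)
    have h2 := Ring.descPochhammer_eq_factorial_smul_choose x n
    rw [descPochhammer_succ_right, Polynomial.smeval_mul, h2] at h1
    have h3 : (n.factorial) • (Ring.choose x n * (x - n)) = n.factorial • (((n : K) + 1) * Ring.choose x (n + 1)) := by
      rw [Nat.factorial_succ] at h1
      simp only [Polynomial.smeval_sub, Polynomial.smeval_X, Polynomial.smeval_natCast, pow_one, pow_zero,
        nsmul_eq_mul] at h1 ⊢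
      push_cast at h1 ⊢
      linear_combination h1
    have h4 := hTF0.nsmul_right_injective (Nat.factorial_ne_zero n) h3
    linear_combination -h4
  have hψ : ∀ k : ℕ, 1 ≤ k → ∀ x : K, LambdaRing.adamsOp k x = x := by
    intro k hk x
    obtain ⟨k, rfl⟩ : ∃ m, k = m + 1 := ⟨k - 1, by omega⟩
    rw [Groth.Agent.H13Lam.adamsOp_eq_adm]
    have h1 : (fun i => LambdaRing.LambdaOps.lam i x) = fun i => Ring.choose x i := by
      funext i; exact hKb i x
    rw [h1]
    refine (Groth.Agent.H13Lam.adm_unique (fun i => Ring.choose x i) (fun _ => x) (by simp) (k + 1) ?_ k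
      (Nat.lt_succ_self k)).symm
    intro m _
    clear hk
    have h5 : ∀ m : ℕ, ((m : K) + 1) * Ring.choose x (m + 1) =
        ∑ i ∈ Finset.range (m + 1), (-1) ^ i * x * Ring.choose x (m - i) := by
      intro m
      induction m with
      | zero => simpa using hch x 0
      | succ m ih =>
        rw [Finset.sum_range_succ']
        have h6 : ∑ i ∈ Finset.range (m + 1), (-1 : K) ^ (i + 1) * x * Ring.choose x (m + 1 - (i + 1)) =
            - ∑ i ∈ Finset.range (m + 1), (-1) ^ i * x * Ring.choose x (m - i) := by
          rw [← Finset.sum_neg_distrib]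
          refine Finset.sum_congr rfl fun i _ => ?_
          rw [Nat.add_sub_add_right, pow_succ]; ring
        rw [h6, ← ih]
        have h7 := hch x (m + 1)
        push_cast at h7 ⊢
        simp only [pow_zero, one_mul, Nat.sub_zero]
        linear_combination h7
    refine (h5 m).trans ?_
    rw [Finset.Nat.sum_antidiagonal_eq_sum_range_succ_mk]
  apply Groth.Agent.H13Lam.isSpecial_of_TF hTF
  · intro k hk; exact hψ k hk 1
  · intro k hk x y; rw [hψ k hk, hψ k hk, hψ k hk]
  · intro k k' hk hk' x
    rw [hψ k' hk', hψ k hk, hψ (k * k') (Nat.mul_pos hk hk')]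


end Groth.Agent.S8699
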