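import Groth.Statements.S8702
import Groth.Agent.Lib.helper13_Lam

set_option autoImplicit false
universe u
open LambdaRing

namespace Groth.Agent.S8702

theorem lamExt {K : Type u} [CommRing K] (L L' : LambdaRing.LambdaOps K) (h : L.lam = L'.lam) : L = L' := by
  cases L
  cases L'
  dsimp only at h
  subst h
  rfl


/-- Let K be a commutative ring which is an algebra over the rationals, and let ψ^k : K → K, k ≥ 1, be
additive maps with ψ^1 the identity. Then there is one and only one pre-λ-structure on K whose Adams
operations (defined through the logarithmic derivative of λ_t) are the ψ^k for every k ≥ 1 (it is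
λ_t(x) = exp(Σ_{k ≥ 1} (−1)^{k−1} ψ^k(x) t^k / k), though the formula is not stated): in
characteristic zero a family of additive operations ψ^k with ψ^1 = id comes from exactly one
pre-λ-structure. (The value of the family at k = 0 is ignored.) -/
theorem result (K : Type u) [CommRing K] [Algebra ℚ K]
    (ψ : ℕ → K →+ K) (hψ : ψ 1 = AddMonoidHom.id K) :
    ∃! L : LambdaRing.LambdaOps K, ∀ k : ℕ, 1 ≤ k → ∀ x : K, @LambdaRing.adamsOp K _ L k x = ψ k x := by
  let L : LambdaRing.LambdaOps K :=
    { lam := fun i x => Groth.Agent.H13Lam.expSeq (fun k => ψ k x) i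
      lam_zero := fun x => Groth.Agent.H13Lam.expSeq_zero _
      lam_one := fun x => by
        have := Groth.Agent.H13Lam.expSeq_newton (fun k => ψ k x) 0
        simpa [hψ, Groth.Agent.H13Lam.expSeq_zero] using this
      lam_add := fun k x y => by
        set g : ℕ → K := fun k => ∑ i ∈ Finset.range (k + 1),
          Groth.Agent.H13Lam.expSeq (fun k => ψ k x) i * Groth.Agent.H13Lam.expSeq (fun k => ψ k y) (k - i) with hg
        have h1 : PowerSeries.mk g = PowerSeries.mk (Groth.Agent.H13Lam.expSeq (fun k => ψ k x)) *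
            PowerSeries.mk (Groth.Agent.H13Lam.expSeq (fun k => ψ k y)) := by
          ext m
          rw [PowerSeries.coeff_mk, PowerSeries.coeff_mul, Finset.Nat.sum_antidiagonal_eq_sum_range_succ_mk]
          simp [hg]
        refine Groth.Agent.H13Lam.e_unique (Groth.Agent.H13Lam.TF_of_rat K) _ g
          (Groth.Agent.H13Lam.expSeq_zero _) (by simp [hg, Groth.Agent.H13Lam.expSeq_zero]) k ?_ k le_rfl
        intro m _
        rw [Groth.Agent.H13Lam.adm_expSeq, Groth.Agent.H13Lam.adm_conv _ _ g (Groth.Agent.H13Lam.expSeq_zero _)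
          (Groth.Agent.H13Lam.expSeq_zero _) h1, Groth.Agent.H13Lam.adm_expSeq, Groth.Agent.H13Lam.adm_expSeq]
        exact map_add _ _ _ }
  refine ⟨L, ?_, ?_⟩
  · intro k hk x
    obtain ⟨k, rfl⟩ : ∃ m, k = m + 1 := ⟨k - 1, by omega⟩
    rw [Groth.Agent.H13Lam.adamsOp_eq_adm]
    exact Groth.Agent.H13Lam.adm_expSeq _ k
  · intro L' hL'
    have h1 : ∀ i x, L'.lam i x = L.lam i x := by
      intro i x
      refine Groth.Agent.H13Lam.e_unique (Groth.Agent.H13Lam.TF_of_rat K) (fun i => L'.lam i x)
        (fun i => L.lam i x) (L'.lam_zero x) (L.lam_zero x) i ?_ i le_rfl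
      intro k _
      have h2 := hL' (k + 1) (by omega) x
      rw [@Groth.Agent.H13Lam.adamsOp_eq_adm K _ L' (k + 1) x] at h2
      rw [h2]
      exact (Groth.Agent.H13Lam.adm_expSeq (fun k => ψ k x) k).symm
    have h3 : L'.lam = L.lam := by funext i x; exact h1 i x
    exact lamExt L' L h3


end Groth.Agent.S8702
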