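import Groth.Statements.S8703
import Groth.Agent.Lib.helper13_Lam

set_option autoImplicit false
universe u
open LambdaRing

namespace Groth.Agent.S8703

/-- Let K and K' be pre-λ-rings (λ^0 = 1, λ^1 = id, additive formula) and f : K → K' a ring
homomorphism. If f is a λ-homomorphism (commutes with all λ^i) then it commutes with the Adams
operations ψ^k for all k ≥ 1; conversely, when K and K' are algebras over the rationals, a ring
homomorphism commuting with the ψ^k for all k ≥ 1 is a λ-homomorphism, the λ^i being expressible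
through the ψ^k in characteristic zero. -/
theorem result (K K' : Type u) [CommRing K] [CommRing K']
    [LambdaRing.LambdaOps K] [LambdaRing.LambdaOps K'] (f : K →+* K') :
    (LambdaRing.IsLambdaHom f →
      ∀ k : ℕ, 1 ≤ k → ∀ x : K, f (LambdaRing.adamsOp k x) = LambdaRing.adamsOp k (f x)) ∧
    ∀ [Algebra ℚ K] [Algebra ℚ K'],
      (∀ k : ℕ, 1 ≤ k → ∀ x : K, f (LambdaRing.adamsOp k x) = LambdaRing.adamsOp k (f x)) →
        LambdaRing.IsLambdaHom f := by
  refine ⟨?_, ?_⟩
  · intro hf k hk x
    obtain ⟨k, rfl⟩ : ∃ m, k = m + 1 := ⟨k - 1, by omega⟩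
    rw [Groth.Agent.H13Lam.adamsOp_eq_adm, Groth.Agent.H13Lam.adamsOp_eq_adm,
      ← Groth.Agent.H13Lam.adm_map f _ (LambdaRing.LambdaOps.lam_zero _)]
    congr 1
    funext i
    exact hf i x
  · intro _ _ hf i x
    refine Groth.Agent.H13Lam.e_unique (Groth.Agent.H13Lam.TF_of_rat K')
      (fun i => f (LambdaRing.LambdaOps.lam i x)) (fun i => LambdaRing.LambdaOps.lam i (f x))
      (by simp [LambdaRing.LambdaOps.lam_zero]) (LambdaRing.LambdaOps.lam_zero _) i ?_ i le_rfl
    intro k _
    rw [Groth.Agent.H13Lam.adm_map f _ (LambdaRing.LambdaOps.lam_zero _),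
      ← Groth.Agent.H13Lam.adamsOp_eq_adm, ← Groth.Agent.H13Lam.adamsOp_eq_adm, hf _ (by omega)]


end Groth.Agent.S8703
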