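import Groth.Statements.S8704
import Groth.Agent.Lib.helper13_Lam

set_option autoImplicit false
universe u v
open LambdaRing

namespace Groth.Agent.S8704

open Groth.Agent.H13Lam PowerSeries in
theorem coeff_w_pow (R : Type*) [CommRing R] (j n : ℕ) :
    PowerSeries.coeff n (((PowerSeries.X : PowerSeries R) * PowerSeries.mk 1) ^ (j + 1)) =
      if j + 1 ≤ n then ((Nat.choose (n - 1) j : ℕ) : R) else 0 := by
  rw [mul_pow, PowerSeries.coeff_X_pow_mul', PowerSeries.mk_one_pow_eq_mk_choose_add]
  split_ifs with h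
  · rw [PowerSeries.coeff_mk, show j + (n - (j + 1)) = n - 1 by omega]
  · rfl

theorem hasSubst_w (R : Type*) [CommRing R] :
    PowerSeries.HasSubst ((PowerSeries.X : PowerSeries R) * PowerSeries.mk 1) :=
  PowerSeries.HasSubst.of_constantCoeff_zero' (by simp)

theorem gamma_eq_coeff {K : Type*} [CommRing K] [LambdaRing.LambdaOps K] (n : ℕ) (x : K) :
    LambdaRing.gamma n x = PowerSeries.coeff n ((LambdaRing.lamSeries x).subst
      ((PowerSeries.X : PowerSeries K) * PowerSeries.mk 1)) := by
  rw [PowerSeries.coeff_subst' (hasSubst_w K)]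
  rw [finsum_eq_sum_of_support_subset (s := Finset.range (n + 1))]
  · rcases n with _ | n
    · rw [LambdaRing.gamma, if_pos rfl]
      simp [LambdaRing.lamSeries, LambdaRing.LambdaOps.lam_zero]
    · rw [LambdaRing.gamma, if_neg (by omega)]
      refine Finset.sum_congr rfl fun j hj => ?_
      have hj' := Finset.mem_range.1 hj
      rcases j with _ | j
      · simp [PowerSeries.coeff_one]
      · rw [coeff_w_pow, if_pos (show j + 1 ≤ n + 1 by omega), if_neg (show ¬ (j + 1 = 0) by omega), LambdaRing.lamSeries, PowerSeries.coeff_mk,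
          smul_eq_mul, mul_comm]
        simp
  · intro j hj
    rw [Function.mem_support] at hj
    by_contra h
    rw [Finset.coe_range, Set.mem_Iio, not_lt] at h
    apply hj
    obtain ⟨j, rfl⟩ : ∃ m, j = m + 1 := ⟨j - 1, by omega⟩
    rw [coeff_w_pow, if_neg (show ¬ (j + 1 ≤ n) by omega), smul_zero]

theorem gamma_add {K : Type*} [CommRing K] [LambdaRing.LambdaOps K] (n : ℕ) (x y : K) :
    LambdaRing.gamma n (x + y) = ∑ p ∈ Finset.HasAntidiagonal.antidiagonal n, LambdaRing.gamma p.1 x * LambdaRing.gamma p.2 y := by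
  rw [gamma_eq_coeff, Groth.Agent.H13Lam.lamSeries_add, PowerSeries.subst_mul (hasSubst_w K), PowerSeries.coeff_mul]
  simp only [gamma_eq_coeff]

theorem gamma_zero' {K : Type*} [CommRing K] [LambdaRing.LambdaOps K] (n : ℕ) :
    LambdaRing.gamma n (0 : K) = if n = 0 then 1 else 0 := by
  rw [gamma_eq_coeff, Groth.Agent.H13Lam.lamSeries_zero]
  rw [← PowerSeries.coe_substAlgHom (hasSubst_w K), map_one, PowerSeries.coeff_one]

theorem gamma_one' {K : Type*} [CommRing K] [LambdaRing.LambdaOps K] (x : K) :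
    LambdaRing.gamma 1 x = x := by
  simp [LambdaRing.gamma, Finset.sum_range_succ, LambdaRing.LambdaOps.lam_one]

section
variable (K : Type u) [CommRing K]
    (A : Type v) [CommRing A] [LambdaRing.LambdaOps A] [Algebra K A]
    (ε : A →ₐ[K] K) (S : Set A)

def G (n : ℕ) : Set A := {y : A | ∃ l : List (ℕ × A), (∀ p ∈ l, p.2 ∈ S) ∧ n ≤ (l.map Prod.fst).sum ∧
        y = (l.map fun p => LambdaRing.gamma p.1 (p.2 - algebraMap K A (ε p.2))).prod}

def W (n : ℕ) : Submodule K A := Submodule.span K (G K A ε S n)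

theorem W_mul {m n : ℕ} {x y : A} (hx : x ∈ W K A ε S m) (hy : y ∈ W K A ε S n) :
    x * y ∈ W K A ε S (m + n) := by
  have h := Submodule.mul_mem_mul hx hy
  rw [W, W, Submodule.span_mul_span] at h
  refine Submodule.span_mono ?_ h
  rintro _ ⟨a, ⟨l, hl, hn, rfl⟩, b, ⟨l', hl', hn', rfl⟩, rfl⟩
  refine ⟨l ++ l', ?_, ?_, ?_⟩
  · intro p hp
    rcases List.mem_append.1 hp with h | h
    · exact hl p h
    · exact hl' p h
  · rw [List.map_append, List.sum_append]; omega
  · simp only [List.map_append, List.prod_append]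

theorem W_anti {m n : ℕ} (h : m ≤ n) : W K A ε S n ≤ W K A ε S m :=
  Submodule.span_mono (by
    rintro _ ⟨l, hl, hn, rfl⟩
    exact ⟨l, hl, h.trans hn, rfl⟩)

theorem one_mem_W : (1 : A) ∈ W K A ε S 0 :=
  Submodule.subset_span ⟨[], by simp, by simp, by simp⟩

theorem gen_mem_W (r : ℕ) (s : A) (hs : s ∈ S) :
    LambdaRing.gamma r (s - algebraMap K A (ε s)) ∈ W K A ε S r :=
  Submodule.subset_span ⟨[(r, s)], by simpa using hs, by simp, by simp⟩

theorem W_zero (hS : AddSubgroup.closure S = ⊤) (a : A) : a ∈ W K A ε S 0 := by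
  have ha : a ∈ AddSubgroup.closure S := by rw [hS]; trivial
  refine AddSubgroup.closure_induction (p := fun a _ => a ∈ W K A ε S 0) ?_ (zero_mem _)
    (fun _ _ _ _ h h' => add_mem h h') (fun _ _ h => neg_mem h) ha
  intro s hs
  have h1 := W_anti K A ε S (Nat.zero_le 1) (gen_mem_W K A ε S 1 s hs)
  rw [gamma_one'] at h1
  have h2 := (W K A ε S 0).smul_mem (ε s) (one_mem_W K A ε S)
  have := add_mem h1 h2
  rwa [← Algebra.algebraMap_eq_smul_one, sub_add_cancel] at this

theorem gamma_mem_W (hS : AddSubgroup.closure S = ⊤) (a : A) :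
    ∀ r, LambdaRing.gamma r (a - algebraMap K A (ε a)) ∈ W K A ε S r := by
  have ha : a ∈ AddSubgroup.closure S := by rw [hS]; trivial
  refine AddSubgroup.closure_induction (p := fun a _ => ∀ r, LambdaRing.gamma r (a - algebraMap K A (ε a)) ∈ W K A ε S r)
    ?_ ?_ ?_ ?_ ha
  · intro s hs r
    exact gen_mem_W K A ε S r s hs
  · intro r
    rw [map_zero, map_zero, sub_zero, gamma_zero']
    split_ifs with h
    · subst h; exact one_mem_W K A ε S
    · exact zero_mem _
  · intro x y _ _ hx hy r
    rw [map_add, map_add, add_sub_add_comm, gamma_add]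
    refine sum_mem fun p hp => ?_
    rw [← Finset.HasAntidiagonal.mem_antidiagonal.1 hp]
    exact W_mul K A ε S (hx _) (hy _)
  · intro x _ hx r
    induction r using Nat.strong_induction_on with
    | _ r ih =>
      rcases r with _ | r
      · rw [LambdaRing.gamma, if_pos rfl]; exact one_mem_W K A ε S
      · have h := gamma_add (r + 1) (x - algebraMap K A (ε x)) (-x - algebraMap K A (ε (-x)))
        rw [map_neg, map_neg, show x - algebraMap K A (ε x) + (-x - -(algebraMap K A (ε x))) = 0 by ring,
          gamma_zero', if_neg (by omega), Finset.Nat.sum_antidiagonal_succ] at h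
        rw [map_neg, map_neg]
        have h0 : LambdaRing.gamma 0 (x - algebraMap K A (ε x)) = 1 := by rw [LambdaRing.gamma, if_pos rfl]
        simp only [h0, one_mul] at h
        rw [eq_neg_of_add_eq_zero_left h.symm]
        refine neg_mem (sum_mem fun p hp => ?_)
        have hp' := Finset.HasAntidiagonal.mem_antidiagonal.1 hp
        have h3 := ih p.2 (by omega)
        rw [map_neg, map_neg] at h3
        have := W_mul K A ε S (hx (p.1 + 1)) h3
        rwa [show p.1 + 1 + p.2 = r + 1 by omega] at this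

end

/-- Let K and A be λ-rings in the strict sense, A an augmented K-λ-algebra with augmentation ε : A → K,
and Fil^n A its γ-filtration, the ideal generated by the products γ^{i_1}(x_1) ⋯ γ^{i_k}(x_k) with
i_1 + ⋯ + i_k ≥ n and all ε(x_r) = 0. If a subset S generates A as an abelian group, then Fil^n A,
as a K-submodule of A, is generated over K by the products γ^{i_1}(s_1 − ε(s_1)) ⋯ γ^{i_k}(s_k −
ε(s_k)) with s_r ∈ S and i_1 + ⋯ + i_k ≥ n. -/
theorem result
    (K : Type u) [CommRing K] [LambdaRing.LambdaOps K] (hK : LambdaRing.IsSpecial K)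
    (A : Type v) [CommRing A] [LambdaRing.LambdaOps A] [Algebra K A] (hA : LambdaRing.IsSpecial A)
    (ε : A →ₐ[K] K) (hε : LambdaRing.IsAugLambdaAlg K A ε)
    (S : Set A) (hS : AddSubgroup.closure S = ⊤) (n : ℕ) :
    (LambdaRing.gammaFil (ε : A →+* K) n).restrictScalars K =
      Submodule.span K {y : A | ∃ l : List (ℕ × A), (∀ p ∈ l, p.2 ∈ S) ∧ n ≤ (l.map Prod.fst).sum ∧
        y = (l.map fun p => LambdaRing.gamma p.1 (p.2 - algebraMap K A (ε p.2))).prod} := by
  have key : ∀ n, Submodule.span K {y : A | ∃ l : List (ℕ × A), (∀ p ∈ l, p.2 ∈ S) ∧ n ≤ (l.map Prod.fst).sum ∧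
        y = (l.map fun p => LambdaRing.gamma p.1 (p.2 - algebraMap K A (ε p.2))).prod} = W K A ε S n := fun _ => rfl
  rw [key]
  apply le_antisymm
  · intro x hx
    rw [Submodule.restrictScalars_mem] at hx
    rw [LambdaRing.gammaFil] at hx
    refine Submodule.span_induction (p := fun x _ => x ∈ W K A ε S n) ?_ (zero_mem _)
      (fun _ _ _ _ h h' => add_mem h h') ?_ hx
    · rintro _ ⟨l, hl, hn, rfl⟩
      refine W_anti K A ε S hn ?_
      clear hn hx
      induction l with
      | nil => simpa using one_mem_W K A ε S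
      | cons p l ih =>
        rw [List.map_cons, List.sum_cons, List.map_cons, List.prod_cons]
        refine W_mul K A ε S ?_ (ih fun q hq => hl q (List.mem_cons_of_mem _ hq))
        have h := gamma_mem_W K A ε S hS p.2 p.1
        have h0 : ε p.2 = 0 := hl p List.mem_cons_self
        rwa [h0, map_zero, sub_zero] at h
    · intro a x _ hx
      have := W_mul K A ε S (W_zero K A ε S hS a) hx
      rwa [zero_add] at this
  · refine Submodule.span_le.2 ?_
    rintro _ ⟨l, hl, hn, rfl⟩
    refine Submodule.subset_span ⟨l.map (fun p => (p.1, p.2 - algebraMap K A (ε p.2))), ?_, ?_, ?_⟩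
    · intro p hp
      obtain ⟨q, hq, rfl⟩ := List.mem_map.1 hp
      simp
    · rw [List.map_map]; exact hn
    · rw [List.map_map]; rfl


end Groth.Agent.S8704
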