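import Groth.Statements.S8705
import Mathlib

set_option autoImplicit false
universe u
open SGA7

namespace Groth.Agent.S8705

/-- the extension attached to a symmetric cocycle -/
def EE (P Q : Type*) (_c : P → P → Q) := Q × P

section
variable {P Q : Type*} [AddCommGroup P] [AddCommGroup Q] (c : P → P → Q)

/-- its group structure -/
def instE (hc : ∀ x y z, c (x + y) z + c x y = c x (y + z) + c y z) (hs : ∀ x y, c x y = c y x) :
    AddCommGroup (EE P Q c) :=
  letI a : Add (EE P Q c) := ⟨fun x y => (x.1 + y.1 + c x.2 y.2, x.2 + y.2)⟩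
  letI b : Zero (EE P Q c) := ⟨(-c 0 0, 0)⟩
  letI d : Neg (EE P Q c) := ⟨fun x => (-x.1 - c x.2 (-x.2) - c 0 0, -x.2)⟩
  have hadd : ∀ x y : EE P Q c, x + y = (x.1 + y.1 + c x.2 y.2, x.2 + y.2) := fun _ _ => rfl
  have hzero : (0 : EE P Q c) = (-c 0 0, 0) := rfl
  have hneg : ∀ x : EE P Q c, -x = (-x.1 - c x.2 (-x.2) - c 0 0, -x.2) := fun _ => rfl
  have hc0 : ∀ y, c 0 y = c 0 0 := by
    intro y
    have := hc 0 0 y
    simp only [add_zero, zero_add] at this
    exact (add_left_cancel this).symm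
  letI e : AddGroup (EE P Q c) := AddGroup.ofLeftAxioms
    (by
      intro x y z
      rw [hadd, hadd, hadd, hadd]
      refine Prod.ext ?_ (add_assoc _ _ _)
      have := hc x.2 y.2 z.2
      change x.1 + y.1 + c x.2 y.2 + z.1 + c (x.2 + y.2) z.2 = x.1 + (y.1 + z.1 + c y.2 z.2) + c x.2 (y.2 + z.2)
      have h' : x.1 + y.1 + c x.2 y.2 + z.1 + c (x.2 + y.2) z.2 =
        x.1 + y.1 + z.1 + (c (x.2 + y.2) z.2 + c x.2 y.2) := by abel
      rw [h', this]; abel)
    (by
      intro x
      rw [hadd, hzero]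
      refine Prod.ext ?_ (zero_add _)
      change -c 0 0 + x.1 + c 0 x.2 = x.1
      rw [hc0 x.2]; abel)
    (by
      intro x
      rw [hneg, hadd, hzero]
      refine Prod.ext ?_ (neg_add_cancel _)
      change -x.1 - c x.2 (-x.2) - c 0 0 + x.1 + c (-x.2) x.2 = -c 0 0
      rw [hs (-x.2) x.2]; abel)
  { e with
    add_comm := by
      intro x y
      rw [hadd, hadd]
      refine Prod.ext ?_ (add_comm _ _)
      change x.1 + y.1 + c x.2 y.2 = y.1 + x.1 + c y.2 x.2
      rw [hs, add_comm x.1] }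

end

open Finsupp in
theorem aux (P : Type u) [AddCommGroup P]
    (ε : (P →₀ ℤ) →ₗ[ℤ] P) (hε : ∀ p, ε (single p 1) = p)
    (d₀ : (P × P →₀ ℤ) →ₗ[ℤ] (P →₀ ℤ)) (hd₀ : ∀ p q, d₀ (single (p, q) 1) = single (p + q) 1 - single p 1 - single q 1)
    (d₁ : (P × P × P →₀ ℤ) →ₗ[ℤ] (P × P →₀ ℤ))
    (hd₁ : ∀ a b c, d₁ (single (a, b, c) 1) = single (a + b, c) 1 - single (a, b + c) 1 + single (a, b) 1 - single (b, c) 1)
    (d₁' : (P × P →₀ ℤ) →ₗ[ℤ] (P × P →₀ ℤ))
    (hd₁' : ∀ p q, d₁' (single (p, q) 1) = single (p, q) 1 - single (q, p) 1) :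
    Function.Surjective ε ∧ LinearMap.ker ε = LinearMap.range d₀ ∧
      LinearMap.ker d₀ = LinearMap.range d₁ ⊔ LinearMap.range d₁' := by
  refine ⟨fun p => ⟨_, hε p⟩, le_antisymm ?_ ?_, le_antisymm ?_ ?_⟩
  · let σ : P →+ (P →₀ ℤ) ⧸ LinearMap.range d₀ := AddMonoidHom.mk' (fun p => (LinearMap.range d₀).mkQ (single p 1)) (by
      intro p q
      rw [← map_add, ← sub_eq_zero, ← map_sub, Submodule.mkQ_apply, Submodule.Quotient.mk_eq_zero]
      exact ⟨single (p, q) 1, by rw [hd₀]; abel⟩)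
    have h : σ.toIntLinearMap ∘ₗ ε = (LinearMap.range d₀).mkQ := by
      refine Finsupp.lhom_ext' fun p => LinearMap.ext_ring ?_
      change σ (ε (single p 1)) = (LinearMap.range d₀).mkQ (single p 1)
      rw [hε]; rfl
    intro x hx
    have h2 := LinearMap.congr_fun h x
    rw [LinearMap.comp_apply, LinearMap.mem_ker.1 hx, map_zero, eq_comm, Submodule.mkQ_apply,
      Submodule.Quotient.mk_eq_zero] at h2
    exact h2
  · rw [LinearMap.range_le_ker_iff]
    refine Finsupp.lhom_ext' fun p => LinearMap.ext_ring ?_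
    obtain ⟨p, q⟩ := p
    change ε (d₀ (single (p, q) 1)) = 0
    rw [hd₀, map_sub, map_sub, hε, hε, hε]; abel
  · set N := LinearMap.range d₁ ⊔ LinearMap.range d₁' with hN
    let c : P → P → (P × P →₀ ℤ) ⧸ N := fun p q => N.mkQ (single (p, q) 1)
    have hc : ∀ x y z, c (x + y) z + c x y = c x (y + z) + c y z := by
      intro x y z
      change N.mkQ _ + N.mkQ _ = N.mkQ _ + N.mkQ _
      rw [← map_add, ← map_add, ← sub_eq_zero, ← map_sub, Submodule.mkQ_apply, Submodule.Quotient.mk_eq_zero]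
      refine Submodule.mem_sup_left ⟨single (x, y, z) 1, ?_⟩
      rw [hd₁]; abel
    have hs : ∀ x y, c x y = c y x := by
      intro x y
      change N.mkQ _ = N.mkQ _
      rw [← sub_eq_zero, ← map_sub, Submodule.mkQ_apply, Submodule.Quotient.mk_eq_zero]
      exact Submodule.mem_sup_right ⟨single (x, y) 1, hd₁' _ _⟩
    have hc0 : ∀ y, c 0 y = c 0 0 := by
      intro y
      have := hc 0 0 y
      simp only [add_zero, zero_add] at this
      exact (add_left_cancel this).symm
    letI : AddCommGroup (EE P ((P × P →₀ ℤ) ⧸ N) c) := instE c hc hs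
    have hadd : ∀ x y : EE P ((P × P →₀ ℤ) ⧸ N) c, x + y = (x.1 + y.1 + c x.2 y.2, x.2 + y.2) := fun _ _ => rfl
    have hzero : (0 : EE P ((P × P →₀ ℤ) ⧸ N) c) = (-c 0 0, 0) := rfl
    let j : (P →₀ ℤ) →ₗ[ℤ] EE P ((P × P →₀ ℤ) ⧸ N) c := Finsupp.linearCombination ℤ (fun p => ((0, p) : EE P ((P × P →₀ ℤ) ⧸ N) c))
    have hj : ∀ p, j (single p 1) = ((0, p) : EE P ((P × P →₀ ℤ) ⧸ N) c) := by
      intro p
      rw [Finsupp.linearCombination_single, one_smul]
    let i : ((P × P →₀ ℤ) ⧸ N) →+ EE P ((P × P →₀ ℤ) ⧸ N) c := AddMonoidHom.mk' (fun q => ((q - c 0 0, 0) : EE P ((P × P →₀ ℤ) ⧸ N) c)) (by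
      intro q q'
      rw [hadd]
      refine Prod.ext ?_ (zero_add _).symm
      change q + q' - c 0 0 = q - c 0 0 + (q' - c 0 0) + c 0 0
      abel)
    have hi : ∀ q, i q = ((q - c 0 0, 0) : EE P ((P × P →₀ ℤ) ⧸ N) c) := fun _ => rfl
    have h : j ∘ₗ d₀ = -(i.toIntLinearMap ∘ₗ N.mkQ) := by
      refine Finsupp.lhom_ext' fun p => LinearMap.ext_ring ?_
      obtain ⟨p, q⟩ := p
      change j (d₀ (single (p, q) 1)) = -(i (c p q))
      rw [hd₀, map_sub, map_sub, hj, hj, hj, sub_sub, ← sub_eq_zero, sub_neg_eq_add, sub_add_eq_add_sub, sub_eq_zero,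
        hi, hadd, hadd]
      refine Prod.ext ?_ ?_
      · change 0 + (c p q - c 0 0) + c (p + q) 0 = 0 + 0 + c p q
        rw [hs (p + q) 0, hc0 (p + q)]; abel
      · exact add_zero _
    intro x hx
    have h2 := LinearMap.congr_fun h x
    rw [LinearMap.comp_apply, LinearMap.mem_ker.1 hx, map_zero, LinearMap.neg_apply, eq_comm, neg_eq_zero] at h2
    change i (N.mkQ x) = 0 at h2
    rw [hi, hzero] at h2
    have h3 := congrArg Prod.fst h2
    change N.mkQ x - c 0 0 = - c 0 0 at h3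
    rw [sub_eq_neg_self, Submodule.mkQ_apply, Submodule.Quotient.mk_eq_zero] at h3
    exact h3
  · refine sup_le ?_ ?_
    · rw [LinearMap.range_le_ker_iff]
      refine Finsupp.lhom_ext' fun p => LinearMap.ext_ring ?_
      obtain ⟨x, y, z⟩ := p
      change d₀ (d₁ (single (x, y, z) 1)) = 0
      rw [hd₁]
      simp only [map_sub, map_add, hd₀, add_assoc]
      abel
    · rw [LinearMap.range_le_ker_iff]
      refine Finsupp.lhom_ext' fun p => LinearMap.ext_ring ?_
      obtain ⟨x, y⟩ := p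
      change d₀ (d₁' (single (x, y) 1)) = 0
      rw [hd₁']
      simp only [map_sub, hd₀, add_comm y x]
      abel

/-- In the case of the punctual topos (ordinary abelian groups): let P be an abelian group and consider
the complex of free abelian groups Z[P × P × P] ⊕ Z[P × P] → Z[P × P] → Z[P], augmented to P by [p]
↦ p, with d₀[p, q] = [p + q] − [p] − [q], with d₁ on the first summand given by [p, q, r] ↦ [p + q,
r] − [p, q + r] + [p, q] − [q, r] and on the second summand by [p, q] ↦ [p, q] − [q, p]. Then the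
augmentation is surjective with kernel the image of d₀ (so H₀ is P), and the kernel of d₀ is the sum
of the images of the two components of d₁ (so H₁ vanishes). (The published statement is for abelian
sheaves on an arbitrary topos; this row is its case of a one-point space.) -/
theorem result (P : Type u) [AddCommGroup P] :
    letI ε : (P →₀ ℤ) →ₗ[ℤ] P := Finsupp.linearCombination ℤ (fun p : P => p)
    letI d₀ : (P × P →₀ ℤ) →ₗ[ℤ] (P →₀ ℤ) := Finsupp.linearCombination ℤ
      (fun pq : P × P => Finsupp.single (pq.1 + pq.2) 1 - Finsupp.single pq.1 1 - Finsupp.single pq.2 1)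
    letI d₁ : (P × P × P →₀ ℤ) →ₗ[ℤ] (P × P →₀ ℤ) := Finsupp.linearCombination ℤ
      (fun t : P × P × P => Finsupp.single (t.1 + t.2.1, t.2.2) 1 - Finsupp.single (t.1, t.2.1 + t.2.2) 1
        + Finsupp.single (t.1, t.2.1) 1 - Finsupp.single (t.2.1, t.2.2) 1)
    letI d₁' : (P × P →₀ ℤ) →ₗ[ℤ] (P × P →₀ ℤ) := Finsupp.linearCombination ℤ
      (fun pq : P × P => Finsupp.single pq 1 - Finsupp.single (pq.2, pq.1) 1)
    Function.Surjective ε ∧ LinearMap.ker ε = LinearMap.range d₀ ∧
      LinearMap.ker d₀ = LinearMap.range d₁ ⊔ LinearMap.range d₁' := by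
  refine aux P _ ?_ _ ?_ _ ?_ _ ?_
  · intro p; simp
  · intro p q; simp
  · intro p q r; simp
  · intro p q; simp


end Groth.Agent.S8705
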