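import Groth.Statements.S8722
import Groth.Agent.Lib.helper13_PLin

set_option autoImplicit false
universe u v
open SGA7II

namespace Groth.Agent.S8722

open Groth.Agent.H13PLin

theorem span_iter (k : Type u) [Field k] (p : ℕ)
    [Fact p.Prime] [CharP k p] (r : ℕ) (V : Type v) [AddCommGroup V] [Module k V]
    (φ : V →+ V) (hφ : ∀ (c : k) (v : V), φ (c • v) = c ^ (p ^ r) • φ v)
    (hss : Submodule.span k (Set.range φ) = ⊤) (n : ℕ) : Submodule.span k (Set.range φ^[n]) = ⊤ := by
  induction n with
  | zero => simp
  | succ n ih =>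
    rw [eq_top_iff, ← hss, Submodule.span_le]
    rintro _ ⟨u, rfl⟩
    have hu : u ∈ Submodule.span k (Set.range φ^[n]) := by rw [ih]; trivial
    refine Submodule.span_induction (p := fun u _ => φ u ∈ Submodule.span k (Set.range φ^[n + 1])) ?_ ?_ ?_ ?_ hu
    · rintro _ ⟨x, rfl⟩
      refine Submodule.subset_span ⟨x, ?_⟩
      rw [Function.iterate_succ_apply']
    · rw [map_zero]; exact Submodule.zero_mem _
    · intro x y _ _ hx hy
      rw [map_add]; exact Submodule.add_mem _ hx hy
    · intro c x _ hx
      rw [hφ]; exact Submodule.smul_mem _ _ hx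

theorem fixed_top (k : Type u) [Field k] [IsSepClosed k] (p : ℕ)
    [Fact p.Prime] [CharP k p] (r : ℕ) (hr : 0 < r) (V : Type v) [AddCommGroup V] [Module k V]
    [FiniteDimensional k V] (φ : V →+ V) (hφ : ∀ (c : k) (v : V), φ (c • v) = c ^ (p ^ r) • φ v)
    (hss : Submodule.span k (Set.range φ) = ⊤) : Submodule.span k {v : V | φ v = v} = ⊤ := by
  classical
  let b := Module.finBasis k V
  choose m hm using fun i => exists_iter_mem p r hr φ hφ (b i)
  have hstab : ∀ x ∈ Submodule.span k {v : V | φ v = v}, φ x ∈ Submodule.span k {v : V | φ v = v} := by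
    intro x hx
    refine Submodule.span_induction (p := fun x _ => φ x ∈ Submodule.span k {v : V | φ v = v}) ?_ ?_ ?_ ?_ hx
    · intro x hx
      have hx' : φ x = x := hx
      rw [hx']; exact Submodule.subset_span hx
    · rw [map_zero]; exact Submodule.zero_mem _
    · intro x y _ _ hx hy
      rw [map_add]; exact Submodule.add_mem _ hx hy
    · intro c x _ hx
      rw [hφ]; exact Submodule.smul_mem _ _ hx
  have hstab' : ∀ n, ∀ x ∈ Submodule.span k {v : V | φ v = v}, φ^[n] x ∈ Submodule.span k {v : V | φ v = v} := by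
    intro n
    induction n with
    | zero => intro x hx; exact hx
    | succ n ih => intro x hx; rw [Function.iterate_succ_apply]; exact ih _ (hstab _ hx)
  set M := Finset.univ.sup m with hM
  have hM' : ∀ i, φ^[M] (b i) ∈ Submodule.span k {v : V | φ v = v} := by
    intro i
    have h1 : m i ≤ M := Finset.le_sup (Finset.mem_univ i)
    rw [show M = (M - m i) + m i by omega, Function.iterate_add_apply]
    exact hstab' _ _ (hm i)
  rw [eq_top_iff, ← span_iter k p r V φ hφ hss M, Submodule.span_le]
  rintro _ ⟨x, rfl⟩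
  rw [← b.sum_repr x, iter_sum]
  refine Submodule.sum_mem _ fun i _ => ?_
  rw [iter_smul p r φ hφ]
  exact Submodule.smul_mem _ _ (hM' i)

/-- Let k be a separably closed field of characteristic p > 0, q = p^r with r >= 1, V a
finite-dimensional k-vector space and phi : V -> V additive with phi(c v) = c^q phi(v), semisimple
in the sense that its image spans V. Then for n >= 1 the fixed vectors of the n-th iterate of phi
are exactly the finite linear combinations of phi-fixed vectors with coefficients c satisfying
c^(q^n) = c; that is, the fixed space of phi^n is obtained from the F_q-space of phi-fixed vectors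
by extending scalars to F_{q^n}. -/
theorem result (k : Type u) [Field k] [IsSepClosed k] (p : ℕ)
    [Fact p.Prime] [CharP k p] (r : ℕ) (hr : 0 < r) (V : Type v) [AddCommGroup V] [Module k V]
    [FiniteDimensional k V] (φ : V →+ V) (hφ : ∀ (c : k) (v : V), φ (c • v) = c ^ (p ^ r) • φ v)
    (hss : Submodule.span k (Set.range φ) = ⊤) (n : ℕ) (hn : 0 < n) (v : V) :
    φ^[n] v = v ↔ ∃ (s : Finset V) (c : V → k), (∀ w ∈ s, φ w = w) ∧
      (∀ w ∈ s, c w ^ ((p ^ r) ^ n) = c w) ∧ v = ∑ w ∈ s, c w • w := by
  constructor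
  · intro hv
    obtain ⟨B, hB, hBs, hBl⟩ := exists_linearIndependent k {v : V | φ v = v}
    have hx : v ∈ Submodule.span k B := by rw [hBs, fixed_top k p r hr V φ hφ hss]; trivial
    obtain ⟨g, t, ht, _, hgt⟩ := Submodule.mem_span_iff_exists_finset_subset.1 hx
    refine ⟨t, g, fun w hw => hB (ht hw), ?_, hgt.symm⟩
    have h1 : ∑ w ∈ t, ((g w) ^ ((p ^ r) ^ n) - g w) • w = 0 := by
      simp only [sub_smul]
      rw [Finset.sum_sub_distrib, hgt, sub_eq_zero, ← hv]
      conv_rhs => rw [← hgt, iter_sum]
      refine Finset.sum_congr rfl fun w hw => ?_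
      rw [iter_smul p r φ hφ, Function.iterate_fixed (hB (ht hw))]
    have h2 : LinearIndepOn k id B := hBl
    have h3 := linearIndepOn_iff'.1 h2 t _ ht h1
    exact fun w hw => sub_eq_zero.1 (h3 w hw)
  · rintro ⟨s, c, hs, hc, rfl⟩
    rw [iter_sum]
    refine Finset.sum_congr rfl fun w hw => ?_
    rw [iter_smul p r φ hφ, Function.iterate_fixed (hs w hw), hc w hw]


end Groth.Agent.S8722
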