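import Groth.Statements.S8738
import Mathlib

set_option autoImplicit false
universe u
open SGA7II

namespace Groth.Agent.S8738

section
variable {k : Type u} [Field k] [CharZero k] {A : Type u} [CommRing A] [Algebra k A] {K : Type u} [CommRing K]
  [Algebra A K] [Algebra k K] [IsScalarTower k A K]

open PowerSeries

theorem ext_der [IsLocalization (nonZeroDivisors A) K] (D : Derivation k A A) :
    ∃ D' : Derivation k K K, ∀ a : A, D' (algebraMap A K a) = algebraMap A K (D a) := by
  haveI : Algebra.FormallyEtale A K := Algebra.FormallyEtale.of_isLocalization (nonZeroDivisors A)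
  let d1 : Derivation k A K := (Algebra.linearMap A K).compDer D
  let g : TensorProduct A K (KaehlerDifferential k A) →ₗ[K] K := d1.liftKaehlerDifferential.liftBaseChange K
  refine ⟨(g ∘ₗ (KaehlerDifferential.tensorKaehlerEquivOfFormallyEtale k A K).symm.toLinearMap).compDer
    (KaehlerDifferential.D k K), fun a => ?_⟩
  change g ((KaehlerDifferential.tensorKaehlerEquivOfFormallyEtale k A K).symm (KaehlerDifferential.D k K (algebraMap A K a))) = _
  rw [KaehlerDifferential.tensorKaehlerEquivOfFormallyEtale_symm_D_algebraMap]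
  simp [g, d1]

variable (D : Derivation k K K)

/-- exponential -/
noncomputable def E (x : K) : PowerSeries K := PowerSeries.mk fun n => ((n.factorial : k)⁻¹) • (D^[n] x)

theorem E_deriv (x : K) : PowerSeries.derivative K (E D x) = E D (D x) := by
  ext n
  rw [PowerSeries.coeff_derivative, E, E, PowerSeries.coeff_mk, PowerSeries.coeff_mk, Function.iterate_succ_apply,
    Nat.factorial_succ]
  have h : (((n + 1 : ℕ) : k)) ≠ 0 := by exact_mod_cast Nat.succ_ne_zero n
  have h' : ((n.factorial : k)) ≠ 0 := by exact_mod_cast Nat.factorial_ne_zero n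
  have h3 : ((n : K) + 1) = algebraMap k K ((n + 1 : ℕ) : k) := by push_cast; simp
  rw [h3, mul_comm, ← Algebra.smul_def, smul_smul]
  congr 1
  push_cast at h ⊢
  field_simp

theorem E_add (x y : K) : E D (x + y) = E D x + E D y := by
  ext n
  rw [map_add, E, E, E, PowerSeries.coeff_mk, PowerSeries.coeff_mk, PowerSeries.coeff_mk, ← smul_add]
  congr 1
  induction n generalizing x y with
  | zero => rfl
  | succ n ih => rw [Function.iterate_succ_apply, Function.iterate_succ_apply, Function.iterate_succ_apply, map_add, ih]

theorem E_mul (x y : K) : E D (x * y) = E D x * E D y := by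
  ext n
  induction n generalizing x y with
  | zero =>
    rw [PowerSeries.coeff_mul]
    simp [E]
  | succ n ih =>
    have h : (((n + 1 : ℕ) : k)) ≠ 0 := by exact_mod_cast Nat.succ_ne_zero n
    have h3 : ((n : K) + 1) = algebraMap k K ((n + 1 : ℕ) : k) := by push_cast; simp
    have h4 : PowerSeries.coeff (n + 1) (E D (x * y)) * ((n : K) + 1) =
      PowerSeries.coeff (n + 1) (E D x * E D y) * ((n : K) + 1) := by
      rw [← PowerSeries.coeff_derivative, ← PowerSeries.coeff_derivative, E_deriv, Derivation.leibniz,
        Derivation.leibniz, E_deriv, E_deriv, E_add, map_add, map_add, smul_eq_mul, smul_eq_mul, smul_eq_mul, smul_eq_mul,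
        ih, ih]
    have h5 : IsUnit ((n : K) + 1) := by
      rw [h3]; exact (IsUnit.mk0 _ h).map _
    exact h5.mul_right_cancel h4

theorem E_one : E D 1 = 1 := by
  ext n
  rcases n with _ | n
  · simp [E]
  · rw [E, PowerSeries.coeff_mk, PowerSeries.coeff_one, if_neg (by omega), Function.iterate_succ_apply,
      Derivation.map_one_eq_zero]
    have : ∀ n, D^[n] (0 : K) = 0 := by
      intro n
      induction n with
      | zero => rfl
      | succ n ih => rw [Function.iterate_succ_apply, map_zero, ih]
    rw [this, smul_zero]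

theorem E_pow (x : K) (n : ℕ) : E D (x ^ n) = E D x ^ n := by
  induction n with
  | zero => rw [pow_zero, pow_zero, E_one]
  | succ n ih => rw [pow_succ, pow_succ, E_mul, ih]

theorem seid (D₀ : Derivation k A A) (hD : ∀ a : A, D (algebraMap A K a) = algebraMap A K (D₀ a))
    [IsNoetherianRing A] [IsLocalization (nonZeroDivisors A) K] (x : K) (hx : IsIntegral A x) : IsIntegral A (D x) := by
  obtain ⟨s, hs⟩ := hx.fg_adjoin_singleton
  classical
  obtain ⟨b, hb⟩ := IsLocalization.exist_integer_multiples_of_finset (nonZeroDivisors A) s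
  set δ : K := algebraMap A K b with hδ
  have hδu : IsUnit δ := IsLocalization.map_units K b
  have h1 : ∀ n : ℕ, δ * x ^ n ∈ (algebraMap A K).range := by
    intro n
    have h2 : x ^ n ∈ Submodule.span A (s : Set K) := by
      rw [hs]
      exact pow_mem (Algebra.self_mem_adjoin_singleton A x) n
    refine Submodule.span_induction (p := fun y _ => δ * y ∈ (algebraMap A K).range) ?_ ?_ ?_ ?_ h2
    · intro y hy
      obtain ⟨a, ha⟩ := hb y hy
      refine ⟨a, ?_⟩
      rw [ha, hδ, Algebra.smul_def]
    · rw [mul_zero]; exact zero_mem _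
    · intro y z _ _ hy hz
      rw [mul_add]; exact add_mem hy hz
    · intro a y _ hy
      rw [Algebra.smul_def, mul_left_comm]
      exact mul_mem ⟨a, rfl⟩ hy
  -- the subring
  let P : Subring (PowerSeries K) := (PowerSeries.map (algebraMap A K)).range
  have hP : ∀ f : PowerSeries K, (∀ n, PowerSeries.coeff n f ∈ (algebraMap A K).range) → f ∈ P := by
    intro f hf
    choose c hc using hf
    exact ⟨PowerSeries.mk c, by ext n; simp [hc]⟩
  have hPc : ∀ f ∈ P, ∀ n, PowerSeries.coeff n f ∈ (algebraMap A K).range := by
    rintro _ ⟨f, rfl⟩ n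
    exact ⟨PowerSeries.coeff n f, by simp⟩
  have hit : ∀ n (a : A), D^[n] (algebraMap A K a) = algebraMap A K (D₀^[n] a) := by
    intro n
    induction n with
    | zero => intro a; rfl
    | succ n ih => intro a; rw [Function.iterate_succ_apply, hD, ih, Function.iterate_succ_apply]
  have hE : ∀ y ∈ (algebraMap A K).range, E D y ∈ P := by
    rintro _ ⟨a, rfl⟩
    refine hP _ fun n => ?_
    rw [E, PowerSeries.coeff_mk, hit]
    refine ⟨((n.factorial : k)⁻¹) • (D₀^[n] a), ?_⟩
    rw [Algebra.smul_def, map_mul, ← IsScalarTower.algebraMap_apply k A K, ← Algebra.smul_def]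
  have hC : ∀ y ∈ (algebraMap A K).range, PowerSeries.C y ∈ P := by
    rintro _ ⟨a, rfl⟩
    exact ⟨PowerSeries.C a, by simp⟩
  obtain ⟨g, hg⟩ : ∃ g : PowerSeries K, E D x - PowerSeries.C x = PowerSeries.X * g :=
    PowerSeries.X_dvd_iff.2 (by simp [E])
  have hg0 : PowerSeries.coeff 0 g = D x := by
    have := congrArg (PowerSeries.coeff 1) hg
    rw [show (1 : ℕ) = 0 + 1 from rfl, PowerSeries.coeff_succ_X_mul] at this
    rw [← this]
    simp [E, PowerSeries.coeff_C]
  have key : ∀ n : ℕ, δ * δ * (D x) ^ n ∈ (algebraMap A K).range := by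
    intro n
    have h2 : PowerSeries.C δ * E D δ * (E D x - PowerSeries.C x) ^ n ∈ P := by
      rw [sub_eq_add_neg, add_pow, Finset.mul_sum]
      refine sum_mem fun i _ => ?_
      have h3 : PowerSeries.C δ * E D δ * (E D x ^ i * (-PowerSeries.C x) ^ (n - i) * (n.choose i : PowerSeries K)) =
        (E D (δ * x ^ i)) * (PowerSeries.C (δ * x ^ (n - i))) * ((-1) ^ (n - i) * (n.choose i : PowerSeries K)) := by
        rw [E_mul, E_pow, map_mul, map_pow, neg_pow]
        ring
      rw [h3]
      refine mul_mem (mul_mem (hE _ (h1 i)) (hC _ (h1 _))) (mul_mem (pow_mem (neg_mem (one_mem _)) _) (natCast_mem _ _))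
    have h4 := hPc _ h2 n
    rw [hg, mul_pow, mul_left_comm, PowerSeries.coeff_X_pow_mul', if_pos le_rfl, Nat.sub_self,
      PowerSeries.coeff_zero_eq_constantCoeff, map_mul, map_mul, map_pow, ← PowerSeries.coeff_zero_eq_constantCoeff_apply g, hg0] at h4
    simpa [E] using h4
  let N : Submodule A K := LinearMap.range ((LinearMap.toSpanSingleton A K (((hδu.mul hδu).unit⁻¹ : Kˣ) : K)))
  haveI : IsNoetherian A N := isNoetherian_of_surjective
    (LinearMap.rangeRestrict (LinearMap.toSpanSingleton A K (((hδu.mul hδu).unit⁻¹ : Kˣ) : K)))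
    (LinearMap.range_rangeRestrict _)
  refine IsIntegral.of_mem_of_fg (Algebra.adjoin A {D x}) ?_ _ (Algebra.self_mem_adjoin_singleton A _)
  refine isNoetherian_submodule.1 ‹IsNoetherian A N› _ ?_
  rw [Algebra.adjoin_eq_span, Submodule.span_le]
  intro y hy
  rw [← Submonoid.powers_eq_closure] at hy
  obtain ⟨n, rfl⟩ := hy
  obtain ⟨a, ha⟩ := key n
  refine ⟨a, ?_⟩
  rw [LinearMap.toSpanSingleton_apply, Algebra.smul_def, ha]
  have h6 : δ * δ * (((hδu.mul hδu).unit⁻¹ : Kˣ) : K) = 1 := IsUnit.mul_val_inv _
  change δ * δ * D x ^ n * _ = D x ^ n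
  rw [mul_right_comm, h6, one_mul]

end

/-- Let k be a field of characteristic zero and A a reduced Noetherian local k-algebra of Krull
dimension one, essentially of finite type over k (the local ring of a reduced curve over k at one of
its points), and let A' be the integral closure of A in its total ring of fractions (the
normalization). Then every k-derivation D of A extends to a k-derivation D' of A', i.e. D' agrees
with D on the image of A. -/
theorem result (k : Type u) [Field k] [CharZero k] (A : Type u) [CommRing A]
    [Algebra k A] [IsReduced A] [IsNoetherianRing A] [IsLocalRing A] [Algebra.EssFiniteType k A]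
    (hdim : ringKrullDim A = 1) (D : Derivation k A A) :
    ∃ D' : Derivation k ↥(integralClosure A (FractionRing A)) ↥(integralClosure A (FractionRing A)),
      ∀ a : A, (D' (algebraMap A ↥(integralClosure A (FractionRing A)) a) : FractionRing A) =
        algebraMap A (FractionRing A) (D a) := by
  obtain ⟨D', hD'⟩ := ext_der (K := FractionRing A) D
  have hint := seid D' D hD'
  refine ⟨Derivation.mk' { toFun := fun y => ⟨D' y.1, hint _ y.2⟩
                           map_add' := fun y z => Subtype.ext (map_add D' _ _)
                           map_smul' := fun c y => Subtype.ext (D'.map_smul c _) } (fun y z => Subtype.ext (D'.leibniz _ _)), ?_⟩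
  intro a
  exact hD' a


end Groth.Agent.S8738
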