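import Groth.Statements.S9718
import Groth.Agent.Lib.Lead_Spread
-- import your own Groth.Agent.* helpers here

set_option autoImplicit false
universe u
open Mor

namespace Groth.Agent.S9718

open AlgebraicGeometry in
open CategoryTheory in
/-- Let X and Y be S-schemes with X irreducible, with generic point x, and Y locally of finite
presentation over S. Then every S-morphism Spec(O_{X,x}) ⟶ Y is induced by an S-rational map from X
to Y. (The published statement allows X with finitely many irreducible components and asks for such
data at each generic point; this row is the case of one component, to which the general case reduces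
on the dense open where the components are disjoint. Injectivity of the assignment, for Y locally of
finite type, is a separate result.) -/
theorem result
    (S X Y : Scheme.{u}) [X.Over S] [Y.Over S] [IrreducibleSpace X]
    [LocallyOfFinitePresentation (Y ↘ S)]
    (φ : Spec (X.presheaf.stalk (genericPoint X)) ⟶ Y)
    (hφ : φ ≫ (Y ↘ S) = X.fromSpecStalk (genericPoint X) ≫ (X ↘ S)) :
    ∃ f : X ⤏ Y, f.IsOver S ∧ f.fromFunctionField = φ := by
  obtain ⟨U, hxU, f, hf, hfS⟩ := Groth.Agent.LeadSpread.spread_out_lfp' (X ↘ S) (Y ↘ S) φ hφ
  let F : X.PartialMap Y := ⟨U, U.2.dense ⟨_, hxU⟩, f⟩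
  have hF : F.IsOver S := ⟨hfS⟩
  refine ⟨F.toRationalMap, ⟨⟨F, hF, rfl⟩⟩, ?_⟩
  exact hf.symm

end Groth.Agent.S9718
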